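import Cfsg.Prelude.Def_OddOrderLocal

set_option autoImplicit false
open Cfsg

namespace Cfsg.Agent.Lib.helper29

/-- If `B` normalizes `A` then every element of `A ⊔ B` is a product `a * b`. -/
theorem exists_mul_of_mem_sup_of_le_normalizer {G : Type*} [Group G] {A B : Subgroup G}
    (h : B ≤ Subgroup.normalizer (A : Set G)) {x : G} (hx : x ∈ A ⊔ B) :
    ∃ a ∈ A, ∃ b ∈ B, x = a * b := by
  rw [Subgroup.sup_eq_closure] at hx
  refine Subgroup.closure_induction ?_ ?_ ?_ ?_ hx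
  · rintro x (hx | hx)
    · exact ⟨x, hx, 1, B.one_mem, by simp⟩
    · exact ⟨1, A.one_mem, x, hx, by simp⟩
  · exact ⟨1, A.one_mem, 1, B.one_mem, by simp⟩
  · rintro _ _ _ _ ⟨a₁, ha₁, b₁, hb₁, rfl⟩ ⟨a₂, ha₂, b₂, hb₂, rfl⟩
    refine ⟨a₁ * (b₁ * a₂ * b₁⁻¹), A.mul_mem ha₁ ?_, b₁ * b₂, B.mul_mem hb₁ hb₂, by group⟩
    exact ((Subgroup.mem_normalizer_iff (H := A)).mp (h hb₁) a₂).mp ha₂
  · rintro _ _ ⟨a, ha, b, hb, rfl⟩
    refine ⟨b⁻¹ * a⁻¹ * b⁻¹⁻¹, ?_, b⁻¹, B.inv_mem hb, by group⟩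
    exact ((Subgroup.mem_normalizer_iff (H := A)).mp (h (B.inv_mem hb)) a⁻¹).mp (A.inv_mem ha)

/-- If `A` and `B` commute elementwise then every element of `A ⊔ B` is a product `a * b`. -/
theorem exists_mul_of_mem_sup_of_commute {G : Type*} [Group G] {A B : Subgroup G}
    (h : ∀ a ∈ A, ∀ b ∈ B, a * b = b * a) {x : G} (hx : x ∈ A ⊔ B) :
    ∃ a ∈ A, ∃ b ∈ B, x = a * b := by
  refine exists_mul_of_mem_sup_of_le_normalizer ?_ hx
  intro b hb
  rw [Subgroup.mem_normalizer_iff]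
  intro a
  constructor
  · intro ha
    have : b * a * b⁻¹ = a := by rw [← h a ha b hb]; group
    rw [this]; exact ha
  · intro ha
    have h1 := h _ ha b⁻¹ (B.inv_mem hb)
    have : a = b⁻¹ * (b * a * b⁻¹) * b⁻¹⁻¹ := by group
    have h2 : b⁻¹ * (b * a * b⁻¹) * b⁻¹⁻¹ = b * a * b⁻¹ := by rw [← h1]; group
    rw [this, h2]; exact ha

theorem IsComplIn.isComplement' {G : Type*} [Group G] {A B M : Subgroup G} (h : IsComplIn A B M) :
    Subgroup.IsComplement' (A.subgroupOf M) (B.subgroupOf M) := by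
  obtain ⟨hA, hB, hAB, hprod⟩ := h
  apply Subgroup.isComplement'_of_disjoint_and_mul_eq_univ
  · rw [Subgroup.disjoint_def]
    intro x hx1 hx2
    rw [Subgroup.mem_subgroupOf] at hx1 hx2
    have : (x : G) ∈ A ⊓ B := ⟨hx1, hx2⟩
    rw [hAB, Subgroup.mem_bot] at this
    exact Subtype.ext this
  · ext ⟨m, hm⟩
    simp only [Set.mem_univ, iff_true]
    obtain ⟨a, ha, b, hb, rfl⟩ := hprod m hm
    exact ⟨⟨a, hA ha⟩, ha, ⟨b, hB hb⟩, hb, rfl⟩

theorem IsComplIn.card_left {G : Type*} [Group G] {A B M : Subgroup G} (h : IsComplIn A B M) :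
    Nat.card A = B.relIndex M := by
  have h1 := (IsComplIn.isComplement' h).index_eq_card
  rw [Subgroup.relIndex, h1]
  exact (Nat.card_congr (Subgroup.subgroupOfEquivOfLe h.1).toEquiv).symm

theorem IsComplIn.card_right {G : Type*} [Group G] {A B M : Subgroup G} (h : IsComplIn A B M) :
    Nat.card B = A.relIndex M := by
  have h1 := (IsComplIn.isComplement' h).symm.index_eq_card
  rw [Subgroup.relIndex, h1]
  exact (Nat.card_congr (Subgroup.subgroupOfEquivOfLe h.2.1).toEquiv).symm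

theorem IsComplIn.card_mul {G : Type*} [Group G] {A B M : Subgroup G} (h : IsComplIn A B M) :
    Nat.card A * Nat.card B = Nat.card M := by
  have h1 := (IsComplIn.isComplement' h).card_mul_card
  rw [Nat.card_congr (Subgroup.subgroupOfEquivOfLe h.1).toEquiv,
    Nat.card_congr (Subgroup.subgroupOfEquivOfLe h.2.1).toEquiv] at h1
  exact h1

/-- The derived subgroup of a subgroup lies in the subgroup. -/
theorem commutator_self_le {G : Type*} [Group G] (H : Subgroup G) : ⁅H, H⁆ ≤ H := by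
  rw [Subgroup.commutator_le]
  intro g₁ h₁ g₂ h₂
  rw [commutatorElement_def]
  exact H.mul_mem (H.mul_mem (H.mul_mem h₁ h₂) (H.inv_mem h₁)) (H.inv_mem h₂)

/-- The second derived subgroup of a subgroup lies in the derived subgroup. -/
theorem commutator_commutator_le {G : Type*} [Group G] (H : Subgroup G) :
    ⁅⁅H, H⁆, ⁅H, H⁆⁆ ≤ ⁅H, H⁆ :=
  commutator_self_le _

theorem exists_ne_one_of_ne_bot {G : Type*} [Group G] {H : Subgroup G} (h : H ≠ ⊥) :
    ∃ x ∈ H, x ≠ 1 := by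
  rcases H.bot_or_exists_ne_one with h' | h'
  · exact absurd h' h
  · exact h'

end Cfsg.Agent.Lib.helper29
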