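import Mathlib
import Cfsg.Prelude.Def_OddOrderLocal
import Cfsg.Prelude.Def_Local
import Cfsg.Agent.Lib.helper1.SZ
import Cfsg.Agent.Lib.helper1.Coprime
import Cfsg.Agent.Lib.helper66.PLengthSeries
import Cfsg.Agent.Lib.helper30.ZgB
import Cfsg.Agent.S1450

/-!
# General lemmas for Bender–Glauberman Theorem 10.6 (`p`-length one of proper subgroups)

* `pLengthLE_one_subgroup`, `pLengthLE_one_of_le` : `p`-length at most one passes to subgroups.
* `pLengthLE_one_of_normal_chain` : a normal chain `L ≤ Mid` with factors `p'`, `p`, `p'`.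
* `pLengthLE_one_of_prankLE_two` : odd order solvable groups of `p`-rank at most two.
* `pLengthLE_one_of_normal_index` : from a normal subgroup of index prime to `p`.
* `exists_complement_ge` : a complement of a normal Hall subgroup through a given subgroup of
  coprime order.
* `commutator_eq_of_complement` : `[N, E] = N` for a normal Hall subgroup `N` with complement `E`
  when no prime divisor of `|N|` divides the order of an abelian quotient.
-/

set_option autoImplicit false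
open Cfsg

namespace Cfsg.Agent.Lib.helper29

open scoped commutatorElement Pointwise

section general

variable {X : Type*} [Group X]

theorem le_normalizer_inf_normal (U H : Subgroup X) [hU : U.Normal] :
    H ≤ Subgroup.normalizer ((U ⊓ H : Subgroup X) : Set X) := by
  intro h hh
  rw [Subgroup.mem_normalizer_iff]
  intro y
  constructor
  · rintro ⟨hy1, hy2⟩
    exact ⟨hU.conj_mem y hy1 h, H.mul_mem (H.mul_mem hh hy2) (H.inv_mem hh)⟩
  · rintro ⟨hy1, hy2⟩
    have e : y = h⁻¹ * (h * y * h⁻¹) * h⁻¹⁻¹ := by group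
    rw [e]
    exact ⟨hU.conj_mem _ hy1 h⁻¹,
      H.mul_mem (H.mul_mem (H.inv_mem hh) hy2) (H.inv_mem (H.inv_mem hh))⟩

/-- `p`-length at most one passes to subgroups. -/
theorem pLengthLE_one_subgroup [Finite X] {p : ℕ} [Fact p.Prime]
    (h : Cfsg.PLengthLE p 1 X) (H : Subgroup X) : Cfsg.PLengthLE p 1 ↥H := by
  have hp : p.Prime := Fact.out
  set U1 : Subgroup X := (Cfsg.upperPSeries p X 1).1 with hU1
  set U2 : Subgroup X := (Cfsg.upperPSeries p X 2).1 with hU2
  have nU1 : U1.Normal := (Cfsg.upperPSeries p X 1).2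
  have nU2 : U2.Normal := (Cfsg.upperPSeries p X 2).2
  have hU12 : U1 ≤ U2 := Cfsg.Agent.Lib.helper66.upperPSeries_le_succ p X 1
  have hU3 : (Cfsg.upperPSeries p X 3).1 = ⊤ := h
  have s0 := Cfsg.Agent.Lib.helper66.isStepFactor_upperPSeries (G := X) p 0
  rw [Cfsg.Agent.Lib.helper66.isStepFactor_of_even (by decide)] at s0
  have h0 : (Cfsg.upperPSeries p X 0).1 = ⊥ := rfl
  rw [h0, Subgroup.relIndex_bot_left] at s0
  have s1 := Cfsg.Agent.Lib.helper66.isStepFactor_upperPSeries (G := X) p 1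
  rw [Cfsg.Agent.Lib.helper66.isStepFactor_of_not_even (by decide)] at s1
  have s2 := Cfsg.Agent.Lib.helper66.isStepFactor_upperPSeries (G := X) p 2
  rw [Cfsg.Agent.Lib.helper66.isStepFactor_of_even (by decide), hU3,
    Subgroup.relIndex_top_right] at s2
  refine Cfsg.Agent.Lib.helper30.plength_one_of_chain H (U1 ⊓ H) (U2 ⊓ H)
    (inf_le_inf_right H hU12) inf_le_right (le_normalizer_inf_normal U1 H)
    (le_normalizer_inf_normal U2 H) ?_ ?_ ?_
  · exact Nat.Coprime.coprime_dvd_left (Subgroup.card_dvd_of_le inf_le_left) s0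
  · obtain ⟨m, hm⟩ := s1
    have e0 : (U1 ⊓ H) ⊓ (U2 ⊓ H) = U1 ⊓ (U2 ⊓ H) := by
      apply le_antisymm
      · exact le_inf (inf_le_left.trans inf_le_left) inf_le_right
      · exact le_inf (le_inf inf_le_left (inf_le_right.trans inf_le_right)) inf_le_right
    have e1 : (U1 ⊓ H).relIndex (U2 ⊓ H) = U1.relIndex (U2 ⊓ H) := by
      rw [← Subgroup.inf_relIndex_right (U1 ⊓ H) (U2 ⊓ H),
        ← Subgroup.inf_relIndex_right U1 (U2 ⊓ H), e0]
    have e2 : U1.relIndex (U2 ⊓ H) ∣ U1.relIndex U2 :=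
      Cfsg.Agent.Lib.helper66.relIndex_dvd_relIndex_of_le_right U1 inf_le_left
    rw [e1]
    rw [hm] at e2
    obtain ⟨k, -, hk⟩ := (Nat.dvd_prime_pow hp).mp e2
    exact ⟨k, hk⟩
  · have e1 : (U2 ⊓ H).relIndex H = U2.relIndex H := Subgroup.inf_relIndex_right U2 H
    rw [e1]
    have e2 : U2.relIndex H ∣ U2.index := Subgroup.relIndex_dvd_index_of_normal U2 H
    exact Nat.Coprime.coprime_dvd_left e2 s2

/-- `p`-length at most one passes from a subgroup `M` of `G` to the subgroups of `M`. -/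
theorem pLengthLE_one_of_le {G : Type*} [Group G] [Finite G] {p : ℕ} [Fact p.Prime]
    {H M : Subgroup G} (hHM : H ≤ M) (h : Cfsg.PLengthLE p 1 ↥M) : Cfsg.PLengthLE p 1 ↥H := by
  have h1 := pLengthLE_one_subgroup h (H.subgroupOf M)
  exact Cfsg.Agent.Lib.helper66.PLengthLE.of_surjective
    (Subgroup.subgroupOfEquivOfLe hHM).toMonoidHom (Subgroup.subgroupOfEquivOfLe hHM).surjective h1

/-- a normal chain `1 ≤ L ≤ Mid ≤ X` with factors `p'`, `p`, `p'` -/
theorem pLengthLE_one_of_normal_chain [Finite X] {p : ℕ} [Fact p.Prime] (L Mid : Subgroup X)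
    [L.Normal] [Mid.Normal] (h1 : (Nat.card L).Coprime p) (h2 : ∃ m : ℕ, L.relIndex Mid = p ^ m)
    (h3 : (Mid.index).Coprime p) : Cfsg.PLengthLE p 1 X := by
  have s1 : L ≤ (Cfsg.upperPSeries p X 1).1 := by
    apply Cfsg.Agent.Lib.helper66.le_upperPSeries_succ p 0 ⊥ L bot_le
    rw [Cfsg.Agent.Lib.helper66.isStepFactor_of_even (by decide), Subgroup.relIndex_bot_left]
    exact h1
  have s2 : Mid ≤ (Cfsg.upperPSeries p X 2).1 := by
    apply Cfsg.Agent.Lib.helper66.le_upperPSeries_succ p 1 L Mid s1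
    rw [Cfsg.Agent.Lib.helper66.isStepFactor_of_not_even (by decide)]
    exact h2
  have s3 : (⊤ : Subgroup X) ≤ (Cfsg.upperPSeries p X 3).1 := by
    apply Cfsg.Agent.Lib.helper66.le_upperPSeries_succ p 2 Mid ⊤ s2
    rw [Cfsg.Agent.Lib.helper66.isStepFactor_of_even (by decide), Subgroup.relIndex_top_right]
    exact h3
  exact top_le_iff.mp s3

/-- odd order solvable groups of `p`-rank at most two have `p`-length at most one -/
theorem pLengthLE_one_of_prankLE_two [Finite X] [Group.IsSolvable X] (hodd : Odd (Nat.card X))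
    (p : ℕ) [Fact p.Prime] (hr : Cfsg.PRankLE p 2 X) : Cfsg.PLengthLE p 1 X := by
  have hp : p.Prime := Fact.out
  by_cases hpX : p ∣ Nat.card X
  · obtain ⟨-, -, -, -, -, hidx⟩ := Cfsg.Agent.S1450.result hodd p hpX hr
    have : (Cfsg.pPrimePCore p X).Normal := by
      unfold Cfsg.pPrimePCore
      exact Subgroup.Normal.comap inferInstance _
    refine pLengthLE_one_of_normal_chain (Cfsg.pPrimeCore p X) (Cfsg.pPrimePCore p X)
      (Cfsg.Agent.Lib.helper27.pPrimeCore_coprime p) ?_ hidx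
    rw [← Cfsg.Agent.Lib.helper66.card_map_mk'_eq_relIndex]
    have e : (Cfsg.pPrimePCore p X).map (QuotientGroup.mk' (Cfsg.pPrimeCore p X)) =
        Cfsg.pCore p (X ⧸ Cfsg.pPrimeCore p X) := by
      unfold Cfsg.pPrimePCore
      exact Subgroup.map_comap_eq_self_of_surjective (QuotientGroup.mk'_surjective _) _
    rw [e]
    exact IsPGroup.iff_card.mp (Cfsg.Agent.Lib.helper27.pCore_isPGroup p)
  · have hc : (Nat.card X).Coprime p :=
      (Nat.coprime_comm.mp ((Nat.Prime.coprime_iff_not_dvd hp).mpr hpX))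
    refine pLengthLE_one_of_normal_chain (⊤ : Subgroup X) ⊤ ?_ ⟨0, ?_⟩ ?_
    · rw [Subgroup.card_top]; exact hc
    · rw [Subgroup.relIndex_top_right, Subgroup.index_top, pow_zero]
    · rw [Subgroup.index_top]; exact Nat.coprime_one_left p

/-- `p`-length at most one lifts from a normal subgroup of index prime to `p` -/
theorem pLengthLE_one_of_normal_index [Finite X] {p : ℕ} [Fact p.Prime] (N : Subgroup X)
    [N.Normal] (hN : Cfsg.PLengthLE p 1 ↥N) (hidx : (N.index).Coprime p) :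
    Cfsg.PLengthLE p 1 X := by
  have hQ : Cfsg.PLengthLE p 0 (X ⧸ N) := by
    apply Cfsg.Agent.Lib.helper66.PLengthLE.zero_of_coprime
    rw [← Subgroup.index_eq_card]; exact hidx
  exact Cfsg.Agent.Lib.helper66.PLengthLE.of_normal_of_quotient N hN hQ

/-- a complement of a normal Hall subgroup `N` containing a given subgroup of order prime to `|N|` -/
theorem exists_complement_ge [Finite X] (N : Subgroup X) [N.Normal]
    (hN : (Nat.card N).Coprime N.index) (Q : Subgroup X)
    (hQ : (Nat.card N).Coprime (Nat.card Q))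
    (hsolv : Group.IsSolvable N ∨ Group.IsSolvable Q) :
    ∃ E : Subgroup X, Subgroup.IsComplement' N E ∧ Q ≤ E := by
  obtain ⟨K, hK⟩ := Subgroup.exists_right_complement'_of_coprime hN
  have hNK : N ⊓ K = ⊥ := hK.disjoint.eq_bot
  have hsupK : N ⊔ K = ⊤ := hK.sup_eq_top
  have hdH : N ⊓ Q = ⊥ := (Subgroup.disjoint_of_coprime_natCard hQ).eq_bot
  have hdK : N ⊓ ((N ⊔ Q) ⊓ K) = ⊥ := by
    rw [eq_bot_iff, ← hNK]
    exact le_inf inf_le_left (inf_le_right.trans inf_le_right)
  have hsup : N ⊔ Q = N ⊔ ((N ⊔ Q) ⊓ K) :=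
    (Cfsg.Agent.Lib.helper1.sup_inf_eq_of_le hsupK le_sup_left).symm
  have hQN : Q ≤ Subgroup.normalizer (N : Set X) := by
    rw [Subgroup.normalizer_eq_top_iff.mpr inferInstance]; exact le_top
  obtain ⟨n, -, hn⟩ :=
    Cfsg.Agent.Lib.helper1.sz_conj_internal N Q ((N ⊔ Q) ⊓ K) hQN hdH hdK hsup hQ hsolv
  refine ⟨MulAut.conj n⁻¹ • K, Cfsg.Agent.Lib.helper1.isComplement'_conj_smul hK n⁻¹, ?_⟩
  intro y hy
  rw [Cfsg.Agent.Lib.helper1.mem_conj_smul, inv_inv]
  have h1 : n * y * n⁻¹ ∈ MulAut.conj n • Q := Cfsg.Agent.Lib.helper1.conj_mem_conj_smul hy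
  rw [hn] at h1
  exact h1.2

/-- `[N, E] = N` for a normal subgroup `N` with complement `E` in a solvable group `X`, when no
prime divisor of `|N|` divides the index of a normal subgroup containing `X'`. -/
theorem commutator_eq_of_complement [Finite X] [Group.IsSolvable X] (N E : Subgroup X)
    [hNn : N.Normal] (hc : Subgroup.IsComplement' N E)
    (hres : ∀ q : ℕ, q.Prime → q ∣ Nat.card N → ∀ N₂ : Subgroup X, N₂.Normal →
      commutator X ≤ N₂ → ¬ q ∣ N₂.index) : ⁅N, E⁆ = N := by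
  have hDN : ⁅N, E⁆ ≤ N := Subgroup.commutator_le_left N E
  have hEN : E ≤ Subgroup.normalizer (N : Set X) := by
    rw [Subgroup.normalizer_eq_top_iff.mpr inferInstance]; exact le_top
  have hND : N ≤ Subgroup.normalizer ((⁅N, E⁆ : Subgroup X) : Set X) :=
    Cfsg.Agent.Lib.helper1.left_le_normalizer_commutator N E
  have hED : E ≤ Subgroup.normalizer ((⁅N, E⁆ : Subgroup X) : Set X) :=
    Cfsg.Agent.Lib.helper1.right_le_normalizer_commutator hEN
  have hsupNE : N ⊔ E = ⊤ := hc.sup_eq_top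
  have hinfNE : N ⊓ E = ⊥ := hc.disjoint.eq_bot
  -- `T = [N,E] E` is normal
  have key : ∀ n ∈ N, ∀ t ∈ ⁅N, E⁆ ⊔ E, n * t * n⁻¹ ∈ ⁅N, E⁆ ⊔ E := by
    intro n hn t ht
    obtain ⟨d, hd, e, he, rfl⟩ := Cfsg.Agent.Lib.helper1.mem_sup_normal_left hED ht
    have h1 : n * d * n⁻¹ ∈ ⁅N, E⁆ := (Subgroup.mem_normalizer_iff.mp (hND hn) d).mp hd
    have h2 : ⁅n, e⁆ ∈ ⁅N, E⁆ := Subgroup.commutator_mem_commutator hn he
    have e1 : n * (d * e) * n⁻¹ = (n * d * n⁻¹) * ⁅n, e⁆ * e := by
      rw [commutatorElement_def]; group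
    rw [e1]
    exact Subgroup.mul_mem _ (Subgroup.mem_sup_left (Subgroup.mul_mem _ h1 h2))
      (Subgroup.mem_sup_right he)
  have hTn : (⁅N, E⁆ ⊔ E).Normal := by
    rw [← Subgroup.normalizer_eq_top_iff, eq_top_iff, ← hsupNE]
    apply sup_le
    · intro n hn
      rw [Subgroup.mem_normalizer_iff]
      intro t
      constructor
      · exact key n hn t
      · intro ht
        have h3 := key n⁻¹ (N.inv_mem hn) _ ht
        have e2 : n⁻¹ * (n * t * n⁻¹) * n⁻¹⁻¹ = t := by group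
        rw [e2] at h3
        exact h3
    · exact le_sup_right.trans Subgroup.le_normalizer
  -- `T = ⊤`
  have hT : ⁅N, E⁆ ⊔ E = ⊤ := by
    by_contra hne
    have : Nontrivial (X ⧸ (⁅N, E⁆ ⊔ E)) := by
      rw [← not_subsingleton_iff_nontrivial]
      intro hs
      exact hne (QuotientGroup.subgroup_eq_top_of_subsingleton _ hs)
    have hlt := Group.IsSolvable.commutator_lt_top_of_nontrivial (X ⧸ (⁅N, E⁆ ⊔ E))
    set N₂ : Subgroup X :=
      (commutator (X ⧸ (⁅N, E⁆ ⊔ E))).comap (QuotientGroup.mk' (⁅N, E⁆ ⊔ E)) with hN₂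
    have hN₂n : N₂.Normal := Subgroup.Normal.comap inferInstance _
    have hcomm : commutator X ≤ N₂ := by
      rw [hN₂, ← Subgroup.map_le_iff_le_comap, commutator_def, Subgroup.map_commutator]
      rw [commutator_def]
      exact Subgroup.commutator_mono le_top le_top
    have hN₂top : N₂ ≠ ⊤ := by
      intro h
      apply hlt.ne
      rw [eq_top_iff]
      intro y _
      obtain ⟨x, rfl⟩ := QuotientGroup.mk'_surjective (⁅N, E⁆ ⊔ E) y
      have : x ∈ N₂ := h ▸ Subgroup.mem_top x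
      exact this
    have hTN₂ : ⁅N, E⁆ ⊔ E ≤ N₂ := Cfsg.Agent.Lib.helper66.le_comap_mk' _ _
    have hidx1 : N₂.index ≠ 1 := fun h => hN₂top (Subgroup.index_eq_one.mp h)
    obtain ⟨q, hq, hqd⟩ := Nat.exists_prime_and_dvd hidx1
    have hqN : q ∣ Nat.card N := by
      have h1 : N₂.index ∣ E.index :=
        Subgroup.index_dvd_of_le (le_sup_right.trans hTN₂)
      rw [hc.index_eq_card] at h1
      exact hqd.trans h1
    exact hres q hq hqN N₂ hN₂n hcomm hqd
  apply le_antisymm hDN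
  intro n hn
  have hnT : n ∈ ⁅N, E⁆ ⊔ E := hT ▸ Subgroup.mem_top n
  obtain ⟨d, hd, e, he, rfl⟩ := Cfsg.Agent.Lib.helper1.mem_sup_normal_left hED hnT
  have heN : e ∈ N := by
    have : e = d⁻¹ * (d * e) := by group
    rw [this]
    exact N.mul_mem (N.inv_mem (hDN hd)) hn
  have he1 : e = 1 := by
    have : e ∈ N ⊓ E := ⟨heN, he⟩
    rw [hinfNE] at this
    exact Subgroup.mem_bot.mp this
  rw [he1, mul_one]
  exact hd

end general

end Cfsg.Agent.Lib.helper29
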