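import Mathlib
import Cfsg.Prelude.Def_Transfer

set_option autoImplicit false
open Cfsg

namespace Cfsg.Agent.Lib.helper29

open Finset in
/-- In a finite commutative group in which, for every prime `p`, at most `p` elements satisfy
`a ^ p = 1`, at most `n` elements satisfy `a ^ n = 1` for every `n > 0`. -/
theorem card_pow_eq_one_le_of_prime {α : Type*} [CommGroup α] [Fintype α] [DecidableEq α]
    (hp : ∀ p : ℕ, p.Prime → #{a : α | a ^ p = 1} ≤ p) :
    ∀ n : ℕ, 0 < n → #{a : α | a ^ n = 1} ≤ n := by
  intro n
  induction n using Nat.strong_induction_on with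
  | _ n ih =>
    intro hn
    rcases Nat.lt_or_ge n 2 with h2 | h2
    · have hn1 : n = 1 := by omega
      subst hn1
      have : ({a : α | a ^ 1 = 1} : Finset α) = {1} := by
        ext a; simp
      rw [this]; simp
    · have hpr : (n.minFac).Prime := Nat.minFac_prime (by omega)
      set p := n.minFac with hpdef
      obtain ⟨m, hm⟩ := Nat.minFac_dvd n
      have hmpos : 0 < m := by
        rcases Nat.eq_zero_or_pos m with h | h
        · rw [h, mul_zero] at hm; omega
        · exact h
      have hmlt : m < n := by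
        rw [hm]
        have := hpr.one_lt
        nlinarith
      have hmaps : ∀ a ∈ ({a : α | a ^ n = 1} : Finset α),
          a ^ p ∈ ({b : α | b ^ m = 1} : Finset α) := by
        intro a ha
        rw [mem_filter_univ] at ha ⊢
        rw [← pow_mul, ← hm, ha]
      have hfib : ∀ b ∈ ({b : α | b ^ m = 1} : Finset α),
          #{a ∈ ({a : α | a ^ n = 1} : Finset α) | a ^ p = b} ≤ p := by
        intro b _
        rcases Finset.eq_empty_or_nonempty
          ({a ∈ ({a : α | a ^ n = 1} : Finset α) | a ^ p = b}) with h | ⟨a₀, ha₀⟩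
        · rw [h]; simp
        · refine le_trans ?_ (hp p hpr)
          apply Finset.card_le_card_of_injOn (fun a => a * a₀⁻¹)
          · intro a ha
            rw [Finset.mem_coe, mem_filter] at ha
            rw [mem_filter] at ha₀
            rw [Finset.mem_coe, mem_filter_univ, mul_pow, inv_pow, ha.2, ha₀.2, mul_inv_cancel]
          · intro a _ a' _ h
            exact mul_right_cancel h
      calc #{a : α | a ^ n = 1} ≤ p * #{b : α | b ^ m = 1} :=
            Finset.card_le_mul_card_image_of_maps_to hmaps p hfib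
        _ ≤ p * m := Nat.mul_le_mul_left p (ih m hmlt hmpos)
        _ = n := hm.symm

open Finset in
/-- A finite noncyclic commutative group has, for some prime `p`, more than `p` elements
with `a ^ p = 1`. -/
theorem exists_prime_lt_card_pow_eq_one {α : Type*} [CommGroup α] [Fintype α] [DecidableEq α]
    (h : ¬ IsCyclic α) : ∃ p : ℕ, p.Prime ∧ p < #{a : α | a ^ p = 1} := by
  by_contra hcon
  push Not at hcon
  exact h (isCyclic_of_card_pow_eq_one_le (card_pow_eq_one_le_of_prime hcon))

/-- A finite noncyclic abelian subgroup contains an elementary abelian `p`-subgroup of order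
at least `p ^ 2` for some prime `p`. -/
theorem exists_elementaryAbelian_of_not_isCyclic {G : Type*} [Group G] [Finite G]
    (A : Subgroup G) [hAc : IsMulCommutative A] (hA : ¬ IsCyclic A) :
    ∃ (p : ℕ) (E : Subgroup G), p.Prime ∧ E ≤ A ∧ IsElementaryAbelian p E ∧
      p ^ 2 ≤ Nat.card E := by
  classical
  let _ : CommGroup A := { (inferInstance : Group A) with mul_comm := hAc.is_comm.comm }
  have : Fintype A := Fintype.ofFinite A
  obtain ⟨p, hp, hlt⟩ := exists_prime_lt_card_pow_eq_one (α := A) hA
  have : Fact p.Prime := ⟨hp⟩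
  let T : Subgroup A := (powMonoidHom p : A →* A).ker
  have hT : ∀ a : A, a ∈ T ↔ a ^ p = 1 := fun a => by
    rw [MonoidHom.mem_ker, powMonoidHom_apply]
  have hTcard : p < Nat.card T := by
    have : Nat.card T = Finset.card ({a : A | a ^ p = 1} : Finset A) := by
      rw [Nat.card_eq_fintype_card, ← Fintype.card_subtype]
      exact Fintype.card_congr (Equiv.subtypeEquivRight hT)
    rw [this]; exact hlt
  have hTp : IsPGroup p T := by
    intro g
    refine ⟨1, ?_⟩
    rw [pow_one]
    exact Subtype.ext ((hT g.1).mp g.2)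
  obtain ⟨m, hm⟩ := IsPGroup.iff_card.mp hTp
  have hm2 : 2 ≤ m := by
    by_contra hcon
    have hm1 : m ≤ 1 := by omega
    have : p ^ m ≤ p ^ 1 := Nat.pow_le_pow_right hp.pos hm1
    rw [pow_one] at this
    omega
  refine ⟨p, T.map A.subtype, hp, Subgroup.map_subtype_le _, ⟨?_, ?_⟩, ?_⟩
  · refine ⟨⟨fun a b => ?_⟩⟩
    apply Subtype.ext
    have ha := Subgroup.map_subtype_le _ a.2
    have hb := Subgroup.map_subtype_le _ b.2
    have h := congrArg Subtype.val (hAc.is_comm.comm ⟨a.1, ha⟩ ⟨b.1, hb⟩)
    exact h
  · rintro _ ⟨a, ha, rfl⟩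
    have := (hT a).mp ha
    exact congrArg Subtype.val this
  · rw [Subgroup.card_map_of_injective A.subtype_injective, hm]
    exact Nat.pow_le_pow_right hp.pos hm2


/-- Generation by centralisers of nonidentity elements of a noncyclic abelian group `A` acting
coprimely on `K`, deduced from the hyperplane-generation theorem for elementary abelian
`p`-groups (passed as the hypothesis `hyp`). -/
theorem generation_of_hyperplane_generation {G : Type*} [Group G] [Finite G]
    (hyp : ∀ (p : ℕ) [Fact p.Prime] (E X : Subgroup G), IsElementaryAbelian p E →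
      p ^ 2 ≤ Nat.card E → ¬ p ∣ Nat.card X → E ≤ Subgroup.normalizer (X : Set G) →
      X = ⨆ B : {B : Subgroup G // B ≤ E ∧ B.relIndex E ≤ p},
        X ⊓ Subgroup.centralizer ((B : Subgroup G) : Set G))
    (A K : Subgroup G) [IsMulCommutative A] (hA : ¬ IsCyclic A)
    (hAK : A ≤ Subgroup.normalizer (K : Set G)) (hcop : (Nat.card A).Coprime (Nat.card K)) :
    (⨆ a ∈ {a : G | a ∈ A ∧ a ≠ 1}, K ⊓ Subgroup.centralizer {a}) = K := by
  apply le_antisymm
  · exact iSup₂_le fun a _ => inf_le_left
  · obtain ⟨p, E, hp, hEA, hEel, hEcard⟩ := exists_elementaryAbelian_of_not_isCyclic A hA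
    have : Fact p.Prime := ⟨hp⟩
    have hpK : ¬ p ∣ Nat.card K := by
      intro hdvd
      have hpE : p ∣ Nat.card E := by
        have : p ∣ p ^ 2 := Dvd.intro_left (p ^ 1) (by ring)
        obtain ⟨m, hm⟩ := IsPGroup.iff_card.mp (show IsPGroup p E from fun g =>
          ⟨1, by rw [pow_one]; exact Subtype.ext (hEel.2 g.1 g.2)⟩)
        rw [hm] at hEcard ⊢
        have hm0 : m ≠ 0 := by
          rintro rfl
          have := hp.one_lt
          nlinarith
        exact dvd_pow_self p hm0
      have hpA : p ∣ Nat.card A := hpE.trans (Subgroup.card_dvd_of_le hEA)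
      have := Nat.eq_one_of_dvd_coprimes hcop hpA hdvd
      exact hp.one_lt.ne' this
    have hgen := hyp p E K hEel hEcard hpK (hEA.trans hAK)
    conv_lhs => rw [hgen]
    apply iSup_le
    rintro ⟨B, hBE, hBidx⟩
    -- B is nontrivial
    have hBne : B ≠ ⊥ := by
      rintro rfl
      rw [Subgroup.relIndex_bot_left] at hBidx
      have := hp.one_lt
      nlinarith
    obtain ⟨b, hbB, hb1⟩ : ∃ b ∈ B, b ≠ 1 := by
      rcases B.bot_or_exists_ne_one with h | h
      · exact absurd h hBne
      · exact h
    have hle : K ⊓ Subgroup.centralizer ((B : Subgroup G) : Set G) ≤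
        K ⊓ Subgroup.centralizer {b} :=
      inf_le_inf_left _ (Subgroup.centralizer_le (Set.singleton_subset_iff.mpr hbB))
    refine hle.trans ?_
    exact le_iSup₂ (f := fun a (_ : a ∈ {a : G | a ∈ A ∧ a ≠ 1}) =>
      K ⊓ Subgroup.centralizer {a}) b ⟨hEA (hBE hbB), hb1⟩

end Cfsg.Agent.Lib.helper29
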