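import Mathlib

/-!
Baer's trick: a group `Q` of nilpotency class at most two in which commutators have odd order carries
a commutative group structure `a ∘ b = a b [b,a]^{1/2}` on the same underlying set, and every
automorphism of `Q` is an automorphism of the new structure.
-/

set_option autoImplicit false
open scoped commutatorElement

namespace Cfsg.Agent.Lib.helper29

/-- Class at most two, with all commutators of order dividing the odd number `2 n + 1`. -/
structure BaerData (Q : Type*) [Group Q] where
  n : ℕ
  central : ∀ a b c : Q, ⁅a, b⁆ * c = c * ⁅a, b⁆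
  pow : ∀ a b : Q, ⁅a, b⁆ ^ (2 * n + 1) = 1

namespace BaerData

variable {Q : Type*} [Group Q]

/-- The correction factor `[b,a]^{1/2}`. -/
def corr (d : BaerData Q) (a b : Q) : Q := ⁅b, a⁆ ^ (d.n + 1)

theorem commute_comm (d : BaerData Q) (a b c : Q) : Commute ⁅a, b⁆ c := d.central a b c

theorem commute_corr (d : BaerData Q) (a b c : Q) : Commute (d.corr a b) c := (d.commute_comm b a c).pow_left _

theorem comm_mul_left (d : BaerData Q) (a b c : Q) : ⁅a * b, c⁆ = ⁅a, c⁆ * ⁅b, c⁆ := by
  have h1 : ⁅a * b, c⁆ = a * ⁅b, c⁆ * a⁻¹ * ⁅a, c⁆ := by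
    simp only [commutatorElement_def]; group
  rw [h1, (d.commute_comm b c a).symm.eq, mul_inv_cancel_right, (d.commute_comm b c _).eq]

theorem comm_mul_right (d : BaerData Q) (a b c : Q) : ⁅a, b * c⁆ = ⁅a, b⁆ * ⁅a, c⁆ := by
  have h1 : ⁅a, b * c⁆ = ⁅a, b⁆ * (b * ⁅a, c⁆ * b⁻¹) := by
    simp only [commutatorElement_def]; group
  rw [h1, (d.commute_comm a c b).symm.eq, mul_inv_cancel_right]

theorem comm_eq_one_of_central_right (a z : Q) (hz : ∀ c : Q, Commute z c) : ⁅a, z⁆ = 1 := by
  rw [commutatorElement_def, (hz a).symm.eq, mul_inv_cancel_right, mul_inv_cancel]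

theorem comm_eq_one_of_central_left (z a : Q) (hz : ∀ c : Q, Commute z c) : ⁅z, a⁆ = 1 := by
  rw [commutatorElement_def, (hz a).eq, mul_inv_cancel_right, mul_inv_cancel]

theorem corr_mul_left (d : BaerData Q) (a b c : Q) : d.corr (a * b) c = d.corr a c * d.corr b c := by
  unfold corr
  rw [d.comm_mul_right, (d.commute_comm c a ⁅c, b⁆).mul_pow]

theorem corr_mul_right (d : BaerData Q) (a b c : Q) : d.corr a (b * c) = d.corr a b * d.corr a c := by
  unfold corr
  rw [d.comm_mul_left, (d.commute_comm b a ⁅c, a⁆).mul_pow]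

theorem corr_central_left (d : BaerData Q) (z c : Q) (hz : ∀ x : Q, Commute z x) : d.corr z c = 1 := by
  unfold corr; rw [comm_eq_one_of_central_right c z hz, one_pow]

theorem corr_central_right (d : BaerData Q) (c z : Q) (hz : ∀ x : Q, Commute z x) : d.corr c z = 1 := by
  unfold corr; rw [comm_eq_one_of_central_left z c hz, one_pow]

theorem corr_swap (d : BaerData Q) (a b : Q) : ⁅b, a⁆ * d.corr b a = d.corr a b := by
  unfold corr
  rw [← commutatorElement_inv b a]
  have hz := d.pow b a
  have h2 : ⁅b, a⁆ ^ (d.n + 1) * ⁅b, a⁆ ^ (d.n + 1) = ⁅b, a⁆ := by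
    rw [← pow_add, show d.n + 1 + (d.n + 1) = 2 * d.n + 1 + 1 by ring, pow_succ, hz, one_mul]
  rw [inv_pow, mul_inv_eq_iff_eq_mul]
  exact h2.symm

theorem assoc_aux (d : BaerData Q) (a b c : Q) :
    a * b * d.corr a b * c * d.corr (a * b * d.corr a b) c =
      a * (b * c * d.corr b c) * d.corr a (b * c * d.corr b c) := by
  rw [d.corr_mul_left (a * b) (d.corr a b) c, d.corr_mul_left a b c,
    d.corr_central_left _ c (d.commute_corr a b), mul_one,
    d.corr_mul_right a (b * c) (d.corr b c), d.corr_mul_right a b c,
    d.corr_central_right a _ (d.commute_corr b c), mul_one]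
  have e1 : a * b * d.corr a b * c = a * b * c * d.corr a b := by
    rw [mul_assoc (a * b), (d.commute_corr a b c).eq, ← mul_assoc]
  rw [e1]
  have e2 : a * (b * c * d.corr b c) = a * b * c * d.corr b c := by simp only [mul_assoc]
  rw [e2]
  have e3 : d.corr a b * (d.corr a c * d.corr b c) = d.corr b c * (d.corr a b * d.corr a c) := by
    rw [← mul_assoc, (d.commute_corr b c (d.corr a b * d.corr a c)).eq]
  rw [mul_assoc (a * b * c), e3, ← mul_assoc]

theorem comm_aux (d : BaerData Q) (a b : Q) : a * b * d.corr a b = b * a * d.corr b a := by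
  have e1 : b * a = ⁅b, a⁆ * (a * b) := by simp only [commutatorElement_def]; group
  rw [e1, (d.commute_comm b a (a * b)).eq, mul_assoc (a * b), d.corr_swap]

theorem one_mul_aux (d : BaerData Q) (a : Q) : 1 * a * d.corr 1 a = a := by
  simp [corr]

theorem mul_one_aux (d : BaerData Q) (a : Q) : a * 1 * d.corr a 1 = a := by
  simp [corr]

theorem inv_mul_aux (d : BaerData Q) (a : Q) : a⁻¹ * a * d.corr a⁻¹ a = 1 := by
  simp [corr, commutatorElement_def]

end BaerData

/-- The underlying set of `Q`, to carry Baer's commutative multiplication. -/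
def Baer {Q : Type*} [Group Q] (_d : BaerData Q) : Type _ := Q

namespace Baer

variable {Q : Type*} [Group Q] {d : BaerData Q}

/-- The underlying element of `Q`. -/
def val (a : Baer d) : Q := a

/-- An element of `Q` as an element of the Baer group. -/
def mk (d : BaerData Q) (a : Q) : Baer d := a

instance instCommGroup (d : BaerData Q) : CommGroup (Baer d) where
  mul a b := mk d (a.val * b.val * d.corr a.val b.val)
  one := mk d 1
  inv a := mk d a.val⁻¹
  mul_assoc a b c := d.assoc_aux a.val b.val c.val
  one_mul a := d.one_mul_aux a.val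
  mul_one a := d.mul_one_aux a.val
  inv_mul_cancel a := d.inv_mul_aux a.val
  mul_comm a b := d.comm_aux a.val b.val

theorem val_mul (a b : Baer d) : (a * b).val = a.val * b.val * d.corr a.val b.val := rfl

theorem val_one : (1 : Baer d).val = 1 := rfl

theorem val_mk (a : Q) : (mk d a).val = a := rfl

theorem mk_val (a : Baer d) : mk d a.val = a := rfl

theorem val_injective : Function.Injective (val : Baer d → Q) := fun _ _ h => h

instance instFinite [Finite Q] : Finite (Baer d) := inferInstanceAs (Finite Q)

theorem card_eq : Nat.card (Baer d) = Nat.card Q := rfl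

/-- A group endomorphism of `Q` is an endomorphism of the Baer group. -/
def map (d : BaerData Q) (φ : Q →* Q) : Baer d →* Baer d where
  toFun a := mk d (φ a.val)
  map_one' := by
    show mk d (φ 1) = mk d 1
    rw [map_one]
  map_mul' a b := by
    show mk d (φ (a.val * b.val * d.corr a.val b.val)) =
      mk d (φ a.val * φ b.val * d.corr (φ a.val) (φ b.val))
    simp only [BaerData.corr, map_mul, map_pow, map_commutatorElement]

theorem val_map (φ : Q →* Q) (a : Baer d) : (map d φ a).val = φ a.val := rfl

end Baer

end Cfsg.Agent.Lib.helper29
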