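import Cfsg.Agent.Lib.helper29.Basic
import Mathlib.GroupTheory.SpecificGroups.Dihedral

set_option autoImplicit false
open Cfsg

namespace Cfsg.Agent.Lib.helper29

open scoped commutatorElement

/-- An element of odd order whose square is trivial is trivial. -/
theorem eq_one_of_sq_eq_one_of_odd {G : Type*} [Group G] {c : G} (hodd : Odd (orderOf c))
    (h : c * c = 1) : c = 1 := by
  have h2 : c ^ 2 = 1 := by rw [pow_two]; exact h
  have h3 : orderOf c ∣ 2 := orderOf_dvd_of_pow_eq_one h2
  have h4 : orderOf c = 1 := by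
    rcases (Nat.dvd_prime Nat.prime_two).mp h3 with h5 | h5
    · exact h5
    · rw [h5] at hodd; exact absurd hodd (by decide)
  exact orderOf_eq_one_iff.mp h4

theorem odd_orderOf_of_mem {G : Type*} [Group G] {K : Subgroup G} (hK : Odd (Nat.card K))
    {c : G} (hc : c ∈ K) : Odd (orderOf c) := by
  have := orderOf_dvd_natCard (⟨c, hc⟩ : K)
  rw [Subgroup.orderOf_mk] at this
  exact Odd.of_dvd_nat hK this

theorem inv_eq_self_of_mul_self {G : Type*} [Group G] {t : G} (ht : t * t = 1) : t⁻¹ = t :=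
  inv_eq_of_mul_eq_one_left ht

/-- For an involution `b`, the element `y⁻¹ * (b * y * b⁻¹)` is inverted by `b`. -/
theorem conj_commutator_eq_inv {G : Type*} [Group G] {b : G} (hb : b * b = 1) (y : G) :
    b * (y⁻¹ * (b * y * b⁻¹)) * b⁻¹ = (y⁻¹ * (b * y * b⁻¹))⁻¹ := by
  have hb' : b⁻¹ = b := inv_eq_self_of_mul_self hb
  rw [hb']
  apply eq_inv_of_mul_eq_one_right
  have h1 : (y⁻¹ * (b * y * b)) * (b * (y⁻¹ * (b * y * b)) * b) =
      y⁻¹ * b * y * (b * b) * y⁻¹ * b * y * (b * b) := by group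
  rw [h1, hb, mul_one, mul_one]
  have h2 : y⁻¹ * b * y * y⁻¹ * b * y = y⁻¹ * (b * b) * y := by group
  rw [h2, hb]
  group

/-- If the involution `b` fixes `y⁻¹ * (b * y * b⁻¹)`, an element of odd order, then `b` fixes `y`. -/
theorem conj_eq_of_commutator_fixed {G : Type*} [Group G] {b y : G} (hb : b * b = 1)
    (hodd : Odd (orderOf (y⁻¹ * (b * y * b⁻¹))))
    (hfix : b * (y⁻¹ * (b * y * b⁻¹)) * b⁻¹ = y⁻¹ * (b * y * b⁻¹)) : b * y * b⁻¹ = y := by
  have h1 := conj_commutator_eq_inv hb y
  rw [hfix] at h1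
  have h2 : (y⁻¹ * (b * y * b⁻¹)) * (y⁻¹ * (b * y * b⁻¹)) = 1 := by
    nth_rewrite 1 [h1]
    exact inv_mul_cancel _
  have h3 := eq_one_of_sq_eq_one_of_odd hodd h2
  have h4 : b * y * b⁻¹ = y * (y⁻¹ * (b * y * b⁻¹)) := by group
  rw [h4, h3, mul_one]

/-- If `b` centralizes `N` and `y` normalizes `N`, then `y⁻¹ * (b * y * b⁻¹)` centralizes `N`. -/
theorem commutator_mem_centralizer {G : Type*} [Group G] {N : Subgroup G} {b y : G}
    (hb : b ∈ Subgroup.centralizer (N : Set G)) (hy : y ∈ Subgroup.normalizer (N : Set G)) :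
    y⁻¹ * (b * y * b⁻¹) ∈ Subgroup.centralizer (N : Set G) := by
  rw [Subgroup.mem_centralizer_iff]
  intro e he
  have hbe : ∀ x ∈ N, b * x * b⁻¹ = x := by
    intro x hx
    have := Subgroup.mem_centralizer_iff.mp hb x hx
    rw [← this]; group
  have h1 : y * e * y⁻¹ ∈ N := (Subgroup.mem_normalizer_iff.mp hy e).mp he
  have h2 := hbe _ h1
  have h3 := hbe _ he
  have h4 : b * (y * e * y⁻¹) * b⁻¹ = (b * y * b⁻¹) * (b * e * b⁻¹) * (b * y * b⁻¹)⁻¹ := by group
  rw [h2, h3] at h4
  -- h4 : y * e * y⁻¹ = (b y b⁻¹) e (b y b⁻¹)⁻¹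
  calc e * (y⁻¹ * (b * y * b⁻¹)) = y⁻¹ * (y * e * y⁻¹) * (b * y * b⁻¹) := by group
    _ = y⁻¹ * ((b * y * b⁻¹) * e * (b * y * b⁻¹)⁻¹) * (b * y * b⁻¹) := by rw [← h4]
    _ = y⁻¹ * (b * y * b⁻¹) * e := by group

/-- Existence of a common "eigenvector modulo `N`" for a finite set of commuting involutions. -/
theorem exists_eigen_mod {G : Type*} [Group G] (T C N : Subgroup G)
    (hT2 : ∀ t ∈ T, t * t = 1) (hTc : ∀ s ∈ T, ∀ t ∈ T, s * t = t * s)
    (hTC : T ≤ Subgroup.normalizer (C : Set G)) (hTN : T ≤ Subgroup.normalizer (N : Set G))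
    (hNC : N ≤ C) (hCN : ⁅C, C⁆ ≤ N)
    (S : Finset G) (hS : ∀ t ∈ S, t ∈ T) {y₀ : G} (hy₀ : y₀ ∈ C) (hy₀N : y₀ ∉ N) :
    ∃ y ∈ C, y ∉ N ∧ ∀ t ∈ S, (t * y * t⁻¹) * y⁻¹ ∈ N ∨ (t * y * t⁻¹) * y ∈ N := by
  classical
  have hcomm : ∀ c ∈ C, ∀ d ∈ C, c * d * c⁻¹ * d⁻¹ ∈ N := by
    intro c hc d hd
    have := Subgroup.commutator_mem_commutator hc hd
    rw [commutatorElement_def] at this
    exact hCN this
  have hNnorm : ∀ c ∈ C, ∀ n ∈ N, c * n * c⁻¹ ∈ N := by
    intro c hc n hn
    have h1 : c * n * c⁻¹ = (c * n * c⁻¹ * n⁻¹) * n := by group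
    rw [h1]
    exact N.mul_mem (hcomm c hc n (hNC hn)) hn
  have hTC' : ∀ t ∈ T, ∀ c ∈ C, t * c * t⁻¹ ∈ C := fun t ht c hc =>
    (Subgroup.mem_normalizer_iff.mp (hTC ht) c).mp hc
  have hTN' : ∀ t ∈ T, ∀ n ∈ N, t * n * t⁻¹ ∈ N := fun t ht n hn =>
    (Subgroup.mem_normalizer_iff.mp (hTN ht) n).mp hn
  induction S using Finset.induction_on with
  | empty => exact ⟨y₀, hy₀, hy₀N, by simp⟩
  | insert t S' htS' ih =>
    have htT : t ∈ T := hS t (Finset.mem_insert_self t S')
    obtain ⟨y, hyC, hyN, hy⟩ := ih (fun s hs => hS s (Finset.mem_insert_of_mem hs))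
    have huC : t * y * t⁻¹ ∈ C := hTC' t htT y hyC
    by_cases hcase : y * (t * y * t⁻¹) ∈ N
    · refine ⟨y, hyC, hyN, ?_⟩
      intro s hs
      rcases Finset.mem_insert.mp hs with rfl | hs'
      · right
        have h1 : s * y * s⁻¹ * y = y⁻¹ * (y * (s * y * s⁻¹)) * y⁻¹⁻¹ := by group
        rw [h1]
        exact hNnorm _ (C.inv_mem hyC) _ hcase
      · exact hy s hs'
    · refine ⟨y * (t * y * t⁻¹), C.mul_mem hyC huC, hcase, ?_⟩
      have htu : t * (t * y * t⁻¹) * t⁻¹ = y := by
        have h1 : t * (t * y * t⁻¹) * t⁻¹ = (t * t) * y * (t * t)⁻¹ := by group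
        rw [h1, hT2 t htT]; group
      intro s hs
      rcases Finset.mem_insert.mp hs with rfl | hs'
      · left
        have h1 : s * (y * (s * y * s⁻¹)) * s⁻¹ * (y * (s * y * s⁻¹))⁻¹ =
            (s * y * s⁻¹) * (s * (s * y * s⁻¹) * s⁻¹) * (s * y * s⁻¹)⁻¹ * y⁻¹ := by group
        rw [h1, htu]
        exact hcomm _ huC _ hyC
      · have hsT : s ∈ T := hS s (Finset.mem_insert_of_mem hs')
        have hst : s * t = t * s := hTc s hsT t htT
        have e1 : s * (y * (t * y * t⁻¹)) * s⁻¹ =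
            (s * y * s⁻¹) * ((s * t) * y * (s * t)⁻¹) := by group
        rw [hst] at e1
        have e2 : (t * s) * y * (t * s)⁻¹ = t * (s * y * s⁻¹) * t⁻¹ := by group
        rw [e2] at e1
        rcases hy s hs' with h | h
        · left
          set n := s * y * s⁻¹ * y⁻¹ with hn
          have hv : s * y * s⁻¹ = n * y := by rw [hn]; group
          rw [e1, hv]
          have e3 : n * y * (t * (n * y) * t⁻¹) * (y * (t * y * t⁻¹))⁻¹ =
              n * (y * (t * n * t⁻¹) * y⁻¹) := by group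
          rw [e3]
          exact N.mul_mem h (hNnorm y hyC _ (hTN' t htT n h))
        · right
          set n := s * y * s⁻¹ * y with hn
          have hv : s * y * s⁻¹ = n * y⁻¹ := by rw [hn]; group
          rw [e1, hv]
          have e3 : n * y⁻¹ * (t * (n * y⁻¹) * t⁻¹) * (y * (t * y * t⁻¹)) =
              n * (y⁻¹ * (t * n * t⁻¹) * y⁻¹⁻¹) *
                (y⁻¹ * (t * y * t⁻¹)⁻¹ * y⁻¹⁻¹ * (t * y * t⁻¹)⁻¹⁻¹) := by group
          rw [e3]
          exact N.mul_mem (N.mul_mem h (hNnorm _ (C.inv_mem hyC) _ (hTN' t htT n h)))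
            (hcomm _ (C.inv_mem hyC) _ (C.inv_mem huC))

/-- The normalizer of a set normalizes its centralizer. -/
theorem normalizer_le_normalizer_centralizer {G : Type*} [Group G] (H : Subgroup G) :
    Subgroup.normalizer (H : Set G) ≤
      Subgroup.normalizer ((Subgroup.centralizer (H : Set G) : Subgroup G) : Set G) := by
  intro t ht
  have key : ∀ u ∈ Subgroup.normalizer (H : Set G), ∀ x ∈ Subgroup.centralizer (H : Set G),
      u * x * u⁻¹ ∈ Subgroup.centralizer (H : Set G) := by
    intro u hu x hx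
    rw [Subgroup.mem_centralizer_iff]
    intro h hh
    have h1 : u⁻¹ * h * u⁻¹⁻¹ ∈ H :=
      (Subgroup.mem_normalizer_iff.mp (Subgroup.inv_mem _ hu) h).mp hh
    have h2 := Subgroup.mem_centralizer_iff.mp hx _ h1
    calc h * (u * x * u⁻¹) = u * ((u⁻¹ * h * u⁻¹⁻¹) * x) * u⁻¹ := by group
      _ = u * (x * (u⁻¹ * h * u⁻¹⁻¹)) * u⁻¹ := by rw [h2]
      _ = u * x * u⁻¹ * h := by group
  rw [Subgroup.mem_normalizer_iff]
  intro x
  constructor
  · exact key t ht x
  · intro hx
    have := key t⁻¹ (Subgroup.inv_mem _ ht) _ hx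
    have e : t⁻¹ * (t * x * t⁻¹) * t⁻¹⁻¹ = x := by group
    rwa [e] at this

theorem conj_mem_of_le_normalizer {G : Type*} [Group G] {A H : Subgroup G}
    (h : A ≤ Subgroup.normalizer (H : Set G)) {t x : G} (ht : t ∈ A) (hx : x ∈ H) :
    t * x * t⁻¹ ∈ H :=
  (Subgroup.mem_normalizer_iff.mp (h ht) x).mp hx

/-- A group of class at most two and odd order, acted on by an elementary abelian 2-group `A`,
has an `A`-invariant abelian subgroup on which `A` acts as faithfully as on the whole group. -/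
theorem exists_abelian_of_class_two {G : Type*} [Group G] [Finite G] (A D : Subgroup G)
    (hA2 : ∀ t ∈ A, t * t = 1) (hAc : ∀ s ∈ A, ∀ t ∈ A, s * t = t * s)
    (hAD : A ≤ Subgroup.normalizer (D : Set G)) (hDodd : Odd (Nat.card D))
    (hD2 : ⁅D, D⁆ ≤ Subgroup.centralizer (D : Set G)) :
    ∃ E : Subgroup G, E ≤ D ∧ E ≤ Subgroup.centralizer (E : Set G) ∧
      A ≤ Subgroup.normalizer (E : Set G) ∧
      A ⊓ Subgroup.centralizer (E : Set G) ≤ Subgroup.centralizer (D : Set G) := by
  classical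
  let p : Subgroup G → Prop := fun E =>
    D ⊓ Subgroup.centralizer (D : Set G) ≤ E ∧ E ≤ D ∧ E ≤ Subgroup.centralizer (E : Set G) ∧
      A ≤ Subgroup.normalizer (E : Set G)
  have hZ : p (D ⊓ Subgroup.centralizer (D : Set G)) := by
    refine ⟨le_refl _, inf_le_left, ?_, ?_⟩
    · exact inf_le_right.trans (Subgroup.centralizer_le (by
        intro x hx; exact hx.1))
    · exact (le_inf hAD (hAD.trans (normalizer_le_normalizer_centralizer D))).trans
        Subgroup.inf_normalizer_le_normalizer_inf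
  obtain ⟨E, -, ⟨hZE, hED, hEab, hAE⟩, hmax⟩ := Finite.exists_le_maximal (p := p) hZ
  refine ⟨E, hED, hEab, hAE, ?_⟩
  have hD'E : ⁅D, D⁆ ≤ E := (le_inf (commutator_self_le D) hD2).trans hZE
  -- E is normal in D
  have hDE : D ≤ Subgroup.normalizer (E : Set G) := by
    have key : ∀ y ∈ D, ∀ e ∈ E, y * e * y⁻¹ ∈ E := by
      intro y hy e he
      have h1 : y * e * y⁻¹ = (y * e * y⁻¹ * e⁻¹) * e := by group
      rw [h1]
      refine E.mul_mem (hD'E ?_) he
      have := Subgroup.commutator_mem_commutator hy (hED he)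
      rwa [commutatorElement_def] at this
    intro y hy
    rw [Subgroup.mem_normalizer_iff]
    intro e
    constructor
    · exact key y hy e
    · intro h
      have := key y⁻¹ (D.inv_mem hy) _ h
      have e' : y⁻¹ * (y * e * y⁻¹) * y⁻¹⁻¹ = e := by group
      rwa [e'] at this
  rintro b ⟨hbA, hbE⟩
  rw [SetLike.mem_coe] at hbA hbE
  by_contra hbD
  -- some y ∈ D is moved by b
  have hex : ∃ y ∈ D, b * y * b⁻¹ ≠ y := by
    by_contra hcon
    push Not at hcon
    apply hbD
    rw [Subgroup.mem_centralizer_iff]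
    intro y hy
    have := hcon y hy
    calc y * b = (b * y * b⁻¹) * b := by rw [this]
      _ = b * y := by group
  obtain ⟨y, hyD, hyb⟩ := hex
  have hb2 : b * b = 1 := hA2 b hbA
  set c := y⁻¹ * (b * y * b⁻¹) with hc
  have hcD : c ∈ D := D.mul_mem (D.inv_mem hyD) (conj_mem_of_le_normalizer hAD hbA hyD)
  have hcE : c ∈ Subgroup.centralizer (E : Set G) := commutator_mem_centralizer hbE (hDE hyD)
  have hcnE : c ∉ E := by
    intro hcE'
    apply hyb
    apply conj_eq_of_commutator_fixed hb2 (odd_orderOf_of_mem hDodd hcD)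
    have := Subgroup.mem_centralizer_iff.mp hbE c hcE'
    calc b * c * b⁻¹ = (c * b) * b⁻¹ := by rw [this]
      _ = c := by group
  -- the centralizer of E in D
  set C := D ⊓ Subgroup.centralizer (E : Set G) with hC
  have hAC : A ≤ Subgroup.normalizer (C : Set G) :=
    (le_inf hAD (hAE.trans (normalizer_le_normalizer_centralizer E))).trans
      Subgroup.inf_normalizer_le_normalizer_inf
  have hEC : E ≤ C := le_inf hED hEab
  have hC'E : ⁅C, C⁆ ≤ E :=
    (Subgroup.commutator_mono inf_le_left inf_le_left).trans hD'E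
  obtain ⟨w, hwC, hwE, hw⟩ := exists_eigen_mod A C E hA2 hAc hAC hAE hEC hC'E
    (Set.toFinite (A : Set G)).toFinset (fun t ht => by simpa using ht) (y₀ := c) ⟨hcD, hcE⟩ hcnE
  -- the larger abelian subgroup
  have hwcent : w ∈ Subgroup.centralizer (E : Set G) := hwC.2
  have hW : p (E ⊔ Subgroup.zpowers w) := by
    refine ⟨hZE.trans le_sup_left, sup_le hED (Subgroup.zpowers_le.mpr hwC.1), ?_, ?_⟩
    · have h1 : E ≤ Subgroup.centralizer ((Subgroup.zpowers w : Subgroup G) : Set G) := by
        rw [Subgroup.le_centralizer_iff]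
        exact Subgroup.zpowers_le.mpr hwcent
      have h2 : Subgroup.zpowers w ≤
          Subgroup.centralizer ((Subgroup.zpowers w : Subgroup G) : Set G) := by
        rw [Subgroup.zpowers_le, Subgroup.mem_centralizer_iff]
        intro h hh
        obtain ⟨k, rfl⟩ := Subgroup.mem_zpowers_iff.mp hh
        exact (Commute.zpow_left (Commute.refl w) k).eq
      refine sup_le ?_ ?_
      · rw [Subgroup.le_centralizer_iff]
        exact sup_le hEab (Subgroup.zpowers_le.mpr hwcent)
      · rw [Subgroup.le_centralizer_iff]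
        exact sup_le h1 h2
    · rw [Subgroup.le_set_normalizer_iff]
      intro t ht
      have hle : E ⊔ Subgroup.zpowers w ≤
          (E ⊔ Subgroup.zpowers w).comap (MulAut.conj t).toMonoidHom := by
        refine sup_le ?_ ?_
        · intro e he
          rw [Subgroup.mem_comap]
          exact (le_sup_left : E ≤ E ⊔ Subgroup.zpowers w)
            (conj_mem_of_le_normalizer hAE ht he)
        · rw [Subgroup.zpowers_le, Subgroup.mem_comap]
          have hwW : w ∈ E ⊔ Subgroup.zpowers w :=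
            (le_sup_right : Subgroup.zpowers w ≤ E ⊔ Subgroup.zpowers w)
              (Subgroup.mem_zpowers w)
          show t * w * t⁻¹ ∈ E ⊔ Subgroup.zpowers w
          rcases hw t (by simpa using ht) with h | h
          · have e1 : t * w * t⁻¹ = (t * w * t⁻¹ * w⁻¹) * w := by group
            rw [e1]
            exact Subgroup.mul_mem _ ((le_sup_left : E ≤ E ⊔ Subgroup.zpowers w) h) hwW
          · have e1 : t * w * t⁻¹ = (t * w * t⁻¹ * w) * w⁻¹ := by group
            rw [e1]
            exact Subgroup.mul_mem _ ((le_sup_left : E ≤ E ⊔ Subgroup.zpowers w) h)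
              (Subgroup.inv_mem _ hwW)
      intro g hg
      exact hle hg
  have := hmax hW le_sup_left
  exact hwE (this ((le_sup_right : Subgroup.zpowers w ≤ E ⊔ Subgroup.zpowers w)
    (Subgroup.mem_zpowers w)))

/-- The derived subgroup of a nontrivial solvable subgroup is a proper subgroup of it. -/
theorem commutator_lt_of_isSolvable_subgroup {G : Type*} [Group G] {L : Subgroup G}
    (hs : Group.IsSolvable L) (hne : L ≠ ⊥) : ⁅L, L⁆ < L := by
  have : Nontrivial L := (Subgroup.nontrivial_iff_ne_bot L).mpr hne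
  have h := Group.IsSolvable.commutator_lt_top_of_nontrivial (G := L)
  refine lt_of_le_of_ne (commutator_self_le L) ?_
  intro heq
  apply h.ne
  apply Subgroup.map_injective L.subtype_injective
  have h1 : (commutator L).map L.subtype = ⁅L, L⁆ := by
    unfold commutator
    rw [Subgroup.map_commutator]
    have : (⊤ : Subgroup L).map L.subtype = L := by
      rw [← MonoidHom.range_eq_map, Subgroup.range_subtype]
    rw [this]
  have h2 : (⊤ : Subgroup L).map L.subtype = L := by
    rw [← MonoidHom.range_eq_map, Subgroup.range_subtype]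
  rw [h1, h2, heq]

/-- `A` normalizes the derived subgroup of a subgroup it normalizes. -/
theorem le_normalizer_commutator {G : Type*} [Group G] {A L : Subgroup G}
    (h : A ≤ Subgroup.normalizer (L : Set G)) :
    A ≤ Subgroup.normalizer ((⁅L, L⁆ : Subgroup G) : Set G) := by
  intro t ht
  rw [Subgroup.mem_normalizer_iff_map_conj_eq]
  have h1 := Subgroup.mem_normalizer_iff_map_conj_eq.mp (h ht)
  have h2 := Subgroup.map_commutator L L (MulAut.conj t).toMonoidHom
  have h3 : L.map (MulAut.conj t).toMonoidHom = L := h1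
  rw [h3] at h2
  exact h2

/-- Reduction to the abelian case: an elementary abelian 2-group `A` normalizing a solvable group
`L` of odd order normalizes an abelian subgroup `E` of `L` with `C_A(E) ≤ C_A(L)`. -/
theorem exists_abelian_faithful {G : Type*} [Group G] [Finite G] (A : Subgroup G)
    (hA2 : ∀ t ∈ A, t * t = 1) (hAc : ∀ s ∈ A, ∀ t ∈ A, s * t = t * s) :
    ∀ L : Subgroup G, Group.IsSolvable L → Odd (Nat.card L) →
      A ≤ Subgroup.normalizer (L : Set G) →
      ∃ E : Subgroup G, E ≤ L ∧ E ≤ Subgroup.centralizer (E : Set G) ∧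
        A ≤ Subgroup.normalizer (E : Set G) ∧
        A ⊓ Subgroup.centralizer (E : Set G) ≤ Subgroup.centralizer (L : Set G) := by
  intro L
  induction L using WellFoundedLT.induction with
  | ind L ih =>
    intro hLs hLodd hAL
    by_cases h2 : ⁅L, L⁆ ≤ Subgroup.centralizer (L : Set G)
    · exact exists_abelian_of_class_two A L hA2 hAc hAL hLodd h2
    · have hLne : L ≠ ⊥ := by
        rintro rfl
        apply h2
        rw [Subgroup.commutator_bot_left]
        exact bot_le
      have hL'lt : ⁅L, L⁆ < L := commutator_lt_of_isSolvable_subgroup hLs hLne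
      have hDle : L ⊓ Subgroup.centralizer ((⁅L, L⁆ : Subgroup G) : Set G) ≤ L := inf_le_left
      have hDlt : L ⊓ Subgroup.centralizer ((⁅L, L⁆ : Subgroup G) : Set G) < L := by
        refine lt_of_le_of_ne hDle ?_
        intro heq
        apply h2
        rw [Subgroup.le_centralizer_iff]
        exact (le_of_eq heq.symm).trans inf_le_right
      have hsub : ∀ K : Subgroup G, K ≤ L → Group.IsSolvable K ∧ Odd (Nat.card K) := by
        intro K hK
        refine ⟨?_, Odd.of_dvd_nat hLodd (Subgroup.card_dvd_of_le hK)⟩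
        exact Group.isSolvable_of_isSolvable_injective (Subgroup.inclusion_injective hK)
      have hAL' : A ≤ Subgroup.normalizer ((⁅L, L⁆ : Subgroup G) : Set G) :=
        le_normalizer_commutator hAL
      have hAD : A ≤ Subgroup.normalizer
          ((L ⊓ Subgroup.centralizer ((⁅L, L⁆ : Subgroup G) : Set G) : Subgroup G) : Set G) :=
        (le_inf hAL (hAL'.trans (normalizer_le_normalizer_centralizer _))).trans
          Subgroup.inf_normalizer_le_normalizer_inf
      obtain ⟨E₁, hE₁L', hE₁ab, hAE₁, hE₁c⟩ := ih _ hL'lt (hsub _ hL'lt.le).1 (hsub _ hL'lt.le).2 hAL'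
      obtain ⟨E₂, hE₂D, hE₂ab, hAE₂, hE₂c⟩ := ih _ hDlt (hsub _ hDle).1 (hsub _ hDle).2 hAD
      have hE₂E₁ : E₂ ≤ Subgroup.centralizer (E₁ : Set G) :=
        (hE₂D.trans inf_le_right).trans (Subgroup.centralizer_le hE₁L')
      refine ⟨E₁ ⊔ E₂, sup_le (hE₁L'.trans hL'lt.le) (hE₂D.trans hDle), ?_, ?_, ?_⟩
      · refine sup_le ?_ ?_
        · rw [Subgroup.le_centralizer_iff]
          refine sup_le hE₁ab ?_
          exact hE₂E₁
        · rw [Subgroup.le_centralizer_iff]
          refine sup_le ?_ hE₂ab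
          rw [Subgroup.le_centralizer_iff]
          exact hE₂E₁
      · rw [Subgroup.le_set_normalizer_iff]
        intro t ht
        have hle : E₁ ⊔ E₂ ≤ (E₁ ⊔ E₂).comap (MulAut.conj t).toMonoidHom := by
          refine sup_le ?_ ?_
          · intro e he
            rw [Subgroup.mem_comap]
            exact (le_sup_left : E₁ ≤ E₁ ⊔ E₂) (conj_mem_of_le_normalizer hAE₁ ht he)
          · intro e he
            rw [Subgroup.mem_comap]
            exact (le_sup_right : E₂ ≤ E₁ ⊔ E₂) (conj_mem_of_le_normalizer hAE₂ ht he)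
        intro g hg
        exact hle hg
      · rintro b ⟨hbA, hbE⟩
        rw [SetLike.mem_coe] at hbA hbE
        have hbE₁ : b ∈ Subgroup.centralizer (E₁ : Set G) :=
          Subgroup.centralizer_le (show (E₁ : Set G) ⊆ ((E₁ ⊔ E₂ : Subgroup G) : Set G) from
            (le_sup_left : E₁ ≤ E₁ ⊔ E₂)) hbE
        have hbE₂ : b ∈ Subgroup.centralizer (E₂ : Set G) :=
          Subgroup.centralizer_le (show (E₂ : Set G) ⊆ ((E₁ ⊔ E₂ : Subgroup G) : Set G) from
            (le_sup_right : E₂ ≤ E₁ ⊔ E₂)) hbE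
        have hbL' : b ∈ Subgroup.centralizer ((⁅L, L⁆ : Subgroup G) : Set G) :=
          hE₁c ⟨hbA, hbE₁⟩
        have hbD : b ∈ Subgroup.centralizer
            ((L ⊓ Subgroup.centralizer ((⁅L, L⁆ : Subgroup G) : Set G) : Subgroup G) : Set G) :=
          hE₂c ⟨hbA, hbE₂⟩
        have hb2 : b * b = 1 := hA2 b hbA
        have hLL' : L ≤ Subgroup.normalizer ((⁅L, L⁆ : Subgroup G) : Set G) :=
          le_normalizer_commutator Subgroup.le_normalizer
        rw [Subgroup.mem_centralizer_iff]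
        intro y hy
        have hcL : y⁻¹ * (b * y * b⁻¹) ∈ L :=
          L.mul_mem (L.inv_mem hy) (conj_mem_of_le_normalizer hAL hbA hy)
        have hcC : y⁻¹ * (b * y * b⁻¹) ∈ Subgroup.centralizer ((⁅L, L⁆ : Subgroup G) : Set G) :=
          commutator_mem_centralizer hbL' (hLL' hy)
        have hfix : b * (y⁻¹ * (b * y * b⁻¹)) * b⁻¹ = y⁻¹ * (b * y * b⁻¹) := by
          have := Subgroup.mem_centralizer_iff.mp hbD _ ⟨hcL, hcC⟩
          calc b * (y⁻¹ * (b * y * b⁻¹)) * b⁻¹ = (y⁻¹ * (b * y * b⁻¹) * b) * b⁻¹ := by rw [this]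
            _ = y⁻¹ * (b * y * b⁻¹) := by group
        have := conj_eq_of_commutator_fixed hb2 (odd_orderOf_of_mem hLodd hcL) hfix
        calc y * b = (b * y * b⁻¹) * b := by rw [this]
          _ = b * y := by group

theorem mem_centralizer_singleton_iff_conj {G : Type*} [Group G] {b x : G} :
    b ∈ Subgroup.centralizer ({x} : Set G) ↔ b * x * b⁻¹ = x := by
  rw [Subgroup.mem_centralizer_iff]
  constructor
  · intro h
    have := h x rfl
    rw [← this]; group
  · intro h y hy
    rw [Set.mem_singleton_iff] at hy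
    subst hy
    calc y * b = (b * y * b⁻¹) * b := by rw [h]
      _ = b * y := by group

/-- The elements of an abelian subgroup `E` inverted by `a`. -/
def invertedSubgroup {G : Type*} [Group G] (E : Subgroup G)
    (hEab : E ≤ Subgroup.centralizer (E : Set G)) (a : G) : Subgroup G where
  carrier := {e | e ∈ E ∧ a * e * a⁻¹ = e⁻¹}
  one_mem' := ⟨E.one_mem, by group⟩
  mul_mem' := by
    rintro e f ⟨he, he'⟩ ⟨hf, hf'⟩
    refine ⟨E.mul_mem he hf, ?_⟩
    have h1 : a * (e * f) * a⁻¹ = (a * e * a⁻¹) * (a * f * a⁻¹) := by group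
    have h2 : f * e = e * f := Subgroup.mem_centralizer_iff.mp (hEab he) f hf
    rw [h1, he', hf', ← mul_inv_rev, h2]
  inv_mem' := by
    rintro e ⟨he, he'⟩
    refine ⟨E.inv_mem he, ?_⟩
    have h1 : a * e⁻¹ * a⁻¹ = (a * e * a⁻¹)⁻¹ := by group
    rw [h1, he']

theorem mem_invertedSubgroup {G : Type*} [Group G] {E : Subgroup G}
    {hEab : E ≤ Subgroup.centralizer (E : Set G)} {a e : G} :
    e ∈ invertedSubgroup E hEab a ↔ e ∈ E ∧ a * e * a⁻¹ = e⁻¹ := Iff.rfl

/-- The abelian case of the Thompson dihedral lemma. -/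
theorem exists_dihedral_basis {G : Type*} [Group G] [Finite G] (A' E : Subgroup G)
    (hA2 : ∀ t ∈ A', t * t = 1) (hAc : ∀ s ∈ A', ∀ t ∈ A', s * t = t * s)
    (hAE : A' ≤ Subgroup.normalizer (E : Set G)) (hEab : E ≤ Subgroup.centralizer (E : Set G))
    (hEodd : Odd (Nat.card E)) :
    ∀ (n : ℕ) (A : Subgroup G), A ≤ A' → Nat.card A = 2 ^ n →
      A ⊓ Subgroup.centralizer (E : Set G) = ⊥ →
      ∃ (a x : Fin n → G),
        (∀ i, a i ∈ A ∧ x i ∈ E ∧ x i ≠ 1 ∧ a i * x i * (a i)⁻¹ = (x i)⁻¹) ∧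
        (∀ i j, i ≠ j → a j * x i = x i * a j) ∧
        (∀ i, ∀ t ∈ A', t * x i * t⁻¹ = x i ∨ t * x i * t⁻¹ = (x i)⁻¹) ∧
        (∀ t ∈ A, t ∈ Subgroup.closure (Set.range a)) := by
  classical
  intro n
  induction n with
  | zero =>
    intro A hAA' hcard hfaith
    have hA : A = ⊥ := Subgroup.eq_bot_of_card_eq A (by simpa using hcard)
    refine ⟨Fin.elim0, Fin.elim0, fun i => i.elim0, fun i => i.elim0, fun i => i.elim0, ?_⟩
    intro t ht
    rw [hA, Subgroup.mem_bot] at ht
    rw [ht]; exact Subgroup.one_mem _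
  | succ n ih =>
    intro A hAA' hcard hfaith
    have hAne : A ≠ ⊥ := by
      intro h
      rw [h, Subgroup.card_bot] at hcard
      have : 2 ≤ 2 ^ (n + 1) := by
        calc 2 = 2 ^ 1 := by norm_num
          _ ≤ 2 ^ (n + 1) := Nat.pow_le_pow_right (by norm_num) (by omega)
      omega
    obtain ⟨a₀, ha₀A, ha₀1⟩ := exists_ne_one_of_ne_bot hAne
    have ha₀A' : a₀ ∈ A' := hAA' ha₀A
    have ha₀2 : a₀ * a₀ = 1 := hA2 a₀ ha₀A'
    -- a₀ moves some y ∈ E
    have hex : ∃ y ∈ E, a₀ * y * a₀⁻¹ ≠ y := by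
      by_contra hcon
      push Not at hcon
      apply ha₀1
      have : a₀ ∈ A ⊓ Subgroup.centralizer (E : Set G) := by
        refine Subgroup.mem_inf.mpr ⟨ha₀A, ?_⟩
        rw [Subgroup.mem_centralizer_iff]
        intro y hy
        calc y * a₀ = (a₀ * y * a₀⁻¹) * a₀ := by rw [hcon y hy]
          _ = a₀ * y := by group
      rw [hfaith, Subgroup.mem_bot] at this
      exact this
    obtain ⟨y, hyE, hya₀⟩ := hex
    have hcE : y⁻¹ * (a₀ * y * a₀⁻¹) ∈ E :=
      E.mul_mem (E.inv_mem hyE) (conj_mem_of_le_normalizer hAE ha₀A' hyE)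
    have hc1 : y⁻¹ * (a₀ * y * a₀⁻¹) ≠ 1 := by
      intro h
      apply hya₀
      calc a₀ * y * a₀⁻¹ = y * (y⁻¹ * (a₀ * y * a₀⁻¹)) := by group
        _ = y := by rw [h, mul_one]
    -- the subgroup of E inverted by a₀
    have hA'I : A' ≤ Subgroup.normalizer ((invertedSubgroup E hEab a₀ : Subgroup G) : Set G) := by
      rw [Subgroup.le_normalizer_iff]
      rintro t ht e ⟨he, he'⟩
      refine ⟨conj_mem_of_le_normalizer hAE ht he, ?_⟩
      have h1 : a₀ * (t * e * t⁻¹) * a₀⁻¹ = (a₀ * t) * e * (a₀ * t)⁻¹ := by group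
      have h2 : (t * a₀) * e * (t * a₀)⁻¹ = t * (a₀ * e * a₀⁻¹) * t⁻¹ := by group
      rw [h1, hAc a₀ ha₀A' t ht, h2, he']
      group
    have hIcomm : ⁅invertedSubgroup E hEab a₀, invertedSubgroup E hEab a₀⁆ ≤ ⊥ := by
      rw [Subgroup.commutator_le]
      rintro g₁ ⟨h₁, -⟩ g₂ ⟨h₂, -⟩
      rw [Subgroup.mem_bot, commutatorElement_def]
      have := Subgroup.mem_centralizer_iff.mp (hEab h₁) g₂ h₂
      calc g₁ * g₂ * g₁⁻¹ * g₂⁻¹ = (g₂ * g₁) * g₁⁻¹ * g₂⁻¹ := by rw [this]
        _ = 1 := by group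
    obtain ⟨x₁, hx₁I, hx₁bot, hx₁eig⟩ := exists_eigen_mod A' (invertedSubgroup E hEab a₀) ⊥
      hA2 hAc hA'I (by rw [Subgroup.normalizer_eq_top]; exact le_top) bot_le hIcomm
      (Set.toFinite (A' : Set G)).toFinset (fun t ht => by simpa using ht)
      (y₀ := y⁻¹ * (a₀ * y * a₀⁻¹)) ⟨hcE, conj_commutator_eq_inv ha₀2 y⟩
      (by rw [Subgroup.mem_bot]; exact hc1)
    have hx₁E : x₁ ∈ E := hx₁I.1
    have hx₁inv : a₀ * x₁ * a₀⁻¹ = x₁⁻¹ := hx₁I.2
    have hx₁1 : x₁ ≠ 1 := by rwa [Subgroup.mem_bot] at hx₁bot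
    have hx₁ne : x₁⁻¹ ≠ x₁ := by
      intro h
      apply hx₁1
      apply eq_one_of_sq_eq_one_of_odd (odd_orderOf_of_mem hEodd hx₁E)
      nth_rewrite 1 [← h]
      exact inv_mul_cancel _
    have hx₁eig' : ∀ t ∈ A', t * x₁ * t⁻¹ = x₁ ∨ t * x₁ * t⁻¹ = x₁⁻¹ := by
      intro t ht
      rcases hx₁eig t (by simpa using ht) with h | h
      · left
        rw [Subgroup.mem_bot] at h
        exact mul_inv_eq_one.mp h
      · right
        rw [Subgroup.mem_bot] at h
        exact eq_inv_of_mul_eq_one_left h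
    -- the hyperplane B
    set B := A ⊓ Subgroup.centralizer ({x₁} : Set G) with hB
    have hBA : B ≤ A := inf_le_left
    have hBidx : (B.subgroupOf A).index = 2 := by
      rw [Subgroup.index_eq_two_iff]
      refine ⟨⟨a₀, ha₀A⟩, ?_⟩
      rintro ⟨b, hb⟩
      rw [Subgroup.mem_subgroupOf, Subgroup.mem_subgroupOf]
      show Xor (b * a₀ ∈ B) (b ∈ B)
      have e1 : (b * a₀) * x₁ * (b * a₀)⁻¹ = b * (a₀ * x₁ * a₀⁻¹) * b⁻¹ := by group
      rcases hx₁eig' b (hAA' hb) with h | h
      · right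
        refine ⟨⟨hb, mem_centralizer_singleton_iff_conj.mpr h⟩, ?_⟩
        rintro ⟨-, h'⟩
        have h'' := mem_centralizer_singleton_iff_conj.mp h'
        rw [e1, hx₁inv] at h''
        have e2 : b * x₁⁻¹ * b⁻¹ = (b * x₁ * b⁻¹)⁻¹ := by group
        rw [e2, h] at h''
        exact hx₁ne h''
      · left
        refine ⟨Subgroup.mem_inf.mpr ⟨A.mul_mem hb ha₀A, ?_⟩, ?_⟩
        · rw [mem_centralizer_singleton_iff_conj, e1, hx₁inv]
          have e2 : b * x₁⁻¹ * b⁻¹ = (b * x₁ * b⁻¹)⁻¹ := by group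
          rw [e2, h, inv_inv]
        · rintro ⟨-, h'⟩
          have h'' := mem_centralizer_singleton_iff_conj.mp h'
          rw [h] at h''
          exact hx₁ne h''
    have hBcard : Nat.card B = 2 ^ n := by
      have h1 := Subgroup.card_mul_index (B.subgroupOf A)
      rw [hBidx, hcard, Nat.card_congr (Subgroup.subgroupOfEquivOfLe hBA).toEquiv] at h1
      have h2 : 2 ^ (n + 1) = 2 ^ n * 2 := pow_succ 2 n
      rw [h2] at h1
      exact Nat.eq_of_mul_eq_mul_right (by norm_num) h1
    have hBfaith : B ⊓ Subgroup.centralizer (E : Set G) = ⊥ := by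
      rw [eq_bot_iff, ← hfaith]
      exact inf_le_inf_right _ hBA
    obtain ⟨b, x', h1, h2, h3, h4⟩ := ih B (hBA.trans hAA') hBcard hBfaith
    -- correct a₀
    have hcorr : ∀ J : Finset (Fin n), ∃ a ∈ A, a * x₁ * a⁻¹ = x₁⁻¹ ∧
        ∀ i ∈ J, a * x' i = x' i * a := by
      intro J
      induction J using Finset.induction_on with
      | empty => exact ⟨a₀, ha₀A, hx₁inv, by simp⟩
      | insert i J hiJ ihJ =>
        obtain ⟨a, haA, hax₁, haJ⟩ := ihJ
        rcases h3 i a (hAA' haA) with h | h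
        · refine ⟨a, haA, hax₁, ?_⟩
          intro j hj
          rcases Finset.mem_insert.mp hj with rfl | hj'
          · calc a * x' j = (a * x' j * a⁻¹) * a := by group
              _ = x' j * a := by rw [h]
          · exact haJ j hj'
        · have hbiB : b i ∈ B := (h1 i).1
          have hbi_x₁ : b i * x₁ * (b i)⁻¹ = x₁ := mem_centralizer_singleton_iff_conj.mp hbiB.2
          refine ⟨a * b i, A.mul_mem haA (hBA hbiB), ?_, ?_⟩
          · have e1 : (a * b i) * x₁ * (a * b i)⁻¹ = a * (b i * x₁ * (b i)⁻¹) * a⁻¹ := by group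
            rw [e1, hbi_x₁, hax₁]
          · intro j hj
            rcases Finset.mem_insert.mp hj with rfl | hj'
            · have e1 : (a * b j) * x' j * (a * b j)⁻¹ = a * (b j * x' j * (b j)⁻¹) * a⁻¹ := by
                group
              have e2 : a * (x' j)⁻¹ * a⁻¹ = (a * x' j * a⁻¹)⁻¹ := by group
              have e3 : (a * b j) * x' j * (a * b j)⁻¹ = x' j := by
                rw [e1, (h1 j).2.2.2, e2, h, inv_inv]
              calc a * b j * x' j = ((a * b j) * x' j * (a * b j)⁻¹) * (a * b j) := by group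
                _ = x' j * (a * b j) := by rw [e3]
            · have hij : j ≠ i := fun h => hiJ (h ▸ hj')
              have e1 : b i * x' j = x' j * b i := h2 j i hij
              calc a * b i * x' j = a * (b i * x' j) := by group
                _ = a * (x' j * b i) := by rw [e1]
                _ = (a * x' j) * b i := by group
                _ = (x' j * a) * b i := by rw [haJ j hj']
                _ = x' j * (a * b i) := by group
    obtain ⟨a₁, ha₁A, ha₁x₁, ha₁x'⟩ := hcorr Finset.univ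
    refine ⟨Fin.cons a₁ b, Fin.cons x₁ x', ?_, ?_, ?_, ?_⟩
    · intro i
      refine Fin.cases ?_ ?_ i
      · simp only [Fin.cons_zero]
        exact ⟨ha₁A, hx₁E, hx₁1, ha₁x₁⟩
      · intro k
        simp only [Fin.cons_succ]
        exact ⟨hBA (h1 k).1, (h1 k).2.1, (h1 k).2.2.1, (h1 k).2.2.2⟩
    · intro i j
      refine Fin.cases ?_ ?_ i
      · refine Fin.cases ?_ ?_ j
        · intro h; exact absurd rfl h
        · intro k _
          simp only [Fin.cons_zero, Fin.cons_succ]
          have := mem_centralizer_singleton_iff_conj.mp (h1 k).1.2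
          calc b k * x₁ = (b k * x₁ * (b k)⁻¹) * b k := by group
            _ = x₁ * b k := by rw [this]
      · intro k
        refine Fin.cases ?_ ?_ j
        · intro _
          simp only [Fin.cons_zero, Fin.cons_succ]
          exact ha₁x' k (Finset.mem_univ k)
        · intro l hkl
          simp only [Fin.cons_succ]
          exact h2 k l (fun h => hkl (by rw [h]))
    · intro i
      refine Fin.cases ?_ ?_ i
      · simp only [Fin.cons_zero]
        exact hx₁eig'
      · intro k
        simp only [Fin.cons_succ]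
        exact h3 k
    · intro t ht
      have hsub : Subgroup.closure (Set.range b) ≤
          Subgroup.closure (Set.range (Fin.cons a₁ b : Fin (n + 1) → G)) := by
        apply Subgroup.closure_mono
        rintro _ ⟨k, rfl⟩
        exact ⟨Fin.succ k, by simp⟩
      have ha₁mem : a₁ ∈ Subgroup.closure (Set.range (Fin.cons a₁ b : Fin (n + 1) → G)) :=
        Subgroup.subset_closure ⟨0, by simp⟩
      rcases hx₁eig' t (hAA' ht) with h | h
      · exact hsub (h4 t ⟨ht, mem_centralizer_singleton_iff_conj.mpr h⟩)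
      · have hmem : a₁ * t ∈ B := by
          refine Subgroup.mem_inf.mpr ⟨A.mul_mem ha₁A ht, ?_⟩
          rw [mem_centralizer_singleton_iff_conj]
          have e1 : (a₁ * t) * x₁ * (a₁ * t)⁻¹ = a₁ * (t * x₁ * t⁻¹) * a₁⁻¹ := by group
          have e2 : a₁ * x₁⁻¹ * a₁⁻¹ = (a₁ * x₁ * a₁⁻¹)⁻¹ := by group
          rw [e1, h, e2, ha₁x₁, inv_inv]
        have e3 : t = a₁⁻¹ * (a₁ * t) := by group
        rw [e3]
        exact Subgroup.mul_mem _ (Subgroup.inv_mem _ ha₁mem) (hsub (h4 _ hmem))

/-- `x ^ i` for `i : ZMod (orderOf x)`. -/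
noncomputable def zmodPow {G : Type*} [Group G] (x : G) (i : ZMod (orderOf x)) : G := x ^ (ZMod.cast i : ℤ)

theorem zmodPow_intCast {G : Type*} [Group G] (x : G) (k : ℤ) :
    zmodPow x (k : ZMod (orderOf x)) = x ^ k := by
  unfold zmodPow
  rw [ZMod.coe_intCast, zpow_mod_orderOf]

theorem zmodPow_add {G : Type*} [Group G] (x : G) (i j : ZMod (orderOf x)) :
    zmodPow x (i + j) = zmodPow x i * zmodPow x j := by
  have hi := ZMod.intCast_zmod_cast i
  have hj := ZMod.intCast_zmod_cast j
  have h : i + j = (((ZMod.cast i : ℤ) + (ZMod.cast j : ℤ) : ℤ) : ZMod (orderOf x)) := by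
    rw [Int.cast_add, hi, hj]
  rw [h, zmodPow_intCast, zpow_add]
  rfl

theorem zmodPow_sub {G : Type*} [Group G] (x : G) (i j : ZMod (orderOf x)) :
    zmodPow x (i - j) = zmodPow x i * (zmodPow x j)⁻¹ := by
  have hi := ZMod.intCast_zmod_cast i
  have hj := ZMod.intCast_zmod_cast j
  have h : i - j = (((ZMod.cast i : ℤ) - (ZMod.cast j : ℤ) : ℤ) : ZMod (orderOf x)) := by
    rw [Int.cast_sub, hi, hj]
  rw [h, zmodPow_intCast, zpow_sub]
  rfl

theorem zmodPow_zero {G : Type*} [Group G] (x : G) : zmodPow x 0 = 1 := by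
  have := zmodPow_intCast x 0
  simpa using this

theorem zmodPow_one {G : Type*} [Group G] (x : G) : zmodPow x 1 = x := by
  have := zmodPow_intCast x 1
  simpa using this

theorem zmodPow_mem {G : Type*} [Group G] (x : G) (i : ZMod (orderOf x)) :
    zmodPow x i ∈ Subgroup.zpowers x :=
  Subgroup.zpow_mem_zpowers x _

theorem zmodPow_eq_one_iff {G : Type*} [Group G] (x : G) (i : ZMod (orderOf x)) :
    zmodPow x i = 1 ↔ i = 0 := by
  constructor
  · intro h
    unfold zmodPow at h
    rw [← orderOf_dvd_iff_zpow_eq_one] at h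
    rw [← ZMod.intCast_zmod_cast i]
    exact (ZMod.intCast_zmod_eq_zero_iff_dvd _ _).mpr h
  · rintro rfl
    exact zmodPow_zero x

theorem zmodPow_comm {G : Type*} [Group G] (x : G) (i j : ZMod (orderOf x)) :
    zmodPow x i * zmodPow x j = zmodPow x j * zmodPow x i := by
  rw [← zmodPow_add, ← zmodPow_add, add_comm]

/-- The map from the dihedral group determined by an involution `a` inverting `x`. -/
noncomputable def dihedralMap {G : Type*} [Group G] (a x : G) : DihedralGroup (orderOf x) → G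
  | DihedralGroup.r i => zmodPow x i
  | DihedralGroup.sr i => a * zmodPow x i

theorem dihedralMap_r {G : Type*} [Group G] (a x : G) (i : ZMod (orderOf x)) :
    dihedralMap a x (DihedralGroup.r i) = zmodPow x i := rfl

theorem dihedralMap_sr {G : Type*} [Group G] (a x : G) (i : ZMod (orderOf x)) :
    dihedralMap a x (DihedralGroup.sr i) = a * zmodPow x i := rfl

theorem zmodPow_mul_inv {G : Type*} [Group G] {a x : G} (ha : a * a = 1)
    (hax : a * x * a⁻¹ = x⁻¹) (i : ZMod (orderOf x)) :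
    zmodPow x i * a = a * (zmodPow x i)⁻¹ := by
  have ha' : a⁻¹ = a := inv_eq_of_mul_eq_one_left ha
  have h1 : a * zmodPow x i * a⁻¹ = (zmodPow x i)⁻¹ := by
    unfold zmodPow
    rw [← conj_zpow, hax, inv_zpow]
  have h2 : zmodPow x i = a⁻¹ * (a * zmodPow x i * a⁻¹) * a := by group
  rw [h1, ha'] at h2
  calc zmodPow x i * a = a * (zmodPow x i)⁻¹ * a * a := by rw [← h2]
    _ = a * (zmodPow x i)⁻¹ * (a * a) := by group
    _ = a * (zmodPow x i)⁻¹ := by rw [ha, mul_one]

theorem dihedralMap_mul {G : Type*} [Group G] {a x : G} (ha : a * a = 1)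
    (hax : a * x * a⁻¹ = x⁻¹) (g h : DihedralGroup (orderOf x)) :
    dihedralMap a x (g * h) = dihedralMap a x g * dihedralMap a x h := by
  rcases g with i | i <;> rcases h with j | j
  · rw [DihedralGroup.r_mul_r, dihedralMap_r, dihedralMap_r, dihedralMap_r, zmodPow_add]
  · rw [DihedralGroup.r_mul_sr, dihedralMap_r, dihedralMap_sr, dihedralMap_sr, zmodPow_sub]
    have hc : Commute (zmodPow x i) (zmodPow x j) := zmodPow_comm x i j
    calc a * (zmodPow x j * (zmodPow x i)⁻¹) = a * ((zmodPow x i)⁻¹ * zmodPow x j) := by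
          rw [hc.inv_left.eq]
      _ = (a * (zmodPow x i)⁻¹) * zmodPow x j := by group
      _ = (zmodPow x i * a) * zmodPow x j := by rw [zmodPow_mul_inv ha hax]
      _ = zmodPow x i * (a * zmodPow x j) := by group
  · rw [DihedralGroup.sr_mul_r, dihedralMap_r, dihedralMap_sr, dihedralMap_sr, zmodPow_add,
      mul_assoc]
  · rw [DihedralGroup.sr_mul_sr, dihedralMap_r, dihedralMap_sr, dihedralMap_sr, zmodPow_sub]
    have hc : Commute (zmodPow x i) (zmodPow x j) := zmodPow_comm x i j
    calc zmodPow x j * (zmodPow x i)⁻¹ = (zmodPow x i)⁻¹ * zmodPow x j := by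
          rw [hc.inv_left.eq]
      _ = (a * a) * (zmodPow x i)⁻¹ * zmodPow x j := by rw [ha, one_mul]
      _ = a * (a * (zmodPow x i)⁻¹) * zmodPow x j := by group
      _ = a * (zmodPow x i * a) * zmodPow x j := by rw [zmodPow_mul_inv ha hax]
      _ = a * zmodPow x i * (a * zmodPow x j) := by group

/-- The subgroup generated by an involution `a` and an element `x ≠ 1` of odd order inverted by
`a` is dihedral of order `2 * orderOf x`. -/
theorem nonempty_mulEquiv_dihedral {G : Type*} [Group G] {a x : G} (ha : a * a = 1)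
    (hax : a * x * a⁻¹ = x⁻¹) (hx : x ≠ 1) (hodd : Odd (orderOf x)) :
    Nonempty (↥(Subgroup.zpowers a ⊔ Subgroup.zpowers x) ≃* DihedralGroup (orderOf x)) := by
  let f : DihedralGroup (orderOf x) →* G := MonoidHom.mk' (dihedralMap a x) (dihedralMap_mul ha hax)
  have hf : ∀ g, f g = dihedralMap a x g := fun g => rfl
  have hinj : Function.Injective f := by
    rw [injective_iff_map_eq_one]
    intro g hg
    rw [hf] at hg
    rcases g with i | i
    · rw [dihedralMap_r, zmodPow_eq_one_iff] at hg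
      rw [hg]; rfl
    · exfalso
      rw [dihedralMap_sr] at hg
      have h1 : a = (zmodPow x i)⁻¹ := eq_inv_of_mul_eq_one_left hg
      have h2 : a * x * a⁻¹ = x := by
        have hc : Commute (zmodPow x i) x := by
          unfold zmodPow
          exact (Commute.refl x).zpow_left _
        rw [h1]
        have := hc.inv_left.eq
        rw [this]; group
      rw [hax] at h2
      apply hx
      apply eq_one_of_sq_eq_one_of_odd hodd
      nth_rewrite 1 [← h2]
      exact inv_mul_cancel x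
  have hrange : f.range = Subgroup.zpowers a ⊔ Subgroup.zpowers x := by
    apply le_antisymm
    · rintro _ ⟨g, rfl⟩
      rw [hf]
      rcases g with i | i
      · exact (le_sup_right : Subgroup.zpowers x ≤ _) (zmodPow_mem x i)
      · exact Subgroup.mul_mem_sup (Subgroup.mem_zpowers a) (zmodPow_mem x i)
    · refine sup_le ?_ ?_
      · rw [Subgroup.zpowers_le]
        refine ⟨DihedralGroup.sr 0, ?_⟩
        rw [hf, dihedralMap_sr, zmodPow_zero, mul_one]
      · rw [Subgroup.zpowers_le]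
        refine ⟨DihedralGroup.r 1, ?_⟩
        rw [hf, dihedralMap_r, zmodPow_one]
  exact ⟨((MonoidHom.ofInjective hinj).trans (MulEquiv.subgroupCongr hrange)).symm⟩

end Cfsg.Agent.Lib.helper29
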