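import Mathlib
import Cfsg.Agent.Lib.helper29.Baer
import Cfsg.Agent.Lib.helper37.CoprimeGen
import Cfsg.Agent.Lib.helper1.Coprime
import Cfsg.Agent.Lib.helper1.PGroup
import Cfsg.Agent.Lib.helper29.InvAct
import Cfsg.Agent.Lib.helper29.Zipper

/-!
Coprime action on `p`-groups of class at most two, `p` odd, through Baer's trick: a `p'`-group `Y`
normalized by a `p`-group `E`, both acting on a `p`-group `Q` of class at most two, centralizes `Q`
as soon as it centralizes `C_Q(E)`.
-/

set_option autoImplicit false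
open scoped commutatorElement

namespace Cfsg.Agent.Lib.helper29

open Subgroup

section LemmaB

variable {X : Type*} [Group X]

/-- The Baer data of a subgroup of odd order and class at most two. -/
noncomputable def baerDataOf (Q : Subgroup X) [Finite Q] (hodd : Odd (Nat.card Q))
    (hcl : ∀ a b c : Q, ⁅a, b⁆ * c = c * ⁅a, b⁆) : BaerData Q where
  n := (Nat.card Q - 1) / 2
  central := hcl
  pow a b := by
    have h1 : 2 * ((Nat.card Q - 1) / 2) + 1 = Nat.card Q := by
      obtain ⟨k, hk⟩ := hodd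
      omega
    rw [h1]
    exact pow_card_eq_one'

/-- Conjugation by a normalizing element, as an endomorphism of the Baer group. -/
noncomputable def baerConj (Q : Subgroup X) (d : BaerData Q) (g : X)
    (hg : g ∈ normalizer (Q : Set X)) : Baer d →* Baer d :=
  Baer.map d (helper37.conjRestrict Q g hg)

theorem val_baerConj (Q : Subgroup X) (d : BaerData Q) (g : X)
    (hg : g ∈ normalizer (Q : Set X)) (v : Baer d) :
    (((baerConj Q d g hg v).val : Q) : X) = g * ((v.val : Q) : X) * g⁻¹ :=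
  helper37.conjRestrict_coe Q g hg v.val

/-- **Baer's trick, coprime action.** `p` odd, `Q` a `p`-group of class at most two, `Y` a
`p'`-group and `E` a `p`-group, both normalizing `Q`, with `E` normalizing `Y`. If `Y` centralizes
`C_Q(E)` then `Y` centralizes `Q`. -/
theorem centralizes_of_class_two [Finite X] {p : ℕ} [Fact p.Prime] (hp2 : p ≠ 2)
    (Q Y E : Subgroup X) (hQ : IsPGroup p Q)
    (hcl : ∀ a ∈ Q, ∀ b ∈ Q, ∀ c ∈ Q, ⁅a, b⁆ * c = c * ⁅a, b⁆)
    (hY : (Nat.card Y).Coprime p) (hE : IsPGroup p E)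
    (hYQ : Y ≤ normalizer (Q : Set X)) (hEQ : E ≤ normalizer (Q : Set X))
    (hEY : E ≤ normalizer (Y : Set X))
    (hcent : ∀ x ∈ Q, (∀ e ∈ E, e * x = x * e) → ∀ y ∈ Y, y * x = x * y) :
    ∀ x ∈ Q, ∀ y ∈ Y, y * x = x * y := by
  classical
  obtain ⟨k, hk⟩ := IsPGroup.iff_card.mp hQ
  have hodd : Odd (Nat.card Q) := by
    rw [hk]
    exact ((Fact.out : p.Prime).odd_of_ne_two hp2).pow
  let d : BaerData Q := baerDataOf Q hodd (fun a b c => Subtype.ext (hcl a a.2 b b.2 c c.2))
  have hΦ : ∀ (g : X) (hg : g ∈ normalizer (Q : Set X)) (v : Baer d),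
      (((baerConj Q d g hg v).val : Q) : X) = g * ((v.val : Q) : X) * g⁻¹ :=
    fun g hg v => val_baerConj Q d g hg v
  have hext : ∀ v w : Baer d, ((v.val : Q) : X) = ((w.val : Q) : X) → v = w :=
    fun v w h => Baer.val_injective (Subtype.ext h)
  have : Fintype Y := Fintype.ofFinite Y
  let Nm : Baer d →* Baer d := ∏ y : Y, baerConj Q d y.1 (hYQ y.2)
  have hNm : ∀ v, Nm v = ∏ y : Y, baerConj Q d y.1 (hYQ y.2) v :=
    fun v => MonoidHom.finsetProd_apply _ _ _
  have h1 : ∀ (y0 : Y) (v : Baer d), Nm (baerConj Q d y0.1 (hYQ y0.2) v) = Nm v := by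
    intro y0 v
    rw [hNm, hNm]
    refine Fintype.prod_equiv (Equiv.mulRight y0) _ _ (fun y => ?_)
    apply hext
    rw [hΦ, hΦ, hΦ]
    simp [mul_assoc]
  have h2 : ∀ (e : X) (he : e ∈ E) (v : Baer d),
      Nm (baerConj Q d e (hEQ he) v) = baerConj Q d e (hEQ he) (Nm v) := by
    intro e he v
    rw [hNm, hNm, map_prod]
    refine (Fintype.prod_equiv (helper1.conjEquivOfMemNormalizer Y e (hEY he)).toEquiv _ _
      (fun y => ?_)).symm
    apply hext
    rw [hΦ, hΦ, hΦ, hΦ]
    simp [helper1.coe_conjEquivOfMemNormalizer, mul_assoc]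
  have hfix : ∀ (y : X) (hy : y ∈ Y) (v : Baer d), baerConj Q d y (hYQ hy) v = v →
      y * ((v.val : Q) : X) = ((v.val : Q) : X) * y := by
    intro y hy v hv
    have h3 := hΦ y (hYQ hy) v
    rw [hv] at h3
    calc y * ((v.val : Q) : X) = y * ((v.val : Q) : X) * y⁻¹ * y := by group
      _ = ((v.val : Q) : X) * y := by rw [← h3]
  by_cases hker : Nm.ker = ⊥
  · intro x hx y hy
    refine hfix y hy (Baer.mk d ⟨x, hx⟩) ?_
    have h4 := h1 ⟨y, hy⟩ (Baer.mk d ⟨x, hx⟩)
    have h5 : baerConj Q d y (hYQ hy) (Baer.mk d ⟨x, hx⟩) * (Baer.mk d ⟨x, hx⟩)⁻¹ ∈ Nm.ker := by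
      rw [MonoidHom.mem_ker, map_mul, map_inv, h4, mul_inv_cancel]
    rw [hker, Subgroup.mem_bot] at h5
    exact mul_inv_eq_one.mp h5
  · exfalso
    let act : MulAction E Nm.ker :=
      { smul := fun e v => ⟨baerConj Q d e.1 (hEQ e.2) v.1, by
          rw [MonoidHom.mem_ker, h2 e.1 e.2, MonoidHom.mem_ker.mp v.2, map_one]⟩
        one_smul := fun v => by
          apply Subtype.ext
          apply hext
          show (((baerConj Q d ((1 : E) : X) _ v.1).val : Q) : X) = _
          rw [hΦ]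
          simp
        mul_smul := fun e₁ e₂ v => by
          apply Subtype.ext
          apply hext
          show (((baerConj Q d ((e₁ * e₂ : E) : X) _ v.1).val : Q) : X) =
            (((baerConj Q d (e₁ : X) _ (baerConj Q d (e₂ : X) _ v.1)).val : Q) : X)
          rw [hΦ, hΦ, hΦ]
          simp [mul_assoc] }
    have hcardL : Nat.card (Baer d) = p ^ k := by rw [Baer.card_eq, hk]
    have hdvd : p ∣ Nat.card Nm.ker := by
      have h6 : Nat.card Nm.ker ∣ p ^ k := hcardL ▸ Subgroup.card_subgroup_dvd_card _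
      obtain ⟨j, hj, hj'⟩ := (Nat.dvd_prime_pow (Fact.out : p.Prime)).mp h6
      have hj0 : j ≠ 0 := by
        rintro rfl
        rw [pow_zero] at hj'
        exact hker (Subgroup.card_eq_one.mp hj')
      rw [hj']
      exact dvd_pow_self p hj0
    have hone : (1 : Nm.ker) ∈ MulAction.fixedPoints E Nm.ker := by
      intro e
      apply Subtype.ext
      show baerConj Q d e.1 (hEQ e.2) (1 : Baer d) = 1
      rw [map_one]
    obtain ⟨b, hb, hb1⟩ := hE.exists_fixed_point_of_prime_dvd_card_of_fixed_point Nm.ker hdvd hone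
    have hbE : ∀ e (he : e ∈ E), baerConj Q d e (hEQ he) b.1 = b.1 := by
      intro e he
      have := hb ⟨e, he⟩
      exact congrArg Subtype.val this
    have hbY : ∀ y (hy : y ∈ Y), baerConj Q d y (hYQ hy) b.1 = b.1 := by
      intro y hy
      apply hext
      rw [hΦ]
      have h7 : y * (((b.1 : Baer d).val : Q) : X) = (((b.1 : Baer d).val : Q) : X) * y := by
        refine hcent _ (b.1.val).2 (fun e he => ?_) y hy
        have h8 := hΦ e (hEQ he) b.1
        rw [hbE e he] at h8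
        calc e * (((b.1 : Baer d).val : Q) : X)
            = e * (((b.1 : Baer d).val : Q) : X) * e⁻¹ * e := by group
          _ = (((b.1 : Baer d).val : Q) : X) * e := by rw [← h8]
      rw [h7, mul_inv_cancel_right]
    have hNb : Nm b.1 = b.1 ^ Nat.card Y := by
      rw [hNm, Finset.prod_congr rfl (fun y _ => hbY y.1 y.2), Finset.prod_const, Finset.card_univ,
        Nat.card_eq_fintype_card]
    have hb2 : b.1 ^ Nat.card Y = 1 := by rw [← hNb]; exact MonoidHom.mem_ker.mp b.2
    have hb3 : b.1 ^ p ^ k = 1 := by rw [← hcardL]; exact pow_card_eq_one'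
    have hb4 : b.1 = 1 := by
      have hcop : (Nat.card Y).Coprime (p ^ k) := Nat.Coprime.pow_right k hY
      have := pow_gcd_eq_one.mpr ⟨hb2, hb3⟩
      rwa [Nat.Coprime.gcd_eq_one hcop, pow_one] at this
    exact hb1 (Subtype.ext hb4.symm)

theorem centralizes_of_odd_aux [Finite X] {p : ℕ} [Fact p.Prime] (hp2 : p ≠ 2)
    (Y E : Subgroup X) (hY : (Nat.card Y).Coprime p) (hE : IsPGroup p E)
    (hEY : E ≤ normalizer (Y : Set X)) (n : ℕ) :
    ∀ Q : Subgroup X, Nat.card Q = n → IsPGroup p Q → Y ≤ normalizer (Q : Set X) →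
      E ≤ normalizer (Q : Set X) →
      Q ⊓ centralizer (E : Set X) ≤ centralizer (Y : Set X) → Q ≤ centralizer (Y : Set X) := by
  induction n using Nat.strong_induction_on with
  | _ n ih =>
    intro Q hn hQ hYQ hEQ hcent
    have hQsolv : Group.IsSolvable Q := by
      have := hQ.isNilpotent
      infer_instance
    have hcopQ : (Nat.card Y).Coprime (Nat.card Q) := by
      obtain ⟨k, hk⟩ := IsPGroup.iff_card.mp hQ
      rw [hk]
      exact Nat.Coprime.pow_right k hY
    have hQ1le : ⁅Q, Y⁆ ≤ Q := helper1.commutator_le_of_le_normalizer hYQ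
    by_cases hQ1 : ⁅Q, Y⁆ = Q
    · by_cases hbot : Q = ⊥
      · rw [hbot]; exact bot_le
      -- the derived subgroup is centralized by `Y`
      have hlt : ⁅Q, Q⁆ < Q := commutator_lt_of_isSolvable_subgroup hQsolv hbot
      have hder : ⁅Q, Q⁆ ≤ centralizer (Y : Set X) := by
        refine ih (Nat.card (⁅Q, Q⁆ : Subgroup X)) ?_ ⁅Q, Q⁆ rfl (hQ.to_le hlt.le)
          (le_normalizer_commutator hYQ) (le_normalizer_commutator hEQ)
          ((inf_le_inf_right _ hlt.le).trans hcent)
        rw [← hn]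
        exact card_lt_card_of_lt hlt
      have h1 : ⁅⁅Q, Q⁆, Y⁆ = ⊥ := Subgroup.commutator_eq_bot_iff_le_centralizer.mpr hder
      have h2 : ⁅⁅Y, ⁅Q, Q⁆⁆, Q⁆ = ⊥ := by
        rw [Subgroup.commutator_comm Y, h1]
        exact Subgroup.commutator_bot_left Q
      have h3 : ⁅⁅⁅Q, Q⁆, Q⁆, Y⁆ = ⊥ := by
        have h4 : ⁅⁅Q, Q⁆, Q⁆ ≤ ⁅Q, Q⁆ :=
          helper1.commutator_le_of_le_normalizer (helper1.left_le_normalizer_commutator Q Q)
        exact le_bot_iff.mp (h1 ▸ Subgroup.commutator_mono h4 le_rfl)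
      have h5 : ⁅⁅Q, Y⁆, ⁅Q, Q⁆⁆ = ⊥ := Subgroup.commutator_commutator_eq_bot_of_rotate h2 h3
      rw [hQ1] at h5
      have h6 : Q ≤ centralizer ((⁅Q, Q⁆ : Subgroup X) : Set X) :=
        Subgroup.commutator_eq_bot_iff_le_centralizer.mp h5
      have hcl : ∀ a ∈ Q, ∀ b ∈ Q, ∀ c ∈ Q, ⁅a, b⁆ * c = c * ⁅a, b⁆ := by
        intro a ha b hb c hc
        exact h6 hc ⁅a, b⁆ (Subgroup.commutator_mem_commutator ha hb)
      intro x hx
      rw [Subgroup.mem_centralizer_iff]
      intro y hy
      exact centralizes_of_class_two hp2 Q Y E hQ hcl hY hE hYQ hEQ hEY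
        (fun x hx hxe y hy => by
          have : x ∈ centralizer (Y : Set X) :=
            hcent ⟨hx, Subgroup.mem_centralizer_iff.mpr (fun e he => hxe e he)⟩
          exact Subgroup.mem_centralizer_iff.mp this y hy) x hx y hy
    · have hlt : ⁅Q, Y⁆ < Q := lt_of_le_of_ne hQ1le hQ1
      have h1 : ⁅Q, Y⁆ ≤ centralizer (Y : Set X) := by
        refine ih (Nat.card (⁅Q, Y⁆ : Subgroup X)) ?_ ⁅Q, Y⁆ rfl (hQ.to_le hlt.le)
          (helper1.right_le_normalizer_commutator hYQ)
          (helper1.le_normalizer_commutator_of hEQ hEY)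
          ((inf_le_inf_right _ hlt.le).trans hcent)
        rw [← hn]
        exact card_lt_card_of_lt hlt
      have h2 : ⁅⁅Q, Y⁆, Y⁆ = ⊥ := Subgroup.commutator_eq_bot_iff_le_centralizer.mpr h1
      rw [helper1.commutator_commutator_eq Y Q hYQ hcopQ (Or.inr hQsolv)] at h2
      exact Subgroup.commutator_eq_bot_iff_le_centralizer.mp h2

/-- **Coprime action, `p` odd.** `Q` a `p`-group, `Y` a `p'`-group and `E` a `p`-group, both
normalizing `Q`, with `E` normalizing `Y`. If `Y` centralizes `C_Q(E)` then `Y` centralizes `Q`. -/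
theorem centralizes_of_odd [Finite X] {p : ℕ} [Fact p.Prime] (hp2 : p ≠ 2)
    (Q Y E : Subgroup X) (hQ : IsPGroup p Q) (hY : (Nat.card Y).Coprime p) (hE : IsPGroup p E)
    (hYQ : Y ≤ normalizer (Q : Set X)) (hEQ : E ≤ normalizer (Q : Set X))
    (hEY : E ≤ normalizer (Y : Set X))
    (hcent : Q ⊓ centralizer (E : Set X) ≤ centralizer (Y : Set X)) :
    Q ≤ centralizer (Y : Set X) :=
  centralizes_of_odd_aux hp2 Y E hY hE hEY _ Q rfl hQ hYQ hEQ hcent

end LemmaB

end Cfsg.Agent.Lib.helper29
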