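import Mathlib
import Cfsg.Agent.Lib.helper29.BaerFix

/-!
`p'`-automorphisms of a `p`-group, `p` odd, that fix every element of order dividing `p` are
trivial (Gorenstein 5.3.10), through Baer's trick.
-/

set_option autoImplicit false
open scoped commutatorElement

namespace Cfsg.Agent.Lib.helper29

open Subgroup

section Abstract

variable {L : Type*} [CommGroup L] [Finite L]

theorem end_fix_of_fix_omega_aux (p : ℕ) [hp : Fact p.Prime] (hL : IsPGroup p L) (f : L →* L)
    (m : ℕ) (hm : ∀ x, (f^[m]) x = x) (hmp : m.Coprime p)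
    (hfix : ∀ x : L, x ^ p = 1 → f x = x) (n : ℕ) :
    ∀ M : Subgroup L, Nat.card M = n → (∀ x ∈ M, f x ∈ M) → ∀ x ∈ M, f x = x := by
  induction n using Nat.strong_induction_on with
  | _ n ih =>
    intro M hn hMf x hx
    by_cases hbot : M = ⊥
    · rw [hbot, Subgroup.mem_bot] at hx
      rw [hx, map_one]
    -- the subgroup of `p`-th powers is proper
    have hMp_le : M.map (powMonoidHom p) ≤ M := by
      rintro _ ⟨y, hy, rfl⟩
      exact pow_mem hy p
    have hMp_ne : M.map (powMonoidHom p) ≠ M := by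
      intro heq
      have hsurj : Function.Surjective (fun y : M => (⟨(y : L) ^ p, pow_mem y.2 p⟩ : M)) := by
        intro z
        have hz : (z : L) ∈ M.map (powMonoidHom p) := by rw [heq]; exact z.2
        obtain ⟨y, hy, hyz⟩ := hz
        exact ⟨⟨y, hy⟩, Subtype.ext hyz⟩
      have hinj := Finite.injective_iff_surjective.mpr hsurj
      have hMp : IsPGroup p M := hL.to_subgroup M
      have hdvd : p ∣ Nat.card M := by
        obtain ⟨k, hk⟩ := IsPGroup.iff_card.mp hMp
        rw [hk]
        have hk0 : k ≠ 0 := by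
          rintro rfl
          rw [pow_zero] at hk
          exact hbot (Subgroup.card_eq_one.mp hk)
        exact dvd_pow_self p hk0
      obtain ⟨y, hy⟩ := exists_prime_orderOf_dvd_card' p hdvd
      have hy1 : y ≠ 1 := by
        intro h
        rw [h, orderOf_one] at hy
        exact hp.out.one_lt.ne hy
      apply hy1
      apply hinj
      apply Subtype.ext
      show (y : L) ^ p = ((1 : M) : L) ^ p
      rw [Subgroup.coe_one, one_pow, ← Subgroup.coe_pow, ← hy, pow_orderOf_eq_one, Subgroup.coe_one]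
    have hlt : M.map (powMonoidHom p) < M := lt_of_le_of_ne hMp_le hMp_ne
    have hMpf : ∀ y ∈ M.map (powMonoidHom p), f y ∈ M.map (powMonoidHom p) := by
      rintro _ ⟨y, hy, rfl⟩
      refine ⟨f y, hMf y hy, ?_⟩
      simp
    have hfixMp : ∀ y ∈ M.map (powMonoidHom p), f y = y :=
      ih _ (hn ▸ card_lt_card_of_lt hlt) _ rfl hMpf
    have hu : (f x * x⁻¹) ^ p = 1 := by
      have h1 : f (x ^ p) = x ^ p := hfixMp _ ⟨x, hx, rfl⟩
      rw [mul_pow, inv_pow, ← map_pow, h1, mul_inv_cancel]
    have hfu : f (f x * x⁻¹) = f x * x⁻¹ := hfix _ hu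
    have hiter : ∀ k : ℕ, (f^[k]) x = (f x * x⁻¹) ^ k * x := by
      intro k
      induction k with
      | zero => simp
      | succ k ihk =>
        rw [Function.iterate_succ_apply', ihk, map_mul, map_pow, hfu, pow_succ]
        rw [mul_assoc, inv_mul_cancel_right]
    have hum : (f x * x⁻¹) ^ m = 1 := by
      have h1 := hiter m
      rw [hm x] at h1
      exact mul_eq_right.mp h1.symm
    have h1 : f x * x⁻¹ = 1 := by
      have := pow_gcd_eq_one.mpr ⟨hum, hu⟩
      rwa [Nat.Coprime.gcd_eq_one hmp, pow_one] at this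
    exact mul_inv_eq_one.mp h1

/-- An endomorphism of a finite commutative `p`-group of order prime to `p` that fixes every
element of order dividing `p` is the identity. -/
theorem end_fix_of_fix_omega (p : ℕ) [Fact p.Prime] (hL : IsPGroup p L) (f : L →* L)
    (m : ℕ) (hm : ∀ x, (f^[m]) x = x) (hmp : m.Coprime p)
    (hfix : ∀ x : L, x ^ p = 1 → f x = x) : ∀ x, f x = x := fun x =>
  end_fix_of_fix_omega_aux p hL f m hm hmp hfix _ ⊤ rfl (fun _ _ => Subgroup.mem_top _) x
    (Subgroup.mem_top x)

end Abstract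

section BaerPow

variable {Q : Type*} [Group Q] {d : BaerData Q}

theorem Baer.val_pow (a : Baer d) (n : ℕ) : (a ^ n).val = a.val ^ n := by
  induction n with
  | zero => rw [pow_zero, pow_zero]; rfl
  | succ n ih =>
    rw [pow_succ, Baer.val_mul, ih, pow_succ]
    have h1 : d.corr (a.val ^ n) a.val = 1 := by
      unfold BaerData.corr
      have h2 : ⁅a.val, a.val ^ n⁆ = 1 :=
        commutatorElement_eq_one_iff_commute.mpr (Commute.pow_right (Commute.refl _) n)
      rw [h2, one_pow]
    rw [h1, mul_one]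

end BaerPow

section Omega

variable {X : Type*} [Group X]

/-- Class at most two, `p` odd: a `p'`-element normalizing the `p`-group `P` and commuting with
every element of `P` of order dividing `p` centralizes `P`. -/
theorem centralizes_of_centralizes_omega_class_two [Finite X] {p : ℕ} [Fact p.Prime] (hp2 : p ≠ 2)
    (P : Subgroup X) (hP : IsPGroup p P)
    (hcl : ∀ a ∈ P, ∀ b ∈ P, ∀ c ∈ P, ⁅a, b⁆ * c = c * ⁅a, b⁆)
    (k : X) (hk : k ∈ normalizer (P : Set X)) (hko : (orderOf k).Coprime p)
    (hfix : ∀ x ∈ P, x ^ p = 1 → k * x = x * k) : ∀ x ∈ P, k * x = x * k := by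
  obtain ⟨j, hj⟩ := IsPGroup.iff_card.mp hP
  have hodd : Odd (Nat.card P) := by
    rw [hj]
    exact ((Fact.out : p.Prime).odd_of_ne_two hp2).pow
  let d : BaerData P := baerDataOf P hodd (fun a b c => Subtype.ext (hcl a a.2 b b.2 c c.2))
  have hΦ : ∀ (v : Baer d), (((baerConj P d k hk v).val : P) : X) = k * ((v.val : P) : X) * k⁻¹ :=
    fun v => val_baerConj P d k hk v
  have hext : ∀ v w : Baer d, ((v.val : P) : X) = ((w.val : P) : X) → v = w :=
    fun v w h => Baer.val_injective (Subtype.ext h)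
  have hL : IsPGroup p (Baer d) := IsPGroup.of_card (n := j) (by rw [Baer.card_eq, hj])
  have hiter : ∀ (i : ℕ) (v : Baer d),
      ((((baerConj P d k hk)^[i] v).val : P) : X) = k ^ i * ((v.val : P) : X) * (k ^ i)⁻¹ := by
    intro i v
    induction i with
    | zero => simp
    | succ i ih =>
      rw [Function.iterate_succ_apply', hΦ, ih, pow_succ']
      group
  have hm : ∀ v : Baer d, ((baerConj P d k hk)^[orderOf k]) v = v := by
    intro v
    apply hext
    rw [hiter, pow_orderOf_eq_one]
    simp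
  have hfix' : ∀ v : Baer d, v ^ p = 1 → baerConj P d k hk v = v := by
    intro v hv
    apply hext
    rw [hΦ]
    have h1 : (v.val : P) ^ p = 1 := by
      rw [← Baer.val_pow, hv]
      rfl
    have h2 : ((v.val : P) : X) ^ p = 1 := by
      rw [← Subgroup.coe_pow, h1, Subgroup.coe_one]
    rw [hfix _ (v.val).2 h2, mul_inv_cancel_right]
  have hall := end_fix_of_fix_omega p hL (baerConj P d k hk) (orderOf k) hm hko hfix'
  intro x hx
  have h3 := hΦ (Baer.mk d ⟨x, hx⟩)
  rw [hall] at h3
  have h4 : x = k * x * k⁻¹ := h3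
  calc k * x = k * x * k⁻¹ * k := by group
    _ = x * k := by rw [← h4]

theorem centralizes_of_centralizes_omega_aux [Finite X] {p : ℕ} [Fact p.Prime] (hp2 : p ≠ 2)
    (K : Subgroup X) (hK : (Nat.card K).Coprime p) (n : ℕ) :
    ∀ P : Subgroup X, Nat.card P = n → IsPGroup p P → K ≤ normalizer (P : Set X) →
      (∀ x ∈ P, x ^ p = 1 → x ∈ centralizer (K : Set X)) → P ≤ centralizer (K : Set X) := by
  induction n using Nat.strong_induction_on with
  | _ n ih =>
    intro P hn hP hKP hfix
    have hPsolv : Group.IsSolvable P := by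
      have := hP.isNilpotent
      infer_instance
    have hcopP : (Nat.card K).Coprime (Nat.card P) := by
      obtain ⟨k, hk⟩ := IsPGroup.iff_card.mp hP
      rw [hk]
      exact Nat.Coprime.pow_right k hK
    have hP1le : ⁅P, K⁆ ≤ P := helper1.commutator_le_of_le_normalizer hKP
    by_cases hP1 : ⁅P, K⁆ = P
    · by_cases hbot : P = ⊥
      · rw [hbot]; exact bot_le
      have hlt : ⁅P, P⁆ < P := commutator_lt_of_isSolvable_subgroup hPsolv hbot
      have hder : ⁅P, P⁆ ≤ centralizer (K : Set X) :=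
        ih _ (hn ▸ card_lt_card_of_lt hlt) ⁅P, P⁆ rfl (hP.to_le hlt.le)
          (le_normalizer_commutator hKP) (fun x hx hxp => hfix x (hlt.le hx) hxp)
      have h1 : ⁅⁅P, P⁆, K⁆ = ⊥ := Subgroup.commutator_eq_bot_iff_le_centralizer.mpr hder
      have h2 : ⁅⁅K, ⁅P, P⁆⁆, P⁆ = ⊥ := by
        rw [Subgroup.commutator_comm K, h1]
        exact Subgroup.commutator_bot_left P
      have h3 : ⁅⁅⁅P, P⁆, P⁆, K⁆ = ⊥ := by
        have h4 : ⁅⁅P, P⁆, P⁆ ≤ ⁅P, P⁆ :=
          helper1.commutator_le_of_le_normalizer (helper1.left_le_normalizer_commutator P P)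
        exact le_bot_iff.mp (h1 ▸ Subgroup.commutator_mono h4 le_rfl)
      have h5 : ⁅⁅P, K⁆, ⁅P, P⁆⁆ = ⊥ := Subgroup.commutator_commutator_eq_bot_of_rotate h2 h3
      rw [hP1] at h5
      have h6 : P ≤ centralizer ((⁅P, P⁆ : Subgroup X) : Set X) :=
        Subgroup.commutator_eq_bot_iff_le_centralizer.mp h5
      have hcl : ∀ a ∈ P, ∀ b ∈ P, ∀ c ∈ P, ⁅a, b⁆ * c = c * ⁅a, b⁆ := by
        intro a ha b hb c hc
        exact h6 hc ⁅a, b⁆ (Subgroup.commutator_mem_commutator ha hb)
      intro x hx
      rw [Subgroup.mem_centralizer_iff]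
      intro k hk
      have hko : (orderOf k).Coprime p :=
        Nat.Coprime.coprime_dvd_left (Subgroup.orderOf_dvd_natCard K hk) hK
      exact centralizes_of_centralizes_omega_class_two hp2 P hP hcl k (hKP hk) hko
        (fun y hy hyp => (Subgroup.mem_centralizer_iff.mp (hfix y hy hyp)) k hk) x hx
    · have hlt : ⁅P, K⁆ < P := lt_of_le_of_ne hP1le hP1
      have h1 : ⁅P, K⁆ ≤ centralizer (K : Set X) :=
        ih _ (hn ▸ card_lt_card_of_lt hlt) ⁅P, K⁆ rfl (hP.to_le hlt.le)
          (helper1.right_le_normalizer_commutator hKP) (fun x hx hxp => hfix x (hlt.le hx) hxp)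
      have h2 : ⁅⁅P, K⁆, K⁆ = ⊥ := Subgroup.commutator_eq_bot_iff_le_centralizer.mpr h1
      rw [helper1.commutator_commutator_eq K P hKP hcopP (Or.inr hPsolv)] at h2
      exact Subgroup.commutator_eq_bot_iff_le_centralizer.mp h2

/-- **Gorenstein 5.3.10.** `p` odd: a `p'`-group `K` normalizing the `p`-group `P` and
centralizing every element of `P` of order dividing `p` centralizes `P`. -/
theorem centralizes_of_centralizes_omega [Finite X] {p : ℕ} [Fact p.Prime] (hp2 : p ≠ 2)
    (P K : Subgroup X) (hP : IsPGroup p P) (hK : (Nat.card K).Coprime p)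
    (hKP : K ≤ normalizer (P : Set X))
    (hfix : ∀ x ∈ P, x ^ p = 1 → x ∈ centralizer (K : Set X)) : P ≤ centralizer (K : Set X) :=
  centralizes_of_centralizes_omega_aux hp2 K hK _ P rfl hP hKP hfix

end Omega

end Cfsg.Agent.Lib.helper29
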