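import Mathlib
import Cfsg.Prelude.Def_OddOrderLocal
import Cfsg.Agent.Lib.helper1.Coprime
import Cfsg.Agent.Lib.helper65.Fitting

/-!
Thompson transitivity (Bender–Glauberman §7): basic facts on `Cfsg.piCoreOf`, `Cfsg.invSubgroups`,
`Cfsg.maxInvSubgroups`, `Cfsg.TransitivityHypothesis`, and the transitivity theorem 7.2.
-/

set_option autoImplicit false
open Cfsg
open Pointwise

namespace Cfsg.Agent.Lib.helper29

section PiCoreOf

variable {G : Type*} [Group G]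

theorem piCoreOf_le (π : Set ℕ) (X : Subgroup G) : piCoreOf π X ≤ X := by
  unfold piCoreOf
  exact Subgroup.map_subtype_le _

theorem card_piCoreOf (π : Set ℕ) (X : Subgroup G) :
    Nat.card (piCoreOf π X) = Nat.card (piCore π X) := by
  unfold piCoreOf
  exact Subgroup.card_subtype _ _

theorem prime_mem_of_dvd_card_piCoreOf [Finite G] (π : Set ℕ) (X : Subgroup G) :
    ∀ p : ℕ, p.Prime → p ∣ Nat.card (piCoreOf π X) → p ∈ π := by
  rw [card_piCoreOf]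
  exact Cfsg.Agent.Lib.helper65.piCore_isPiGrp π

theorem le_normalizer_piCoreOf (π : Set ℕ) (X : Subgroup G) :
    X ≤ Subgroup.normalizer ((piCoreOf π X : Subgroup G) : Set G) := by
  rw [Subgroup.le_normalizer_iff]
  intro x hx y hy
  unfold piCoreOf at hy ⊢
  obtain ⟨y', hy', rfl⟩ := Subgroup.mem_map.mp hy
  refine Subgroup.mem_map.mpr ⟨⟨x, hx⟩ * y' * ⟨x, hx⟩⁻¹, ?_, rfl⟩
  exact (piCore_normal π X).conj_mem y' hy' ⟨x, hx⟩

theorem le_piCoreOf {π : Set ℕ} {X N : Subgroup G} (hNX : N ≤ X)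
    (hnorm : X ≤ Subgroup.normalizer (N : Set G))
    (hπ : ∀ p : ℕ, p.Prime → p ∣ Nat.card N → p ∈ π) : N ≤ piCoreOf π X := by
  have hn : (N.subgroupOf X).Normal := (Subgroup.normal_subgroupOf_iff_le_normalizer hNX).mpr hnorm
  have hle : N.subgroupOf X ≤ piCore π X := by
    apply le_sSup
    refine ⟨hn, ?_⟩
    intro p hp hdvd
    apply hπ p hp
    rwa [Nat.card_congr (Subgroup.subgroupOfEquivOfLe hNX).toEquiv] at hdvd
  intro y hy
  exact Subgroup.mem_map.mpr ⟨⟨y, hNX hy⟩, hle (Subgroup.mem_subgroupOf.mpr hy), rfl⟩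

theorem le_normalizer_inf' {A Q₁ Q₂ : Subgroup G} (h₁ : A ≤ Subgroup.normalizer (Q₁ : Set G))
    (h₂ : A ≤ Subgroup.normalizer (Q₂ : Set G)) :
    A ≤ Subgroup.normalizer ((Q₁ ⊓ Q₂ : Subgroup G) : Set G) := by
  rw [Subgroup.le_normalizer_iff] at h₁ h₂ ⊢
  intro a ha y hy
  exact ⟨h₁ a ha y hy.1, h₂ a ha y hy.2⟩

theorem le_normalizer_of_le_centralizer {A Y : Subgroup G}
    (h : Y ≤ Subgroup.centralizer (A : Set G)) : A ≤ Subgroup.normalizer (Y : Set G) := by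
  rw [Subgroup.le_normalizer_iff]
  intro a ha y hy
  have := (Subgroup.mem_centralizer_iff.mp (h hy)) a ha
  have e : a * y * a⁻¹ = y := by rw [this]; group
  rw [e]; exact hy

theorem normalizer_ne_top_of_simple [IsSimpleGroup G] {D : Subgroup G} (h1 : D ≠ ⊥) (h2 : D ≠ ⊤) :
    Subgroup.normalizer (D : Set G) ≠ ⊤ := by
  intro h
  have hn : D.Normal := Subgroup.normalizer_eq_top_iff.mp h
  rcases hn.eq_bot_or_eq_top with h | h
  exacts [h1 h, h2 h]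

theorem lt_inf_normalizer_of_lt [Finite G] {q : ℕ} [Fact q.Prime] {D Q : Subgroup G}
    (hQ : IsPGroup q Q) (h : D < Q) : D < Q ⊓ Subgroup.normalizer (D : Set G) := by
  have hnil : Group.IsNilpotent Q := hQ.isNilpotent
  have hnc := Group.normalizerCondition_of_isNilpotent (G := Q)
  have hlt : D.subgroupOf Q < ⊤ := by
    rw [lt_top_iff_ne_top]
    intro he
    exact h.ne (le_antisymm h.le (Subgroup.subgroupOf_eq_top.mp he))
  have h2 := hnc _ hlt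
  obtain ⟨x, hxN, hxD⟩ := SetLike.exists_of_lt h2
  refine lt_of_le_of_ne (le_inf h.le Subgroup.le_normalizer) ?_
  intro he
  apply hxD
  rw [Subgroup.mem_subgroupOf, he]
  refine ⟨x.2, ?_⟩
  show (x : G) ∈ Subgroup.normalizer (D : Set G)
  rw [Subgroup.mem_normalizer_iff] at hxN ⊢
  intro y
  constructor
  · intro hy
    exact (hxN ⟨y, h.le hy⟩).mp (Subgroup.mem_subgroupOf.mpr hy)
  · intro hy
    have hyQ : y ∈ Q := by
      have h1 : (x : G)⁻¹ * ((x : G) * y * (x : G)⁻¹) * (x : G) ∈ Q :=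
        Q.mul_mem (Q.mul_mem (Q.inv_mem x.2) (h.le hy)) x.2
      have e : (x : G)⁻¹ * ((x : G) * y * (x : G)⁻¹) * (x : G) = y := by group
      rwa [e] at h1
    exact (hxN ⟨y, hyQ⟩).mpr (Subgroup.mem_subgroupOf.mpr hy)

end PiCoreOf

section Trans

variable {G : Type*} [Group G]

/-- Under the transitivity hypothesis, an `A`-invariant `π(A)'`-subgroup of a proper subgroup `X ≥ A`
lies in `O_{π(A)'}(X)`. -/
theorem th_le_piCoreOf {A : Subgroup G} (hA : TransitivityHypothesis A)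
    {X Y : Subgroup G} (hX : X ≠ ⊤) (hAX : A ≤ X) (hYX : Y ≤ X)
    (hYπ : ∀ p : ℕ, p.Prime → p ∣ Nat.card Y → ¬ p ∣ Nat.card A)
    (hAY : A ≤ Subgroup.normalizer (Y : Set G)) :
    Y ≤ piCoreOf (primesNotDvd (Nat.card A)) X := by
  rw [← hA.2.2 X hX hAX]
  exact le_sSup ⟨hYX, fun p hp hd => ⟨hp, hYπ p hp hd⟩, hAY⟩

/-- Under the transitivity hypothesis (in a simple group), every `π(A)'`-subgroup of `C_G(A)` lies in
`O_{π(A)'}(C_G(A))`. -/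
theorem th_le_K [Finite G] [IsSimpleGroup G] {A : Subgroup G} (hA : TransitivityHypothesis A) {Y : Subgroup G}
    (hY : Y ≤ Subgroup.centralizer (A : Set G))
    (hYπ : ∀ p : ℕ, p.Prime → p ∣ Nat.card Y → ¬ p ∣ Nat.card A) :
    Y ≤ piCoreOf (primesNotDvd (Nat.card A)) (Subgroup.centralizer (A : Set G)) := by
  have hN : Subgroup.normalizer (A : Set G) ≠ ⊤ := normalizer_ne_top_of_simple hA.1 hA.2.1
  have hAN : A ≤ Subgroup.normalizer (A : Set G) := Subgroup.le_normalizer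
  have hCN : Subgroup.centralizer (A : Set G) ≤ Subgroup.normalizer (A : Set G) :=
    Subgroup.centralizer_le_normalizer _
  have hAY : A ≤ Subgroup.normalizer (Y : Set G) := le_normalizer_of_le_centralizer hY
  have h1 : Y ≤ piCoreOf (primesNotDvd (Nat.card A)) (Subgroup.normalizer (A : Set G)) :=
    th_le_piCoreOf hA hN hAN (hY.trans hCN) hYπ hAY
  have h2 : piCoreOf (primesNotDvd (Nat.card A)) (Subgroup.normalizer (A : Set G)) ⊓
      Subgroup.centralizer (A : Set G) ≤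
      piCoreOf (primesNotDvd (Nat.card A)) (Subgroup.centralizer (A : Set G)) := by
    apply le_piCoreOf inf_le_right
    · rw [Subgroup.le_normalizer_iff]
      intro x hx y hy
      have hxN := Subgroup.le_normalizer_iff.mp
        (le_normalizer_piCoreOf (primesNotDvd (Nat.card A)) (Subgroup.normalizer (A : Set G)))
      exact ⟨hxN x (hCN hx) y hy.1,
        Subgroup.mul_mem _ (Subgroup.mul_mem _ hx hy.2) (Subgroup.inv_mem _ hx)⟩
    · intro p hp hd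
      exact prime_mem_of_dvd_card_piCoreOf _ _ p hp (hd.trans (Subgroup.card_dvd_of_le inf_le_left))
  exact (le_inf h1 hY).trans h2

/-- Conjugacy of subgroups under a subgroup `K`. -/
def KConj (K : Subgroup G) (Q₁ Q₂ : Subgroup G) : Prop := ∃ k ∈ K, Q₂ = MulAut.conj k • Q₁

theorem kConj_iff_map (K Q₁ Q₂ : Subgroup G) :
    KConj K Q₁ Q₂ ↔ ∃ k ∈ K, Q₂ = Q₁.map (MulAut.conj k).toMonoidHom := Iff.rfl

theorem KConj.refl (K Q : Subgroup G) : KConj K Q Q := ⟨1, K.one_mem, by simp⟩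

theorem KConj.symm {K Q₁ Q₂ : Subgroup G} (h : KConj K Q₁ Q₂) : KConj K Q₂ Q₁ := by
  obtain ⟨k, hk, rfl⟩ := h
  exact ⟨k⁻¹, K.inv_mem hk, by simp⟩

theorem KConj.trans {K Q₁ Q₂ Q₃ : Subgroup G} (h : KConj K Q₁ Q₂) (h' : KConj K Q₂ Q₃) :
    KConj K Q₁ Q₃ := by
  obtain ⟨k, hk, rfl⟩ := h
  obtain ⟨k', hk', rfl⟩ := h'
  exact ⟨k' * k, K.mul_mem hk' hk, by rw [map_mul, mul_smul]⟩

theorem mem_invSubgroups_top [Finite G] {A Y : Subgroup G} {q : ℕ} (hq : q.Prime) :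
    Y ∈ invSubgroups ⊤ A {q} ↔ IsPGroup q Y ∧ A ≤ Subgroup.normalizer (Y : Set G) := by
  have hqf := Fact.mk hq
  constructor
  · rintro ⟨-, hπ, hn⟩
    refine ⟨?_, hn⟩
    have h0 : Nat.card Y ≠ 0 := Nat.card_pos.ne'
    have := Nat.eq_prime_pow_of_unique_prime_dvd h0 (fun {d} hd hdvd => hπ d hd hdvd)
    exact IsPGroup.of_card this
  · rintro ⟨hp, hn⟩
    refine ⟨le_top, ?_, hn⟩
    intro p hp' hd
    obtain ⟨n, hn⟩ := IsPGroup.iff_card.mp hp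
    rw [hn] at hd
    exact (Nat.prime_dvd_prime_iff_eq hp' hq).mp (hp'.dvd_of_dvd_pow hd)

theorem exists_maxInv_ge [Finite G] {A Y : Subgroup G} {π : Set ℕ} (hY : Y ∈ invSubgroups ⊤ A π) :
    ∃ T ∈ maxInvSubgroups ⊤ A π, Y ≤ T := by
  obtain ⟨T, hYT, hT⟩ := (Set.toFinite (invSubgroups ⊤ A π)).exists_le_maximal hY
  exact ⟨T, ⟨hT.prop, fun R hR hTR => le_antisymm (hT.2 hR hTR) hTR⟩, hYT⟩

theorem conj_mem_invSubgroups {A Q : Subgroup G} {π : Set ℕ} {k : G}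
    (hk : k ∈ Subgroup.centralizer (A : Set G)) (hQ : Q ∈ invSubgroups ⊤ A π) :
    MulAut.conj k • Q ∈ invSubgroups ⊤ A π := by
  obtain ⟨-, hπ, hn⟩ := hQ
  refine ⟨le_top, ?_, ?_⟩
  · rw [Cfsg.Agent.Lib.helper1.card_conj_smul]; exact hπ
  · rw [Subgroup.le_normalizer_iff] at hn ⊢
    intro a ha y hy
    obtain ⟨z, hz, rfl⟩ := (Subgroup.mem_smul_pointwise_iff_exists _ _ _).mp hy
    refine (Subgroup.mem_smul_pointwise_iff_exists _ _ _).mpr ⟨a * z * a⁻¹, hn a ha z hz, ?_⟩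
    have hc := (Subgroup.mem_centralizer_iff.mp hk) a ha
    simp only [MulAut.smul_def, MulAut.conj_apply]
    have hc' : a⁻¹ * k⁻¹ = k⁻¹ * a⁻¹ := by rw [← mul_inv_rev, ← mul_inv_rev, hc]
    calc k * (a * z * a⁻¹) * k⁻¹ = (k * a) * z * (a⁻¹ * k⁻¹) := by group
      _ = (a * k) * z * (k⁻¹ * a⁻¹) := by rw [hc, hc']
      _ = a * (k * z * k⁻¹) * a⁻¹ := by group

theorem conj_mem_maxInvSubgroups {A Q : Subgroup G} {π : Set ℕ} {k : G}
    (hk : k ∈ Subgroup.centralizer (A : Set G)) (hQ : Q ∈ maxInvSubgroups ⊤ A π) :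
    MulAut.conj k • Q ∈ maxInvSubgroups ⊤ A π := by
  refine ⟨conj_mem_invSubgroups hk hQ.1, ?_⟩
  intro R hR hle
  have hR' : MulAut.conj k⁻¹ • R ∈ invSubgroups ⊤ A π :=
    conj_mem_invSubgroups (Subgroup.inv_mem _ hk) hR
  have hle' : Q ≤ MulAut.conj k⁻¹ • R := by
    rw [map_inv]
    exact Subgroup.pointwise_smul_subset_iff.mp hle
  have := hQ.2 _ hR' hle'
  rw [← this, map_inv, smul_inv_smul]

theorem prime_not_dvd_of_isPGroup [Finite G] {A Y : Subgroup G} {q : ℕ} (hq : q.Prime)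
    (hqA : ¬ q ∣ Nat.card A) (hY : IsPGroup q Y) :
    ∀ p : ℕ, p.Prime → p ∣ Nat.card Y → ¬ p ∣ Nat.card A := by
  have hqf := Fact.mk hq
  intro p hp hd
  obtain ⟨n, hn⟩ := IsPGroup.iff_card.mp hY
  rw [hn] at hd
  rw [(Nat.prime_dvd_prime_iff_eq hp hq).mp (hp.dvd_of_dvd_pow hd)]
  exact hqA

/-- The common step of the transitivity theorems: two `A`-invariant `q`-subgroups of a proper subgroup
`X ≥ A` lie in maximal `A`-invariant `q`-subgroups `T₁`, `T₂` such that `R₂` also lies in a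
`K`-conjugate of `T₁`. -/
theorem exists_common_sylow [Finite G] [IsSimpleGroup G]
    (hsolv : ∀ H : Subgroup G, H ≠ ⊤ → Group.IsSolvable H)
    {A : Subgroup G} (hA : TransitivityHypothesis A) {q : ℕ} (hq : q.Prime) (hqA : ¬ q ∣ Nat.card A)
    {X : Subgroup G} (hX : X ≠ ⊤) (hAX : A ≤ X) {R₁ R₂ : Subgroup G}
    (h₁ : R₁ ∈ invSubgroups ⊤ A {q}) (h₂ : R₂ ∈ invSubgroups ⊤ A {q}) (h₁X : R₁ ≤ X) (h₂X : R₂ ≤ X) :
    ∃ T₁ ∈ maxInvSubgroups ⊤ A {q}, ∃ T₂ ∈ maxInvSubgroups ⊤ A {q},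
      ∃ c ∈ piCoreOf (primesNotDvd (Nat.card A)) (Subgroup.centralizer (A : Set G)),
        R₁ ≤ T₁ ∧ R₂ ≤ T₂ ∧ R₂ ≤ MulAut.conj c • T₁ := by
  have hqf := Fact.mk hq
  obtain ⟨hR₁q, hR₁A⟩ := (mem_invSubgroups_top hq).mp h₁
  obtain ⟨hR₂q, hR₂A⟩ := (mem_invSubgroups_top hq).mp h₂
  set L := piCoreOf (primesNotDvd (Nat.card A)) X with hL
  have hR₁L : R₁ ≤ L := th_le_piCoreOf hA hX hAX h₁X (prime_not_dvd_of_isPGroup hq hqA hR₁q) hR₁A
  have hR₂L : R₂ ≤ L := th_le_piCoreOf hA hX hAX h₂X (prime_not_dvd_of_isPGroup hq hqA hR₂q) hR₂A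
  have hAL : A ≤ Subgroup.normalizer (L : Set G) := hAX.trans (le_normalizer_piCoreOf _ X)
  have hLπ : ∀ p : ℕ, p.Prime → p ∣ Nat.card L → ¬ p ∣ Nat.card A := fun p hp hd =>
    (prime_mem_of_dvd_card_piCoreOf _ X p hp hd).2
  have hcop : (Nat.card A).Coprime (Nat.card L) := by
    by_contra h
    obtain ⟨p, hp, hpa, hpb⟩ := Nat.Prime.not_coprime_iff_dvd.mp h
    exact hLπ p hp hpb hpa
  have hAsolv : Group.IsSolvable A := hsolv A hA.2.1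
  obtain ⟨S₁, hRS₁, hAS₁⟩ := Cfsg.Agent.Lib.helper1.exists_invariant_sylow_ge (p := q) A L hAL hcop
    (Or.inl hAsolv) R₁ hR₁L hR₁q hR₁A
  obtain ⟨S₂, hRS₂, hAS₂⟩ := Cfsg.Agent.Lib.helper1.exists_invariant_sylow_ge (p := q) A L hAL hcop
    (Or.inl hAsolv) R₂ hR₂L hR₂q hR₂A
  obtain ⟨c, hc, hcS⟩ := Cfsg.Agent.Lib.helper1.invariant_sylow_conj A L hAL hcop (Or.inl hAsolv)
    S₁ S₂ hAS₁ hAS₂
  have hcK : c ∈ piCoreOf (primesNotDvd (Nat.card A)) (Subgroup.centralizer (A : Set G)) :=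
    th_le_K hA (Y := L ⊓ Subgroup.centralizer (A : Set G)) inf_le_right
      (fun p hp hd => hLπ p hp (hd.trans (Subgroup.card_dvd_of_le inf_le_left))) hc
  have hS₁inv : (S₁ : Subgroup L).map L.subtype ∈ invSubgroups ⊤ A {q} :=
    (mem_invSubgroups_top hq).mpr ⟨S₁.isPGroup'.map _, hAS₁⟩
  have hS₂inv : (S₂ : Subgroup L).map L.subtype ∈ invSubgroups ⊤ A {q} :=
    (mem_invSubgroups_top hq).mpr ⟨S₂.isPGroup'.map _, hAS₂⟩
  obtain ⟨T₁, hT₁, hST₁⟩ := exists_maxInv_ge hS₁inv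
  obtain ⟨T₂, hT₂, hST₂⟩ := exists_maxInv_ge hS₂inv
  refine ⟨T₁, hT₁, T₂, hT₂, c, hcK, hRS₁.trans hST₁, hRS₂.trans hST₂, ?_⟩
  rw [← hcS] at hRS₂
  exact hRS₂.trans (Subgroup.pointwise_smul_le_pointwise_smul_iff.mpr hST₁)

/-- Thompson transitivity, first step: two maximal `A`-invariant `q`-subgroups with nontrivial
intersection are conjugate under `K = O_{π(A)'}(C_G(A))`. -/
theorem kConj_of_inf_ne_bot [Finite G] [IsSimpleGroup G]
    (hsolv : ∀ H : Subgroup G, H ≠ ⊤ → Group.IsSolvable H)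
    {A : Subgroup G} (hA : TransitivityHypothesis A) {q : ℕ} (hq : q.Prime) (hqA : ¬ q ∣ Nat.card A) :
    ∀ (n : ℕ) (Q₁ Q₂ : Subgroup G), Q₁ ∈ maxInvSubgroups ⊤ A {q} → Q₂ ∈ maxInvSubgroups ⊤ A {q} →
      Q₁ ⊓ Q₂ ≠ ⊥ → Nat.card G - Nat.card ↥(Q₁ ⊓ Q₂) = n →
      KConj (piCoreOf (primesNotDvd (Nat.card A)) (Subgroup.centralizer (A : Set G))) Q₁ Q₂ := by
  have hqf := Fact.mk hq
  intro n
  induction n using Nat.strong_induction_on with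
  | _ n ih =>
    intro Q₁ Q₂ hQ₁ hQ₂ hne hn
    by_cases heq : Q₁ = Q₂
    · rw [heq]; exact KConj.refl _ _
    obtain ⟨hQ₁q, hQ₁A⟩ := (mem_invSubgroups_top hq).mp hQ₁.1
    obtain ⟨hQ₂q, hQ₂A⟩ := (mem_invSubgroups_top hq).mp hQ₂.1
    have hD₁ : Q₁ ⊓ Q₂ < Q₁ := by
      refine lt_of_le_of_ne inf_le_left (fun h => heq ?_)
      have hle : Q₁ ≤ Q₂ := inf_eq_left.mp h
      exact (hQ₁.2 Q₂ hQ₂.1 hle).symm
    have hD₂ : Q₁ ⊓ Q₂ < Q₂ := by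
      refine lt_of_le_of_ne inf_le_right (fun h => heq ?_)
      have hle : Q₂ ≤ Q₁ := inf_eq_right.mp h
      exact hQ₂.2 Q₁ hQ₁.1 hle
    have hN : Subgroup.normalizer ((Q₁ ⊓ Q₂ : Subgroup G) : Set G) ≠ ⊤ :=
      normalizer_ne_top_of_simple hne (ne_top_of_lt hD₁)
    have hAN : A ≤ Subgroup.normalizer ((Q₁ ⊓ Q₂ : Subgroup G) : Set G) :=
      le_normalizer_inf' hQ₁A hQ₂A
    have hANN : A ≤ Subgroup.normalizer
        ((Subgroup.normalizer ((Q₁ ⊓ Q₂ : Subgroup G) : Set G) : Subgroup G) : Set G) :=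
      hAN.trans Subgroup.le_normalizer
    have hDR₁ := lt_inf_normalizer_of_lt hQ₁q hD₁
    have hDR₂ := lt_inf_normalizer_of_lt hQ₂q hD₂
    have hR₁inv : Q₁ ⊓ Subgroup.normalizer ((Q₁ ⊓ Q₂ : Subgroup G) : Set G) ∈ invSubgroups ⊤ A {q} :=
      (mem_invSubgroups_top hq).mpr ⟨hQ₁q.to_le inf_le_left, le_normalizer_inf' hQ₁A hANN⟩
    have hR₂inv : Q₂ ⊓ Subgroup.normalizer ((Q₁ ⊓ Q₂ : Subgroup G) : Set G) ∈ invSubgroups ⊤ A {q} :=
      (mem_invSubgroups_top hq).mpr ⟨hQ₂q.to_le inf_le_left, le_normalizer_inf' hQ₂A hANN⟩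
    obtain ⟨T₁, hT₁, T₂, hT₂, c, hcK, hRT₁, hRT₂, hRcT₁⟩ :=
      exists_common_sylow hsolv hA hq hqA hN hAN hR₁inv hR₂inv inf_le_right inf_le_right
    have hKC := piCoreOf_le (primesNotDvd (Nat.card A)) (Subgroup.centralizer (A : Set G))
    have hcT₁ : MulAut.conj c • T₁ ∈ maxInvSubgroups ⊤ A {q} := conj_mem_maxInvSubgroups (hKC hcK) hT₁
    -- the induction hypothesis for pairs with larger intersection
    have key : ∀ P₁ P₂ : Subgroup G, P₁ ∈ maxInvSubgroups ⊤ A {q} → P₂ ∈ maxInvSubgroups ⊤ A {q} →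
        Q₁ ⊓ Q₂ < P₁ ⊓ P₂ →
        KConj (piCoreOf (primesNotDvd (Nat.card A)) (Subgroup.centralizer (A : Set G))) P₁ P₂ := by
      intro P₁ P₂ hP₁ hP₂ hlt
      have hc1 : Nat.card ↥(Q₁ ⊓ Q₂) < Nat.card ↥(P₁ ⊓ P₂) := by
        have h1 : Nat.card ↥(Q₁ ⊓ Q₂) ∣ Nat.card ↥(P₁ ⊓ P₂) := Subgroup.card_dvd_of_le hlt.le
        have h2 : Nat.card ↥(Q₁ ⊓ Q₂) ≤ Nat.card ↥(P₁ ⊓ P₂) := Nat.le_of_dvd Nat.card_pos h1
        refine lt_of_le_of_ne h2 (fun h => hlt.ne ?_)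
        exact Subgroup.eq_of_le_of_card_ge hlt.le h.ge
      have hc2 : Nat.card ↥(P₁ ⊓ P₂) ≤ Nat.card G := Subgroup.card_le_card_group _
      refine ih (Nat.card G - Nat.card ↥(P₁ ⊓ P₂)) ?_ P₁ P₂ hP₁ hP₂ (ne_bot_of_gt hlt) rfl
      omega
    have k1 : KConj _ Q₁ T₁ := key Q₁ T₁ hQ₁ hT₁ (lt_of_lt_of_le hDR₁ (le_inf inf_le_left hRT₁))
    have k2 : KConj (piCoreOf (primesNotDvd (Nat.card A)) (Subgroup.centralizer (A : Set G))) T₁
        (MulAut.conj c • T₁) := ⟨c, hcK, rfl⟩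
    have k3 : KConj _ (MulAut.conj c • T₁) T₂ :=
      key _ T₂ hcT₁ hT₂ (lt_of_lt_of_le hDR₂ (le_inf hRcT₁ hRT₂))
    have k4 : KConj _ T₂ Q₂ := key T₂ Q₂ hT₂ hQ₂ (lt_of_lt_of_le hDR₂ (le_inf hRT₂ inf_le_left))
    exact ((k1.trans k2).trans k3).trans k4

/-- Thompson transitivity (Bender–Glauberman 7.2): two maximal `A`-invariant `q`-subgroups both
meeting nontrivially a proper subgroup `H ≥ A` are conjugate under `K = O_{π(A)'}(C_G(A))`. -/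
theorem kConj_of_common_overgroup [Finite G] [IsSimpleGroup G]
    (hsolv : ∀ H : Subgroup G, H ≠ ⊤ → Group.IsSolvable H)
    {A : Subgroup G} (hA : TransitivityHypothesis A) {q : ℕ} (hq : q.Prime) (hqA : ¬ q ∣ Nat.card A)
    {Q₁ Q₂ : Subgroup G} (hQ₁ : Q₁ ∈ maxInvSubgroups ⊤ A {q}) (hQ₂ : Q₂ ∈ maxInvSubgroups ⊤ A {q})
    {H : Subgroup G} (hH : H ≠ ⊤) (hAH : A ≤ H) (hH₁ : H ⊓ Q₁ ≠ ⊥) (hH₂ : H ⊓ Q₂ ≠ ⊥) :
    KConj (piCoreOf (primesNotDvd (Nat.card A)) (Subgroup.centralizer (A : Set G))) Q₁ Q₂ := by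
  have hqf := Fact.mk hq
  obtain ⟨hQ₁q, hQ₁A⟩ := (mem_invSubgroups_top hq).mp hQ₁.1
  obtain ⟨hQ₂q, hQ₂A⟩ := (mem_invSubgroups_top hq).mp hQ₂.1
  have hAHn : A ≤ Subgroup.normalizer (H : Set G) := hAH.trans Subgroup.le_normalizer
  have hR₁inv : H ⊓ Q₁ ∈ invSubgroups ⊤ A {q} :=
    (mem_invSubgroups_top hq).mpr ⟨hQ₁q.to_le inf_le_right, le_normalizer_inf' hAHn hQ₁A⟩
  have hR₂inv : H ⊓ Q₂ ∈ invSubgroups ⊤ A {q} :=
    (mem_invSubgroups_top hq).mpr ⟨hQ₂q.to_le inf_le_right, le_normalizer_inf' hAHn hQ₂A⟩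
  obtain ⟨T₁, hT₁, T₂, hT₂, c, hcK, hRT₁, hRT₂, hRcT₁⟩ :=
    exists_common_sylow hsolv hA hq hqA hH hAH hR₁inv hR₂inv inf_le_left inf_le_left
  have hKC := piCoreOf_le (primesNotDvd (Nat.card A)) (Subgroup.centralizer (A : Set G))
  have hcT₁ : MulAut.conj c • T₁ ∈ maxInvSubgroups ⊤ A {q} := conj_mem_maxInvSubgroups (hKC hcK) hT₁
  have key : ∀ P₁ P₂ : Subgroup G, P₁ ∈ maxInvSubgroups ⊤ A {q} → P₂ ∈ maxInvSubgroups ⊤ A {q} →
      P₁ ⊓ P₂ ≠ ⊥ →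
      KConj (piCoreOf (primesNotDvd (Nat.card A)) (Subgroup.centralizer (A : Set G))) P₁ P₂ :=
    fun P₁ P₂ hP₁ hP₂ hne => kConj_of_inf_ne_bot hsolv hA hq hqA _ P₁ P₂ hP₁ hP₂ hne rfl
  have k1 : KConj _ Q₁ T₁ := key Q₁ T₁ hQ₁ hT₁ (ne_bot_of_le_ne_bot hH₁ (le_inf inf_le_right hRT₁))
  have k2 : KConj (piCoreOf (primesNotDvd (Nat.card A)) (Subgroup.centralizer (A : Set G))) T₁
      (MulAut.conj c • T₁) := ⟨c, hcK, rfl⟩
  have k3 : KConj _ (MulAut.conj c • T₁) T₂ :=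
    key _ T₂ hcT₁ hT₂ (ne_bot_of_le_ne_bot hH₂ (le_inf hRcT₁ hRT₂))
  have k4 : KConj _ T₂ Q₂ := key T₂ Q₂ hT₂ hQ₂ (ne_bot_of_le_ne_bot hH₂ (le_inf hRT₂ inf_le_right))
  exact ((k1.trans k2).trans k3).trans k4

end Trans

end Cfsg.Agent.Lib.helper29
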