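import Mathlib
import Cfsg.Agent.Lib.helper29.Basic
import Cfsg.Agent.Lib.helper29.Trans
import Cfsg.Agent.Lib.helper37.CoprimeGen

/-!
Thompson transitivity (Bender–Glauberman 7.3 and 7.4): transitivity of `O_{π(A)'}(C_G(A))` on the
maximal `A`-invariant `q`-subgroups when `Z(A)` has rank at least 3, or rank at least 2 and `q`
divides the order of `C_G(A)`.
-/

set_option autoImplicit false
open Cfsg
open Pointwise

namespace Cfsg.Agent.Lib.helper29

section Trans2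

variable {G : Type*} [Group G]

/-- "Rank at least `k + 1`" for a subgroup `H` of `G`, unfolded: an elementary abelian `p`-subgroup
of `H` of order more than `p ^ k`. -/
theorem exists_elemAb_of_not_rankLE {H : Subgroup G} {k : ℕ} (h : ¬ RankLE k ↥H) :
    ∃ p : ℕ, p.Prime ∧ ∃ E : Subgroup G, E ≤ H ∧ (∀ a ∈ E, ∀ b ∈ E, a * b = b * a) ∧
      (∀ a ∈ E, a ^ p = 1) ∧ p ^ k < Nat.card E := by
  unfold RankLE PRankLE at h
  push Not at h
  obtain ⟨p, hp, E, hEc, hEp, hcard⟩ := h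
  refine ⟨p, hp, E.map H.subtype, Subgroup.map_subtype_le _, ?_, ?_, ?_⟩
  · rintro _ ⟨a, ha, rfl⟩ _ ⟨b, hb, rfl⟩
    have h1 := hEc.is_comm.comm (⟨a, ha⟩ : E) ⟨b, hb⟩
    have h2 := congrArg (fun x : E => ((x : H) : G)) h1
    simpa using h2
  · rintro _ ⟨a, ha, rfl⟩
    have h1 := hEp a ha
    have h2 := congrArg (fun x : H => (x : G)) h1
    simpa using h2
  · rwa [Subgroup.card_subtype]

theorem centralizer_singleton_ne_top [IsSimpleGroup G] (hnc : ¬ IsMulCommutative G) {b : G}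
    (hb : b ≠ 1) : Subgroup.centralizer ({b} : Set G) ≠ ⊤ := by
  intro h
  have hbZ : b ∈ Subgroup.center G := by
    rw [Subgroup.mem_center_iff]
    intro g
    have hg : g ∈ Subgroup.centralizer ({b} : Set G) := h ▸ Subgroup.mem_top g
    exact (Subgroup.mem_centralizer_iff.mp hg b rfl).symm
  rcases (inferInstance : (Subgroup.center G).Normal).eq_bot_or_eq_top with h0 | h1
  · rw [h0] at hbZ; exact hb (Subgroup.mem_bot.mp hbZ)
  · apply hnc
    refine ⟨⟨fun a c => ?_⟩⟩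
    have ha : a ∈ Subgroup.center G := h1 ▸ Subgroup.mem_top a
    exact (Subgroup.mem_center_iff.mp ha c).symm

theorem prime_dvd_card_of_exponent [Finite G] {p : ℕ} (hp : p.Prime) {E : Subgroup G}
    (hEp : ∀ a ∈ E, a ^ p = 1) (hE : E ≠ ⊥) : p ∣ Nat.card E := by
  obtain ⟨x, hx, hx1⟩ := exists_ne_one_of_ne_bot hE
  have h1 : orderOf x ∣ p := orderOf_dvd_of_pow_eq_one (hEp x hx)
  have h2 : orderOf x = p := by
    rcases (Nat.dvd_prime hp).mp h1 with h | h
    · exact absurd (orderOf_eq_one_iff.mp h) hx1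
    · exact h
  rw [← h2]
  have h3 : orderOf (⟨x, hx⟩ : E) ∣ Nat.card E := orderOf_dvd_natCard _
  rwa [Subgroup.orderOf_mk] at h3

/-- A nontrivial `q`-subgroup normalized by an elementary abelian `p`-group `E` (`p ≠ q`) meets the
centralizer of some subgroup of index at most `p` in `E` nontrivially. -/
theorem exists_hyperplane_inf_centralizer_ne_bot [Finite G] {p q : ℕ} (hp : p.Prime) (hq : q.Prime)
    (hpq : p ≠ q) {E Q : Subgroup G} (hEc : ∀ a ∈ E, ∀ b ∈ E, a * b = b * a)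
    (hEp : ∀ a ∈ E, a ^ p = 1) (hQq : IsPGroup q Q) (hEQ : E ≤ Subgroup.normalizer (Q : Set G))
    (hQ : Q ≠ ⊥) :
    ∃ B : Subgroup G, B ≤ E ∧ B.relIndex E ≤ p ∧ Q ⊓ Subgroup.centralizer (B : Set G) ≠ ⊥ := by
  have hpf := Fact.mk hp
  have hqf := Fact.mk hq
  by_contra hcon
  push Not at hcon
  apply hQ
  rw [eq_bot_iff]
  refine (Cfsg.Agent.Lib.helper37.qgroup_le_iSup_centralizer p q hpq E Q hEc hEp hQq hEQ).trans ?_
  apply iSup_le
  rintro ⟨B, hB1, hB2⟩
  exact (hcon B hB1 hB2).le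

theorem le_centralizer_singleton_of_mem_centralizer {A : Subgroup G} {b : G}
    (hb : b ∈ Subgroup.centralizer (A : Set G)) : A ≤ Subgroup.centralizer ({b} : Set G) := by
  intro a ha
  rw [Subgroup.mem_centralizer_iff]
  rintro _ rfl
  exact ((Subgroup.mem_centralizer_iff.mp hb) a ha).symm

/-- Bender–Glauberman 7.3: if `Z(A)` contains an elementary abelian `p`-subgroup of order more than
`p ^ 2`, then `O_{π(A)'}(C_G(A))` is transitive on the maximal `A`-invariant `q`-subgroups. -/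
theorem kConj_of_rank3 [Finite G] [IsSimpleGroup G] (hnc : ¬ IsMulCommutative G)
    (hsolv : ∀ H : Subgroup G, H ≠ ⊤ → Group.IsSolvable H)
    {A : Subgroup G} (hA : TransitivityHypothesis A) {q : ℕ} (hq : q.Prime) (hqA : ¬ q ∣ Nat.card A)
    {p : ℕ} (hp : p.Prime) {E : Subgroup G} (hEA : E ≤ A ⊓ Subgroup.centralizer (A : Set G))
    (hEc : ∀ a ∈ E, ∀ b ∈ E, a * b = b * a) (hEp : ∀ a ∈ E, a ^ p = 1) (hcard : p ^ 2 < Nat.card E)
    {Q₁ Q₂ : Subgroup G} (hQ₁ : Q₁ ∈ maxInvSubgroups ⊤ A {q}) (hQ₂ : Q₂ ∈ maxInvSubgroups ⊤ A {q}) :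
    KConj (piCoreOf (primesNotDvd (Nat.card A)) (Subgroup.centralizer (A : Set G))) Q₁ Q₂ := by
  by_cases h1 : Q₁ = ⊥
  · have h : Q₂ = Q₁ := hQ₁.2 Q₂ hQ₂.1 (h1 ▸ bot_le)
    rw [h]; exact KConj.refl _ _
  by_cases h2 : Q₂ = ⊥
  · have h : Q₁ = Q₂ := hQ₂.2 Q₁ hQ₁.1 (h2 ▸ bot_le)
    rw [h]; exact KConj.refl _ _
  obtain ⟨hQ₁q, hQ₁A⟩ := (mem_invSubgroups_top hq).mp hQ₁.1
  obtain ⟨hQ₂q, hQ₂A⟩ := (mem_invSubgroups_top hq).mp hQ₂.1
  have hp1 : 1 < p := hp.one_lt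
  have hEne : E ≠ ⊥ := by
    intro h
    rw [h, Subgroup.card_bot] at hcard
    have : 1 ≤ p ^ 2 := Nat.one_le_pow _ _ hp.pos
    omega
  have hpq : p ≠ q := by
    rintro rfl
    exact hqA ((prime_dvd_card_of_exponent hp hEp hEne).trans
      (Subgroup.card_dvd_of_le (hEA.trans inf_le_left)))
  obtain ⟨B₁, hB₁E, hB₁i, hB₁Q⟩ := exists_hyperplane_inf_centralizer_ne_bot hp hq hpq hEc hEp hQ₁q
    ((hEA.trans inf_le_left).trans hQ₁A) h1
  obtain ⟨B₂, hB₂E, hB₂i, hB₂Q⟩ := exists_hyperplane_inf_centralizer_ne_bot hp hq hpq hEc hEp hQ₂q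
    ((hEA.trans inf_le_left).trans hQ₂A) h2
  have hB : B₁ ⊓ B₂ ≠ ⊥ := by
    intro hbot
    have h3 : (B₁ ⊓ B₂).relIndex E ≤ p * p :=
      Subgroup.relIndex_inf_le.trans (Nat.mul_le_mul hB₁i hB₂i)
    rw [hbot, Subgroup.relIndex_bot_left] at h3
    nlinarith
  obtain ⟨b, hb, hb1⟩ := exists_ne_one_of_ne_bot hB
  have hH := centralizer_singleton_ne_top hnc hb1
  have hbE : b ∈ E := hB₁E hb.1
  have hAH : A ≤ Subgroup.centralizer ({b} : Set G) :=
    le_centralizer_singleton_of_mem_centralizer (hEA hbE).2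
  have hH₁ : Subgroup.centralizer ({b} : Set G) ⊓ Q₁ ≠ ⊥ :=
    ne_bot_of_le_ne_bot hB₁Q (le_inf (inf_le_right.trans
      (Subgroup.centralizer_le (Set.singleton_subset_iff.mpr hb.1))) inf_le_left)
  have hH₂ : Subgroup.centralizer ({b} : Set G) ⊓ Q₂ ≠ ⊥ :=
    ne_bot_of_le_ne_bot hB₂Q (le_inf (inf_le_right.trans
      (Subgroup.centralizer_le (Set.singleton_subset_iff.mpr hb.2))) inf_le_left)
  exact kConj_of_common_overgroup hsolv hA hq hqA hQ₁ hQ₂ hH hAH hH₁ hH₂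

/-- Bender–Glauberman 7.4: if `Z(A)` contains an elementary abelian `p`-subgroup of order more than
`p` and `q` divides the order of `C_G(A)`, then `O_{π(A)'}(C_G(A))` is transitive on the maximal
`A`-invariant `q`-subgroups. -/
theorem kConj_of_rank2 [Finite G] [IsSimpleGroup G] (hnc : ¬ IsMulCommutative G)
    (hsolv : ∀ H : Subgroup G, H ≠ ⊤ → Group.IsSolvable H)
    {A : Subgroup G} (hA : TransitivityHypothesis A) {q : ℕ} (hq : q.Prime) (hqA : ¬ q ∣ Nat.card A)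
    (hqC : q ∣ Nat.card (Subgroup.centralizer (A : Set G)))
    {p : ℕ} (hp : p.Prime) {E : Subgroup G} (hEA : E ≤ A ⊓ Subgroup.centralizer (A : Set G))
    (hEc : ∀ a ∈ E, ∀ b ∈ E, a * b = b * a) (hEp : ∀ a ∈ E, a ^ p = 1) (hcard : p ^ 1 < Nat.card E)
    {Q₁ Q₂ : Subgroup G} (hQ₁ : Q₁ ∈ maxInvSubgroups ⊤ A {q}) (hQ₂ : Q₂ ∈ maxInvSubgroups ⊤ A {q}) :
    KConj (piCoreOf (primesNotDvd (Nat.card A)) (Subgroup.centralizer (A : Set G))) Q₁ Q₂ := by
  have hqf := Fact.mk hq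
  have hp1 : 1 < p := hp.one_lt
  rw [pow_one] at hcard
  have hEne : E ≠ ⊥ := by
    intro h
    rw [h, Subgroup.card_bot] at hcard
    omega
  have hpq : p ≠ q := by
    rintro rfl
    exact hqA ((prime_dvd_card_of_exponent hp hEp hEne).trans
      (Subgroup.card_dvd_of_le (hEA.trans inf_le_left)))
  obtain ⟨S⟩ : Nonempty (Sylow q (Subgroup.centralizer (A : Set G))) := inferInstance
  have hSne : (S : Subgroup (Subgroup.centralizer (A : Set G))) ≠ ⊥ := S.ne_bot_of_dvd_card hqC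
  have hS'ne : (S : Subgroup (Subgroup.centralizer (A : Set G))).map
      (Subgroup.centralizer (A : Set G)).subtype ≠ ⊥ := by
    intro h
    exact hSne ((Subgroup.map_eq_bot_iff_of_injective _ (Subgroup.subtype_injective _)).mp h)
  have hS'inv : (S : Subgroup (Subgroup.centralizer (A : Set G))).map
      (Subgroup.centralizer (A : Set G)).subtype ∈ invSubgroups ⊤ A {q} :=
    (mem_invSubgroups_top hq).mpr ⟨S.isPGroup'.map _,
      le_normalizer_of_le_centralizer (Subgroup.map_subtype_le _)⟩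
  obtain ⟨Q₀, hQ₀, hSQ₀⟩ := exists_maxInv_ge hS'inv
  have key : ∀ Q ∈ maxInvSubgroups ⊤ A {q},
      KConj (piCoreOf (primesNotDvd (Nat.card A)) (Subgroup.centralizer (A : Set G))) Q Q₀ := by
    intro Q hQ
    have hQne : Q ≠ ⊥ := by
      intro h
      have h' : Q₀ = Q := hQ.2 Q₀ hQ₀.1 (h ▸ bot_le)
      apply hS'ne
      rw [eq_bot_iff]
      rw [h', h] at hSQ₀
      exact hSQ₀
    obtain ⟨hQq, hQA⟩ := (mem_invSubgroups_top hq).mp hQ.1
    obtain ⟨B, hBE, hBi, hBQ⟩ := exists_hyperplane_inf_centralizer_ne_bot hp hq hpq hEc hEp hQq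
      ((hEA.trans inf_le_left).trans hQA) hQne
    have hBne : B ≠ ⊥ := by
      intro hbot
      rw [hbot, Subgroup.relIndex_bot_left] at hBi
      omega
    obtain ⟨b, hb, hb1⟩ := exists_ne_one_of_ne_bot hBne
    have hH := centralizer_singleton_ne_top hnc hb1
    have hbE : b ∈ E := hBE hb
    have hAH : A ≤ Subgroup.centralizer ({b} : Set G) :=
      le_centralizer_singleton_of_mem_centralizer (hEA hbE).2
    have hH₁ : Subgroup.centralizer ({b} : Set G) ⊓ Q ≠ ⊥ :=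
      ne_bot_of_le_ne_bot hBQ (le_inf (inf_le_right.trans
        (Subgroup.centralizer_le (Set.singleton_subset_iff.mpr hb))) inf_le_left)
    have hH₂ : Subgroup.centralizer ({b} : Set G) ⊓ Q₀ ≠ ⊥ :=
      ne_bot_of_le_ne_bot hS'ne (le_inf ((Subgroup.map_subtype_le _).trans
        (Subgroup.centralizer_le (Set.singleton_subset_iff.mpr (hEA hbE).1))) hSQ₀)
    exact kConj_of_common_overgroup hsolv hA hq hqA hQ hQ₀ hH hAH hH₁ hH₂
  exact (key Q₁ hQ₁).trans (key Q₂ hQ₂).symm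

end Trans2

end Cfsg.Agent.Lib.helper29
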