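import Mathlib
import Cfsg.Agent.Lib.helper29.BaerFix
import Cfsg.Agent.Lib.helper29.Trans
import Cfsg.Agent.Lib.helper54.AxB

/-!
`p'`-subgroups normalized by a large abelian `p`-subgroup of a `p`-constrained group lie in
`O_{p'}`.
-/

set_option autoImplicit false
open scoped commutatorElement

namespace Cfsg.Agent.Lib.helper29

open Subgroup

section Quadratic

variable {X : Type*} [Group X]

/-- The elements normalizing `R` and `V` and acting trivially on `R` modulo `V`. -/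
def trivModSubgroup (R V : Subgroup X) : Subgroup X where
  carrier := {z | z ∈ normalizer (R : Set X) ∧ z ∈ normalizer (V : Set X) ∧
    ∀ r ∈ R, z * r * z⁻¹ * r⁻¹ ∈ V}
  one_mem' := ⟨one_mem _, one_mem _, fun r _ => by simp [one_mem]⟩
  mul_mem' := by
    rintro z w ⟨hz1, hz2, hz3⟩ ⟨hw1, hw2, hw3⟩
    refine ⟨mul_mem hz1 hw1, mul_mem hz2 hw2, fun r hr => ?_⟩
    have e : z * w * r * (z * w)⁻¹ * r⁻¹ =
        z * (w * r * w⁻¹ * r⁻¹) * z⁻¹ * (z * r * z⁻¹ * r⁻¹) := by group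
    rw [e]
    exact mul_mem ((Subgroup.mem_normalizer_iff.mp hz2 _).mp (hw3 r hr)) (hz3 r hr)
  inv_mem' := by
    rintro z ⟨hz1, hz2, hz3⟩
    refine ⟨inv_mem hz1, inv_mem hz2, fun r hr => ?_⟩
    have hr' : z⁻¹ * r * z ∈ R := by
      have := (Subgroup.mem_normalizer_iff.mp (inv_mem hz1) r).mp hr
      simpa using this
    have h := hz3 _ hr'
    have e : z⁻¹ * r * z⁻¹⁻¹ * r⁻¹ = (z * (z⁻¹ * r * z) * z⁻¹ * (z⁻¹ * r * z)⁻¹)⁻¹ := by group
    rw [e]
    exact inv_mem h

theorem mem_trivModSubgroup {R V : Subgroup X} {z : X} :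
    z ∈ trivModSubgroup R V ↔ z ∈ normalizer (R : Set X) ∧ z ∈ normalizer (V : Set X) ∧
      ∀ r ∈ R, z * r * z⁻¹ * r⁻¹ ∈ V := Iff.rfl

theorem conj_mem_trivModSubgroup {R V : Subgroup X} {z n : X} (hz : z ∈ trivModSubgroup R V)
    (hn1 : n ∈ normalizer (R : Set X)) (hn2 : n ∈ normalizer (V : Set X)) :
    n * z * n⁻¹ ∈ trivModSubgroup R V := by
  obtain ⟨hz1, hz2, hz3⟩ := hz
  refine ⟨mul_mem (mul_mem hn1 hz1) (inv_mem hn1), mul_mem (mul_mem hn2 hz2) (inv_mem hn2),
    fun r hr => ?_⟩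
  have hr' : n⁻¹ * r * n ∈ R := by
    have := (Subgroup.mem_normalizer_iff.mp (inv_mem hn1) r).mp hr
    simpa using this
  have h := hz3 _ hr'
  have e : n * z * n⁻¹ * r * (n * z * n⁻¹)⁻¹ * r⁻¹ =
      n * (z * (n⁻¹ * r * n) * z⁻¹ * (n⁻¹ * r * n)⁻¹) * n⁻¹ := by group
  rw [e]
  exact (Subgroup.mem_normalizer_iff.mp hn2 _).mp h

/-- **Quadratic action.** If `E` acts quadratically on the `p`-group `R` and the `p'`-group `K`,
normalized by `E` and normalizing `R`, centralizes `[R, E]`, then `[K, E]` centralizes `R`. -/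
theorem comm_le_centralizer_of_quadratic [Finite X] {p : ℕ} [Fact p.Prime] (R K E : Subgroup X)
    (hR : IsPGroup p R) (hK : (Nat.card K).Coprime p)
    (hKR : K ≤ normalizer (R : Set X)) (hER : E ≤ normalizer (R : Set X))
    (hEK : E ≤ normalizer (K : Set X))
    (hKV : K ≤ centralizer ((⁅R, E⁆ : Subgroup X) : Set X)) :
    ⁅K, E⁆ ≤ centralizer (R : Set X) := by
  have hEV : E ≤ normalizer ((⁅R, E⁆ : Subgroup X) : Set X) :=
    helper1.right_le_normalizer_commutator hER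
  have hKVn : K ≤ normalizer ((⁅R, E⁆ : Subgroup X) : Set X) := by
    intro k hk
    exact Subgroup.centralizer_le_normalizer _ (hKV hk)
  have hEW : E ≤ trivModSubgroup R ⁅R, E⁆ := by
    intro e he
    refine ⟨hER he, hEV he, fun r hr => ?_⟩
    have h1 : ⁅r, e⁆ ∈ ⁅R, E⁆ := Subgroup.commutator_mem_commutator hr he
    have e1 : e * r * e⁻¹ * r⁻¹ = ⁅r, e⁆⁻¹ := by
      rw [commutatorElement_inv, commutatorElement_def]
    rw [e1]
    exact inv_mem h1
  have hZW : ⁅K, E⁆ ≤ trivModSubgroup R ⁅R, E⁆ := by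
    rw [Subgroup.commutator_le]
    intro k hk e he
    rw [commutatorElement_def]
    have h1 := conj_mem_trivModSubgroup (hEW he) (hKR hk) (hKVn hk)
    have h2 := mul_mem h1 (inv_mem (hEW he))
    exact h2
  have hZK : ⁅K, E⁆ ≤ K := helper1.commutator_le_of_le_normalizer hEK
  have hRZ : ⁅R, ⁅K, E⁆⁆ ≤ ⁅R, E⁆ := by
    rw [Subgroup.commutator_le]
    intro r hr z hz
    have h1 := (hZW hz).2.2 r hr
    have e1 : ⁅r, z⁆ = (z * r * z⁻¹ * r⁻¹)⁻¹ := by
      rw [commutatorElement_def]; group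
    rw [e1]
    exact inv_mem h1
  have hVZ : ⁅⁅R, E⁆, ⁅K, E⁆⁆ = ⊥ := by
    rw [Subgroup.commutator_eq_bot_iff_le_centralizer]
    intro v hv
    rw [Subgroup.mem_centralizer_iff]
    intro z hz
    exact ((Subgroup.mem_centralizer_iff.mp (hKV (hZK hz))) v hv).symm
  have h2 : ⁅⁅R, ⁅K, E⁆⁆, ⁅K, E⁆⁆ = ⊥ :=
    le_bot_iff.mp (hVZ ▸ Subgroup.commutator_mono hRZ le_rfl)
  have hZR : ⁅K, E⁆ ≤ normalizer (R : Set X) := hZK.trans hKR
  have hRsolv : Group.IsSolvable R := by
    have := hR.isNilpotent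
    infer_instance
  have hcop : (Nat.card (⁅K, E⁆ : Subgroup X)).Coprime (Nat.card R) := by
    obtain ⟨k, hk⟩ := IsPGroup.iff_card.mp hR
    rw [hk]
    exact Nat.Coprime.pow_right k (Nat.Coprime.coprime_dvd_left (Subgroup.card_dvd_of_le hZK) hK)
  rw [helper1.commutator_commutator_eq ⁅K, E⁆ R hZR hcop (Or.inr hRsolv)] at h2
  rw [Subgroup.commutator_eq_bot_iff_le_centralizer] at h2
  intro z hz
  rw [Subgroup.mem_centralizer_iff]
  intro r hr
  exact ((Subgroup.mem_centralizer_iff.mp (h2 hr)) z hz).symm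

/-- A `p'`-subgroup `K` normalized by a `p`-subgroup `E`, both normalizing a self-centralizing
`p`-subgroup `R` with `C_R(E) ≤ E`, is trivial, provided `p` is odd or `E` acts quadratically
on `R`. -/
theorem eq_bot_of_invariant_pPrime [Finite X] {p : ℕ} [Fact p.Prime] (R K E : Subgroup X)
    (hR : IsPGroup p R) (hRc : centralizer (R : Set X) ≤ R) (hE : IsPGroup p E)
    (hK : (Nat.card K).Coprime p)
    (hKR : K ≤ normalizer (R : Set X)) (hER : E ≤ normalizer (R : Set X))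
    (hEK : E ≤ normalizer (K : Set X))
    (hRE : R ⊓ centralizer (E : Set X) ≤ E)
    (h2 : p ≠ 2 ∨ ⁅⁅R, E⁆, E⁆ = ⊥) : K = ⊥ := by
  have hRK : R ⊓ K = ⊥ := by
    apply Disjoint.eq_bot
    apply Subgroup.disjoint_of_coprime_natCard
    obtain ⟨k, hk⟩ := IsPGroup.iff_card.mp hR
    rw [hk]
    exact (Nat.Coprime.pow_right k hK).symm
  have hcent : R ⊓ centralizer (E : Set X) ≤ centralizer (K : Set X) := by
    intro x hx
    have hxR : x ∈ R := hx.1
    have hxE : x ∈ E := hRE hx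
    rw [Subgroup.mem_centralizer_iff]
    intro k hk
    have h1 : x * k * x⁻¹ * k⁻¹ ∈ K :=
      mul_mem ((Subgroup.mem_normalizer_iff.mp (hEK hxE) k).mp hk) (inv_mem hk)
    have h2 : x * k * x⁻¹ * k⁻¹ ∈ R := by
      have h3 : k * x⁻¹ * k⁻¹ ∈ R := (Subgroup.mem_normalizer_iff.mp (hKR hk) x⁻¹).mp (inv_mem hxR)
      have e : x * k * x⁻¹ * k⁻¹ = x * (k * x⁻¹ * k⁻¹) := by group
      rw [e]
      exact mul_mem hxR h3
    have h4 : x * k * x⁻¹ * k⁻¹ ∈ R ⊓ K := ⟨h2, h1⟩
    rw [hRK, Subgroup.mem_bot] at h4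
    have h5 : x * k = k * x := by
      calc x * k = x * k * x⁻¹ * k⁻¹ * (k * x) := by group
        _ = k * x := by rw [h4, one_mul]
    exact h5.symm
  have hfin : K ≤ centralizer (R : Set X) → K = ⊥ := by
    intro h
    exact le_bot_iff.mp (hRK ▸ le_inf (h.trans hRc) le_rfl)
  rcases h2 with hp2 | hquad
  · have h1 : R ≤ centralizer (K : Set X) := centralizes_of_odd hp2 R K E hR hK hE hKR hER hEK hcent
    apply hfin
    intro k hk
    rw [Subgroup.mem_centralizer_iff]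
    intro r hr
    exact ((Subgroup.mem_centralizer_iff.mp (h1 hr)) k hk).symm
  · have hVle : ⁅R, E⁆ ≤ R := helper1.commutator_le_of_le_normalizer hER
    have hVc : ⁅R, E⁆ ≤ centralizer (E : Set X) :=
      Subgroup.commutator_eq_bot_iff_le_centralizer.mp hquad
    have hKV : K ≤ centralizer ((⁅R, E⁆ : Subgroup X) : Set X) := by
      intro k hk
      rw [Subgroup.mem_centralizer_iff]
      intro v hv
      exact ((Subgroup.mem_centralizer_iff.mp (hcent ⟨hVle hv, hVc hv⟩)) k hk).symm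
    have h1 : ⁅K, E⁆ ≤ centralizer (R : Set X) :=
      comm_le_centralizer_of_quadratic R K E hR hK hKR hER hEK hKV
    have hZK : ⁅K, E⁆ ≤ K := helper1.commutator_le_of_le_normalizer hEK
    have h3 : ⁅K, E⁆ = ⊥ := le_bot_iff.mp (hRK ▸ le_inf (h1.trans hRc) hZK)
    have hKE : K ≤ centralizer (E : Set X) := Subgroup.commutator_eq_bot_iff_le_centralizer.mp h3
    apply hfin
    intro d hd
    have hdo : (orderOf d).Coprime p :=
      Nat.Coprime.coprime_dvd_left (Subgroup.orderOf_dvd_natCard K hd) hK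
    have h4 := helper54.thompson_AxB E hE d hdo
      (fun x hx => ((Subgroup.mem_centralizer_iff.mp (hKE hd)) x hx).symm) R hR hER (hKR hd)
      (fun q hq hqE => by
        have : q ∈ centralizer (K : Set X) :=
          hcent ⟨hq, Subgroup.mem_centralizer_iff.mpr (fun x hx => (hqE x hx))⟩
        exact (Subgroup.mem_centralizer_iff.mp this) d hd)
    rw [Subgroup.mem_centralizer_iff]
    intro r hr
    exact (h4 r hr).symm

end Quadratic

end Cfsg.Agent.Lib.helper29
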