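import Mathlib
import Cfsg.Agent.Lib.helper29.PCons
import Cfsg.Agent.Lib.helper14.PConstrained
import Cfsg.Agent.Lib.helper14.PConstrained2

/-!
`p'`-subgroups normalized by an abelian `p`-subgroup `E` containing every `p`-element of its
centralizer lie in `O_{p'}(H)` when `H` is `p`-constrained (`p` odd, or Sylow `2`-subgroups of
class at most two).
-/

set_option autoImplicit false
open scoped commutatorElement

namespace Cfsg.Agent.Lib.helper29

open Subgroup

section LemmaI

variable {H : Type*} [Group H] [Finite H] {p : ℕ} [Fact p.Prime]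

/-- In the quotient by a normal `p'`-subgroup, the `p`-elements centralizing the image of `E`
lie in the image of `E`, if `E` contains the `p`-elements of its centralizer. -/
theorem mem_map_of_pElement_centralizer (N : Subgroup H) [N.Normal] (hN : (Nat.card N).Coprime p)
    (E : Subgroup H) (hE : IsPGroup p E)
    (hEfull : ∀ x ∈ centralizer (E : Set H), IsPGroup p (zpowers x) → x ∈ E)
    (y : H ⧸ N)
    (hy : y ∈ centralizer ((E.map (QuotientGroup.mk' N) : Subgroup (H ⧸ N)) : Set (H ⧸ N)))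
    (a : ℕ) (hya : y ^ (p ^ a) = 1) : y ∈ E.map (QuotientGroup.mk' N) := by
  rw [← helper14.map_centralizer_of_coprime N hN E hE] at hy
  obtain ⟨c, hc, rfl⟩ := hy
  have hcN : c ^ (p ^ a) ∈ N := by
    rw [← QuotientGroup.eq_one_iff]
    exact hya
  have hcop : Nat.gcd (p ^ a) (Nat.card N) = 1 := Nat.Coprime.pow_left a hN.symm
  have hbez : (1 : ℤ) = ((p ^ a : ℕ) : ℤ) * Nat.gcdA (p ^ a) (Nat.card N) +
      ((Nat.card N : ℕ) : ℤ) * Nat.gcdB (p ^ a) (Nat.card N) := by
    have := Nat.gcd_eq_gcd_ab (p ^ a) (Nat.card N)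
    rw [hcop] at this
    exact_mod_cast this
  have h1 : (c ^ (p ^ a)) ^ (Nat.card N) = 1 := by
    have h := pow_card_eq_one' (G := N) (x := ⟨c ^ (p ^ a), hcN⟩)
    exact congrArg Subtype.val h
  have hc₁c : (c ^ (Nat.card N)) ^ (Nat.gcdB (p ^ a) (Nat.card N)) ∈ centralizer (E : Set H) :=
    zpow_mem (pow_mem hc _) _
  have hc₁p : ((c ^ (Nat.card N)) ^ (Nat.gcdB (p ^ a) (Nat.card N))) ^ (p ^ a) = 1 := by
    rw [← zpow_natCast c (Nat.card N), ← zpow_mul, ← zpow_natCast _ (p ^ a), ← zpow_mul,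
      mul_comm, ← mul_assoc, zpow_mul, zpow_mul, zpow_natCast, zpow_natCast, h1, one_zpow]
  have hc₁pg : IsPGroup p (zpowers ((c ^ (Nat.card N)) ^ (Nat.gcdB (p ^ a) (Nat.card N)))) := by
    intro g
    obtain ⟨k, hk⟩ := Subgroup.mem_zpowers_iff.mp g.2
    refine ⟨a, Subtype.ext ?_⟩
    rw [Subgroup.coe_pow, ← hk, ← zpow_natCast, ← zpow_mul, mul_comm, zpow_mul, zpow_natCast,
      hc₁p, one_zpow]
    rfl
  have hc₁E := hEfull _ hc₁c hc₁pg
  refine ⟨_, hc₁E, ?_⟩
  have hsplit : c = (c ^ (p ^ a)) ^ (Nat.gcdA (p ^ a) (Nat.card N)) *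
      (c ^ (Nat.card N)) ^ (Nat.gcdB (p ^ a) (Nat.card N)) := by
    rw [← zpow_natCast c (p ^ a), ← zpow_natCast c (Nat.card N), ← zpow_mul, ← zpow_mul, ← zpow_add,
      ← hbez, zpow_one]
  have hker : (QuotientGroup.mk' N) ((c ^ (p ^ a)) ^ (Nat.gcdA (p ^ a) (Nat.card N))) = 1 := by
    rw [QuotientGroup.mk'_apply, QuotientGroup.eq_one_iff]
    exact zpow_mem hcN _
  conv_rhs => rw [hsplit]
  rw [map_mul, hker, one_mul]

/-- Every `p`-subgroup of the quotient by a normal `p'`-subgroup is the image of a `p`-subgroup. -/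
theorem exists_pSubgroup_map_ge (N : Subgroup H) [N.Normal]
    (S : Subgroup (H ⧸ N)) (hS : IsPGroup p S) :
    ∃ T : Subgroup H, IsPGroup p T ∧ S ≤ T.map (QuotientGroup.mk' N) := by
  have hNM : N ≤ S.comap (QuotientGroup.mk' N) := helper14.le_comap_mk'_self N S
  have hmap : (S.comap (QuotientGroup.mk' N)).map (QuotientGroup.mk' N) = S :=
    Subgroup.map_comap_eq_self_of_surjective (QuotientGroup.mk'_surjective N) S
  obtain ⟨k, hk⟩ := IsPGroup.iff_card.mp hS
  have hrel : N.relIndex (S.comap (QuotientGroup.mk' N)) = p ^ k := by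
    have h1 : ((⊥ : Subgroup (H ⧸ N)).comap (QuotientGroup.mk' N)).relIndex
        (S.comap (QuotientGroup.mk' N)) = p ^ k := by
      rw [Subgroup.relIndex_comap, hmap, Subgroup.relIndex_bot_left, hk]
    have h0 : (⊥ : Subgroup (H ⧸ N)).comap (QuotientGroup.mk' N) = N := by
      rw [MonoidHom.comap_bot, QuotientGroup.ker_mk']
    rw [h0] at h1
    exact h1
  obtain ⟨P⟩ : Nonempty (Sylow p ↥(S.comap (QuotientGroup.mk' N))) := inferInstance
  refine ⟨(P : Subgroup ↥(S.comap (QuotientGroup.mk' N))).map (S.comap (QuotientGroup.mk' N)).subtype,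
    P.isPGroup'.map _, ?_⟩
  have h2 := helper14.le_sup_sylow_of_relIndex N _ hNM ⟨k, hrel⟩ P
  have h3 := Subgroup.map_mono (f := QuotientGroup.mk' N) h2
  rw [hmap, Subgroup.map_sup] at h3
  have h4 : N.map (QuotientGroup.mk' N) = ⊥ := by
    rw [Subgroup.map_eq_bot_iff, QuotientGroup.ker_mk']
  rw [h4, bot_sup_eq] at h3
  exact h3

/-- **Invariant `p'`-subgroups lie in `O_{p'}`.** `H` is `p`-constrained, `E` a `p`-subgroup
containing every `p`-element of `C_H(E)`, and `K` a `p'`-subgroup normalized by `E`; `p` is odd or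
the `p`-subgroups of `H` have class at most two. Then `K ≤ O_{p'}(H)`. -/
theorem le_pPrimeCore_of_invariant (hcons : Cfsg.IsPConstrained p H) (E K : Subgroup H)
    (hE : IsPGroup p E)
    (hEfull : ∀ x ∈ centralizer (E : Set H), IsPGroup p (zpowers x) → x ∈ E)
    (hK : (Nat.card K).Coprime p) (hEK : E ≤ normalizer (K : Set H))
    (h2 : p ≠ 2 ∨ ∀ T : Subgroup H, IsPGroup p T → ⁅⁅T, T⁆, T⁆ = ⊥) :
    K ≤ Cfsg.pPrimeCore p H := by
  have hNn : (Cfsg.pPrimeCore p H).Normal := helper40.pPrimeCore_normal' p H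
  have hN : (Nat.card (Cfsg.pPrimeCore p H)).Coprime p := helper40.pPrimeCore_card_coprime p H
  have hconsQ : Cfsg.IsPConstrained p (H ⧸ Cfsg.pPrimeCore p H) :=
    helper14.isPConstrained_iff_quotient.mp hcons
  have hRc : centralizer (Cfsg.pCore p (H ⧸ Cfsg.pPrimeCore p H) : Set (H ⧸ Cfsg.pPrimeCore p H)) ≤
      Cfsg.pCore p (H ⧸ Cfsg.pPrimeCore p H) :=
    (helper14.isPConstrained_iff_of_pPrimeCore_eq_bot p
      (helper14.pPrimeCore_quotient_pPrimeCore p)).mp hconsQ
  have hRn : (Cfsg.pCore p (H ⧸ Cfsg.pPrimeCore p H)).Normal := helper40.pCore_normal' p _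
  have hR : IsPGroup p (Cfsg.pCore p (H ⧸ Cfsg.pPrimeCore p H)) := helper40.pCore_isPGroup p _
  have hEbar : IsPGroup p (E.map (QuotientGroup.mk' (Cfsg.pPrimeCore p H))) := hE.map _
  have hKbar : (Nat.card (K.map (QuotientGroup.mk' (Cfsg.pPrimeCore p H)))).Coprime p :=
    Nat.Coprime.coprime_dvd_left (Subgroup.card_map_dvd _ _) hK
  have hEKbar : E.map (QuotientGroup.mk' (Cfsg.pPrimeCore p H)) ≤
      normalizer ((K.map (QuotientGroup.mk' (Cfsg.pPrimeCore p H)) : Subgroup _) : Set _) :=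
    (Subgroup.map_mono hEK).trans (Subgroup.le_normalizer_map _)
  have hRE : Cfsg.pCore p (H ⧸ Cfsg.pPrimeCore p H) ⊓
      centralizer ((E.map (QuotientGroup.mk' (Cfsg.pPrimeCore p H)) : Subgroup _) : Set _) ≤
      E.map (QuotientGroup.mk' (Cfsg.pPrimeCore p H)) := by
    intro y hy
    obtain ⟨a, ha⟩ := hR ⟨y, hy.1⟩
    have ha' : y ^ (p ^ a) = 1 := congrArg Subtype.val ha
    exact mem_map_of_pElement_centralizer _ hN E hE hEfull y hy.2 a ha'
  have hq : p ≠ 2 ∨ ⁅⁅Cfsg.pCore p (H ⧸ Cfsg.pPrimeCore p H),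
      E.map (QuotientGroup.mk' (Cfsg.pPrimeCore p H))⁆,
      E.map (QuotientGroup.mk' (Cfsg.pPrimeCore p H))⁆ = ⊥ := by
    rcases h2 with h | h
    · exact Or.inl h
    · right
      have hS : IsPGroup p (Cfsg.pCore p (H ⧸ Cfsg.pPrimeCore p H) ⊔
          E.map (QuotientGroup.mk' (Cfsg.pPrimeCore p H)) : Subgroup _) :=
        IsPGroup.to_sup_of_normal_left hR hEbar
      obtain ⟨T, hT, hST⟩ := exists_pSubgroup_map_ge _ _ hS
      have h3 : ⁅⁅T.map (QuotientGroup.mk' (Cfsg.pPrimeCore p H)),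
          T.map (QuotientGroup.mk' (Cfsg.pPrimeCore p H))⁆,
          T.map (QuotientGroup.mk' (Cfsg.pPrimeCore p H))⁆ = ⊥ := by
        rw [← Subgroup.map_commutator, ← Subgroup.map_commutator, h T hT, Subgroup.map_bot]
      exact le_bot_iff.mp (h3 ▸ Subgroup.commutator_mono
        (Subgroup.commutator_mono (le_sup_left.trans hST) (le_sup_right.trans hST))
        (le_sup_right.trans hST))
  have hKb : K.map (QuotientGroup.mk' (Cfsg.pPrimeCore p H)) = ⊥ :=
    eq_bot_of_invariant_pPrime _ _ _ hR hRc hEbar hKbar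
      (by rw [Subgroup.normalizer_eq_top]; exact le_top)
      (by rw [Subgroup.normalizer_eq_top]; exact le_top) hEKbar hRE hq
  have h5 := (Subgroup.map_eq_bot_iff _).mp hKb
  rwa [QuotientGroup.ker_mk'] at h5

end LemmaI

section LemmaI'

variable {G : Type*} [Group G] [Finite G] {p : ℕ} [Fact p.Prime]

/-- The subgroup form of `le_pPrimeCore_of_invariant`: for a `p`-constrained subgroup `H` of `G`
containing `E` and the `E`-invariant `p'`-subgroup `K`. -/
theorem le_map_pPrimeCore_of_invariant (H : Subgroup G) (hcons : Cfsg.IsPConstrained p ↥H)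
    (E K : Subgroup G) (hEH : E ≤ H) (hKH : K ≤ H) (hE : IsPGroup p E)
    (hEfull : ∀ x ∈ centralizer (E : Set G), IsPGroup p (zpowers x) → x ∈ E)
    (hK : (Nat.card K).Coprime p) (hEK : E ≤ normalizer (K : Set G))
    (h2 : p ≠ 2 ∨ ∀ T : Subgroup G, IsPGroup p T → ⁅⁅T, T⁆, T⁆ = ⊥) :
    K ≤ (Cfsg.pPrimeCore p ↥H).map H.subtype := by
  have h := le_pPrimeCore_of_invariant hcons (E.subgroupOf H) (K.subgroupOf H) (hE.comap_subtype)
    ?_ ?_ ?_ ?_
  · rw [← Subgroup.map_subgroupOf_eq_of_le hKH]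
    exact Subgroup.map_mono h
  · intro x hx hxp
    rw [Subgroup.mem_subgroupOf]
    apply hEfull
    · rw [Subgroup.mem_centralizer_iff]
      intro e he
      have := (Subgroup.mem_centralizer_iff.mp hx) ⟨e, hEH he⟩
        (by rw [SetLike.mem_coe, Subgroup.mem_subgroupOf]; exact he)
      exact congrArg Subtype.val this
    · have h1 : zpowers (x : G) = (zpowers x).map H.subtype := by
        rw [MonoidHom.map_zpowers]
        rfl
      rw [h1]
      exact hxp.map _
  · rw [Nat.card_congr (Subgroup.subgroupOfEquivOfLe hKH).toEquiv]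
    exact hK
  · intro e he
    rw [Subgroup.mem_subgroupOf] at he
    rw [Subgroup.mem_normalizer_iff]
    intro k
    simp only [Subgroup.mem_subgroupOf]
    exact Subgroup.mem_normalizer_iff.mp (hEK he) k
  · rcases h2 with h | h
    · exact Or.inl h
    · right
      intro T hT
      have h3 := h (T.map H.subtype) (hT.map _)
      rw [← Subgroup.map_commutator, ← Subgroup.map_commutator] at h3
      exact (Subgroup.map_eq_bot_iff_of_injective _ H.subtype_injective).mp h3

/-- If the abelian `p`-subgroup `E` contains every `p`-element of `C_G(E)`, then every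
`p'`-element of `C_G(E)` lies in `O_{p'}(C_G(E))`. -/
theorem mem_piCoreOf_centralizer_of_coprime (E : Subgroup G) (hE : IsPGroup p E)
    (hEc : ∀ a ∈ E, ∀ b ∈ E, a * b = b * a)
    (hEfull : ∀ x ∈ centralizer (E : Set G), IsPGroup p (zpowers x) → x ∈ E)
    (c : G) (hc : c ∈ centralizer (E : Set G)) (hco : (orderOf c).Coprime p) :
    c ∈ Cfsg.piCoreOf (Cfsg.primesNotDvd p) (centralizer (E : Set G)) := by
  have hEC : E ≤ centralizer (E : Set G) := by
    intro a ha
    rw [Subgroup.mem_centralizer_iff]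
    intro b hb
    exact hEc b hb a ha
  obtain ⟨P, hP⟩ := (hE.comap_subtype (K := centralizer (E : Set G))).exists_le_sylow
  have hPE : (P : Subgroup ↥(centralizer (E : Set G))) = E.subgroupOf (centralizer (E : Set G)) := by
    refine le_antisymm ?_ hP
    intro x hx
    rw [Subgroup.mem_subgroupOf]
    apply hEfull _ x.2
    have h1 : zpowers (x : G) = (zpowers x).map (centralizer (E : Set G)).subtype := by
      rw [MonoidHom.map_zpowers]
      rfl
    rw [h1]
    exact (P.isPGroup'.to_le ((Subgroup.zpowers_le).mpr hx)).map _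
  have hPc : (normalizer ((P : Subgroup ↥(centralizer (E : Set G))) : Set ↥(centralizer (E : Set G))))
      ≤ centralizer ((P : Subgroup ↥(centralizer (E : Set G))) : Set ↥(centralizer (E : Set G))) := by
    intro x _
    rw [Subgroup.mem_centralizer_iff]
    intro y hy
    rw [SetLike.mem_coe, hPE, Subgroup.mem_subgroupOf] at hy
    apply Subtype.ext
    exact (Subgroup.mem_centralizer_iff.mp x.2) y.1 hy
  have hker := MonoidHom.not_dvd_card_ker_transferSylow P hPc
  have hcmem : (⟨c, hc⟩ : ↥(centralizer (E : Set G))) ∈ (MonoidHom.transferSylow P hPc).ker := by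
    rw [MonoidHom.mem_ker]
    set z := MonoidHom.transferSylow P hPc ⟨c, hc⟩ with hz
    have h1 : orderOf z ∣ orderOf (⟨c, hc⟩ : ↥(centralizer (E : Set G))) := orderOf_map_dvd _ _
    have h2 : orderOf (⟨c, hc⟩ : ↥(centralizer (E : Set G))) = orderOf c :=
      Subgroup.orderOf_mk _ _
    rw [h2] at h1
    obtain ⟨k, hk⟩ := P.isPGroup' z
    have h3 : orderOf z ∣ p ^ k := orderOf_dvd_of_pow_eq_one hk
    have h4 : (orderOf z).Coprime (p ^ k) :=
      Nat.Coprime.pow_right k (Nat.Coprime.coprime_dvd_left h1 hco)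
    have h5 : orderOf z = 1 := Nat.eq_one_of_dvd_coprimes h4 dvd_rfl h3
    exact orderOf_eq_one_iff.mp h5
  have hle : (MonoidHom.transferSylow P hPc).ker ≤
      Cfsg.piCore (Cfsg.primesNotDvd p) ↥(centralizer (E : Set G)) := by
    apply le_sSup
    refine ⟨inferInstance, ?_⟩
    intro r hr hdvd
    refine ⟨hr, fun hrp => hker ?_⟩
    have hrp' : r = p := (Nat.prime_dvd_prime_iff_eq hr (Fact.out : p.Prime)).mp hrp
    exact hrp' ▸ hdvd
  exact Subgroup.mem_map.mpr ⟨⟨c, hc⟩, hle hcmem, rfl⟩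

end LemmaI'

end Cfsg.Agent.Lib.helper29
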