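import Mathlib
import Cfsg.Prelude.Def_OddOrderLocal
import Cfsg.Prelude.Def_Local
import Cfsg.Agent.Lib.helper29.PCons2
import Cfsg.Agent.Lib.helper29.Trans2
import Cfsg.Agent.Lib.helper37.CoprimeGen
import Cfsg.Agent.Lib.helper1.SZ

/-!
Thompson transitivity, the `p`-constrained form (Gorenstein 8.5.4): if the normalizers of the
nontrivial `p`-subgroups are `p`-constrained and `E` is an abelian `p`-subgroup of rank at least
three containing every `p`-element of `C_G(E)`, then `O_{p'}(C_G(E))` is transitive on the maximal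
`E`-invariant `q`-subgroups.
-/

set_option autoImplicit false
open Cfsg
open Pointwise
open scoped commutatorElement

namespace Cfsg.Agent.Lib.helper29

section Trans4

variable {G : Type*} [Group G] [Finite G] {p : ℕ} [Fact p.Prime]

omit [Finite G] [Fact p.Prime] in
theorem le_normalizer_map_pPrimeCore (H : Subgroup G) :
    H ≤ Subgroup.normalizer (((pPrimeCore p ↥H).map H.subtype : Subgroup G) : Set G) := by
  rw [Subgroup.le_normalizer_iff]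
  intro x hx y hy
  obtain ⟨y', hy', rfl⟩ := Subgroup.mem_map.mp hy
  refine Subgroup.mem_map.mpr ⟨⟨x, hx⟩ * y' * ⟨x, hx⟩⁻¹, ?_, rfl⟩
  exact (helper40.pPrimeCore_normal' p ↥H).conj_mem y' hy' ⟨x, hx⟩

omit [Fact p.Prime] in
theorem card_map_pPrimeCore_coprime (H : Subgroup G) :
    (Nat.card ((pPrimeCore p ↥H).map H.subtype : Subgroup G)).Coprime p := by
  rw [Subgroup.card_subtype]
  exact helper40.pPrimeCore_card_coprime p ↥H

/-- A `q`-group `R` acted on by the elementary abelian `p`-group `E₁` and not contained in `D`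
has a hyperplane of `E₁` whose centralizer in `R` is not contained in `D`. -/
theorem exists_hyperplane_not_le {q : ℕ} [Fact q.Prime] (hpq : p ≠ q) {E₁ R D : Subgroup G}
    (hE₁c : ∀ a ∈ E₁, ∀ b ∈ E₁, a * b = b * a) (hE₁p : ∀ a ∈ E₁, a ^ p = 1)
    (hRq : IsPGroup q R) (hER : E₁ ≤ Subgroup.normalizer (R : Set G)) (hDR : ¬ R ≤ D) :
    ∃ B : Subgroup G, B ≤ E₁ ∧ B.relIndex E₁ ≤ p ∧ ¬ R ⊓ Subgroup.centralizer (B : Set G) ≤ D := by
  by_contra hcon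
  push Not at hcon
  apply hDR
  refine (helper37.qgroup_le_iSup_centralizer p q hpq E₁ R hE₁c hE₁p hRq hER).trans ?_
  exact iSup_le (fun B => hcon B.1 B.2.1 B.2.2)

/-- The common step: two `E`-invariant `q`-subgroups `R₁`, `R₂` normalizing and properly
containing the `E`-invariant `q`-subgroup `D` contain `E`-invariant subgroups `U₁`, `U₂` properly
containing `D` which lie in maximal `E`-invariant `q`-subgroups `T₁`, `T₂` such that `U₂` also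
lies in a conjugate of `T₁` under `O_{p'}(C_G(E))`. -/
theorem exists_common_sylow_pConstrained
    (hloc : ∀ T : Subgroup G, IsPGroup p T → T ≠ ⊥ →
      IsPConstrained p ↥(Subgroup.normalizer (T : Set G)))
    (h2 : p ≠ 2 ∨ ∀ T : Subgroup G, IsPGroup p T → ⁅⁅T, T⁆, T⁆ = ⊥)
    {E : Subgroup G} (hEp : IsPGroup p E) (hEc : ∀ a ∈ E, ∀ b ∈ E, a * b = b * a)
    {E₁ : Subgroup G} (hE₁E : E₁ ≤ E) (hE₁p : ∀ a ∈ E₁, a ^ p = 1) (hE₁card : p ^ 2 < Nat.card E₁)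
    (hEfull : ∀ x ∈ Subgroup.centralizer (E : Set G), IsPGroup p (Subgroup.zpowers x) → x ∈ E)
    {q : ℕ} [hq : Fact q.Prime] (hqp : q ≠ p) {D R₁ R₂ : Subgroup G}
    (hD : D ∈ invSubgroups ⊤ E {q}) (h₁ : R₁ ∈ invSubgroups ⊤ E {q})
    (h₂ : R₂ ∈ invSubgroups ⊤ E {q}) (hDR₁ : D ≤ R₁) (hDR₂ : D ≤ R₂)
    (hD₁ : ¬ R₁ ≤ D) (hD₂ : ¬ R₂ ≤ D)
    (h₁N : R₁ ≤ Subgroup.normalizer (D : Set G)) (h₂N : R₂ ≤ Subgroup.normalizer (D : Set G)) :
    ∃ T₁ ∈ maxInvSubgroups ⊤ E {q}, ∃ T₂ ∈ maxInvSubgroups ⊤ E {q},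
      ∃ c ∈ piCoreOf (primesNotDvd p) (Subgroup.centralizer (E : Set G)),
      ∃ U₁ U₂ : Subgroup G, D ≤ U₁ ∧ D ≤ U₂ ∧ ¬ U₁ ≤ D ∧ ¬ U₂ ≤ D ∧ U₁ ≤ R₁ ∧ U₂ ≤ R₂ ∧
        U₁ ≤ T₁ ∧ U₂ ≤ T₂ ∧ U₂ ≤ MulAut.conj c • T₁ := by
  have hp : p.Prime := Fact.out
  obtain ⟨hDq, hDE⟩ := (mem_invSubgroups_top hq.out).mp hD
  obtain ⟨hR₁q, hR₁E⟩ := (mem_invSubgroups_top hq.out).mp h₁
  obtain ⟨hR₂q, hR₂E⟩ := (mem_invSubgroups_top hq.out).mp h₂
  have hE₁c : ∀ a ∈ E₁, ∀ b ∈ E₁, a * b = b * a := fun a ha b hb => hEc a (hE₁E ha) b (hE₁E hb)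
  obtain ⟨B₁, hB₁E, hB₁i, hB₁R⟩ := exists_hyperplane_not_le (Ne.symm hqp) hE₁c hE₁p hR₁q
    (hE₁E.trans hR₁E) hD₁
  obtain ⟨B₂, hB₂E, hB₂i, hB₂R⟩ := exists_hyperplane_not_le (Ne.symm hqp) hE₁c hE₁p hR₂q
    (hE₁E.trans hR₂E) hD₂
  have hB : B₁ ⊓ B₂ ≠ ⊥ := by
    intro hbot
    have h3 : (B₁ ⊓ B₂).relIndex E₁ ≤ p * p :=
      Subgroup.relIndex_inf_le.trans (Nat.mul_le_mul hB₁i hB₂i)
    rw [hbot, Subgroup.relIndex_bot_left] at h3
    nlinarith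
  obtain ⟨a, ha, ha1⟩ := exists_ne_one_of_ne_bot hB
  have haE : a ∈ E := hE₁E (hB₁E ha.1)
  have hTE : Subgroup.zpowers a ≤ E := (Subgroup.zpowers_le).mpr haE
  have hTp : IsPGroup p (Subgroup.zpowers a) := hEp.to_le hTE
  have hTne : Subgroup.zpowers a ≠ ⊥ := (Subgroup.zpowers_ne_bot).mpr ha1
  have hcons := hloc _ hTp hTne
  -- `E` lies in `H = N(⟨a⟩)`
  have hEcen : ∀ B : Subgroup G, B ≤ E → E ≤ Subgroup.centralizer (B : Set G) := by
    intro B hBE e he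
    rw [Subgroup.mem_centralizer_iff]
    intro b hb
    exact hEc b (hBE hb) e he
  have hEH : E ≤ Subgroup.normalizer ((Subgroup.zpowers a : Subgroup G) : Set G) :=
    (hEcen _ hTE).trans (Subgroup.centralizer_le_normalizer _)
  have hqcop : ∀ X : Subgroup G, IsPGroup q X → (Nat.card X).Coprime p := by
    intro X hX
    obtain ⟨k, hk⟩ := IsPGroup.iff_card.mp hX
    rw [hk]
    exact Nat.Coprime.pow_left k ((Nat.coprime_primes hq.out hp).mpr hqp)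
  -- the centralizers of the hyperplanes in `R₁`, `R₂` lie in `O_{p'}(H)`
  have hXL : ∀ (B R : Subgroup G), B ≤ E₁ → a ∈ B → IsPGroup q R →
      E ≤ Subgroup.normalizer (R : Set G) →
      R ⊓ Subgroup.centralizer (B : Set G) ≤
        (pPrimeCore p ↥(Subgroup.normalizer ((Subgroup.zpowers a : Subgroup G) : Set G))).map
          (Subgroup.normalizer ((Subgroup.zpowers a : Subgroup G) : Set G)).subtype ∧
      E ≤ Subgroup.normalizer ((R ⊓ Subgroup.centralizer (B : Set G) : Subgroup G) : Set G) := by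
    intro B R hBE₁ haB hRq hER
    have hinv : E ≤ Subgroup.normalizer ((R ⊓ Subgroup.centralizer (B : Set G) : Subgroup G) : Set G) :=
      le_normalizer_inf' hER ((hEcen B (hBE₁.trans hE₁E)).trans Subgroup.le_normalizer)
    refine ⟨?_, hinv⟩
    refine le_map_pPrimeCore_of_invariant _ hcons E _ hEH ?_ hEp hEfull
      (hqcop _ (hRq.to_le inf_le_left)) hinv h2
    refine inf_le_right.trans ((Subgroup.centralizer_le ?_).trans
      (Subgroup.centralizer_le_normalizer _))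
    exact (Subgroup.zpowers_le).mpr haB
  obtain ⟨hX₁L, hX₁E⟩ := hXL B₁ R₁ hB₁E ha.1 hR₁q hR₁E
  obtain ⟨hX₂L, hX₂E⟩ := hXL B₂ R₂ hB₂E ha.2 hR₂q hR₂E
  set L := (pPrimeCore p ↥(Subgroup.normalizer ((Subgroup.zpowers a : Subgroup G) : Set G))).map
      (Subgroup.normalizer ((Subgroup.zpowers a : Subgroup G) : Set G)).subtype with hL
  have hLcop : (Nat.card L).Coprime p := card_map_pPrimeCore_coprime _
  have hEL : E ≤ Subgroup.normalizer (L : Set G) := hEH.trans (le_normalizer_map_pPrimeCore _)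
  have hEND : E ≤ Subgroup.normalizer
      ((Subgroup.normalizer (D : Set G) : Subgroup G) : Set G) := hDE.trans Subgroup.le_normalizer
  have hEK₀ : E ≤ Subgroup.normalizer ((L ⊓ Subgroup.normalizer (D : Set G) : Subgroup G) : Set G) :=
    le_normalizer_inf' hEL hEND
  have hcop : (Nat.card E).Coprime (Nat.card (L ⊓ Subgroup.normalizer (D : Set G) : Subgroup G)) := by
    obtain ⟨k, hk⟩ := IsPGroup.iff_card.mp hEp
    rw [hk]
    exact Nat.Coprime.pow_left k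
      (Nat.Coprime.coprime_dvd_left (Subgroup.card_dvd_of_le inf_le_left) hLcop).symm
  have hEsolv : Group.IsSolvable E := by
    have := hEp.isNilpotent
    infer_instance
  have hX₁K : R₁ ⊓ Subgroup.centralizer (B₁ : Set G) ≤ L ⊓ Subgroup.normalizer (D : Set G) :=
    le_inf hX₁L (inf_le_left.trans h₁N)
  have hX₂K : R₂ ⊓ Subgroup.centralizer (B₂ : Set G) ≤ L ⊓ Subgroup.normalizer (D : Set G) :=
    le_inf hX₂L (inf_le_left.trans h₂N)
  obtain ⟨S₁, hXS₁, hES₁⟩ := helper1.exists_invariant_sylow_ge (p := q) E _ hEK₀ hcop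
    (Or.inl hEsolv) _ hX₁K (hR₁q.to_le inf_le_left) hX₁E
  obtain ⟨S₂, hXS₂, hES₂⟩ := helper1.exists_invariant_sylow_ge (p := q) E _ hEK₀ hcop
    (Or.inl hEsolv) _ hX₂K (hR₂q.to_le inf_le_left) hX₂E
  obtain ⟨c, hc, hcS⟩ := helper1.invariant_sylow_conj E _ hEK₀ hcop (Or.inl hEsolv)
    S₁ S₂ hES₁ hES₂
  have hcK : c ∈ piCoreOf (primesNotDvd p) (Subgroup.centralizer (E : Set G)) := by
    refine mem_piCoreOf_centralizer_of_coprime E hEp hEc hEfull c hc.2 ?_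
    exact Nat.Coprime.coprime_dvd_left (Subgroup.orderOf_dvd_natCard L hc.1.1) hLcop
  have hS₁N : (S₁ : Subgroup ↥(L ⊓ Subgroup.normalizer (D : Set G))).map
      (L ⊓ Subgroup.normalizer (D : Set G)).subtype ≤ Subgroup.normalizer (D : Set G) :=
    (Subgroup.map_subtype_le _).trans inf_le_right
  have hS₂N : (S₂ : Subgroup ↥(L ⊓ Subgroup.normalizer (D : Set G))).map
      (L ⊓ Subgroup.normalizer (D : Set G)).subtype ≤ Subgroup.normalizer (D : Set G) :=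
    (Subgroup.map_subtype_le _).trans inf_le_right
  have hV₁inv : (S₁ : Subgroup ↥(L ⊓ Subgroup.normalizer (D : Set G))).map
      (L ⊓ Subgroup.normalizer (D : Set G)).subtype ⊔ D ∈ invSubgroups ⊤ E {q} :=
    (mem_invSubgroups_top hq.out).mpr ⟨IsPGroup.to_sup_of_normal_right' (S₁.isPGroup'.map _) hDq hS₁N,
      helper37.le_normalizer_sup E _ _ hES₁ hDE⟩
  have hV₂inv : (S₂ : Subgroup ↥(L ⊓ Subgroup.normalizer (D : Set G))).map
      (L ⊓ Subgroup.normalizer (D : Set G)).subtype ⊔ D ∈ invSubgroups ⊤ E {q} :=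
    (mem_invSubgroups_top hq.out).mpr ⟨IsPGroup.to_sup_of_normal_right' (S₂.isPGroup'.map _) hDq hS₂N,
      helper37.le_normalizer_sup E _ _ hES₂ hDE⟩
  obtain ⟨T₁, hT₁, hVT₁⟩ := exists_maxInv_ge hV₁inv
  obtain ⟨T₂, hT₂, hVT₂⟩ := exists_maxInv_ge hV₂inv
  refine ⟨T₁, hT₁, T₂, hT₂, c, hcK, R₁ ⊓ Subgroup.centralizer (B₁ : Set G) ⊔ D,
    R₂ ⊓ Subgroup.centralizer (B₂ : Set G) ⊔ D, le_sup_right, le_sup_right,
    fun h => hB₁R (le_sup_left.trans h), fun h => hB₂R (le_sup_left.trans h),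
    sup_le inf_le_left hDR₁, sup_le inf_le_left hDR₂,
    (sup_le_sup_right hXS₁ D).trans hVT₁, (sup_le_sup_right hXS₂ D).trans hVT₂, ?_⟩
  have hcD : MulAut.conj c • D = D := helper1.conj_smul_eq_of_mem_normalizer hc.1.2
  have h5 : MulAut.conj c • ((S₁ : Subgroup ↥(L ⊓ Subgroup.normalizer (D : Set G))).map
      (L ⊓ Subgroup.normalizer (D : Set G)).subtype ⊔ D) =
      (S₂ : Subgroup ↥(L ⊓ Subgroup.normalizer (D : Set G))).map
      (L ⊓ Subgroup.normalizer (D : Set G)).subtype ⊔ D := by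
    rw [Subgroup.smul_sup, hcS, hcD]
  refine (sup_le_sup_right hXS₂ D).trans ?_
  rw [← h5]
  exact Subgroup.pointwise_smul_le_pointwise_smul_iff.mpr hVT₁

/-- **Thompson transitivity, `p`-constrained form.** -/
theorem kConj_of_pConstrained
    (hloc : ∀ T : Subgroup G, IsPGroup p T → T ≠ ⊥ →
      IsPConstrained p ↥(Subgroup.normalizer (T : Set G)))
    (h2 : p ≠ 2 ∨ ∀ T : Subgroup G, IsPGroup p T → ⁅⁅T, T⁆, T⁆ = ⊥)
    {E : Subgroup G} (hEp : IsPGroup p E) (hEc : ∀ a ∈ E, ∀ b ∈ E, a * b = b * a)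
    {E₁ : Subgroup G} (hE₁E : E₁ ≤ E) (hE₁p : ∀ a ∈ E₁, a ^ p = 1) (hE₁card : p ^ 2 < Nat.card E₁)
    (hEfull : ∀ x ∈ Subgroup.centralizer (E : Set G), IsPGroup p (Subgroup.zpowers x) → x ∈ E)
    {q : ℕ} [hq : Fact q.Prime] (hqp : q ≠ p) :
    ∀ (n : ℕ) (Q₁ Q₂ : Subgroup G), Q₁ ∈ maxInvSubgroups ⊤ E {q} → Q₂ ∈ maxInvSubgroups ⊤ E {q} →
      Nat.card G - Nat.card ↥(Q₁ ⊓ Q₂) = n →
      KConj (piCoreOf (primesNotDvd p) (Subgroup.centralizer (E : Set G))) Q₁ Q₂ := by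
  intro n
  induction n using Nat.strong_induction_on with
  | _ n ih =>
    intro Q₁ Q₂ hQ₁ hQ₂ hn
    by_cases heq : Q₁ = Q₂
    · rw [heq]; exact KConj.refl _ _
    obtain ⟨hQ₁q, hQ₁E⟩ := (mem_invSubgroups_top hq.out).mp hQ₁.1
    obtain ⟨hQ₂q, hQ₂E⟩ := (mem_invSubgroups_top hq.out).mp hQ₂.1
    have hD₁ : Q₁ ⊓ Q₂ < Q₁ := by
      refine lt_of_le_of_ne inf_le_left (fun h => heq ?_)
      have hle : Q₁ ≤ Q₂ := inf_eq_left.mp h
      exact (hQ₁.2 Q₂ hQ₂.1 hle).symm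
    have hD₂ : Q₁ ⊓ Q₂ < Q₂ := by
      refine lt_of_le_of_ne inf_le_right (fun h => heq ?_)
      have hle : Q₂ ≤ Q₁ := inf_eq_right.mp h
      exact hQ₂.2 Q₁ hQ₁.1 hle
    have hEN : E ≤ Subgroup.normalizer ((Q₁ ⊓ Q₂ : Subgroup G) : Set G) :=
      le_normalizer_inf' hQ₁E hQ₂E
    have hENN : E ≤ Subgroup.normalizer
        ((Subgroup.normalizer ((Q₁ ⊓ Q₂ : Subgroup G) : Set G) : Subgroup G) : Set G) :=
      hEN.trans Subgroup.le_normalizer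
    have hDR₁ := lt_inf_normalizer_of_lt hQ₁q hD₁
    have hDR₂ := lt_inf_normalizer_of_lt hQ₂q hD₂
    have hDinv : Q₁ ⊓ Q₂ ∈ invSubgroups ⊤ E {q} :=
      (mem_invSubgroups_top hq.out).mpr ⟨hQ₁q.to_le inf_le_left, hEN⟩
    have hR₁inv : Q₁ ⊓ Subgroup.normalizer ((Q₁ ⊓ Q₂ : Subgroup G) : Set G) ∈ invSubgroups ⊤ E {q} :=
      (mem_invSubgroups_top hq.out).mpr ⟨hQ₁q.to_le inf_le_left, le_normalizer_inf' hQ₁E hENN⟩
    have hR₂inv : Q₂ ⊓ Subgroup.normalizer ((Q₁ ⊓ Q₂ : Subgroup G) : Set G) ∈ invSubgroups ⊤ E {q} :=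
      (mem_invSubgroups_top hq.out).mpr ⟨hQ₂q.to_le inf_le_left, le_normalizer_inf' hQ₂E hENN⟩
    obtain ⟨T₁, hT₁, T₂, hT₂, c, hcK, U₁, U₂, hDU₁, hDU₂, hU₁D, hU₂D, hUR₁, hUR₂, hUT₁, hUT₂, hUcT₁⟩ :=
      exists_common_sylow_pConstrained hloc h2 hEp hEc hE₁E hE₁p hE₁card hEfull hqp hDinv hR₁inv
        hR₂inv hDR₁.le hDR₂.le (not_le_of_gt hDR₁) (not_le_of_gt hDR₂) inf_le_right inf_le_right
    have hKC := piCoreOf_le (primesNotDvd p) (Subgroup.centralizer (E : Set G))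
    have hcT₁ : MulAut.conj c • T₁ ∈ maxInvSubgroups ⊤ E {q} := conj_mem_maxInvSubgroups (hKC hcK) hT₁
    have key : ∀ P₁ P₂ : Subgroup G, P₁ ∈ maxInvSubgroups ⊤ E {q} → P₂ ∈ maxInvSubgroups ⊤ E {q} →
        Q₁ ⊓ Q₂ < P₁ ⊓ P₂ →
        KConj (piCoreOf (primesNotDvd p) (Subgroup.centralizer (E : Set G))) P₁ P₂ := by
      intro P₁ P₂ hP₁ hP₂ hlt
      have hc1 : Nat.card ↥(Q₁ ⊓ Q₂) < Nat.card ↥(P₁ ⊓ P₂) := card_lt_card_of_lt hlt
      have hc2 : Nat.card ↥(P₁ ⊓ P₂) ≤ Nat.card G := Subgroup.card_le_card_group _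
      refine ih (Nat.card G - Nat.card ↥(P₁ ⊓ P₂)) ?_ P₁ P₂ hP₁ hP₂ rfl
      omega
    have hlt₁ : Q₁ ⊓ Q₂ < U₁ := lt_of_le_not_ge hDU₁ hU₁D
    have hlt₂ : Q₁ ⊓ Q₂ < U₂ := lt_of_le_not_ge hDU₂ hU₂D
    have k1 : KConj _ Q₁ T₁ :=
      key Q₁ T₁ hQ₁ hT₁ (lt_of_lt_of_le hlt₁ (le_inf (hUR₁.trans inf_le_left) hUT₁))
    have k2 : KConj (piCoreOf (primesNotDvd p) (Subgroup.centralizer (E : Set G))) T₁
        (MulAut.conj c • T₁) := ⟨c, hcK, rfl⟩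
    have k3 : KConj _ (MulAut.conj c • T₁) T₂ :=
      key _ T₂ hcT₁ hT₂ (lt_of_lt_of_le hlt₂ (le_inf hUcT₁ hUT₂))
    have k4 : KConj _ T₂ Q₂ :=
      key T₂ Q₂ hT₂ hQ₂ (lt_of_lt_of_le hlt₂ (le_inf hUT₂ (hUR₂.trans inf_le_left)))
    exact ((k1.trans k2).trans k3).trans k4

end Trans4

end Cfsg.Agent.Lib.helper29
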