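import Mathlib
import Cfsg.Prelude.Def_Local
import Cfsg.Agent.Lib.helper1.Hall

/-!
A finite solvable group is `p`-soluble (`Cfsg.IsPSolvable`), and `p`-solubility lifts from a
quotient by a normal `p`-subgroup or `p'`-subgroup.
-/

set_option autoImplicit false

universe u

namespace Cfsg.Agent.Lib.helper29

/-- `p`-solubility lifts from the quotient by a normal subgroup whose order is a power of `p` or
prime to `p`. -/
theorem isPSolvable_of_quotient {G : Type*} [Group G] (p : ℕ) (N : Subgroup G) [N.Normal]
    (hN : (∃ m : ℕ, Nat.card N = p ^ m) ∨ (Nat.card N).Coprime p)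
    (hq : Cfsg.IsPSolvable p (G ⧸ N)) : Cfsg.IsPSolvable p G := by
  obtain ⟨n, H, h0, hlast, hmono, hnorm, hfac⟩ := hq
  have hsurj := QuotientGroup.mk'_surjective N
  refine ⟨n + 1, Fin.cons ⊥ (fun i => (H i).comap (QuotientGroup.mk' N)), ?_, ?_, ?_, ?_, ?_⟩
  · rfl
  · rw [← Fin.succ_last, Fin.cons_succ, hlast, Subgroup.comap_top]
  · intro i j hij
    induction i using Fin.cases with
    | zero => rw [Fin.cons_zero]; exact bot_le
    | succ i =>
      induction j using Fin.cases with
      | zero => exact absurd hij (by simp)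
      | succ j =>
        rw [Fin.cons_succ, Fin.cons_succ]
        exact Subgroup.comap_mono (hmono (Fin.succ_le_succ_iff.mp hij))
  · intro i
    induction i using Fin.cases with
    | zero => rw [Fin.cons_zero]; infer_instance
    | succ i =>
      rw [Fin.cons_succ]
      have := hnorm i
      infer_instance
  · intro i
    induction i using Fin.cases with
    | zero =>
      have e1 : (Fin.cons (⊥ : Subgroup G) (fun i => (H i).comap (QuotientGroup.mk' N)) :
          Fin (n + 1 + 1) → Subgroup G) (Fin.castSucc (0 : Fin (n + 1))) = ⊥ := rfl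
      have e2 : (Fin.cons (⊥ : Subgroup G) (fun i => (H i).comap (QuotientGroup.mk' N)) :
          Fin (n + 1 + 1) → Subgroup G) (Fin.succ (0 : Fin (n + 1))) = N := by
        rw [Fin.cons_succ, h0, MonoidHom.comap_bot, QuotientGroup.ker_mk']
      rw [e1, e2, Subgroup.relIndex_bot_left]
      exact hN
    | succ i =>
      have e1 : (Fin.cons (⊥ : Subgroup G) (fun i => (H i).comap (QuotientGroup.mk' N)) :
          Fin (n + 1 + 1) → Subgroup G) (Fin.castSucc (Fin.succ i)) =
          (H i.castSucc).comap (QuotientGroup.mk' N) := by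
        rw [← Fin.succ_castSucc, Fin.cons_succ]
      have e2 : (Fin.cons (⊥ : Subgroup G) (fun i => (H i).comap (QuotientGroup.mk' N)) :
          Fin (n + 1 + 1) → Subgroup G) (Fin.succ (Fin.succ i)) =
          (H i.succ).comap (QuotientGroup.mk' N) := by
        rw [Fin.cons_succ]
      rw [e1, e2, Subgroup.relIndex_comap, Subgroup.map_comap_eq_self_of_surjective hsurj]
      exact hfac i

theorem isPSolvable_of_isSolvable_aux (p : ℕ) [hp : Fact p.Prime] (n : ℕ) :
    ∀ (G : Type u) [Group G] [Finite G], Nat.card G = n → Group.IsSolvable G →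
      Cfsg.IsPSolvable p G := by
  induction n using Nat.strong_induction_on with
  | _ n ih =>
    intro G _ _ hn hsolv
    rcases subsingleton_or_nontrivial G with hsub | hnt
    · refine ⟨0, fun _ => ⊥, rfl, Subsingleton.elim _ _, fun _ _ _ => le_rfl,
        fun _ => inferInstance, fun i => i.elim0⟩
    · obtain ⟨r, M, hr, hMn, hMne, hMr⟩ := helper1.exists_normal_pgroup (G := G)
      have hrf : Fact r.Prime := ⟨hr⟩
      obtain ⟨k, hk⟩ := IsPGroup.iff_card.mp hMr
      have hMN : (∃ m : ℕ, Nat.card M = p ^ m) ∨ (Nat.card M).Coprime p := by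
        by_cases hrp : r = p
        · exact Or.inl ⟨k, hrp ▸ hk⟩
        · right
          rw [hk]
          exact Nat.Coprime.pow_left k ((Nat.coprime_primes hr hp.out).mpr hrp)
      refine isPSolvable_of_quotient p M hMN ?_
      have hcard : Nat.card (G ⧸ M) * Nat.card M = Nat.card G :=
        (Subgroup.card_eq_card_quotient_mul_card_subgroup M).symm
      have hM1 : 1 < Nat.card M := by
        rcases Nat.lt_or_ge 1 (Nat.card M) with h | h
        · exact h
        · exfalso
          have h1 : Nat.card M = 1 := le_antisymm h Nat.card_pos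
          exact hMne (Subgroup.card_eq_one.mp h1)
      have hpos : 0 < Nat.card (G ⧸ M) := Nat.card_pos
      refine ih (Nat.card (G ⧸ M)) ?_ (G ⧸ M) rfl inferInstance
      rw [← hn, ← hcard]
      nlinarith

/-- A finite solvable group is `p`-soluble. -/
theorem isPSolvable_of_isSolvable {G : Type*} [Group G] [Finite G] (p : ℕ) [Fact p.Prime]
    (h : Group.IsSolvable G) : Cfsg.IsPSolvable p G :=
  isPSolvable_of_isSolvable_aux p _ G rfl h

end Cfsg.Agent.Lib.helper29
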