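import Mathlib
import Cfsg.Agent.Lib.helper29.Basic
import Cfsg.Agent.Lib.helper29.InvAct
import Cfsg.Agent.Lib.helper29.Zipper
import Cfsg.Agent.Lib.helper29.Trans

/-!
Thompson transitivity (Bender–Glauberman 7.5): passing from `A` to a `π(A)`-subgroup `P` in which
`A` is subnormal.
-/

set_option autoImplicit false
open Cfsg
open Pointwise
open scoped commutatorElement

namespace Cfsg.Agent.Lib.helper29

section Trans3

variable {G : Type*} [Group G]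

theorem piCore_characteristic (π : Set ℕ) (X : Type*) [Group X] : (piCore π X).Characteristic := by
  rw [Subgroup.characteristic_iff_map_le]
  intro ϕ
  unfold piCore
  rw [(Subgroup.gc_map_comap ϕ.toMonoidHom).l_sSup]
  apply iSup₂_le
  rintro N ⟨hN, hπ⟩
  apply le_sSup
  refine ⟨Subgroup.Normal.map hN ϕ.toMonoidHom ϕ.surjective, ?_⟩
  intro p hp hd
  apply hπ p hp
  rwa [Nat.card_congr (N.equivMapOfInjective ϕ.toMonoidHom ϕ.injective).toEquiv]

/-- The normalizer of `X` normalizes `O_π(X)`. -/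
theorem normalizer_le_normalizer_piCoreOf (π : Set ℕ) (X : Subgroup G) :
    Subgroup.normalizer (X : Set G) ≤ Subgroup.normalizer ((piCoreOf π X : Subgroup G) : Set G) := by
  haveI := piCore_characteristic π X
  exact Cfsg.Agent.Lib.helper1.normalizer_le_normalizer_map_of_characteristic X (piCore π X)

theorem primesNotDvd_eq_of_same_primes {m n : ℕ} (h : ∀ r : ℕ, r.Prime → (r ∣ m ↔ r ∣ n)) :
    primesNotDvd m = primesNotDvd n := by
  ext r
  unfold primesNotDvd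
  simp only [Set.mem_ofPred_eq]
  constructor
  · rintro ⟨hr, h1⟩; exact ⟨hr, fun h2 => h1 ((h r hr).mpr h2)⟩
  · rintro ⟨hr, h1⟩; exact ⟨hr, fun h2 => h1 ((h r hr).mp h2)⟩

theorem primesNotDvd_card_eq [Finite G] {A P : Subgroup G} (hAP : A ≤ P)
    (hPπ : ∀ r : ℕ, r.Prime → r ∣ Nat.card P → r ∣ Nat.card A) :
    primesNotDvd (Nat.card P) = primesNotDvd (Nat.card A) :=
  primesNotDvd_eq_of_same_primes fun r hr =>
    ⟨hPπ r hr, fun h => h.trans (Subgroup.card_dvd_of_le hAP)⟩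

/-- The transitivity hypothesis passes to `π(A)`-overgroups. -/
theorem th_of_le [Finite G] {A P : Subgroup G} (hA : TransitivityHypothesis A) (hAP : A ≤ P)
    (hP : P ≠ ⊤) (hPπ : ∀ r : ℕ, r.Prime → r ∣ Nat.card P → r ∣ Nat.card A) :
    TransitivityHypothesis P := by
  refine ⟨fun h => hA.1 (eq_bot_iff.mpr (h ▸ hAP)), hP, ?_⟩
  intro X hX hPX
  rw [primesNotDvd_card_eq hAP hPπ]
  apply le_antisymm
  · apply sSup_le
    rintro Y ⟨hYX, hYπ, hPY⟩
    rw [← hA.2.2 X hX (hAP.trans hPX)]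
    exact le_sSup ⟨hYX, hYπ, hAP.trans hPY⟩
  · exact le_sSup ⟨piCoreOf_le _ X, prime_mem_of_dvd_card_piCoreOf _ X,
      hPX.trans (le_normalizer_piCoreOf _ X)⟩

/-- `C_K(P) = O_{π'}(C_G(P))` for `K = O_{π'}(C_G(A))`, `A ≤ P`. -/
theorem piCoreOf_centralizer_inf [Finite G] [IsSimpleGroup G] {A P : Subgroup G}
    (hA : TransitivityHypothesis A) (hAP : A ≤ P) :
    piCoreOf (primesNotDvd (Nat.card A)) (Subgroup.centralizer (A : Set G)) ⊓
        Subgroup.centralizer (P : Set G) =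
      piCoreOf (primesNotDvd (Nat.card A)) (Subgroup.centralizer (P : Set G)) := by
  have hCC : Subgroup.centralizer (P : Set G) ≤ Subgroup.centralizer (A : Set G) :=
    Subgroup.centralizer_le hAP
  apply le_antisymm
  · apply le_piCoreOf inf_le_right
    · apply le_normalizer_inf' (hCC.trans (le_normalizer_piCoreOf _ _)) Subgroup.le_normalizer
    · intro p hp hd
      exact prime_mem_of_dvd_card_piCoreOf _ _ p hp (hd.trans (Subgroup.card_dvd_of_le inf_le_left))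
  · refine le_inf ?_ (piCoreOf_le _ _)
    exact th_le_K hA ((piCoreOf_le _ _).trans hCC)
      (fun p hp hd => (prime_mem_of_dvd_card_piCoreOf _ _ p hp hd).2)

theorem conj_mem_invSubgroups_of_mem_normalizer {A Q : Subgroup G} {π : Set ℕ} {k : G}
    (hk : k ∈ Subgroup.normalizer (A : Set G)) (hQ : Q ∈ invSubgroups ⊤ A π) :
    MulAut.conj k • Q ∈ invSubgroups ⊤ A π := by
  obtain ⟨-, hπ, hn⟩ := hQ
  refine ⟨le_top, ?_, ?_⟩
  · rw [Cfsg.Agent.Lib.helper1.card_conj_smul]; exact hπ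
  · have h1 : MulAut.conj k⁻¹ • A ≤ Subgroup.normalizer (Q : Set G) := by
      rw [Cfsg.Agent.Lib.helper1.conj_smul_eq_of_mem_normalizer (Subgroup.inv_mem _ hk)]
      exact hn
    have h2 := Cfsg.Agent.Lib.helper1.le_normalizer_of_conj_smul_le h1
    rwa [inv_inv] at h2

theorem conj_mem_maxInvSubgroups_of_mem_normalizer {A Q : Subgroup G} {π : Set ℕ} {k : G}
    (hk : k ∈ Subgroup.normalizer (A : Set G)) (hQ : Q ∈ maxInvSubgroups ⊤ A π) :
    MulAut.conj k • Q ∈ maxInvSubgroups ⊤ A π := by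
  refine ⟨conj_mem_invSubgroups_of_mem_normalizer hk hQ.1, ?_⟩
  intro R hR hle
  have hR' : MulAut.conj k⁻¹ • R ∈ invSubgroups ⊤ A π :=
    conj_mem_invSubgroups_of_mem_normalizer (Subgroup.inv_mem _ hk) hR
  have hle' : Q ≤ MulAut.conj k⁻¹ • R := by
    rw [map_inv]
    exact Subgroup.pointwise_smul_subset_iff.mp hle
  have := hQ.2 _ hR' hle'
  rw [← this, map_inv, smul_inv_smul]

/-- A nontrivial maximal `P`-invariant `q`-subgroup is a maximal `A`-invariant `q`-subgroup, for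
`A ≤ P` a `π(A)`-group. -/
theorem maxInv_of_maxInv_of_ne_bot [Finite G] [IsSimpleGroup G]
    (hsolv : ∀ H : Subgroup G, H ≠ ⊤ → Group.IsSolvable H)
    {A : Subgroup G} (hA : TransitivityHypothesis A) {q : ℕ} (hq : q.Prime) (hqA : ¬ q ∣ Nat.card A)
    {P : Subgroup G} (hP : P ≠ ⊤) (hAP : A ≤ P)
    (hPπ : ∀ r : ℕ, r.Prime → r ∣ Nat.card P → r ∣ Nat.card A)
    {Q₁ : Subgroup G} (hQ₁ : Q₁ ∈ maxInvSubgroups ⊤ P {q}) (hne : Q₁ ≠ ⊥) :
    Q₁ ∈ maxInvSubgroups ⊤ A {q} := by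
  have hqf := Fact.mk hq
  obtain ⟨hQ₁q, hQ₁P⟩ := (mem_invSubgroups_top hq).mp hQ₁.1
  have hQ₁A : A ≤ Subgroup.normalizer (Q₁ : Set G) := hAP.trans hQ₁P
  have hQ₁top : Q₁ ≠ ⊤ := by
    intro h
    have hAq : IsPGroup q A := hQ₁q.to_le (h ▸ le_top)
    obtain ⟨n, hn⟩ := IsPGroup.iff_card.mp hAq
    rcases Nat.eq_zero_or_pos n with h0 | h0
    · rw [h0, pow_zero] at hn
      exact hA.1 (Subgroup.card_eq_one.mp hn)
    · exact hqA (hn ▸ dvd_pow_self q h0.ne')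
  have hH : Subgroup.normalizer (Q₁ : Set G) ≠ ⊤ := normalizer_ne_top_of_simple hne hQ₁top
  have hQ₁L : Q₁ ≤ piCoreOf (primesNotDvd (Nat.card A)) (Subgroup.normalizer (Q₁ : Set G)) :=
    th_le_piCoreOf hA hH hQ₁A Subgroup.le_normalizer (prime_not_dvd_of_isPGroup hq hqA hQ₁q) hQ₁A
  have hPL : P ≤ Subgroup.normalizer
      ((piCoreOf (primesNotDvd (Nat.card A)) (Subgroup.normalizer (Q₁ : Set G)) : Subgroup G) : Set G) :=
    hQ₁P.trans (le_normalizer_piCoreOf _ _)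
  have hcop : (Nat.card P).Coprime
      (Nat.card (piCoreOf (primesNotDvd (Nat.card A)) (Subgroup.normalizer (Q₁ : Set G)))) := by
    by_contra h
    obtain ⟨r, hr, hrP, hrL⟩ := Nat.Prime.not_coprime_iff_dvd.mp h
    exact (prime_mem_of_dvd_card_piCoreOf _ _ r hr hrL).2 (hPπ r hr hrP)
  obtain ⟨S, hQ₁S, hPS⟩ := Cfsg.Agent.Lib.helper1.exists_invariant_sylow_ge (p := q) P _ hPL hcop
    (Or.inl (hsolv P hP)) Q₁ hQ₁L hQ₁q hQ₁P
  have hSQ₁ := hQ₁.2 _ ((mem_invSubgroups_top hq).mpr ⟨S.isPGroup'.map _, hPS⟩) hQ₁S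
  have hSn : (S : Subgroup (piCoreOf (primesNotDvd (Nat.card A))
      (Subgroup.normalizer (Q₁ : Set G)))).Normal := by
    have h1 : (S : Subgroup (piCoreOf (primesNotDvd (Nat.card A))
        (Subgroup.normalizer (Q₁ : Set G)))) = Q₁.subgroupOf _ := by
      have aux : ∀ (L : Subgroup G) (T : Subgroup L) (R : Subgroup G),
          T.map L.subtype = R → T = R.subgroupOf L := by
        intro L T R h
        rw [← h, ← Subgroup.comap_subtype,
          Subgroup.comap_map_eq_self_of_injective (Subgroup.subtype_injective _)]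
      exact aux _ _ _ hSQ₁
    rw [h1]
    exact (Subgroup.normal_subgroupOf_iff_le_normalizer hQ₁L).mpr (piCoreOf_le _ _)
  obtain ⟨Q, hQ, hQ₁Q⟩ := exists_maxInv_ge ((mem_invSubgroups_top hq).mpr ⟨hQ₁q, hQ₁A⟩)
  suffices h : Q₁ = Q by rw [h]; exact hQ
  by_contra hne'
  have hlt : Q₁ < Q := lt_of_le_of_ne hQ₁Q hne'
  obtain ⟨hQq, hQA⟩ := (mem_invSubgroups_top hq).mp hQ.1
  have hR := lt_inf_normalizer_of_lt hQq hlt
  have hRL : Q ⊓ Subgroup.normalizer (Q₁ : Set G) ≤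
      piCoreOf (primesNotDvd (Nat.card A)) (Subgroup.normalizer (Q₁ : Set G)) :=
    th_le_piCoreOf hA hH hQ₁A inf_le_right
      (prime_not_dvd_of_isPGroup hq hqA (hQq.to_le inf_le_left))
      (le_normalizer_inf' hQA (hQ₁A.trans Subgroup.le_normalizer))
  have hRQ₁ : Q ⊓ Subgroup.normalizer (Q₁ : Set G) ≤ Q₁ := by
    have hRq : IsPGroup q ((Q ⊓ Subgroup.normalizer (Q₁ : Set G)).subgroupOf
        (piCoreOf (primesNotDvd (Nat.card A)) (Subgroup.normalizer (Q₁ : Set G)))) :=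
      (hQq.to_le inf_le_left).comap_subtype
    obtain ⟨S₂, hS₂⟩ := hRq.exists_le_sylow
    have hS₂S : S₂ = S := by
      haveI := Sylow.unique_of_normal S hSn
      exact Subsingleton.elim _ _
    intro y hy
    have hyL := hRL hy
    have hyS : (⟨y, hyL⟩ : piCoreOf (primesNotDvd (Nat.card A))
        (Subgroup.normalizer (Q₁ : Set G))) ∈ S :=
      hS₂S ▸ hS₂ (Subgroup.mem_subgroupOf.mpr hy)
    rw [← hSQ₁]
    exact Subgroup.mem_map.mpr ⟨⟨y, hyL⟩, hyS, rfl⟩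
  exact absurd hRQ₁ (not_le_of_gt hR)

theorem bot_mem_invSubgroups (A : Subgroup G) (π : Set ℕ) : (⊥ : Subgroup G) ∈ invSubgroups ⊤ A π := by
  refine ⟨le_top, ?_, le_normalizer_of_le_centralizer bot_le⟩
  intro p hp hd
  rw [Subgroup.card_bot] at hd
  exact absurd (Nat.dvd_one.mp hd) hp.one_lt.ne'

/-- Glauberman's lemma for the action on the `K`-orbit of maximal `A`-invariant `q`-subgroups:
existence of a `P`-invariant one. -/
theorem exists_maxInv_invariant [Finite G]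
    (hsolv : ∀ H : Subgroup G, H ≠ ⊤ → Group.IsSolvable H)
    {A P : Subgroup G} {σ : Set ℕ} {q : ℕ} (hP : P ≠ ⊤)
    (hPA : P ≤ Subgroup.normalizer (A : Set G))
    (hcop : (Nat.card P).Coprime (Nat.card (piCoreOf σ (Subgroup.centralizer (A : Set G)))))
    (htr : ∀ Q₁ ∈ maxInvSubgroups ⊤ A {q}, ∀ Q₂ ∈ maxInvSubgroups ⊤ A {q},
      KConj (piCoreOf σ (Subgroup.centralizer (A : Set G))) Q₁ Q₂) :
    ∃ Q ∈ maxInvSubgroups ⊤ A {q}, P ≤ Subgroup.normalizer (Q : Set G) := by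
  obtain ⟨Q, hQ, -⟩ := exists_maxInv_ge (bot_mem_invSubgroups A {q})
  have hKC : piCoreOf σ (Subgroup.centralizer (A : Set G)) ≤ Subgroup.centralizer (A : Set G) :=
    piCoreOf_le _ _
  have hPK : P ≤ Subgroup.normalizer
      ((piCoreOf σ (Subgroup.centralizer (A : Set G)) : Subgroup G) : Set G) :=
    hPA.trans ((normalizer_le_normalizer_centralizer A).trans
      (normalizer_le_normalizer_piCoreOf σ _))
  have hL : ∀ a ∈ P, ∃ k ∈ piCoreOf σ (Subgroup.centralizer (A : Set G)),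
      k * a ∈ Subgroup.normalizer (Q : Set G) := by
    intro a ha
    have haQ : MulAut.conj a • Q ∈ maxInvSubgroups ⊤ A {q} :=
      conj_mem_maxInvSubgroups_of_mem_normalizer (hPA ha) hQ
    obtain ⟨k, hk, hkQ⟩ := htr _ haQ Q hQ
    refine ⟨k, hk, ?_⟩
    apply Cfsg.Agent.Lib.helper1.mem_normalizer_of_conj_smul_eq
    rw [← Cfsg.Agent.Lib.helper1.conj_smul_conj_smul]
    exact hkQ.symm
  obtain ⟨n, hn, hnP⟩ := Cfsg.Agent.Lib.helper1.glauberman_exists P _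
    (Subgroup.normalizer (Q : Set G)) hPK hcop (Or.inl (hsolv P hP)) hL
  exact ⟨MulAut.conj n⁻¹ • Q, conj_mem_maxInvSubgroups (hKC (Subgroup.inv_mem _ hn)) hQ,
    Cfsg.Agent.Lib.helper1.le_normalizer_of_conj_smul_le hnP⟩

/-- Glauberman's lemma for the action on the `K`-orbit of maximal `A`-invariant `q`-subgroups:
`C_K(P)` is transitive on the `P`-invariant ones. -/
theorem kConj_centralizer_of_invariant [Finite G]
    (hsolv : ∀ H : Subgroup G, H ≠ ⊤ → Group.IsSolvable H)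
    {A P : Subgroup G} {σ : Set ℕ} {q : ℕ} (hP : P ≠ ⊤)
    (hPA : P ≤ Subgroup.normalizer (A : Set G))
    (hcop : (Nat.card P).Coprime (Nat.card (piCoreOf σ (Subgroup.centralizer (A : Set G)))))
    (htr : ∀ Q₁ ∈ maxInvSubgroups ⊤ A {q}, ∀ Q₂ ∈ maxInvSubgroups ⊤ A {q},
      KConj (piCoreOf σ (Subgroup.centralizer (A : Set G))) Q₁ Q₂)
    {Q Q' : Subgroup G} (hQ : Q ∈ maxInvSubgroups ⊤ A {q}) (hQ' : Q' ∈ maxInvSubgroups ⊤ A {q})
    (hPQ : P ≤ Subgroup.normalizer (Q : Set G)) (hPQ' : P ≤ Subgroup.normalizer (Q' : Set G)) :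
    KConj (piCoreOf σ (Subgroup.centralizer (A : Set G)) ⊓ Subgroup.centralizer (P : Set G)) Q Q' := by
  have hPK : P ≤ Subgroup.normalizer
      ((piCoreOf σ (Subgroup.centralizer (A : Set G)) : Subgroup G) : Set G) :=
    hPA.trans ((normalizer_le_normalizer_centralizer A).trans
      (normalizer_le_normalizer_piCoreOf σ _))
  obtain ⟨k, hk, hkQ⟩ := htr Q hQ Q' hQ'
  have hPN : P ≤ Subgroup.normalizer ((piCoreOf σ (Subgroup.centralizer (A : Set G)) ⊓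
      Subgroup.normalizer (Q : Set G) : Subgroup G) : Set G) :=
    le_normalizer_inf' hPK (hPQ.trans Subgroup.le_normalizer)
  have hcop' : (Nat.card P).Coprime (Nat.card (piCoreOf σ (Subgroup.centralizer (A : Set G)) ⊓
      Subgroup.normalizer (Q : Set G) : Subgroup G)) :=
    Nat.Coprime.coprime_dvd_right (Subgroup.card_dvd_of_le inf_le_left) hcop
  have hg : ∀ a ∈ P, a * k⁻¹ * a⁻¹ * k⁻¹⁻¹ ∈ piCoreOf σ (Subgroup.centralizer (A : Set G)) ⊓
      Subgroup.normalizer (Q : Set G) := by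
    intro a ha
    rw [inv_inv]
    refine ⟨?_, ?_⟩
    · exact Subgroup.mul_mem _ (conj_mem_of_le_normalizer hPK ha (Subgroup.inv_mem _ hk)) hk
    · apply Cfsg.Agent.Lib.helper1.mem_normalizer_of_conj_smul_eq
      have e1 : MulAut.conj a • Q = Q :=
        Cfsg.Agent.Lib.helper1.conj_smul_eq_of_mem_normalizer (hPQ ha)
      have e2 : MulAut.conj a⁻¹ • Q' = Q' :=
        Cfsg.Agent.Lib.helper1.conj_smul_eq_of_mem_normalizer (hPQ' (P.inv_mem ha))
      have e3 : MulAut.conj k⁻¹ • Q' = Q := by rw [hkQ, map_inv, inv_smul_smul]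
      rw [← Cfsg.Agent.Lib.helper1.conj_smul_conj_smul, ← Cfsg.Agent.Lib.helper1.conj_smul_conj_smul,
        ← Cfsg.Agent.Lib.helper1.conj_smul_conj_smul, ← hkQ, e2, e3, e1]
  obtain ⟨c, hc, hck⟩ := Cfsg.Agent.Lib.helper1.coset_fixed P _ hPN hcop' (Or.inl (hsolv P hP)) k⁻¹ hg
  rw [inv_inv] at hck
  have hcK : c ∈ piCoreOf σ (Subgroup.centralizer (A : Set G)) := by
    have := Subgroup.mul_mem _ hck.1 (Subgroup.inv_mem _ hk)
    rwa [mul_inv_cancel_right] at this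
  refine ⟨c⁻¹, ⟨Subgroup.inv_mem _ hcK, Subgroup.inv_mem _ hc⟩, ?_⟩
  have e4 : MulAut.conj (c * k) • Q = Q :=
    Cfsg.Agent.Lib.helper1.conj_smul_eq_of_mem_normalizer hck.2
  rw [← Cfsg.Agent.Lib.helper1.conj_smul_conj_smul, ← hkQ] at e4
  rw [← e4, map_inv, inv_smul_smul]

/-- The step of Bender–Glauberman 7.5 for `A` normal in `P`. -/
theorem normal_step [Finite G] [IsSimpleGroup G]
    (hsolv : ∀ H : Subgroup G, H ≠ ⊤ → Group.IsSolvable H)
    {A : Subgroup G} (hA : TransitivityHypothesis A) {q : ℕ} (hq : q.Prime) (hqA : ¬ q ∣ Nat.card A)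
    {P : Subgroup G} (hP : P ≠ ⊤) (hAP : A ≤ P) (hPA : P ≤ Subgroup.normalizer (A : Set G))
    (hPπ : ∀ r : ℕ, r.Prime → r ∣ Nat.card P → r ∣ Nat.card A)
    (htr : ∀ Q₁ ∈ maxInvSubgroups ⊤ A {q}, ∀ Q₂ ∈ maxInvSubgroups ⊤ A {q},
      KConj (piCoreOf (primesNotDvd (Nat.card A)) (Subgroup.centralizer (A : Set G))) Q₁ Q₂) :
    maxInvSubgroups ⊤ P {q} ⊆ maxInvSubgroups ⊤ A {q} ∧
    ∀ Q₁ ∈ maxInvSubgroups ⊤ P {q}, ∀ Q₂ ∈ maxInvSubgroups ⊤ P {q},
      KConj (piCoreOf (primesNotDvd (Nat.card A)) (Subgroup.centralizer (A : Set G)) ⊓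
        Subgroup.centralizer (P : Set G)) Q₁ Q₂ := by
  have hcop : (Nat.card P).Coprime
      (Nat.card (piCoreOf (primesNotDvd (Nat.card A)) (Subgroup.centralizer (A : Set G)))) := by
    by_contra h
    obtain ⟨r, hr, hrP, hrL⟩ := Nat.Prime.not_coprime_iff_dvd.mp h
    exact (prime_mem_of_dvd_card_piCoreOf _ _ r hr hrL).2 (hPπ r hr hrP)
  have hsub : maxInvSubgroups ⊤ P {q} ⊆ maxInvSubgroups ⊤ A {q} := by
    intro Q₁ hQ₁
    by_cases hne : Q₁ = ⊥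
    · obtain ⟨Q₀, hQ₀, hPQ₀⟩ := exists_maxInv_invariant hsolv hP hPA hcop htr
      have hQ₀P : Q₀ ∈ invSubgroups ⊤ P {q} :=
        (mem_invSubgroups_top hq).mpr ⟨((mem_invSubgroups_top hq).mp hQ₀.1).1, hPQ₀⟩
      have h : Q₀ = Q₁ := hQ₁.2 Q₀ hQ₀P (hne ▸ bot_le)
      rw [← h]; exact hQ₀
    · exact maxInv_of_maxInv_of_ne_bot hsolv hA hq hqA hP hAP hPπ hQ₁ hne
  refine ⟨hsub, ?_⟩
  intro Q₁ hQ₁ Q₂ hQ₂
  exact kConj_centralizer_of_invariant hsolv hP hPA hcop htr (hsub hQ₁) (hsub hQ₂)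
    ((mem_invSubgroups_top hq).mp hQ₁.1).2 ((mem_invSubgroups_top hq).mp hQ₂.1).2

/-- Bender–Glauberman 7.5 (b), (c) by induction along a subnormal chain from `A` to `P`. -/
theorem chain_step [Finite G] [IsSimpleGroup G]
    (hsolv : ∀ H : Subgroup G, H ≠ ⊤ → Group.IsSolvable H) {q : ℕ} (hq : q.Prime)
    {A P : Subgroup G} (hsn : SNChain A P) :
    TransitivityHypothesis A → ¬ q ∣ Nat.card A → P ≠ ⊤ →
    (∀ r : ℕ, r.Prime → r ∣ Nat.card P → r ∣ Nat.card A) →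
    (∀ Q₁ ∈ maxInvSubgroups ⊤ A {q}, ∀ Q₂ ∈ maxInvSubgroups ⊤ A {q},
      KConj (piCoreOf (primesNotDvd (Nat.card A)) (Subgroup.centralizer (A : Set G))) Q₁ Q₂) →
    maxInvSubgroups ⊤ P {q} ⊆ maxInvSubgroups ⊤ A {q} ∧
    ∀ Q₁ ∈ maxInvSubgroups ⊤ P {q}, ∀ Q₂ ∈ maxInvSubgroups ⊤ P {q},
      KConj (piCoreOf (primesNotDvd (Nat.card A)) (Subgroup.centralizer (A : Set G)) ⊓
        Subgroup.centralizer (P : Set G)) Q₁ Q₂ := by
  induction hsn with
  | refl H =>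
    intro hA hqA hP hPπ htr
    refine ⟨subset_rfl, ?_⟩
    intro Q₁ hQ₁ Q₂ hQ₂
    obtain ⟨k, hk, hkQ⟩ := htr Q₁ hQ₁ Q₂ hQ₂
    exact ⟨k, ⟨hk, piCoreOf_le _ _ hk⟩, hkQ⟩
  | step A K P hAK hKA hKP ih =>
    intro hA hqA hP hPπ htr
    have hKP' : K ≤ P := hKP.le
    have hKtop : K ≠ ⊤ := fun h => hP (top_le_iff.mp (h ▸ hKP'))
    have hKπ : ∀ r : ℕ, r.Prime → r ∣ Nat.card K → r ∣ Nat.card A :=
      fun r hr hd => hPπ r hr (hd.trans (Subgroup.card_dvd_of_le hKP'))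
    obtain ⟨h1, h2⟩ := normal_step hsolv hA hq hqA hKtop hAK hKA hKπ htr
    have hKth : TransitivityHypothesis K := th_of_le hA hAK hKtop hKπ
    have hpnd := primesNotDvd_card_eq hAK hKπ
    have hqK : ¬ q ∣ Nat.card K := fun h => hqA (hKπ q hq h)
    have hPπK : ∀ r : ℕ, r.Prime → r ∣ Nat.card P → r ∣ Nat.card K :=
      fun r hr hd => (hPπ r hr hd).trans (Subgroup.card_dvd_of_le hAK)
    have hid := piCoreOf_centralizer_inf hA hAK
    have htrK : ∀ Q₁ ∈ maxInvSubgroups ⊤ K {q}, ∀ Q₂ ∈ maxInvSubgroups ⊤ K {q},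
        KConj (piCoreOf (primesNotDvd (Nat.card K)) (Subgroup.centralizer (K : Set G))) Q₁ Q₂ := by
      rw [hpnd, ← hid]; exact h2
    obtain ⟨h3, h4⟩ := ih hKth hqK hP hPπK htrK
    refine ⟨h3.trans h1, ?_⟩
    intro Q₁ hQ₁ Q₂ hQ₂
    obtain ⟨k, hk, hkQ⟩ := h4 Q₁ hQ₁ Q₂ hQ₂
    rw [hpnd, ← hid] at hk
    exact ⟨k, ⟨hk.1.1, hk.2⟩, hkQ⟩

theorem commutator_sup_le {C N₁ : Subgroup G} (hN : N₁ ≤ Subgroup.normalizer (C : Set G)) :
    ⁅C ⊔ N₁, C ⊔ N₁⁆ ≤ C ⊔ ⁅N₁, N₁⁆ := by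
  rw [Subgroup.commutator_le]
  intro g₁ hg₁ g₂ hg₂
  obtain ⟨c₁, hc₁, n₁, hn₁, rfl⟩ := exists_mul_of_mem_sup_of_le_normalizer hN hg₁
  obtain ⟨c₂, hc₂, n₂, hn₂, rfl⟩ := exists_mul_of_mem_sup_of_le_normalizer hN hg₂
  have hconj : ∀ n ∈ N₁, ∀ c ∈ C, n * c * n⁻¹ ∈ C :=
    fun n hn c hc => conj_mem_of_le_normalizer hN hn hc
  have e : ⁅c₁ * n₁, c₂ * n₂⁆ = (c₁ * (n₁ * c₂ * n₁⁻¹) *
      ((n₁ * n₂ * n₁⁻¹) * c₁⁻¹ * (n₁ * n₂ * n₁⁻¹)⁻¹) * (⁅n₁, n₂⁆ * c₂⁻¹ * ⁅n₁, n₂⁆⁻¹)) * ⁅n₁, n₂⁆ := by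
    simp only [commutatorElement_def]; group
  rw [e]
  have hcomm : ⁅n₁, n₂⁆ ∈ N₁ := by
    rw [commutatorElement_def]
    exact N₁.mul_mem (N₁.mul_mem (N₁.mul_mem hn₁ hn₂) (N₁.inv_mem hn₁)) (N₁.inv_mem hn₂)
  apply Subgroup.mul_mem
  · apply Subgroup.mem_sup_left
    exact C.mul_mem (C.mul_mem (C.mul_mem hc₁ (hconj n₁ hn₁ c₂ hc₂))
      (hconj _ (N₁.mul_mem (N₁.mul_mem hn₁ hn₂) (N₁.inv_mem hn₁)) _ (C.inv_mem hc₁)))
      (hconj _ hcomm _ (C.inv_mem hc₂))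
  · exact Subgroup.mem_sup_right (Subgroup.commutator_mem_commutator hn₁ hn₂)

/-- Bender–Glauberman 7.5 (d): Frattini argument and the focal subgroup consequence. -/
theorem normalizer_eq_sup_and_focal [Finite G] {P Q C : Subgroup G}
    (hCP : C ≤ Subgroup.centralizer (P : Set G))
    (hNC : Subgroup.normalizer (P : Set G) ≤ Subgroup.normalizer (C : Set G))
    (hcop : (Nat.card P).Coprime (Nat.card C))
    (hPQ : P ≤ Subgroup.normalizer (Q : Set G))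
    (htrans : ∀ g ∈ Subgroup.normalizer (P : Set G), ∃ k ∈ C, MulAut.conj g • Q = MulAut.conj k • Q) :
    P ⊓ ⁅Subgroup.normalizer (P : Set G), Subgroup.normalizer (P : Set G)⁆ ≤
        ⁅Subgroup.normalizer (Q : Set G), Subgroup.normalizer (Q : Set G)⁆ ∧
      Subgroup.normalizer (P : Set G) =
        C ⊔ (Subgroup.normalizer (P : Set G) ⊓ Subgroup.normalizer (Q : Set G)) := by
  have hCN : C ≤ Subgroup.normalizer (P : Set G) := hCP.trans (Subgroup.centralizer_le_normalizer _)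
  have hsup : Subgroup.normalizer (P : Set G) =
      C ⊔ (Subgroup.normalizer (P : Set G) ⊓ Subgroup.normalizer (Q : Set G)) := by
    apply le_antisymm
    · intro g hg
      obtain ⟨k, hk, hkg⟩ := htrans g hg
      have h1 : k⁻¹ * g ∈ Subgroup.normalizer (Q : Set G) := by
        apply Cfsg.Agent.Lib.helper1.mem_normalizer_of_conj_smul_eq
        rw [← Cfsg.Agent.Lib.helper1.conj_smul_conj_smul, hkg, map_inv, inv_smul_smul]
      have h2 : k⁻¹ * g ∈ Subgroup.normalizer (P : Set G) :=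
        Subgroup.mul_mem _ (Subgroup.inv_mem _ (hCN hk)) hg
      have e : g = k * (k⁻¹ * g) := by group
      rw [e]
      exact Subgroup.mul_mem _ (Subgroup.mem_sup_left hk) (Subgroup.mem_sup_right ⟨h2, h1⟩)
    · exact sup_le hCN inf_le_left
  refine ⟨?_, hsup⟩
  obtain ⟨N₁, hN₁⟩ : ∃ N₁ : Subgroup G,
      N₁ = Subgroup.normalizer (P : Set G) ⊓ Subgroup.normalizer (Q : Set G) := ⟨_, rfl⟩
  rw [← hN₁] at hsup
  have hN₁C : N₁ ≤ Subgroup.normalizer (C : Set G) := by rw [hN₁]; exact inf_le_left.trans hNC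
  have h1 : ⁅Subgroup.normalizer (P : Set G), Subgroup.normalizer (P : Set G)⁆ ≤ C ⊔ ⁅N₁, N₁⁆ := by
    have h := commutator_sup_le hN₁C
    rwa [← hsup] at h
  have hPN₁ : P ≤ N₁ := by rw [hN₁]; exact le_inf Subgroup.le_normalizer hPQ
  have hN₁Q : N₁ ≤ Subgroup.normalizer (Q : Set G) := by rw [hN₁]; exact inf_le_right
  rintro x ⟨hxP, hxN⟩
  have hxM := h1 hxN
  obtain ⟨c, hc, d, hd, rfl⟩ :=
    exists_mul_of_mem_sup_of_le_normalizer ((commutator_self_le N₁).trans hN₁C) hxM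
  have hdN₁ : d ∈ N₁ := commutator_self_le N₁ hd
  have hcN₁ : c ∈ N₁ := by
    have := N₁.mul_mem (hPN₁ hxP) (N₁.inv_mem hdN₁)
    rwa [mul_inv_cancel_right] at this
  have hfd : Abelianization.of (⟨d, hdN₁⟩ : N₁) = 1 := by
    rw [← MonoidHom.mem_ker, Abelianization.ker_of]
    have h2 : d ∈ (commutator N₁).map N₁.subtype := by
      rw [Subgroup.map_subtype_commutator]; exact hd
    obtain ⟨d', hd', hdd⟩ := Subgroup.mem_map.mp h2
    have h3 : d' = ⟨d, hdN₁⟩ := Subtype.ext hdd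
    rwa [h3] at hd'
  have hfx : Abelianization.of (⟨c * d, hPN₁ hxP⟩ : N₁) = Abelianization.of (⟨c, hcN₁⟩ : N₁) := by
    have h2 : (⟨c * d, hPN₁ hxP⟩ : N₁) = ⟨c, hcN₁⟩ * ⟨d, hdN₁⟩ := rfl
    rw [h2, map_mul, hfd, mul_one]
  have hx1 : (Abelianization.of (⟨c * d, hPN₁ hxP⟩ : N₁)) ^ (Nat.card P) = 1 := by
    rw [← map_pow]
    have h2 : (⟨c * d, hPN₁ hxP⟩ : N₁) ^ Nat.card P = 1 := by
      apply Subtype.ext
      rw [Subgroup.coe_pow, Subgroup.coe_one]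
      have h3 : (⟨c * d, hxP⟩ : P) ^ Nat.card P = 1 := pow_card_eq_one'
      have h4 := congrArg (fun y : P => (y : G)) h3
      simp only [Subgroup.coe_pow, Subgroup.coe_one] at h4
      exact h4
    rw [h2, map_one]
  have hx2 : (Abelianization.of (⟨c * d, hPN₁ hxP⟩ : N₁)) ^ (Nat.card C) = 1 := by
    rw [hfx, ← map_pow]
    have h2 : (⟨c, hcN₁⟩ : N₁) ^ Nat.card C = 1 := by
      apply Subtype.ext
      rw [Subgroup.coe_pow, Subgroup.coe_one]
      have h3 : (⟨c, hc⟩ : C) ^ Nat.card C = 1 := pow_card_eq_one'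
      have h4 := congrArg (fun y : C => (y : G)) h3
      simp only [Subgroup.coe_pow, Subgroup.coe_one] at h4
      exact h4
    rw [h2, map_one]
  have hx3 : Abelianization.of (⟨c * d, hPN₁ hxP⟩ : N₁) = 1 :=
    (pow_eq_one_iff_of_coprime hcop).mp ⟨hx1, hx2⟩
  have hx4 : (⟨c * d, hPN₁ hxP⟩ : N₁) ∈ commutator N₁ := by
    rw [← Abelianization.ker_of]; exact hx3
  have hx5 : c * d ∈ ⁅N₁, N₁⁆ := by
    rw [← Subgroup.map_subtype_commutator]
    exact Subgroup.mem_map.mpr ⟨_, hx4, rfl⟩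
  exact Subgroup.commutator_mono hN₁Q hN₁Q hx5

end Trans3

end Cfsg.Agent.Lib.helper29
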