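import Mathlib
import Cfsg.Agent.Lib.helper29.OmegaFix
import Cfsg.Agent.Lib.helper29.PCons2
import Cfsg.Agent.Lib.helper66.PLength
import Cfsg.Agent.Lib.helper26.Basic

/-!
Invariant `p'`-subgroups of `p`-constrained groups of `p`-length one (`p` odd): if the abelian
`p`-subgroup `A` contains every element of order dividing `p` of its centralizer, then the
`A`-invariant `p'`-subgroups lie in `O_{p'}` (Bender–Glauberman, Proposition 1.15-type).
Also: a self-centralizing normal subgroup of a Sylow `p`-subgroup contains every `p`-element of its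
centralizer.
-/

set_option autoImplicit false
open scoped commutatorElement

namespace Cfsg.Agent.Lib.helper29

open Subgroup

section PLen

variable {H : Type*} [Group H] [Finite H] {p : ℕ} [Fact p.Prime]

/-- In the quotient by a normal `p'`-subgroup, the elements of order dividing `p ^ a` centralizing
the image of `E` lie in the image of `E`, if `E` contains the elements of order dividing `p ^ a`
of its centralizer. -/
theorem mem_map_of_pow_eq_one_centralizer (N : Subgroup H) [N.Normal]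
    (hN : (Nat.card N).Coprime p) (E : Subgroup H) (hE : IsPGroup p E) (a : ℕ)
    (hEfull : ∀ x ∈ centralizer (E : Set H), x ^ (p ^ a) = 1 → x ∈ E)
    (y : H ⧸ N)
    (hy : y ∈ centralizer ((E.map (QuotientGroup.mk' N) : Subgroup (H ⧸ N)) : Set (H ⧸ N)))
    (hya : y ^ (p ^ a) = 1) : y ∈ E.map (QuotientGroup.mk' N) := by
  rw [← helper14.map_centralizer_of_coprime N hN E hE] at hy
  obtain ⟨c, hc, rfl⟩ := hy
  have hcN : c ^ (p ^ a) ∈ N := by
    rw [← QuotientGroup.eq_one_iff]
    exact hya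
  have hcop : Nat.gcd (p ^ a) (Nat.card N) = 1 := Nat.Coprime.pow_left a hN.symm
  have hbez : (1 : ℤ) = ((p ^ a : ℕ) : ℤ) * Nat.gcdA (p ^ a) (Nat.card N) +
      ((Nat.card N : ℕ) : ℤ) * Nat.gcdB (p ^ a) (Nat.card N) := by
    have := Nat.gcd_eq_gcd_ab (p ^ a) (Nat.card N)
    rw [hcop] at this
    exact_mod_cast this
  have h1 : (c ^ (p ^ a)) ^ (Nat.card N) = 1 := by
    have h := pow_card_eq_one' (G := N) (x := ⟨c ^ (p ^ a), hcN⟩)
    exact congrArg Subtype.val h
  have hc₁c : (c ^ (Nat.card N)) ^ (Nat.gcdB (p ^ a) (Nat.card N)) ∈ centralizer (E : Set H) :=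
    zpow_mem (pow_mem hc _) _
  have hc₁p : ((c ^ (Nat.card N)) ^ (Nat.gcdB (p ^ a) (Nat.card N))) ^ (p ^ a) = 1 := by
    rw [← zpow_natCast c (Nat.card N), ← zpow_mul, ← zpow_natCast _ (p ^ a), ← zpow_mul,
      mul_comm, ← mul_assoc, zpow_mul, zpow_mul, zpow_natCast, zpow_natCast, h1, one_zpow]
  have hc₁E := hEfull _ hc₁c hc₁p
  refine ⟨_, hc₁E, ?_⟩
  have hsplit : c = (c ^ (p ^ a)) ^ (Nat.gcdA (p ^ a) (Nat.card N)) *
      (c ^ (Nat.card N)) ^ (Nat.gcdB (p ^ a) (Nat.card N)) := by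
    rw [← zpow_natCast c (p ^ a), ← zpow_natCast c (Nat.card N), ← zpow_mul, ← zpow_mul, ← zpow_add,
      ← hbez, zpow_one]
  have hker : (QuotientGroup.mk' N) ((c ^ (p ^ a)) ^ (Nat.gcdA (p ^ a) (Nat.card N))) = 1 := by
    rw [QuotientGroup.mk'_apply, QuotientGroup.eq_one_iff]
    exact zpow_mem hcN _
  conv_rhs => rw [hsplit]
  rw [map_mul, hker, one_mul]

omit [Fact p.Prime] in
/-- In a group of `p`-length at most one with trivial `O_{p'}`, every `p`-element lies in
`O_p`. -/
theorem mem_pCore_of_pLength_one (h0 : Cfsg.pPrimeCore p H = ⊥) (hpl : Cfsg.PLengthLE p 1 H)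
    (x : H) (k : ℕ) (hx : x ^ (p ^ k) = 1) : x ∈ Cfsg.pCore p H := by
  have h3 : (Cfsg.upperPSeries p H 3).1 = ⊤ := hpl
  rw [helper66.upperPSeries_succ_of_even p H 2 (by decide)] at h3
  have htop : Cfsg.pPrimeCore p (H ⧸ (Cfsg.upperPSeries p H 2).1) = ⊤ := by
    rw [eq_top_iff]
    intro y _
    obtain ⟨g, rfl⟩ := QuotientGroup.mk'_surjective _ y
    have hg : g ∈ (Cfsg.pPrimeCore p (H ⧸ (Cfsg.upperPSeries p H 2).1)).comap
        (QuotientGroup.mk' _) := h3 ▸ Subgroup.mem_top g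
    exact hg
  have hcop : (Nat.card (H ⧸ (Cfsg.upperPSeries p H 2).1)).Coprime p := by
    have h := helper40.pPrimeCore_card_coprime p (H ⧸ (Cfsg.upperPSeries p H 2).1)
    rwa [htop, Subgroup.card_top] at h
  have h1 : (QuotientGroup.mk' (Cfsg.upperPSeries p H 2).1 x) ^ (p ^ k) = 1 := by
    rw [← map_pow, hx, map_one]
  have h2 : (QuotientGroup.mk' (Cfsg.upperPSeries p H 2).1 x) ^
      Nat.card (H ⧸ (Cfsg.upperPSeries p H 2).1) = 1 := pow_card_eq_one'
  have h4 : QuotientGroup.mk' (Cfsg.upperPSeries p H 2).1 x = 1 := by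
    have := pow_gcd_eq_one.mpr ⟨h2, h1⟩
    rwa [Nat.Coprime.gcd_eq_one (Nat.Coprime.pow_right k hcop), pow_one] at this
  have h5 : x ∈ (Cfsg.upperPSeries p H 2).1 := by
    rw [QuotientGroup.mk'_apply, QuotientGroup.eq_one_iff] at h4
    exact h4
  exact helper66.upperPSeries_two_le p h0 h5

/-- `p` odd: a `p'`-subgroup `K` normalized by a `p`-subgroup `A` of a normal self-centralizing
`p`-subgroup `R`, where `A` contains the elements of order dividing `p` of `C_R(A)`, is trivial. -/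
theorem eq_bot_of_invariant_of_le (hp2 : p ≠ 2) (R A K : Subgroup H) [hRn : R.Normal]
    (hR : IsPGroup p R) (hRc : centralizer (R : Set H) ≤ R) (hAR : A ≤ R)
    (hK : (Nat.card K).Coprime p) (hAK : A ≤ normalizer (K : Set H))
    (hfull : ∀ x ∈ R, x ∈ centralizer (A : Set H) → x ^ p = 1 → x ∈ A) : K = ⊥ := by
  have hA : IsPGroup p A := hR.to_le hAR
  have hRK : R ⊓ K = ⊥ := by
    apply Disjoint.eq_bot
    apply Subgroup.disjoint_of_coprime_natCard
    obtain ⟨k, hk⟩ := IsPGroup.iff_card.mp hR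
    rw [hk]
    exact (Nat.Coprime.pow_right k hK).symm
  have hRnorm : ∀ L : Subgroup H, L ≤ normalizer (R : Set H) := by
    intro L
    rw [Subgroup.normalizer_eq_top]
    exact le_top
  -- `K` centralizes `A`
  have hKA : K ≤ centralizer (A : Set H) := by
    rw [← Subgroup.commutator_eq_bot_iff_le_centralizer]
    have h1 : ⁅K, A⁆ ≤ K := helper1.commutator_le_of_le_normalizer hAK
    have h2 : ⁅K, A⁆ ≤ R := by
      rw [Subgroup.commutator_comm]
      exact (Subgroup.commutator_mono hAR le_rfl).trans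
        (helper1.commutator_le_of_le_normalizer (hRnorm K))
    exact le_bot_iff.mp (hRK ▸ le_inf h2 h1)
  have hAK' : A ≤ centralizer (K : Set H) := by
    intro a ha
    rw [Subgroup.mem_centralizer_iff]
    intro k hk
    exact ((Subgroup.mem_centralizer_iff.mp (hKA hk)) a ha).symm
  -- `K` centralizes `C_R(A)`
  have hKR₁ : K ≤ normalizer ((R ⊓ centralizer (A : Set H) : Subgroup H) : Set H) :=
    le_normalizer_inf' (hRnorm K) (hKA.trans Subgroup.le_normalizer)
  have hR₁ : R ⊓ centralizer (A : Set H) ≤ centralizer (K : Set H) :=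
    centralizes_of_centralizes_omega hp2 _ K (hR.to_le inf_le_left) hK hKR₁
      (fun x hx hxp => hAK' (hfull x hx.1 hx.2 hxp))
  -- Thompson's `A × B` lemma
  rw [eq_bot_iff]
  intro d hd
  have hdo : (orderOf d).Coprime p :=
    Nat.Coprime.coprime_dvd_left (Subgroup.orderOf_dvd_natCard K hd) hK
  have h4 := helper54.thompson_AxB A hA d hdo
    (fun x hx => ((Subgroup.mem_centralizer_iff.mp (hKA hd)) x hx).symm) R hR (hRnorm A)
    (hRnorm K hd)
    (fun q hq hqA => by
      have : q ∈ centralizer (K : Set H) :=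
        hR₁ ⟨hq, Subgroup.mem_centralizer_iff.mpr (fun x hx => (hqA x hx))⟩
      exact (Subgroup.mem_centralizer_iff.mp this) d hd)
  have hdR : d ∈ R := hRc (Subgroup.mem_centralizer_iff.mpr (fun r hr => (h4 r hr).symm))
  have : d ∈ R ⊓ K := ⟨hdR, hd⟩
  rwa [hRK] at this

/-- **Invariant `p'`-subgroups, `p`-length one.** `p` odd, `H` `p`-constrained of `p`-length at
most one, `A` a `p`-subgroup containing every element of order dividing `p` of `C_H(A)`, and `K`
a `p'`-subgroup normalized by `A`. Then `K ≤ O_{p'}(H)`. -/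
theorem le_pPrimeCore_of_invariant_of_pLength_one (hp2 : p ≠ 2)
    (hcons : Cfsg.IsPConstrained p H) (hpl : Cfsg.PLengthLE p 1 H) (A K : Subgroup H)
    (hA : IsPGroup p A)
    (hAfull : ∀ x ∈ centralizer (A : Set H), x ^ p = 1 → x ∈ A)
    (hK : (Nat.card K).Coprime p) (hAK : A ≤ normalizer (K : Set H)) :
    K ≤ Cfsg.pPrimeCore p H := by
  have hNn : (Cfsg.pPrimeCore p H).Normal := helper40.pPrimeCore_normal' p H
  have hN : (Nat.card (Cfsg.pPrimeCore p H)).Coprime p := helper40.pPrimeCore_card_coprime p H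
  have hconsQ : Cfsg.IsPConstrained p (H ⧸ Cfsg.pPrimeCore p H) :=
    helper14.isPConstrained_iff_quotient.mp hcons
  have h0 : Cfsg.pPrimeCore p (H ⧸ Cfsg.pPrimeCore p H) = ⊥ :=
    helper14.pPrimeCore_quotient_pPrimeCore p
  have hRc : centralizer (Cfsg.pCore p (H ⧸ Cfsg.pPrimeCore p H) : Set (H ⧸ Cfsg.pPrimeCore p H)) ≤
      Cfsg.pCore p (H ⧸ Cfsg.pPrimeCore p H) :=
    (helper14.isPConstrained_iff_of_pPrimeCore_eq_bot p h0).mp hconsQ
  have hRn : (Cfsg.pCore p (H ⧸ Cfsg.pPrimeCore p H)).Normal := helper40.pCore_normal' p _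
  have hR : IsPGroup p (Cfsg.pCore p (H ⧸ Cfsg.pPrimeCore p H)) := helper40.pCore_isPGroup p _
  have hplQ : Cfsg.PLengthLE p 1 (H ⧸ Cfsg.pPrimeCore p H) :=
    helper66.PLengthLE.quotient _ hpl
  have hAbar : IsPGroup p (A.map (QuotientGroup.mk' (Cfsg.pPrimeCore p H))) := hA.map _
  have hAR : A.map (QuotientGroup.mk' (Cfsg.pPrimeCore p H)) ≤
      Cfsg.pCore p (H ⧸ Cfsg.pPrimeCore p H) := by
    intro y hy
    obtain ⟨k, hk⟩ := hAbar ⟨y, hy⟩
    exact mem_pCore_of_pLength_one h0 hplQ y k (congrArg Subtype.val hk)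
  have hKbar : (Nat.card (K.map (QuotientGroup.mk' (Cfsg.pPrimeCore p H)))).Coprime p :=
    Nat.Coprime.coprime_dvd_left (Subgroup.card_map_dvd _ _) hK
  have hAKbar : A.map (QuotientGroup.mk' (Cfsg.pPrimeCore p H)) ≤
      normalizer ((K.map (QuotientGroup.mk' (Cfsg.pPrimeCore p H)) : Subgroup _) : Set _) :=
    (Subgroup.map_mono hAK).trans (Subgroup.le_normalizer_map _)
  have hKb : K.map (QuotientGroup.mk' (Cfsg.pPrimeCore p H)) = ⊥ :=
    eq_bot_of_invariant_of_le hp2 _ _ _ hR hRc hAR hKbar hAKbar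
      (fun x _ hxc hxp => mem_map_of_pow_eq_one_centralizer _ hN A hA 1
        (fun c hc hcp => hAfull c hc (by rwa [pow_one] at hcp)) x hxc (by rwa [pow_one]))
  have h5 := (Subgroup.map_eq_bot_iff _).mp hKb
  rwa [QuotientGroup.ker_mk'] at h5

end PLen

section PLen'

variable {G : Type*} [Group G] [Finite G] {p : ℕ} [Fact p.Prime]

/-- Subgroup form of `le_pPrimeCore_of_invariant_of_pLength_one`. -/
theorem le_map_pPrimeCore_of_invariant_of_pLength_one (hp2 : p ≠ 2) (X : Subgroup G)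
    (hcons : Cfsg.IsPConstrained p ↥X) (hpl : Cfsg.PLengthLE p 1 ↥X) (A K : Subgroup G)
    (hAX : A ≤ X) (hKX : K ≤ X) (hA : IsPGroup p A)
    (hAfull : ∀ x ∈ centralizer (A : Set G), x ^ p = 1 → x ∈ A)
    (hK : (Nat.card K).Coprime p) (hAK : A ≤ normalizer (K : Set G)) :
    K ≤ (Cfsg.pPrimeCore p ↥X).map X.subtype := by
  have h := le_pPrimeCore_of_invariant_of_pLength_one hp2 hcons hpl (A.subgroupOf X)
    (K.subgroupOf X) (hA.comap_subtype) ?_ ?_ ?_
  · rw [← Subgroup.map_subgroupOf_eq_of_le hKX]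
    exact Subgroup.map_mono h
  · intro x hx hxp
    rw [Subgroup.mem_subgroupOf]
    apply hAfull
    · rw [Subgroup.mem_centralizer_iff]
      intro e he
      have := (Subgroup.mem_centralizer_iff.mp hx) ⟨e, hAX he⟩
        (by rw [SetLike.mem_coe, Subgroup.mem_subgroupOf]; exact he)
      exact congrArg Subtype.val this
    · have h1 := congrArg Subtype.val hxp
      simpa using h1
  · rw [Nat.card_congr (Subgroup.subgroupOfEquivOfLe hKX).toEquiv]
    exact hK
  · intro e he
    rw [Subgroup.mem_subgroupOf] at he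
    rw [Subgroup.mem_normalizer_iff]
    intro k
    simp only [Subgroup.mem_subgroupOf]
    exact Subgroup.mem_normalizer_iff.mp (hAK he) k

/-- A self-centralizing normal subgroup `B` of a Sylow `p`-subgroup contains every `p`-element of
its centralizer. -/
theorem mem_of_scn_of_pElement (P : Sylow p G) (B : Subgroup G) (hBP : B ≤ (P : Subgroup G))
    (hPN : (P : Subgroup G) ≤ normalizer (B : Set G))
    (hBc : (P : Subgroup G) ⊓ centralizer (B : Set G) = B) :
    ∀ x ∈ centralizer (B : Set G), IsPGroup p (zpowers x) → x ∈ B := by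
  have hBp : IsPGroup p B := P.isPGroup'.to_le hBP
  intro x hx hxp
  have hxN : zpowers x ≤ normalizer (B : Set G) :=
    ((Subgroup.zpowers_le).mpr hx).trans (Subgroup.centralizer_le_normalizer _)
  have hYp : IsPGroup p (zpowers x ⊔ B : Subgroup G) :=
    IsPGroup.to_sup_of_normal_right' hxp hBp hxN
  have hYN : zpowers x ⊔ B ≤ normalizer (B : Set G) :=
    sup_le hxN Subgroup.le_normalizer
  obtain ⟨m, hm, hmY⟩ := Cfsg.Agent.Lib.helper26.exists_conj_le_sylow_of_le P
    (normalizer (B : Set G)) hPN _ hYN hYp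
  have h1 : m * x * m⁻¹ ∈ (P : Subgroup G) :=
    hmY x (le_sup_left (a := zpowers x) (Subgroup.mem_zpowers x))
  have h2 : m * x * m⁻¹ ∈ centralizer (B : Set G) := by
    rw [Subgroup.mem_centralizer_iff]
    intro b hb
    have hb' : m⁻¹ * b * m ∈ B := by
      have := (Subgroup.mem_normalizer_iff.mp (inv_mem hm) b).mp hb
      simpa using this
    have h3 := (Subgroup.mem_centralizer_iff.mp hx) _ hb'
    calc b * (m * x * m⁻¹) = m * ((m⁻¹ * b * m) * x) * m⁻¹ := by group
      _ = m * (x * (m⁻¹ * b * m)) * m⁻¹ := by rw [h3]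
      _ = m * x * m⁻¹ * b := by group
  have h4 : m * x * m⁻¹ ∈ B := by
    rw [← hBc]
    exact ⟨h1, h2⟩
  have h5 := (Subgroup.mem_normalizer_iff.mp (inv_mem hm) _).mp h4
  have e : m⁻¹ * (m * x * m⁻¹) * m⁻¹⁻¹ = x := by group
  rwa [e] at h5

end PLen'

end Cfsg.Agent.Lib.helper29
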