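import Mathlib
import Cfsg.Agent.Lib.helper29.PLenTen
import Cfsg.Agent.Lib.helper8.BGTen2
import Cfsg.Agent.Lib.helper71.BGTenB

/-!
# Bender–Glauberman Theorem 10.6: proper subgroups of a minimal simple group of odd order have
`p`-length at most one

The Uniqueness Theorem (B-G 9.6), the fusion lemma (B-G 10.1) and B-G Theorem 3.6 (statement
S1444) enter as hypotheses.
-/

set_option autoImplicit false
open Cfsg

namespace Cfsg.Agent.Lib.helper29

open scoped commutatorElement Pointwise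
open Cfsg.Agent.Lib.helper8

universe u

/-- B-G 10.6 for a maximal subgroup. -/
theorem bg_plength_one_coatom {G : Type u} [Group G] [Finite G] (hG : IsMinSimpleOddOrder G)
    (hU : BGUniqHyp G) (hF : BGFusHyp G)
    (h36 : ∀ (X : Type u) [Group X] [Finite X] [Group.IsSolvable X], Odd (Nat.card X) →
      ∀ (H R R₀ : Subgroup X) [H.Normal], (Nat.card H).Coprime H.index →
      Subgroup.IsComplement' H R → R₀ ≤ R → (Nat.card R₀).Prime →
      IsZGroup ↥(H ⊓ Subgroup.centralizer (R₀ : Set X)) →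
      ∀ (p : ℕ) [Fact p.Prime], Cfsg.PLengthLE p 1 ↥⁅H, R⁆)
    (M : Subgroup G) (hM : IsCoatom M) (p : ℕ) [Fact p.Prime] : Cfsg.PLengthLE p 1 ↥M := by
  obtain ⟨hodd, hsimple, hna, hsolv⟩ := id hG
  have hpp : p.Prime := Fact.out
  have hMs : Group.IsSolvable M := hsolv M hM.1
  have hoddM : Odd (Nat.card M) := hodd.of_dvd_nat (Subgroup.card_subgroup_dvd_card M)
  by_cases hpα : p ∈ alpha M
  swap
  · have hr : PRankLE p 2 M := by
      by_contra h
      exact hpα ⟨hpp, h⟩
    exact pLengthLE_one_of_prankLE_two hoddM p hr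
  obtain ⟨hHallidx, -, -⟩ := bg_alpha_core_main hG hU hF M hM
  obtain ⟨hHall, -, hασ, -, -⟩ := bg_alpha_core_statement hG hU hF M hM
  have hNπ := Cfsg.Agent.Lib.helper65.piCore_isPiGrp (G := M) (alpha M)
  set N : Subgroup M := piCore (alpha M) ↥M with hN
  have hNHall : (Nat.card N).Coprime N.index :=
    Nat.Coprime.symm (Nat.coprime_of_dvd (fun k hk hkI hkN => hHallidx k (hNπ k hk hkN) hkI))
  have hpM : p ∣ Nat.card M := bg_dvd_card_of_alpha M hpα
  have hMnt : Nontrivial M := by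
    have : 1 < Nat.card M := lt_of_lt_of_le hpp.one_lt (Nat.le_of_dvd Nat.card_pos hpM)
    exact (Finite.one_lt_card_iff_nontrivial).mp this
  have hr : ∃ r : ℕ, r.Prime ∧ r ∣ Nat.card M ∧ r ∉ sigma M := by
    by_contra hcon
    push Not at hcon
    have hlt := Group.IsSolvable.commutator_lt_top_of_nontrivial M
    have hidx1 : (commutator M).index ≠ 1 := fun h => hlt.ne (Subgroup.index_eq_one.mp h)
    obtain ⟨q, hq, hqd⟩ := Nat.exists_prime_and_dvd hidx1
    have hqM : q ∣ Nat.card M := hqd.trans (Subgroup.index_dvd_card _)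
    have hσ := hcon q hq hqM
    have : Fact q.Prime := ⟨hq⟩
    exact bg_not_dvd_index_of_comm (bg_sigma_residual hG hF M hM hσ) (commutator M) le_rfl hqd
  obtain ⟨r, hrp, hrM, hrσ⟩ := hr
  have hrF : Fact r.Prime := ⟨hrp⟩
  obtain ⟨P⟩ : Nonempty (Sylow r M) := inferInstance
  obtain ⟨x, hxZ, hxord, hxZG, -⟩ :=
    Cfsg.Agent.Lib.helper71.BGA.bg_10_4 hG hU M hM hHall hασ r hrM hrσ P
  have hxM : x ∈ M := by
    obtain ⟨y, -, rfl⟩ := hxZ
    exact y.2
  have hx'ord : orderOf (⟨x, hxM⟩ : M) = r := by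
    rw [← hxord]; exact Subgroup.orderOf_mk x hxM
  have hrα : r ∉ alpha M := fun h => hrσ (bg_alpha_sub_sigma hG hU M hM h)
  have hrN : (Nat.card N).Coprime (Nat.card (Subgroup.zpowers (⟨x, hxM⟩ : M))) := by
    rw [Nat.card_zpowers, hx'ord, Nat.coprime_comm, Nat.Prime.coprime_iff_not_dvd hrp]
    intro h
    exact hrα (hNπ r hrp h)
  obtain ⟨E, hE, hxE⟩ :=
    exists_complement_ge N hNHall (Subgroup.zpowers (⟨x, hxM⟩ : M)) hrN (Or.inl inferInstance)
  have hZ : IsZGroup
      ↥(N ⊓ Subgroup.centralizer ((Subgroup.zpowers (⟨x, hxM⟩ : M) : Subgroup M) : Set M)) := by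
    have := hxZG
    have hmem : ∀ y : ↥(N ⊓ Subgroup.centralizer
        ((Subgroup.zpowers (⟨x, hxM⟩ : M) : Subgroup M) : Set M)),
        (M.subtype.comp (N ⊓ Subgroup.centralizer
          ((Subgroup.zpowers (⟨x, hxM⟩ : M) : Subgroup M) : Set M)).subtype) y ∈
          alphaCore M ⊓ Subgroup.centralizer ({x} : Set G) := by
      intro y
      refine ⟨⟨y.1, y.2.1, rfl⟩, Subgroup.mem_centralizer_iff.mpr ?_⟩
      intro z hz
      rw [Set.mem_singleton_iff] at hz; subst hz
      have h1 := Subgroup.mem_centralizer_iff.mp y.2.2 (⟨z, hxM⟩ : M) (Subgroup.mem_zpowers _)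
      exact congrArg Subtype.val h1
    refine IsZGroup.of_injective (f := (M.subtype.comp (N ⊓ Subgroup.centralizer
          ((Subgroup.zpowers (⟨x, hxM⟩ : M) : Subgroup M) : Set M)).subtype).codRestrict _ hmem) ?_
    intro a b hab
    have h1 := congrArg Subtype.val hab
    exact Subtype.ext (Subtype.ext h1)
  have h1 := h36 M hoddM N E (Subgroup.zpowers (⟨x, hxM⟩ : M)) hNHall hE hxE
    (by rw [Nat.card_zpowers, hx'ord]; exact hrp) hZ p
  have h2 : ⁅N, E⁆ = N := commutator_eq_of_complement N E hE (by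
    intro q hq hqN N₂ hN₂n hcomm
    have : Fact q.Prime := ⟨hq⟩
    exact bg_not_dvd_index_of_comm
      (bg_sigma_residual hG hF M hM (bg_alpha_sub_sigma hG hU M hM (hNπ q hq hqN))) N₂ hcomm)
  rw [h2] at h1
  exact pLengthLE_one_of_normal_index N h1
    (Nat.coprime_comm.mp ((Nat.Prime.coprime_iff_not_dvd hpp).mpr (hHallidx p hpα)))

/-- **Bender–Glauberman Theorem 10.6**, modulo the Uniqueness Theorem, the fusion lemma and
Theorem 3.6. -/
theorem bg_plength_one {G : Type u} [Group G] [Finite G] (hG : IsMinSimpleOddOrder G)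
    (hU : BGUniqHyp G) (hF : BGFusHyp G)
    (h36 : ∀ (X : Type u) [Group X] [Finite X] [Group.IsSolvable X], Odd (Nat.card X) →
      ∀ (H R R₀ : Subgroup X) [H.Normal], (Nat.card H).Coprime H.index →
      Subgroup.IsComplement' H R → R₀ ≤ R → (Nat.card R₀).Prime →
      IsZGroup ↥(H ⊓ Subgroup.centralizer (R₀ : Set X)) →
      ∀ (p : ℕ) [Fact p.Prime], Cfsg.PLengthLE p 1 ↥⁅H, R⁆)
    (p : ℕ) [Fact p.Prime] (H : Subgroup G) (hH : H ≠ ⊤) : Cfsg.PLengthLE p 1 ↥H := by
  obtain ⟨M, hM, hHM⟩ := (eq_top_or_exists_le_coatom H).resolve_left hH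
  exact pLengthLE_one_of_le hHM (bg_plength_one_coatom hG hU hF h36 M hM p)

end Cfsg.Agent.Lib.helper29
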