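import Mathlib
import Cfsg.Agent.S3765
import Cfsg.Agent.Lib.helper1.Coprime
import Cfsg.Agent.Lib.helper13.Count

set_option autoImplicit false

/-!
# The (ℓ, q, r)-lemma in abstract form

`pqr_centralizes`: let `R` be a subgroup of prime order `r` normalizing a `q`-subgroup `Q`, both
normalizing an `ℓ`-subgroup `P`, with `ℓ, q, r` distinct primes.  If `C_P(R) = 1` then `[Q, R]`
centralizes `P` (with the usual exception `q = 2`, `r` a Fermat prime, `Q` nonabelian).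
Derived from `Cfsg.Agent.S3765.result` (helper66) by induction on `P` and a quotient argument.
-/

namespace Cfsg.Agent.Lib.helper29

open Subgroup
open scoped commutatorElement

universe u

section pqr

variable {G : Type u} [Group G]

/-- `Ω₁(Z(P))` as a subgroup of the ambient group. -/
def omegaZ (ℓ : ℕ) (P : Subgroup G) : Subgroup G where
  carrier := {x | x ∈ P ∧ x ∈ centralizer (P : Set G) ∧ x ^ ℓ = 1}
  mul_mem' := by
    rintro a b ⟨ha, hac, ha'⟩ ⟨hb, hbc, hb'⟩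
    refine ⟨P.mul_mem ha hb, (centralizer (P : Set G)).mul_mem hac hbc, ?_⟩
    have hcomm : Commute a b := mem_centralizer_iff.mp hbc a ha
    rw [hcomm.mul_pow, ha', hb', one_mul]
  one_mem' := ⟨P.one_mem, (centralizer (P : Set G)).one_mem, one_pow _⟩
  inv_mem' := by
    rintro a ⟨ha, hac, ha'⟩
    exact ⟨P.inv_mem ha, (centralizer (P : Set G)).inv_mem hac, by rw [inv_pow, ha', inv_one]⟩

theorem omegaZ_le (ℓ : ℕ) (P : Subgroup G) : omegaZ ℓ P ≤ P := fun _ hx => hx.1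

theorem mem_omegaZ {ℓ : ℕ} {P : Subgroup G} {x : G} :
    x ∈ omegaZ ℓ P ↔ x ∈ P ∧ x ∈ centralizer (P : Set G) ∧ x ^ ℓ = 1 := Iff.rfl

instance omegaZ_normal (ℓ : ℕ) (P : Subgroup G) [hP : P.Normal] : (omegaZ ℓ P).Normal := by
  constructor
  rintro x ⟨hx, hxc, hx'⟩ g
  refine ⟨hP.conj_mem x hx g, ?_, ?_⟩
  · rw [mem_centralizer_iff]
    intro h hh
    have h1 : g⁻¹ * h * g ∈ P := by simpa using hP.conj_mem h hh g⁻¹
    have h2 := mem_centralizer_iff.mp hxc _ h1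
    calc h * (g * x * g⁻¹) = g * ((g⁻¹ * h * g) * x) * g⁻¹ := by group
      _ = g * (x * (g⁻¹ * h * g)) * g⁻¹ := by rw [h2]
      _ = g * x * g⁻¹ * h := by group
  · rw [conj_pow, hx']; simp

theorem omegaZ_ne_bot [Finite G] {ℓ : ℕ} [hℓ : Fact ℓ.Prime] (P : Subgroup G) (hP : IsPGroup ℓ P)
    (hP1 : P ≠ ⊥) : omegaZ ℓ P ≠ ⊥ := by
  have : Nontrivial P := (Subgroup.nontrivial_iff_ne_bot P).mpr hP1
  have hZ : Nontrivial (Subgroup.center P) := hP.center_nontrivial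
  have hZp : IsPGroup ℓ (Subgroup.center P) := hP.to_subgroup _
  have hdvd : ℓ ∣ Nat.card (Subgroup.center P) := by
    rcases hZp.card_eq_or_dvd with h | h
    · have := Finite.one_lt_card (α := Subgroup.center P)
      omega
    · exact h
  obtain ⟨z, hz⟩ := exists_prime_orderOf_dvd_card' ℓ hdvd
  intro hbot
  have hzmem : ((z : P) : G) ∈ omegaZ ℓ P := by
    refine ⟨(z : P).2, ?_, ?_⟩
    · rw [mem_centralizer_iff]
      intro h hh
      have := Subgroup.mem_center_iff.mp z.2 ⟨h, hh⟩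
      exact congrArg Subtype.val this
    · have h1 : z ^ ℓ = 1 := by rw [← hz]; exact pow_orderOf_eq_one z
      have h2 := congrArg (fun w : Subgroup.center P => ((w : P) : G)) h1
      simpa using h2
  rw [hbot, mem_bot] at hzmem
  have hz1 : z = 1 := Subtype.ext (Subtype.ext hzmem)
  rw [hz1, orderOf_one] at hz
  exact hℓ.out.one_lt.ne hz

/-- A `q`-subgroup `D` centralizing `P₁ ≤ P` and acting trivially on `P / P₁`, `P` an `ℓ`-group,
centralizes `P`. -/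
theorem pqr_stab {ℓ q : ℕ} (hℓ : ℓ.Prime) (hq : q.Prime) (hℓq : ℓ ≠ q)
    (D P P₁ : Subgroup G) (hD : IsPGroup q D) (hP : IsPGroup ℓ P) (hP₁ : P₁ ≤ P)
    (h1 : D ≤ centralizer (P₁ : Set G))
    (h2 : ∀ d ∈ D, ∀ x ∈ P, x⁻¹ * (d * x * d⁻¹) ∈ P₁) :
    D ≤ centralizer (P : Set G) := by
  intro d hd
  rw [mem_centralizer_iff]
  intro x hx
  obtain ⟨z, hz⟩ : ∃ z, z = x⁻¹ * (d * x * d⁻¹) := ⟨_, rfl⟩
  have hzP₁ : z ∈ P₁ := hz ▸ h2 d hd x hx
  have hdz : z * d = d * z := mem_centralizer_iff.mp (h1 hd) z hzP₁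
  have h3 : d * x * d⁻¹ = x * z := by rw [hz]; group
  have h4 : ∀ k : ℕ, d * z ^ k * d⁻¹ = z ^ k := by
    intro k
    have hc : Commute d (z ^ k) := (Commute.pow_right (show Commute d z from hdz.symm) k)
    rw [hc.eq, mul_inv_cancel_right]
  have hpow : ∀ k : ℕ, d ^ k * x * (d ^ k)⁻¹ = x * z ^ k := by
    intro k
    induction k with
    | zero => simp
    | succ k ih =>
      calc d ^ (k + 1) * x * (d ^ (k + 1))⁻¹ = d * (d ^ k * x * (d ^ k)⁻¹) * d⁻¹ := by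
            rw [pow_succ']; group
        _ = d * (x * z ^ k) * d⁻¹ := by rw [ih]
        _ = (d * x * d⁻¹) * (d * z ^ k * d⁻¹) := by group
        _ = x * z * z ^ k := by rw [h3, h4]
        _ = x * z ^ (k + 1) := by rw [pow_succ']; group
  obtain ⟨a, ha⟩ := hD ⟨d, hd⟩
  have hda : d ^ q ^ a = 1 := by
    have := congrArg Subtype.val ha
    simpa using this
  obtain ⟨b, hb⟩ := hP ⟨z, hP₁ hzP₁⟩
  have hzb : z ^ ℓ ^ b = 1 := by
    have := congrArg Subtype.val hb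
    simpa using this
  have hza : z ^ q ^ a = 1 := by
    have h5 := hpow (q ^ a)
    rw [hda] at h5
    simpa using h5.symm
  have hz1 : z = 1 := by
    have h6 := pow_gcd_eq_one.mpr ⟨hza, hzb⟩
    have h7 : Nat.gcd (q ^ a) (ℓ ^ b) = 1 :=
      Nat.Coprime.pow _ _ ((Nat.coprime_primes hq hℓ).mpr (Ne.symm hℓq))
    rwa [h7, pow_one] at h6
  rw [hz1, mul_one] at h3
  calc x * d = d * x * d⁻¹ * d := by rw [h3]
    _ = d * x := by group

/-- The hypotheses of the `(ℓ, q, r)`-lemma. -/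
def PQRHyp (ℓ q r : ℕ) (R Q P : Subgroup G) : Prop :=
  Nat.card R ∣ r ∧ IsPGroup q Q ∧ IsPGroup ℓ P ∧ R ≤ normalizer (Q : Set G) ∧
    Q ≤ normalizer (P : Set G) ∧ R ≤ normalizer (P : Set G) ∧
    P ⊓ centralizer (R : Set G) = ⊥ ∧
    (q = 2 → (∃ k : ℕ, r = 2 ^ k + 1) → ∀ a ∈ Q, ∀ b ∈ Q, a * b = b * a)

theorem pqr_transfer {ℓ q r : ℕ} {R Q P : Subgroup G} (h : PQRHyp ℓ q r R Q P) (M : Subgroup G)
    (hPM : P ≤ M) (hQM : Q ≤ M) (hRM : R ≤ M) :
    PQRHyp ℓ q r (R.subgroupOf M) (Q.subgroupOf M) (P.subgroupOf M) ∧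
    (⁅Q.subgroupOf M, R.subgroupOf M⁆ ≤ centralizer ((P.subgroupOf M : Subgroup M) : Set M) →
      ⁅Q, R⁆ ≤ centralizer (P : Set G)) := by
  obtain ⟨hR, hQ, hP, hRQ, hQP, hRP, hfix, hexc⟩ := h
  refine ⟨⟨?_, hQ.comap_subtype, hP.comap_subtype, ?_, ?_, ?_, ?_, ?_⟩, ?_⟩
  · rw [Nat.card_congr (Subgroup.subgroupOfEquivOfLe hRM).toEquiv]
    exact hR
  · intro x hx
    rw [mem_subgroupOf] at hx
    rw [mem_normalizer_iff]
    intro y
    simp only [mem_subgroupOf, coe_mul, InvMemClass.coe_inv]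
    exact mem_normalizer_iff.mp (hRQ hx) y
  · intro x hx
    rw [mem_subgroupOf] at hx
    rw [mem_normalizer_iff]
    intro y
    simp only [mem_subgroupOf, coe_mul, InvMemClass.coe_inv]
    exact mem_normalizer_iff.mp (hQP hx) y
  · intro x hx
    rw [mem_subgroupOf] at hx
    rw [mem_normalizer_iff]
    intro y
    simp only [mem_subgroupOf, coe_mul, InvMemClass.coe_inv]
    exact mem_normalizer_iff.mp (hRP hx) y
  · rw [eq_bot_iff]
    intro y hy
    obtain ⟨hyP, hyC⟩ := Subgroup.mem_inf.mp hy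
    have h1 : (y : G) ∈ P ⊓ centralizer (R : Set G) := by
      refine Subgroup.mem_inf.mpr ⟨mem_subgroupOf.mp hyP, ?_⟩
      rw [mem_centralizer_iff]
      intro a ha
      have h2 := mem_centralizer_iff.mp hyC ⟨a, hRM ha⟩ (mem_subgroupOf.mpr ha)
      exact congrArg Subtype.val h2
    rw [hfix, mem_bot] at h1
    rw [mem_bot]
    exact Subtype.ext h1
  · intro h2 hk a ha b hb
    exact Subtype.ext (hexc h2 hk a ha b hb)
  · intro hle
    rw [commutator_le]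
    intro a ha b hb
    rw [mem_centralizer_iff]
    intro x hx
    have h1 : ⁅(⟨a, hQM ha⟩ : M), (⟨b, hRM hb⟩ : M)⁆ ∈ ⁅Q.subgroupOf M, R.subgroupOf M⁆ :=
      commutator_mem_commutator (mem_subgroupOf.mpr ha) (mem_subgroupOf.mpr hb)
    have h2 := mem_centralizer_iff.mp (hle h1) ⟨x, hPM hx⟩ (mem_subgroupOf.mpr hx)
    have h3 := congrArg Subtype.val h2
    simpa [commutatorElement_def] using h3

theorem pqr_map [Finite G] {ℓ q r : ℕ} (hℓ : ℓ.Prime) (hr : r.Prime) (hℓr : ℓ ≠ r)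
    {R Q P : Subgroup G} (h : PQRHyp ℓ q r R Q P) (N : Subgroup G) [hN : N.Normal] (hNP : N ≤ P) :
    PQRHyp ℓ q r (R.map (QuotientGroup.mk' N)) (Q.map (QuotientGroup.mk' N))
      (P.map (QuotientGroup.mk' N)) := by
  obtain ⟨hR, hQ, hP, hRQ, hQP, hRP, hfix, hexc⟩ := h
  have : Fact ℓ.Prime := ⟨hℓ⟩
  refine ⟨(Subgroup.card_map_dvd _ _).trans hR, hQ.map _, hP.map _,
    (Subgroup.map_mono hRQ).trans (le_normalizer_map _),
    (Subgroup.map_mono hQP).trans (le_normalizer_map _),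
    (Subgroup.map_mono hRP).trans (le_normalizer_map _), ?_, ?_⟩
  · rw [eq_bot_iff]
    intro y' hy'
    obtain ⟨hyP, hyC⟩ := Subgroup.mem_inf.mp hy'
    obtain ⟨y, hy, rfl⟩ := hyP
    have hg : ∀ a ∈ R, a * y * a⁻¹ * y⁻¹ ∈ N := by
      intro a ha
      have h1 := mem_centralizer_iff.mp hyC (QuotientGroup.mk' N a) (mem_map_of_mem _ ha)
      rw [← QuotientGroup.eq_one_iff, ← QuotientGroup.mk'_apply]
      simp only [map_mul, map_inv]
      rw [h1]
      group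
    have hNp : IsPGroup ℓ N := hP.to_le hNP
    obtain ⟨k, hk⟩ := hNp.exists_card_eq
    have hcop : (Nat.card R).Coprime (Nat.card N) := by
      rw [hk]
      exact Nat.Coprime.coprime_dvd_left hR
        (Nat.Coprime.pow_right k ((Nat.coprime_primes hr hℓ).mpr (Ne.symm hℓr)))
    have hNsolv : Group.IsSolvable N := by
      have : Group.IsNilpotent N := hNp.isNilpotent
      infer_instance
    have hRN : R ≤ normalizer (N : Set G) := by
      rw [normalizer_eq_top_iff.mpr hN]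
      exact le_top
    obtain ⟨c, hc, hcy⟩ := Cfsg.Agent.Lib.helper1.coset_fixed R N hRN hcop (Or.inr hNsolv) y hg
    have hcP : c ∈ P := by
      have := P.mul_mem (hNP hcy) hy
      simpa using this
    have hc1 : c ∈ P ⊓ centralizer (R : Set G) := Subgroup.mem_inf.mpr ⟨hcP, hc⟩
    rw [hfix, mem_bot] at hc1
    rw [hc1, one_mul] at hcy
    rw [mem_bot, QuotientGroup.mk'_apply, QuotientGroup.eq_one_iff]
    simpa using N.inv_mem hcy
  · intro h2 hk a' ha b' hb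
    obtain ⟨a, ha, rfl⟩ := ha
    obtain ⟨b, hb, rfl⟩ := hb
    rw [← map_mul, ← map_mul, hexc h2 hk a ha b hb]

theorem pqr_elem [Finite G] {ℓ q r : ℕ} (hℓ : ℓ.Prime) (hq : q.Prime) (hr : r.Prime)
    (hℓq : ℓ ≠ q) (hℓr : ℓ ≠ r) (hqr : q ≠ r)
    {R Q P : Subgroup G} (h : PQRHyp ℓ q r R Q P) [hPn : P.Normal] (hgen : P ⊔ (Q ⊔ R) = ⊤)
    (hel : omegaZ ℓ P = P) (hP1 : P ≠ ⊥) :
    ⁅Q, R⁆ ≤ centralizer (P : Set G) := by
  obtain ⟨hR, hQ, hP, hRQ, hQP, hRP, hfix, hexc⟩ := h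
  have : Fact ℓ.Prime := ⟨hℓ⟩
  have : Fact q.Prime := ⟨hq⟩
  have hPc : ∀ a ∈ P, ∀ b ∈ P, a * b = b * a := by
    intro a ha b hb
    have hb' : b ∈ omegaZ ℓ P := by rw [hel]; exact hb
    exact mem_centralizer_iff.mp hb'.2.1 a ha
  have hPe : ∀ a ∈ P, a ^ ℓ = 1 := by
    intro a ha
    have ha' : a ∈ omegaZ ℓ P := by rw [hel]; exact ha
    exact ha'.2.2
  have hRr : Nat.card R = r := by
    rcases (Nat.dvd_prime hr).mp hR with h1 | h1
    · exfalso
      have hRbot : R = ⊥ := Subgroup.card_eq_one.mp h1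
      apply hP1
      rw [eq_bot_iff, ← hfix]
      intro x hx
      refine Subgroup.mem_inf.mpr ⟨hx, ?_⟩
      rw [hRbot, mem_centralizer_iff]
      intro y hy
      rw [Subgroup.coe_bot, Set.mem_singleton_iff] at hy
      rw [hy, one_mul, mul_one]
    · exact h1
  obtain ⟨C, hCdef⟩ : ∃ C : Subgroup G, C = (Q ⊔ R) ⊓ centralizer (P : Set G) := ⟨_, rfl⟩
  have hcn : (centralizer (P : Set G)).Normal := inferInstance
  have hCn : C.Normal := by
    rw [← normalizer_eq_top_iff, eq_top_iff, ← hgen]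
    refine sup_le ?_ ?_
    · intro x hx
      rw [mem_normalizer_iff]
      intro c
      constructor
      · intro hc
        have h1 : c ∈ centralizer (P : Set G) := by
          rw [hCdef] at hc; exact (Subgroup.mem_inf.mp hc).2
        have h2 := mem_centralizer_iff.mp h1 x hx
        rw [h2, mul_inv_cancel_right]; exact hc
      · intro hc
        have h1 : x * c * x⁻¹ ∈ centralizer (P : Set G) := by
          rw [hCdef] at hc; exact (Subgroup.mem_inf.mp hc).2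
        have h2 := mem_centralizer_iff.mp h1 x hx
        have h3 : x * c * x⁻¹ = c := by
          have h4 : x * (x * c * x⁻¹) = x * c := by rw [h2]; group
          exact mul_left_cancel h4
        rw [h3] at hc; exact hc
    · intro x hx
      rw [mem_normalizer_iff]
      intro c
      rw [hCdef]
      constructor
      · intro hc
        obtain ⟨hc1, hc2⟩ := Subgroup.mem_inf.mp hc
        exact Subgroup.mem_inf.mpr ⟨(Q ⊔ R).mul_mem ((Q ⊔ R).mul_mem hx hc1) ((Q ⊔ R).inv_mem hx),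
          hcn.conj_mem c hc2 x⟩
      · intro hc
        obtain ⟨hc1, hc2⟩ := Subgroup.mem_inf.mp hc
        have h1 := (Q ⊔ R).mul_mem ((Q ⊔ R).mul_mem ((Q ⊔ R).inv_mem hx) hc1) hx
        have h2 := hcn.conj_mem _ hc2 x⁻¹
        refine Subgroup.mem_inf.mpr ⟨?_, ?_⟩
        · simpa [mul_assoc] using h1
        · simpa [mul_assoc] using h2
  have hQRcop : (Nat.card ↥(Q ⊔ R)).Coprime ℓ := by
    have h1 := Cfsg.Agent.Lib.helper13.card_sup_mul_card_inf' Q R hRQ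
    have h2 : Nat.card ↥(Q ⊔ R) ∣ Nat.card Q * Nat.card R := Dvd.intro _ h1
    obtain ⟨k, hk⟩ := hQ.exists_card_eq
    rw [hk, hRr] at h2
    exact Nat.Coprime.coprime_dvd_left h2 (Nat.Coprime.mul_left
      (Nat.Coprime.pow_left k ((Nat.coprime_primes hq hℓ).mpr (Ne.symm hℓq)))
      ((Nat.coprime_primes hr hℓ).mpr (Ne.symm hℓr)))
  have hPC : P ⊓ C = ⊥ := by
    have h1 : P ⊓ (Q ⊔ R) = ⊥ := by
      apply (Subgroup.disjoint_of_coprime_natCard ?_).eq_bot
      obtain ⟨k, hk⟩ := hP.exists_card_eq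
      rw [hk]
      exact Nat.Coprime.pow_left k hQRcop.symm
    rw [eq_bot_iff, ← h1, hCdef]
    exact inf_le_inf_left _ inf_le_left
  obtain ⟨φ, hφ⟩ : ∃ φ : G →* G ⧸ C, φ = QuotientGroup.mk' C := ⟨_, rfl⟩
  have hker : ∀ x : G, φ x = 1 ↔ x ∈ C := by
    intro x
    rw [hφ, QuotientGroup.mk'_apply, QuotientGroup.eq_one_iff]
  by_contra hcon
  have hXr : Nat.card (R.map φ) = r := by
    have hd : Nat.card (R.map φ) ∣ r := by
      rw [← hRr]; exact Subgroup.card_map_dvd _ _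
    rcases (Nat.dvd_prime hr).mp hd with h1 | h1
    · exfalso
      have hbot : R.map φ = ⊥ := Subgroup.card_eq_one.mp h1
      apply hP1
      rw [eq_bot_iff, ← hfix]
      intro x hx
      refine Subgroup.mem_inf.mpr ⟨hx, ?_⟩
      rw [mem_centralizer_iff]
      intro a ha
      have h2 : φ a ∈ R.map φ := mem_map_of_mem φ ha
      rw [hbot, mem_bot, hker, hCdef] at h2
      exact (mem_centralizer_iff.mp (Subgroup.mem_inf.mp h2).2 x hx).symm
    · exact h1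
  have hXf : (R.map φ) ⊓ centralizer ((Q.map φ : Subgroup (G ⧸ C)) : Set (G ⧸ C)) = ⊥ := by
    by_contra hne
    have h1 : R.map φ ⊓ centralizer ((Q.map φ : Subgroup (G ⧸ C)) : Set (G ⧸ C)) = R.map φ := by
      apply Subgroup.eq_of_le_of_card_ge inf_le_left
      have hd : Nat.card ↥(R.map φ ⊓ centralizer ((Q.map φ : Subgroup (G ⧸ C)) : Set (G ⧸ C))) ∣ r := by
        rw [← hXr]; exact Subgroup.card_dvd_of_le inf_le_left
      rcases (Nat.dvd_prime hr).mp hd with h2 | h2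
      · exact absurd (Subgroup.card_eq_one.mp h2) hne
      · rw [h2, hXr]
    have h3 : R.map φ ≤ centralizer ((Q.map φ : Subgroup (G ⧸ C)) : Set (G ⧸ C)) := by
      rw [← h1]; exact inf_le_right
    apply hcon
    rw [commutator_le]
    intro a ha b hb
    have h4 : φ ⁅a, b⁆ = 1 := by
      rw [map_commutatorElement]
      have h5 := mem_centralizer_iff.mp (h3 (mem_map_of_mem φ hb)) (φ a) (mem_map_of_mem φ ha)
      rw [commutatorElement_def, h5]; group
    have h6 : ⁅a, b⁆ ∈ C := (hker _).mp h4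
    rw [hCdef] at h6; exact (Subgroup.mem_inf.mp h6).2
  have hV : Cfsg.IsElementaryAbelian ℓ (P.map φ) := by
    refine ⟨⟨⟨?_⟩⟩, ?_⟩
    · rintro ⟨a', ha⟩ ⟨b', hb⟩
      obtain ⟨a, ha, rfl⟩ := ha
      obtain ⟨b, hb, rfl⟩ := hb
      apply Subtype.ext
      show φ a * φ b = φ b * φ a
      rw [← map_mul, ← map_mul, hPc a ha b hb]
    · rintro a' ⟨a, ha, rfl⟩
      rw [← map_pow, hPe a ha, map_one]
  have hV1 : P.map φ ≠ ⊥ := by
    intro hbot
    apply hP1
    rw [eq_bot_iff, ← hPC]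
    intro x hx
    have h2 : φ x ∈ P.map φ := mem_map_of_mem φ hx
    rw [hbot, mem_bot, hker] at h2
    exact Subgroup.mem_inf.mpr ⟨hx, h2⟩
  have hfaith : (R.map φ ⊔ Q.map φ) ⊓ centralizer ((P.map φ : Subgroup (G ⧸ C)) : Set (G ⧸ C)) = ⊥ := by
    rw [eq_bot_iff]
    intro y' hy'
    obtain ⟨hyA, hyC⟩ := Subgroup.mem_inf.mp hy'
    rw [← Subgroup.map_sup] at hyA
    obtain ⟨y, hy, rfl⟩ := hyA
    have hyc : y ∈ centralizer (P : Set G) := by
      rw [mem_centralizer_iff]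
      intro v hv
      have h1 := mem_centralizer_iff.mp hyC (φ v) (mem_map_of_mem φ hv)
      have h2 : φ (v⁻¹ * (y * v * y⁻¹)) = 1 := by
        simp only [map_mul, map_inv]
        rw [← h1]; group
      have h3 : v⁻¹ * (y * v * y⁻¹) ∈ C := (hker _).mp h2
      have h4 : v⁻¹ * (y * v * y⁻¹) ∈ P := P.mul_mem (P.inv_mem hv) (hPn.conj_mem v hv y)
      have h5 : v⁻¹ * (y * v * y⁻¹) ∈ P ⊓ C := Subgroup.mem_inf.mpr ⟨h4, h3⟩
      rw [hPC, mem_bot] at h5
      have h6 : y * v * y⁻¹ = v := by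
        have h7 := congrArg (fun t => v * t) h5
        simpa using h7
      calc v * y = (y * v * y⁻¹) * y := by rw [h6]
        _ = y * v := by group
    have hyC' : y ∈ C := by
      rw [hCdef]
      exact Subgroup.mem_inf.mpr ⟨by rw [sup_comm]; exact hy, hyc⟩
    rw [mem_bot]
    exact (hker _).mpr hyC'
  have hexc' : q = 2 → (∃ n : ℕ, r = 2 ^ n + 1) → IsMulCommutative (Q.map φ) := by
    intro h2 hk
    refine ⟨⟨?_⟩⟩
    rintro ⟨a', ha⟩ ⟨b', hb⟩
    obtain ⟨a, ha, rfl⟩ := ha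
    obtain ⟨b, hb, rfl⟩ := hb
    apply Subtype.ext
    show φ a * φ b = φ b * φ a
    rw [← map_mul, ← map_mul, hexc h2 hk a ha b hb]
  have hres := Cfsg.Agent.S3765.result hℓ hq hr hℓq hℓr hqr (R.map φ) (Q.map φ) (P.map φ) hXr
    (hQ.map φ) ((Subgroup.map_mono hRQ).trans (le_normalizer_map _)) hXf hV hV1
    ((Subgroup.map_mono hRP).trans (le_normalizer_map _))
    ((Subgroup.map_mono hQP).trans (le_normalizer_map _)) hfaith hexc'
  apply hres
  rw [eq_bot_iff]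
  intro v' hv'
  obtain ⟨hvV, hvC⟩ := Subgroup.mem_inf.mp hv'
  obtain ⟨v, hv, rfl⟩ := hvV
  have hvR : v ∈ centralizer (R : Set G) := by
    rw [mem_centralizer_iff]
    intro a ha
    have h1 := mem_centralizer_iff.mp hvC (φ a) (mem_map_of_mem φ ha)
    have h2 : φ (v⁻¹ * (a⁻¹ * v * a)) = 1 := by
      simp only [map_mul, map_inv]
      have h3 : (φ a)⁻¹ * φ v * φ a = φ v := by
        rw [mul_assoc, ← h1, inv_mul_cancel_left]
      rw [mul_assoc] at h3 ⊢
      rw [h3, inv_mul_cancel]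
    have h3 : v⁻¹ * (a⁻¹ * v * a) ∈ C := (hker _).mp h2
    have h4 : v⁻¹ * (a⁻¹ * v * a) ∈ P := by
      have h5 := hPn.conj_mem v hv a⁻¹
      rw [inv_inv] at h5
      exact P.mul_mem (P.inv_mem hv) h5
    have h5 : v⁻¹ * (a⁻¹ * v * a) ∈ P ⊓ C := Subgroup.mem_inf.mpr ⟨h4, h3⟩
    rw [hPC, mem_bot] at h5
    have h6 : a⁻¹ * v * a = v := by
      have h7 := congrArg (fun t => v * t) h5
      simpa using h7
    calc a * v = a * (a⁻¹ * v * a) := by rw [h6]
      _ = v * a := by group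
  have hv1 : v ∈ P ⊓ centralizer (R : Set G) := Subgroup.mem_inf.mpr ⟨hv, hvR⟩
  rw [hfix, mem_bot] at hv1
  rw [mem_bot, hv1, map_one]

theorem pqr_step {ℓ q r : ℕ} (hℓ : ℓ.Prime) (hq : q.Prime) (hr : r.Prime)
    (hℓq : ℓ ≠ q) (hℓr : ℓ ≠ r) (hqr : q ≠ r) (n : ℕ)
    (ih : ∀ (G : Type u) [Group G] [Finite G] (R Q P : Subgroup G),
      Nat.card G + Nat.card P ≤ n → PQRHyp ℓ q r R Q P → ⁅Q, R⁆ ≤ centralizer (P : Set G))
    (G : Type u) [Group G] [Finite G] (R Q P : Subgroup G) [hPn : P.Normal]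
    (hn : Nat.card G + Nat.card P ≤ n + 1) (h : PQRHyp ℓ q r R Q P) (hgen : P ⊔ (Q ⊔ R) = ⊤) :
    ⁅Q, R⁆ ≤ centralizer (P : Set G) := by
  have : Fact ℓ.Prime := ⟨hℓ⟩
  by_cases hP1 : P = ⊥
  · rw [hP1]
    intro x _
    rw [mem_centralizer_iff]
    intro y hy
    rw [Subgroup.coe_bot, Set.mem_singleton_iff] at hy
    rw [hy, one_mul, mul_one]
  by_cases hel : omegaZ ℓ P = P
  · exact pqr_elem hℓ hq hr hℓq hℓr hqr h hgen hel hP1
  · obtain ⟨P₁, hP₁⟩ : ∃ P₁, P₁ = omegaZ ℓ P := ⟨_, rfl⟩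
    have hP₁le : P₁ ≤ P := hP₁ ▸ omegaZ_le ℓ P
    have hP₁n : P₁.Normal := hP₁ ▸ omegaZ_normal ℓ P
    have hP₁1 : P₁ ≠ ⊥ := hP₁ ▸ omegaZ_ne_bot P h.2.2.1 hP1
    have hlt : Nat.card P₁ < Nat.card P := by
      by_contra hge
      rw [not_lt] at hge
      exact hel (hP₁ ▸ Subgroup.eq_of_le_of_card_ge hP₁le hge)
    obtain ⟨hR, hQ, hP, hRQ, hQP, hRP, hfix, hexc⟩ := h
    have h1 : ⁅Q, R⁆ ≤ centralizer (P₁ : Set G) := by
      apply ih G R Q P₁ (by omega)
      refine ⟨hR, hQ, hP.to_le hP₁le, hRQ, ?_, ?_, ?_, hexc⟩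
      · rw [normalizer_eq_top_iff.mpr hP₁n]; exact le_top
      · rw [normalizer_eq_top_iff.mpr hP₁n]; exact le_top
      · rw [eq_bot_iff, ← hfix]; exact inf_le_inf_right _ hP₁le
    have h2 : ⁅Q.map (QuotientGroup.mk' P₁), R.map (QuotientGroup.mk' P₁)⁆ ≤
        centralizer ((P.map (QuotientGroup.mk' P₁) : Subgroup (G ⧸ P₁)) : Set (G ⧸ P₁)) := by
      apply ih (G ⧸ P₁) _ _ _ ?_
        (pqr_map hℓ hr hℓr ⟨hR, hQ, hP, hRQ, hQP, hRP, hfix, hexc⟩ P₁ hP₁le)
      have hc1 : Nat.card G = Nat.card (G ⧸ P₁) * Nat.card P₁ :=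
        Subgroup.card_eq_card_quotient_mul_card_subgroup P₁
      have hc2 : Nat.card (P.map (QuotientGroup.mk' P₁)) ≤ Nat.card P :=
        Nat.le_of_dvd Nat.card_pos (Subgroup.card_map_dvd _ _)
      have hc3 : 1 < Nat.card P₁ := (Subgroup.one_lt_card_iff_ne_bot P₁).mpr hP₁1
      have hc4 : 0 < Nat.card (G ⧸ P₁) := Nat.card_pos
      nlinarith
    apply pqr_stab hℓ hq hℓq ⁅Q, R⁆ P P₁
      (hQ.to_le (Cfsg.Agent.Lib.helper1.commutator_le_of_le_normalizer hRQ)) hP hP₁le h1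
    intro d hd x hx
    have h3 : QuotientGroup.mk' P₁ d ∈
        ⁅Q.map (QuotientGroup.mk' P₁), R.map (QuotientGroup.mk' P₁)⁆ := by
      rw [← map_commutator]; exact mem_map_of_mem _ hd
    have h4 := mem_centralizer_iff.mp (h2 h3) (QuotientGroup.mk' P₁ x) (mem_map_of_mem _ hx)
    rw [← QuotientGroup.eq_one_iff, ← QuotientGroup.mk'_apply]
    simp only [map_mul, map_inv]
    rw [← h4]; group

theorem pqr_aux {ℓ q r : ℕ} (hℓ : ℓ.Prime) (hq : q.Prime) (hr : r.Prime)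
    (hℓq : ℓ ≠ q) (hℓr : ℓ ≠ r) (hqr : q ≠ r) (n : ℕ) :
    ∀ (G : Type u) [Group G] [Finite G] (R Q P : Subgroup G),
      Nat.card G + Nat.card P ≤ n → PQRHyp ℓ q r R Q P → ⁅Q, R⁆ ≤ centralizer (P : Set G) := by
  induction n with
  | zero =>
    intro G _ _ R Q P hn
    have := Nat.card_pos (α := G)
    omega
  | succ n ih =>
    intro G _ _ R Q P hn h
    obtain ⟨M, hM⟩ : ∃ M : Subgroup G, M = P ⊔ (Q ⊔ R) := ⟨_, rfl⟩
    have hPM : P ≤ M := hM ▸ le_sup_left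
    have hQM : Q ≤ M := hM ▸ (le_sup_left.trans le_sup_right)
    have hRM : R ≤ M := hM ▸ (le_sup_right.trans le_sup_right)
    obtain ⟨h', hback⟩ := pqr_transfer h M hPM hQM hRM
    apply hback
    have hPn : (P.subgroupOf M).Normal := by
      rw [normal_subgroupOf_iff_le_normalizer hPM, hM]
      exact sup_le le_normalizer (sup_le h.2.2.2.2.1 h.2.2.2.2.2.1)
    have hgen : P.subgroupOf M ⊔ (Q.subgroupOf M ⊔ R.subgroupOf M) = ⊤ := by
      rw [← subgroupOf_sup hQM hRM, ← subgroupOf_sup hPM (sup_le hQM hRM), ← hM, subgroupOf_self]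
    have hcard : Nat.card M + Nat.card (P.subgroupOf M) ≤ n + 1 := by
      have h1 : Nat.card M ≤ Nat.card G := Subgroup.card_le_card_group M
      have h2 : Nat.card (P.subgroupOf M) = Nat.card P :=
        Nat.card_congr (subgroupOfEquivOfLe hPM).toEquiv
      omega
    exact pqr_step hℓ hq hr hℓq hℓr hqr n ih ↥M _ _ _ hcard h' hgen

/-- **The `(ℓ, q, r)`-lemma.**  Let `ℓ, q, r` be distinct primes, `R` a subgroup of order dividing
`r` normalizing a `q`-subgroup `Q`, both normalizing an `ℓ`-subgroup `P` with `C_P(R) = 1`.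
Then `[Q, R]` centralizes `P`, unless `q = 2`, `r` is a Fermat prime and `Q` is nonabelian. -/
theorem pqr_centralizes {G : Type u} [Group G] [Finite G] {ℓ q r : ℕ} (hℓ : ℓ.Prime) (hq : q.Prime)
    (hr : r.Prime) (hℓq : ℓ ≠ q) (hℓr : ℓ ≠ r) (hqr : q ≠ r) (R Q P : Subgroup G)
    (hR : Nat.card R ∣ r) (hQ : IsPGroup q Q) (hP : IsPGroup ℓ P)
    (hRQ : R ≤ normalizer (Q : Set G)) (hQP : Q ≤ normalizer (P : Set G))
    (hRP : R ≤ normalizer (P : Set G)) (hfix : P ⊓ centralizer (R : Set G) = ⊥)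
    (hexc : q = 2 → (∃ k : ℕ, r = 2 ^ k + 1) → ∀ a ∈ Q, ∀ b ∈ Q, a * b = b * a) :
    ⁅Q, R⁆ ≤ centralizer (P : Set G) :=
  pqr_aux hℓ hq hr hℓq hℓr hqr _ G R Q P le_rfl ⟨hR, hQ, hP, hRQ, hQP, hRP, hfix, hexc⟩

end pqr

end Cfsg.Agent.Lib.helper29
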