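import Mathlib
import Cfsg.Agent.Lib.helper29.PQR
import Cfsg.Agent.Lib.helper29.Trans3
import Cfsg.Agent.Lib.helper31.BenderInv4

set_option autoImplicit false

/-!
# A fixed-point-free automorphism of prime order on `F(K)` acts trivially on `K / F(K)`

`comm_le_fittingOf`: `K` a normal solvable subgroup of odd order of the finite group `G`, `R ≤ G`
of prime order coprime to `|K|` with `C_{F(K)}(R) = 1`.  Then `[K, R] ≤ F(K)`.
(B-G Theorem 3.7-type statement; uses the `(ℓ, q, r)`-lemma `pqr_centralizes`.)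
-/

open Cfsg

namespace Cfsg.Agent.Lib.helper29

open Subgroup
open Pointwise
open scoped commutatorElement

universe u

section fit

variable {G : Type u} [Group G]

theorem conj_pow_of_comm {d x z : G} (h3 : d * x * d⁻¹ = x * z) (hdz : z * d = d * z) (k : ℕ) :
    d ^ k * x * (d ^ k)⁻¹ = x * z ^ k := by
  have h4 : ∀ k : ℕ, d * z ^ k * d⁻¹ = z ^ k := by
    intro k
    have hc : Commute d (z ^ k) := (Commute.pow_right (show Commute d z from hdz.symm) k)
    rw [hc.eq, mul_inv_cancel_right]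
  induction k with
  | zero => simp
  | succ k ih =>
    calc d ^ (k + 1) * x * (d ^ (k + 1))⁻¹ = d * (d ^ k * x * (d ^ k)⁻¹) * d⁻¹ := by
          rw [pow_succ']; group
      _ = d * (x * z ^ k) * d⁻¹ := by rw [ih]
      _ = (d * x * d⁻¹) * (d * z ^ k * d⁻¹) := by group
      _ = x * z * z ^ k := by rw [h3, h4]
      _ = x * z ^ (k + 1) := by rw [pow_succ']; group

theorem piCoreOf_normal_of_normal (π : Set ℕ) (K : Subgroup G) [hK : K.Normal] :
    (piCoreOf π K).Normal := by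
  rw [← normalizer_eq_top_iff, eq_top_iff]
  have h1 := normalizer_le_normalizer_piCoreOf π K
  rwa [normalizer_eq_top_iff.mpr hK] at h1

theorem isPGroup_piCoreOf_singleton [Finite G] {ℓ : ℕ} (hℓ : ℓ.Prime) (K : Subgroup G) :
    IsPGroup ℓ (piCoreOf {ℓ} K) := by
  have : Fact ℓ.Prime := ⟨hℓ⟩
  have h1 := prime_mem_of_dvd_card_piCoreOf ({ℓ} : Set ℕ) K
  have h2 : Nat.card (piCoreOf ({ℓ} : Set ℕ) K) =
      ℓ ^ (Nat.card (piCoreOf ({ℓ} : Set ℕ) K)).primeFactorsList.length :=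
    Nat.eq_prime_pow_of_unique_prime_dvd Nat.card_pos.ne' (fun {d} hd hdvd => h1 d hd hdvd)
  exact IsPGroup.of_card h2

/-- The `(ℓ, q, r)`-lemma inside a subgroup `K` of odd order coprime to `r`: no side conditions
on the primes are needed. -/
theorem pqr_odd [Finite G] (K R Q P : Subgroup G) (hodd : Odd (Nat.card K))
    (hr : (Nat.card R).Prime) (hcop : (Nat.card R).Coprime (Nat.card K)) {q ℓ : ℕ} (hq : q.Prime)
    (hℓ : ℓ.Prime) (hqℓ : q ≠ ℓ) (hQK : Q ≤ K) (hPK : P ≤ K) (hQ : IsPGroup q Q)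
    (hP : IsPGroup ℓ P) (hRQ : R ≤ normalizer (Q : Set G)) (hQP : Q ≤ normalizer (P : Set G))
    (hRP : R ≤ normalizer (P : Set G)) (hfix : P ⊓ centralizer (R : Set G) = ⊥) :
    ⁅Q, R⁆ ≤ centralizer (P : Set G) := by
  have : Fact q.Prime := ⟨hq⟩
  have : Fact ℓ.Prime := ⟨hℓ⟩
  by_cases hQ1 : Q = ⊥
  · rw [hQ1, Subgroup.commutator_bot_left]; exact bot_le
  by_cases hP1 : P = ⊥
  · rw [hP1]
    intro x _
    rw [mem_centralizer_iff]
    intro y hy
    rw [Subgroup.coe_bot, Set.mem_singleton_iff] at hy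
    rw [hy, one_mul, mul_one]
  have hqK : q ∣ Nat.card K := by
    rcases hQ.card_eq_or_dvd with h | h
    · exact absurd (Subgroup.card_eq_one.mp h) hQ1
    · exact h.trans (Subgroup.card_dvd_of_le hQK)
  have hℓK : ℓ ∣ Nat.card K := by
    rcases hP.card_eq_or_dvd with h | h
    · exact absurd (Subgroup.card_eq_one.mp h) hP1
    · exact h.trans (Subgroup.card_dvd_of_le hPK)
  have hq2 : q ≠ 2 := by
    intro h; rw [h] at hqK
    exact (Nat.not_even_iff_odd.mpr hodd) (even_iff_two_dvd.mpr hqK)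
  have hqr : q ≠ Nat.card R := by
    intro h; rw [h] at hqK
    exact (Nat.Prime.coprime_iff_not_dvd hr).mp hcop hqK
  have hℓr : ℓ ≠ Nat.card R := by
    intro h; rw [h] at hℓK
    exact (Nat.Prime.coprime_iff_not_dvd hr).mp hcop hℓK
  exact pqr_centralizes hℓ hq hr (Ne.symm hqℓ) hℓr hqr R Q P dvd_rfl hQ hP hRQ hQP hRP hfix
    (fun h => absurd h hq2)

theorem fittingOf_normal_of_normal (K : Subgroup G) [hK : K.Normal] : (fittingOf K).Normal := by
  rw [← normalizer_eq_top_iff, eq_top_iff]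
  have := Cfsg.Agent.Lib.helper28.fittingSubgroup_characteristic K
  have h1 := Cfsg.Agent.Lib.helper1.normalizer_le_normalizer_map_of_characteristic K
    (fittingSubgroup K)
  rw [normalizer_eq_top_iff.mpr hK] at h1
  exact h1

theorem fittingOf_le (K : Subgroup G) : fittingOf K ≤ K := by
  unfold fittingOf
  exact Subgroup.map_subtype_le _

/-- Let `N ≤ K` be normal subgroups of `G`, `K` of odd order, `R` of prime order coprime to `|K|`
acting fixed-point-freely on `F(K)`, and `Q` an `R`-invariant Sylow `q`-subgroup of `N` with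
`N = F(K) Q`.  Then `[Q, R] ≤ F(K)`. -/
theorem comm_sylow_le_fittingOf [Finite G] (K N R : Subgroup G) [hKn : K.Normal] [hNn : N.Normal]
    (hNK : N ≤ K) (hFN : fittingOf K ≤ N) (hodd : Odd (Nat.card K)) (hr : (Nat.card R).Prime)
    (hcop : (Nat.card R).Coprime (Nat.card K)) (hfix : fittingOf K ⊓ centralizer (R : Set G) = ⊥)
    {q : ℕ} [hqF : Fact q.Prime] (P : Sylow q N)
    (hRQ : R ≤ normalizer (((P : Subgroup N).map N.subtype : Subgroup G) : Set G))
    (hNFQ : N ≤ fittingOf K ⊔ (P : Subgroup N).map N.subtype) :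
    ⁅(P : Subgroup N).map N.subtype, R⁆ ≤ fittingOf K := by
  have hq := hqF.out
  have hFn : (fittingOf K).Normal := fittingOf_normal_of_normal K
  obtain ⟨Q, hQ⟩ : ∃ Q : Subgroup G, Q = (P : Subgroup N).map N.subtype := ⟨_, rfl⟩
  rw [← hQ] at hRQ hNFQ ⊢
  have hQN : Q ≤ N := by rw [hQ]; exact Subgroup.map_subtype_le _
  have hQK : Q ≤ K := hQN.trans hNK
  have hQp : IsPGroup q Q := by rw [hQ]; exact P.isPGroup'.map _
  obtain ⟨D, hD⟩ : ∃ D : Subgroup G, D = ⁅Q, R⁆ := ⟨_, rfl⟩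
  rw [← hD]
  have hDQ : D ≤ Q := hD ▸ Cfsg.Agent.Lib.helper1.commutator_le_of_le_normalizer hRQ
  have h1 : ∀ ℓ : ℕ, ℓ.Prime → ℓ ≠ q → piCoreOf {ℓ} K ≤ centralizer (D : Set G) := by
    intro ℓ hℓ hℓq
    have hn : (piCoreOf ({ℓ} : Set ℕ) K).Normal := piCoreOf_normal_of_normal _ K
    have hN' : normalizer ((piCoreOf ({ℓ} : Set ℕ) K : Subgroup G) : Set G) = ⊤ :=
      normalizer_eq_top_iff.mpr hn
    have h2 := pqr_odd K R Q (piCoreOf {ℓ} K) hodd hr hcop hq hℓ (Ne.symm hℓq) hQK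
      (piCoreOf_le _ _) hQp (isPGroup_piCoreOf_singleton hℓ K) hRQ (by rw [hN']; exact le_top)
      (by rw [hN']; exact le_top)
      (by
        rw [eq_bot_iff, ← hfix]
        exact inf_le_inf_right _
          (Cfsg.Agent.Lib.helper31.bi_piCoreOf_singleton_le_fittingOf K hℓ))
    rw [← hD] at h2
    exact Subgroup.le_centralizer_iff.mp h2
  have hOq : (piCoreOf ({q} : Set ℕ) K).Normal := piCoreOf_normal_of_normal _ K
  have h2 : fittingOf K ≤ centralizer (D : Set G) ⊔ piCoreOf {q} K := by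
    apply Cfsg.Agent.Lib.helper31.bi_fittingOf_le_of_forall
    intro p hp
    by_cases hpq : p = q
    · rw [hpq]; exact le_sup_right
    · exact (h1 p hp hpq).trans le_sup_left
  have hOqN : piCoreOf {q} K ≤ N :=
    (Cfsg.Agent.Lib.helper31.bi_piCoreOf_singleton_le_fittingOf K hq).trans hFN
  have hOqQ : piCoreOf {q} K ≤ Q := by
    have hsn : ((piCoreOf ({q} : Set ℕ) K).subgroupOf N).Normal := inferInstance
    have hsp : IsPGroup q ((piCoreOf ({q} : Set ℕ) K).subgroupOf N) :=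
      (isPGroup_piCoreOf_singleton hq K).comap_subtype
    have h3 := Cfsg.Agent.Lib.helper1.normal_pgroup_le_sylow _ hsp P
    have h4 := Subgroup.map_mono (f := N.subtype) h3
    rw [Subgroup.subgroupOf_map_subtype, inf_eq_left.mpr hOqN, ← hQ] at h4
    exact h4
  have h3 : ∀ g : G, ∀ d ∈ D, g * d * g⁻¹ ∈ Q := by
    intro g d hd
    obtain ⟨n, hn⟩ := Cfsg.Agent.Lib.helper1.sylow_map_conj_of_mem_normalizer N P g⁻¹
      (by rw [normalizer_eq_top_iff.mpr hNn]; trivial)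
    rw [← hQ] at hn
    have hnN : (n : G) ∈ fittingOf K ⊔ Q := hNFQ n.2
    obtain ⟨f, hf, s, hs, hfs⟩ := (mem_sup_of_normal_left (hs := hFn)).mp hnN
    obtain ⟨c, hc, a, ha, hca⟩ := (mem_sup_of_normal_right (ht := hOq)).mp (h2 hf)
    have hd' : d ∈ MulAut.conj (n : G) • Q := by
      rw [Cfsg.Agent.Lib.helper1.mem_conj_smul]
      have hcd : c⁻¹ * d * c = d := by
        have h5 := mem_centralizer_iff.mp hc d hd
        rw [mul_assoc, h5, inv_mul_cancel_left]
      have e : (n : G)⁻¹ * d * n = (a * s)⁻¹ * (c⁻¹ * d * c) * (a * s) := by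
        rw [← hfs, ← hca]; group
      rw [e, hcd]
      exact Q.mul_mem (Q.mul_mem (Q.inv_mem (Q.mul_mem (hOqQ ha) hs)) (hDQ hd))
        (Q.mul_mem (hOqQ ha) hs)
    rw [← hn, Cfsg.Agent.Lib.helper1.mem_conj_smul] at hd'
    simpa using hd'
  have h4 : Subgroup.normalClosure (D : Set G) ≤ Q := by
    rw [Subgroup.normalClosure, Subgroup.closure_le]
    intro y hy
    rw [Group.mem_conjugatesOfSet_iff] at hy
    obtain ⟨d, hd, hconj⟩ := hy
    obtain ⟨g, rfl⟩ := isConj_iff.mp hconj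
    exact h3 g d hd
  have h5 : Subgroup.normalClosure (D : Set G) ≤ piCoreOf {q} K := by
    apply le_piCoreOf (h4.trans hQK)
    · rw [normalizer_eq_top_iff.mpr Subgroup.normalClosure_normal]; exact le_top
    · intro p hp hpd
      have hE : IsPGroup q (Subgroup.normalClosure (D : Set G)) := hQp.to_le h4
      obtain ⟨k, hk⟩ := hE.exists_card_eq
      rw [hk] at hpd
      exact (Nat.prime_dvd_prime_iff_eq hp hq).mp (hp.dvd_of_dvd_pow hpd)
  exact (Subgroup.le_normalClosure.trans h5).trans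
    (Cfsg.Agent.Lib.helper31.bi_piCoreOf_singleton_le_fittingOf K hq)

/-- **Fixed-point-free action on the Fitting subgroup.**  Let `K` be a normal solvable subgroup of
odd order of the finite group `G` and `R ≤ G` of prime order coprime to `|K|` with
`C_{F(K)}(R) = 1`.  Then `[K, R] ≤ F(K)`. -/
theorem comm_le_fittingOf [Finite G] (K R : Subgroup G) [hKn : K.Normal]
    (hKs : Group.IsSolvable K) (hodd : Odd (Nat.card K)) (hr : (Nat.card R).Prime)
    (hcop : (Nat.card R).Coprime (Nat.card K))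
    (hfix : fittingOf K ⊓ centralizer (R : Set G) = ⊥) : ⁅K, R⁆ ≤ fittingOf K := by
  classical
  obtain ⟨F, hF⟩ : ∃ F : Subgroup G, F = fittingOf K := ⟨_, rfl⟩
  have hFn : F.Normal := hF ▸ fittingOf_normal_of_normal K
  have hFK : F ≤ K := hF ▸ fittingOf_le K
  obtain ⟨φ, hφ⟩ : ∃ φ : G →* G ⧸ F, φ = QuotientGroup.mk' F := ⟨_, rfl⟩
  have hφs : Function.Surjective φ := hφ ▸ QuotientGroup.mk'_surjective F
  have hker : ∀ x : G, φ x = 1 ↔ x ∈ F := by
    intro x; rw [hφ, QuotientGroup.mk'_apply, QuotientGroup.eq_one_iff]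
  obtain ⟨Kb, hKb⟩ : ∃ Kb : Subgroup (G ⧸ F), Kb = K.map φ := ⟨_, rfl⟩
  obtain ⟨Rb, hRb⟩ : ∃ Rb : Subgroup (G ⧸ F), Rb = R.map φ := ⟨_, rfl⟩
  have hKbn : Kb.Normal := hKb ▸ Subgroup.Normal.map hKn φ hφs
  have hKbs : Group.IsSolvable Kb := by
    rw [hKb]
    exact Group.isSolvable_of_surjective (f := (φ.subgroupMap K)) (φ.subgroupMap_surjective K)
  have hA : ∀ q : ℕ, q.Prime → piCoreOf {q} Kb ≤ centralizer (Rb : Set (G ⧸ F)) := by
    intro q hq
    have hqF : Fact q.Prime := ⟨hq⟩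
    obtain ⟨Ob, hOb⟩ : ∃ Ob : Subgroup (G ⧸ F), Ob = piCoreOf {q} Kb := ⟨_, rfl⟩
    rw [← hOb]
    have hObn : Ob.Normal := hOb ▸ piCoreOf_normal_of_normal _ Kb
    have hObp : IsPGroup q Ob := hOb ▸ isPGroup_piCoreOf_singleton hq Kb
    have hObK : Ob ≤ Kb := hOb ▸ piCoreOf_le _ _
    obtain ⟨N, hN⟩ : ∃ N : Subgroup G, N = Ob.comap φ := ⟨_, rfl⟩
    have hNn : N.Normal := hN ▸ hObn.comap φ
    have hNK : N ≤ K := by
      intro n hn
      rw [hN, mem_comap] at hn
      have h1 : φ n ∈ Kb := hObK hn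
      rw [hKb] at h1
      obtain ⟨k, hk, hkn⟩ := h1
      have h2 : k⁻¹ * n ∈ F := by rw [← hker, map_mul, map_inv, hkn, inv_mul_cancel]
      have h3 := K.mul_mem hk (hFK h2)
      simpa using h3
    have hFN : F ≤ N := by
      intro f hf
      rw [hN, mem_comap, (hker f).mpr hf]
      exact Ob.one_mem
    have hNs : Group.IsSolvable N :=
      Group.isSolvable_of_isSolvable_injective (Subgroup.inclusion_injective hNK)
    have hcopN : (Nat.card R).Coprime (Nat.card N) :=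
      Nat.Coprime.coprime_dvd_right (Subgroup.card_dvd_of_le hNK) hcop
    obtain ⟨P, hP⟩ := Cfsg.Agent.Lib.helper1.exists_invariant_sylow (p := q) R N
      (by rw [normalizer_eq_top_iff.mpr hNn]; exact le_top) hcopN (Or.inr hNs)
    obtain ⟨Q, hQ⟩ : ∃ Q : Subgroup G, Q = (P : Subgroup N).map N.subtype := ⟨_, rfl⟩
    have hNFQ : N ≤ F ⊔ Q := by
      rw [← Subgroup.relIndex_eq_one]
      have h1 : (F ⊔ Q).relIndex N ∣ F.relIndex N :=
        Subgroup.relIndex_dvd_of_le_left N le_sup_left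
      have h2 : F.relIndex N = Nat.card Ob := by
        have h3 : (⊥ : Subgroup (G ⧸ F)).comap φ = F := by
          rw [MonoidHom.comap_bot, hφ, QuotientGroup.ker_mk']
        have h4 := Subgroup.relIndex_comap (H := (⊥ : Subgroup (G ⧸ F))) φ N
        rw [h3, Subgroup.relIndex_bot_left, hN,
          Subgroup.map_comap_eq_self_of_surjective hφs] at h4
        rw [hN]
        exact h4
      have h5 : (F ⊔ Q).relIndex N ∣ Q.relIndex N :=
        Subgroup.relIndex_dvd_of_le_left N le_sup_right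
      have h6 : Q.relIndex N = (P : Subgroup N).index := by
        rw [hQ]; unfold Subgroup.relIndex
        rw [Subgroup.subgroupOf, Subgroup.comap_map_eq_self_of_injective N.subtype_injective]
      have h7 : ¬ q ∣ (F ⊔ Q).relIndex N := fun h => P.not_dvd_index (h6 ▸ h.trans h5)
      obtain ⟨k, hk⟩ := hObp.exists_card_eq
      rw [h2, hk] at h1
      exact Nat.Coprime.eq_one_of_dvd
        (Nat.Coprime.pow_right k ((Nat.Prime.coprime_iff_not_dvd hq).mpr h7).symm) h1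
    have hB := comm_sylow_le_fittingOf K N R hNK (hF ▸ hFN) hodd hr hcop hfix P (hQ ▸ hP)
      (by rw [← hF, ← hQ]; exact hNFQ)
    rw [← hQ, ← hF] at hB
    intro y' hy'
    obtain ⟨n, rfl⟩ := hφs y'
    have hnN : n ∈ N := by rw [hN, mem_comap]; exact hy'
    obtain ⟨f, hf, s, hs, hfs⟩ := (mem_sup_of_normal_left (hs := hFn)).mp (hNFQ hnN)
    rw [mem_centralizer_iff]
    intro h hh
    rw [hRb] at hh
    obtain ⟨x, hx, rfl⟩ := hh
    have h1 : φ n = φ s := by rw [← hfs, map_mul, (hker f).mpr hf, one_mul]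
    have h2 : φ ⁅s, x⁆ = 1 := (hker _).mpr (hB (commutator_mem_commutator hs hx))
    rw [map_commutatorElement, commutatorElement_def] at h2
    rw [h1]
    exact (mul_inv_eq_iff_eq_mul.mp (mul_inv_eq_one.mp h2)).symm
  have hFc : fittingOf Kb ≤ centralizer (Rb : Set (G ⧸ F)) :=
    Cfsg.Agent.Lib.helper31.bi_fittingOf_le_of_forall Kb _ hA
  rw [commutator_le]
  intro k hk x hx
  obtain ⟨y, hy⟩ : ∃ y, y = φ k := ⟨_, rfl⟩
  obtain ⟨a, ha⟩ : ∃ a, a = φ x := ⟨_, rfl⟩
  have hyK : y ∈ Kb := by rw [hy, hKb]; exact mem_map_of_mem φ hk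
  have haR : a ∈ Rb := by rw [ha, hRb]; exact mem_map_of_mem φ hx
  obtain ⟨w, hw⟩ : ∃ w, w = y⁻¹ * (a * y * a⁻¹) := ⟨_, rfl⟩
  have hwK : w ∈ Kb := by
    rw [hw]; exact Kb.mul_mem (Kb.inv_mem hyK) (hKbn.conj_mem y hyK a)
  have hwC : w ∈ centralizer ((fittingOf Kb : Subgroup (G ⧸ F)) : Set (G ⧸ F)) := by
    rw [mem_centralizer_iff]
    intro l hl
    have hc1 : Commute a l := mem_centralizer_iff.mp (hFc hl) a haR
    have hyl : y * l * y⁻¹ ∈ fittingOf Kb := by
      have hn := Cfsg.Agent.Lib.helper31.bi_le_normalizer_fittingOf Kb hyK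
      exact (mem_normalizer_iff.mp hn l).mp hl
    have hc2 : Commute a (y * l * y⁻¹) := mem_centralizer_iff.mp (hFc hyl) a haR
    rw [hw]
    calc l * (y⁻¹ * (a * y * a⁻¹)) = y⁻¹ * ((y * l * y⁻¹) * a) * y * a⁻¹ := by group
      _ = y⁻¹ * (a * (y * l * y⁻¹)) * y * a⁻¹ := by rw [hc2.eq]
      _ = y⁻¹ * (a * y) * (l * a⁻¹) := by group
      _ = y⁻¹ * (a * y) * (a⁻¹ * l) := by rw [hc1.inv_left.eq]
      _ = y⁻¹ * (a * y * a⁻¹) * l := by group
  have hwF : w ∈ fittingOf Kb := by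
    apply Cfsg.Agent.Lib.helper31.bi_X_inf_R_le Kb Kb hKbs (inf_le_left.trans le_normalizer)
    exact Subgroup.mem_inf.mpr ⟨Subgroup.mem_inf.mpr ⟨hwK, hwC⟩, hwK⟩
  have hwa : w * a = a * w := (mem_centralizer_iff.mp (hFc hwF) a haR).symm
  have h3 : a * y * a⁻¹ = y * w := by rw [hw]; group
  have hpow := conj_pow_of_comm h3 hwa (Nat.card R)
  have har : a ^ Nat.card R = 1 := by
    rw [ha, ← map_pow]
    have h4 : (⟨x, hx⟩ : R) ^ Nat.card R = 1 := pow_card_eq_one'
    have h5 : x ^ Nat.card R = 1 := congrArg Subtype.val h4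
    rw [h5, map_one]
  rw [har] at hpow
  have hwr : w ^ Nat.card R = 1 := by simpa using hpow.symm
  have hwk : w ^ Nat.card K = 1 := by
    have h4 : (⟨w, hwK⟩ : Kb) ^ Nat.card Kb = 1 := pow_card_eq_one'
    have h5 : w ^ Nat.card Kb = 1 := congrArg Subtype.val h4
    have h6 : Nat.card Kb ∣ Nat.card K := by rw [hKb]; exact Subgroup.card_map_dvd _ _
    obtain ⟨m, hm⟩ := h6
    rw [hm, pow_mul, h5, one_pow]
  have hw1 : w = 1 := by
    have h6 := pow_gcd_eq_one.mpr ⟨hwr, hwk⟩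
    rwa [Nat.Coprime.gcd_eq_one hcop, pow_one] at h6
  rw [hw1, mul_one] at h3
  have h7 : x * k * x⁻¹ * k⁻¹ ∈ F := by
    rw [← hker]
    simp only [map_mul, map_inv]
    rw [← ha, ← hy, h3, mul_inv_cancel]
  have h8 : ⁅k, x⁆ = (x * k * x⁻¹ * k⁻¹)⁻¹ := by rw [commutatorElement_def]; group
  rw [h8, ← hF]
  exact F.inv_mem h7

end fit

end Cfsg.Agent.Lib.helper29
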