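import Mathlib
import Cfsg.Agent.Lib.helper29.PQR2
import Cfsg.Agent.Lib.helper13.BGExc
import Cfsg.Agent.Lib.helper66.PGroupAction

set_option autoImplicit false

/-!
# The fixed-point-free lemma of Bender–Glauberman section 11 (`PFpf`)

`pFpf`: `M` maximal in the minimal simple group `G` of odd order with `M_σ` nilpotent, `X ≤ M` of
prime order `p ∉ σ(M)` acting fixed-point-freely on `M_σ`, `R ≤ M` an `X`-invariant `t`-subgroup,
`t ∉ σ(M) ∪ {p}`.  Then `[R, X]` centralizes `M_σ`.  (The `(ℓ, q, r)`-lemma applied to every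
`O_ℓ(M_σ)`.)
-/

open Cfsg

namespace Cfsg.Agent.Lib.helper29

open Subgroup
open scoped commutatorElement

universe u

/-- In a nilpotent subgroup `K`, every Sylow `ℓ`-subgroup lies in `O_ℓ(K)`. -/
theorem sylow_map_le_piCoreOf_singleton {G : Type u} [Group G] [Finite G] (K : Subgroup G)
    (hK : Group.IsNilpotent K) (ℓ : ℕ) [hℓ : Fact ℓ.Prime] (B : Sylow ℓ K) :
    (B : Subgroup K).map K.subtype ≤ piCoreOf {ℓ} K := by
  have hBn : (B : Subgroup K).Normal := inferInstance
  unfold piCoreOf
  apply Subgroup.map_mono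
  unfold piCore
  apply le_sSup
  refine ⟨hBn, ?_⟩
  intro q hq hdvd
  obtain ⟨n, hn⟩ := IsPGroup.iff_card.mp B.isPGroup'
  rw [hn] at hdvd
  exact (Nat.prime_dvd_prime_iff_eq hq hℓ.out).mp (hq.dvd_of_dvd_pow hdvd)

/-- The fixed-point-free lemma (`PFpf` of the shared B-G section 11 interface). -/
theorem pFpf {G : Type u} [Group G] (hG : IsMinSimpleOddOrder G) :
    Cfsg.Agent.Lib.helper13.PFpf G := by
  have hodd : Odd (Nat.card G) := hG.1
  have hfin : Finite G := Nat.finite_of_card_ne_zero (fun h => by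
    rw [h] at hodd; exact Nat.not_odd_zero hodd)
  intro M hM hnil p X hp hpσ hXM hXcard hfix t R ht htp htσ hR hRM hXR
  have hMK : M ≤ normalizer ((sigmaCore M : Subgroup G) : Set G) :=
    le_normalizer.trans (normalizer_le_normalizer_piCoreOf (sigma M) M)
  have hKprime : ∀ q : ℕ, q.Prime → q ∣ Nat.card (sigmaCore M) → q ∈ sigma M :=
    prime_mem_of_dvd_card_piCoreOf (sigma M) M
  have hC : sigmaCore M ⊓ centralizer ((⁅R, X⁆ : Subgroup G) : Set G) = sigmaCore M := by
    apply Cfsg.Agent.Lib.helper66.eq_of_forall_sylow_le inf_le_left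
    intro ℓ hℓ
    have B : Sylow ℓ (sigmaCore M) := default
    refine ⟨B, ?_⟩
    by_cases hℓσ : ℓ ∈ sigma M
    · have hℓt : ℓ ≠ t := fun h => htσ (h ▸ hℓσ)
      have hℓp : ℓ ≠ p := fun h => hpσ (h ▸ hℓσ)
      have hBP := sylow_map_le_piCoreOf_singleton (sigmaCore M) hnil ℓ B
      have hPK : piCoreOf {ℓ} (sigmaCore M) ≤ sigmaCore M := by
        unfold piCoreOf
        exact Subgroup.map_subtype_le _
      have hPp : IsPGroup ℓ (piCoreOf {ℓ} (sigmaCore M)) :=
        isPGroup_piCoreOf_singleton hℓ.out (sigmaCore M)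
      have hNP : M ≤ normalizer ((piCoreOf {ℓ} (sigmaCore M) : Subgroup G) : Set G) :=
        hMK.trans (normalizer_le_normalizer_piCoreOf {ℓ} (sigmaCore M))
      have hfixP : piCoreOf {ℓ} (sigmaCore M) ⊓ centralizer (X : Set G) = ⊥ := by
        rw [eq_bot_iff, ← hfix]; exact inf_le_inf_right _ hPK
      have hmain : ⁅R, X⁆ ≤ centralizer ((piCoreOf {ℓ} (sigmaCore M) : Subgroup G) : Set G) := by
        apply pqr_centralizes hℓ.out ht hp hℓt hℓp htp X R (piCoreOf {ℓ} (sigmaCore M))
          (by rw [hXcard]) hR hPp hXR (hRM.trans hNP) (hXM.trans hNP) hfixP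
        intro h2 _ a ha b hb
        have : Fact t.Prime := ⟨ht⟩
        have hR1 : R = ⊥ := by
          rcases hR.card_eq_or_dvd with h | h
          · exact Subgroup.card_eq_one.mp h
          · exfalso
            rw [h2] at h
            exact (Nat.not_even_iff_odd.mpr hodd)
              (even_iff_two_dvd.mpr (h.trans (Subgroup.card_subgroup_dvd_card R)))
        rw [hR1, mem_bot] at ha hb
        rw [ha, hb]
      intro x hx
      refine ⟨hPK (hBP hx), ?_⟩
      show x ∈ centralizer ((⁅R, X⁆ : Subgroup G) : Set G)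
      rw [mem_centralizer_iff]
      intro c hc
      have h1 := hmain hc
      rw [mem_centralizer_iff] at h1
      exact (h1 x (hBP hx)).symm
    · have hnd : ¬ ℓ ∣ Nat.card (sigmaCore M) := fun h => hℓσ (hKprime ℓ hℓ.out h)
      have hB1 : (B : Subgroup (sigmaCore M)) = ⊥ := by
        rcases B.isPGroup'.card_eq_or_dvd with h | h
        · exact Subgroup.card_eq_one.mp h
        · exact absurd (h.trans (Subgroup.card_subgroup_dvd_card _)) hnd
      rw [hB1, Subgroup.map_bot]; exact bot_le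
  intro c hc
  rw [mem_centralizer_iff]
  intro x hx
  have hx' : x ∈ sigmaCore M ⊓ centralizer ((⁅R, X⁆ : Subgroup G) : Set G) := by
    rw [hC]; exact hx
  have h2 : x ∈ centralizer ((⁅R, X⁆ : Subgroup G) : Set G) := hx'.2
  rw [mem_centralizer_iff] at h2
  exact (h2 c hc).symm

end Cfsg.Agent.Lib.helper29
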