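import Cfsg.Agent.Lib.helper29.Basic

set_option autoImplicit false
open Cfsg

namespace Cfsg.Agent.Lib.helper29

/-- The order of a join with a normal subgroup divides the product of the orders. -/
theorem card_sup_dvd_of_normal {M : Type*} [Group M] (N₁ N₂ : Subgroup M) [N₂.Normal] :
    Nat.card ↥(N₁ ⊔ N₂) ∣ Nat.card N₁ * Nat.card N₂ := by
  have h1 : (⊥ : Subgroup M).relIndex N₂ * N₂.relIndex (N₁ ⊔ N₂) = (⊥ : Subgroup M).relIndex (N₁ ⊔ N₂) :=
    Subgroup.relIndex_mul_relIndex _ _ _ bot_le le_sup_right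
  rw [Subgroup.relIndex_bot_left, Subgroup.relIndex_bot_left, Subgroup.relIndex_sup_right] at h1
  rw [← h1, mul_comm]
  exact Nat.mul_dvd_mul_right (Subgroup.relIndex_dvd_card _ _) _

/-- A prime dividing the order of a join of normal subgroups of a finite group divides the order
of one of them. -/
theorem exists_dvd_card_of_dvd_card_sSup {M : Type*} [Group M] [Finite M] (𝒩 : Set (Subgroup M))
    (h𝒩 : ∀ N ∈ 𝒩, N.Normal) (p : ℕ) (hp : p.Prime) (hdvd : p ∣ Nat.card ↥(sSup 𝒩)) :
    ∃ N ∈ 𝒩, p ∣ Nat.card N := by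
  by_contra hcon
  push Not at hcon
  have hfin : 𝒩.Finite := Set.toFinite 𝒩
  have key : (sSup 𝒩).Normal ∧ ¬ p ∣ Nat.card ↥(sSup 𝒩) := by
    have h0 : sSup 𝒩 = hfin.toFinset.sup id := by
      rw [Finset.sup_id_eq_sSup, Set.Finite.coe_toFinset]
    rw [h0]
    refine Finset.sup_induction (p := fun K : Subgroup M => K.Normal ∧ ¬ p ∣ Nat.card K) ?_ ?_ ?_
    · refine ⟨Subgroup.normal_bot, ?_⟩
      rw [Subgroup.card_bot]
      exact hp.one_lt.ne' ∘ Nat.dvd_one.mp
    · rintro K₁ ⟨hn₁, hd₁⟩ K₂ ⟨hn₂, hd₂⟩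
      refine ⟨inferInstance, ?_⟩
      intro hd
      have := hd.trans (card_sup_dvd_of_normal K₁ K₂)
      rcases (Nat.Prime.dvd_mul hp).mp this with h | h
      · exact hd₁ h
      · exact hd₂ h
    · intro N hN
      rw [Set.Finite.mem_toFinset] at hN
      exact ⟨h𝒩 N hN, hcon N hN⟩
  exact key.2 hdvd

/-- `M_F` is a Hall subgroup of the finite group `M`. -/
theorem fittingHall_coprime (M : Type*) [Group M] [Finite M] :
    (Nat.card (fittingHall M)).Coprime (fittingHall M).index := by
  apply Nat.coprime_of_dvd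
  intro p hp hdvd hidx
  obtain ⟨N, hN, hpN⟩ := exists_dvd_card_of_dvd_card_sSup _ (fun N hN => hN.1) p hp hdvd
  have hle : N ≤ fittingHall M := le_sSup hN
  have h1 : p ∣ N.index := hidx.trans (Subgroup.index_dvd_of_le hle)
  have h2 := Nat.eq_one_of_dvd_coprimes hN.2.2 hpN h1
  exact hp.one_lt.ne' h2

/-- A normal nilpotent Hall subgroup of `M` lies in `M_F`. -/
theorem le_fittingHall {M : Type*} [Group M] (N : Subgroup M) (hn : N.Normal)
    (hnil : Group.IsNilpotent N) (hH : (Nat.card N).Coprime N.index) : N ≤ fittingHall M :=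
  le_sSup ⟨hn, hnil, hH⟩

theorem fittingHallOf_le {G : Type*} [Group G] (M : Subgroup G) : fittingHallOf M ≤ M := by
  rintro _ ⟨x, _, rfl⟩
  exact x.2

theorem card_fittingHallOf {G : Type*} [Group G] (M : Subgroup G) :
    Nat.card (fittingHallOf M) = Nat.card (fittingHall M) :=
  Subgroup.card_map_of_injective M.subtype_injective

theorem subgroupOf_fittingHallOf {G : Type*} [Group G] (M : Subgroup G) :
    (fittingHallOf M).subgroupOf M = fittingHall M := by
  unfold fittingHallOf Subgroup.subgroupOf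
  exact Subgroup.comap_map_eq_self_of_injective M.subtype_injective _

theorem relIndex_fittingHallOf {G : Type*} [Group G] (M : Subgroup G) :
    (fittingHallOf M).relIndex M = (fittingHall M).index := by
  rw [Subgroup.relIndex, subgroupOf_fittingHallOf]

/-- `M_F` is a Hall subgroup of `M`, stated inside the ambient group. -/
theorem fittingHallOf_coprime {G : Type*} [Group G] [Finite G] (M : Subgroup G) :
    (Nat.card (fittingHallOf M)).Coprime ((fittingHallOf M).relIndex M) := by
  rw [card_fittingHallOf, relIndex_fittingHallOf]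
  exact fittingHall_coprime M

theorem mem_fittingHallOf_iff {G : Type*} [Group G] (M : Subgroup G) {x : G} (hx : x ∈ M) :
    x ∈ fittingHallOf M ↔ (⟨x, hx⟩ : M) ∈ fittingHall M := by
  constructor
  · rintro ⟨y, hy, hyx⟩
    have : y = ⟨x, hx⟩ := Subtype.ext hyx
    rw [← this]; exact hy
  · intro h
    exact ⟨⟨x, hx⟩, h, rfl⟩

/-- `M` normalizes `M_F`. -/
theorem le_normalizer_fittingHallOf {G : Type*} [Group G] (M : Subgroup G) :
    M ≤ Subgroup.normalizer (fittingHallOf M : Set G) := by
  rw [Subgroup.le_normalizer_iff]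
  intro m hm h hh
  have hhM : h ∈ M := fittingHallOf_le M hh
  rw [mem_fittingHallOf_iff M hhM] at hh
  have := (fittingHall_normal M).conj_mem _ hh ⟨m, hm⟩
  rw [mem_fittingHallOf_iff M (M.mul_mem (M.mul_mem hm hhM) (M.inv_mem hm))]
  exact this

/-- If `u ∈ M` generates a subgroup meeting `M_F` trivially then the order of `u` divides the index
of `M_F` in `M`, hence is coprime to the order of `M_F`. -/
theorem orderOf_coprime_card_fittingHallOf {G : Type*} [Group G] [Finite G] (M : Subgroup G)
    {u : G} (huM : u ∈ M) (hu : ∀ k : ℕ, u ^ k ∈ fittingHallOf M → u ^ k = 1) :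
    (orderOf u).Coprime (Nat.card (fittingHallOf M)) := by
  have h1 : orderOf u ∣ (fittingHall M).index := by
    let ubar : M ⧸ fittingHall M := QuotientGroup.mk (⟨u, huM⟩ : M)
    have h2 : orderOf u ∣ orderOf ubar := by
      apply orderOf_dvd_of_pow_eq_one
      apply hu
      have h3 : ubar ^ orderOf ubar = 1 := pow_orderOf_eq_one _
      have h4 : ubar ^ orderOf ubar = QuotientGroup.mk ((⟨u, huM⟩ : M) ^ orderOf ubar) := rfl
      rw [h4, QuotientGroup.eq_one_iff] at h3
      rw [mem_fittingHallOf_iff M (M.pow_mem huM _)]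
      exact h3
    have h5 : orderOf ubar ∣ Nat.card (M ⧸ fittingHall M) := orderOf_dvd_natCard _
    exact h2.trans h5
  have h6 := fittingHall_coprime M
  rw [card_fittingHallOf]
  exact (Nat.Coprime.coprime_dvd_right h1 h6).symm

/-- If `h ∈ H`, `c` centralizes `H` and the order of `h * c` is coprime to the order of `h`,
then `h` centralizes `H`. -/
theorem mem_centralizer_of_mul_of_coprime {G : Type*} [Group G] (H : Subgroup G) {h c : G}
    (hh : h ∈ H) (hc : c ∈ Subgroup.centralizer (H : Set G))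
    (hcop : (orderOf (h * c)).Coprime (orderOf h)) :
    h ∈ Subgroup.centralizer (H : Set G) := by
  have hcomm : Commute h c := (Subgroup.mem_centralizer_iff.mp hc h hh)
  have h1 : h ^ orderOf (h * c) * c ^ orderOf (h * c) = 1 := by
    rw [← hcomm.mul_pow, pow_orderOf_eq_one]
  have h2 : h ^ orderOf (h * c) = (c ^ orderOf (h * c))⁻¹ := eq_inv_of_mul_eq_one_left h1
  have h3 : h ^ orderOf (h * c) ∈ Subgroup.centralizer (H : Set G) := by
    rw [h2]
    exact Subgroup.inv_mem _ (Subgroup.pow_mem _ hc _)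
  obtain ⟨m, hm⟩ := exists_pow_eq_self_of_coprime hcop
  rw [← hm]
  exact Subgroup.pow_mem _ h3 _

end Cfsg.Agent.Lib.helper29
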