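import Mathlib
import Cfsg.Agent.S1403
import Cfsg.Agent.S1404
import Cfsg.Agent.S1410
import Cfsg.Agent.S1411
import Cfsg.Agent.S1417
import Cfsg.Agent.S1422
import Cfsg.Agent.S1427
import Cfsg.Agent.S1428
import Cfsg.Agent.Lib.helper87.BG1430Asm
import Cfsg.Agent.Lib.helper60.BGCentU
import Cfsg.Agent.Lib.helper55.BGSigmaJ
import Cfsg.Agent.Lib.helper30.BGTenNine
import Cfsg.Agent.Lib.helper3.ZgBase
import Cfsg.Agent.Lib.helper13.BG11a
import Cfsg.Agent.Lib.helper13.BestOff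
import Cfsg.Agent.Lib.helper54.BGPrimeAct
import Cfsg.Agent.Lib.helper26.Basic
import Cfsg.Agent.Lib.helper71.BGTwelveAux
import Cfsg.Agent.Lib.lead.Hall

/-!
Bender-Glauberman Theorem 13.9 (the `σ`-partition, statement S1378): for non-conjugate maximal
subgroups `M`, `M*` of a minimal simple group of odd order, `σ(M) ∩ σ(M*) = ∅`.

The proof is modulo the asymmetry lemma (B-G 13.8), used through the hypothesis `AsymSylHyp`.
-/

set_option autoImplicit false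
open Cfsg

namespace Cfsg.Agent.Lib.helper29.SigPart

open Cfsg.Agent.Lib.helper8 Subgroup

variable {G : Type*} [Group G]

/-- a subgroup containing, for every prime, a subgroup of `V` of index prime to it, contains `V` -/
theorem le_of_forall_prime_sub {V W : Subgroup G}
    (h : ∀ ℓ : ℕ, ℓ.Prime → ∃ L : Subgroup G, L ≤ W ∧ ¬ ℓ ∣ L.relIndex V) : V ≤ W := by
  rw [← Subgroup.relIndex_eq_one]
  by_contra hne
  obtain ⟨ℓ, hℓ, hd⟩ := Nat.exists_prime_and_dvd hne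
  obtain ⟨L, hLW, hL⟩ := h ℓ hℓ
  exact hL (hd.trans (Subgroup.relIndex_dvd_of_le_left V hLW))

theorem map_conj_one (M : Subgroup G) : M.map (MulAut.conj (1 : G)).toMonoidHom = M := by
  ext x
  rw [Cfsg.Agent.Lib.helper13.sf_mem_map_conj_iff]
  simp

theorem conj_symm {M N : Subgroup G} (h : ∀ g : G, N ≠ M.map (MulAut.conj g).toMonoidHom) :
    ∀ g : G, M ≠ N.map (MulAut.conj g).toMonoidHom := by
  intro g hMN
  apply h g⁻¹
  ext x
  rw [Cfsg.Agent.Lib.helper13.sf_mem_map_conj_iff, hMN,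
    Cfsg.Agent.Lib.helper13.sf_mem_map_conj_iff]
  have : g⁻¹ * (g⁻¹⁻¹ * x * g⁻¹) * g = x := by group
  rw [this]

/-- An `ℓ`-subgroup of `M ∩ N_G(S)`, `ℓ ∉ τ₁(M)`, centralizes the `q`-group `S ≤ M`
(`q ∈ σ(M) ∩ σ(M*)`, `M*` not conjugate to `M`). -/
theorem cent_of_not_tau1 [Finite G] (hG : IsMinSimpleOddOrder G) (M Ms : Subgroup G)
    (hM : IsCoatom M) (hMs : IsCoatom Ms)
    (hnc : ∀ g : G, M ≠ Ms.map (MulAut.conj g).toMonoidHom)
    (q : ℕ) [Fact q.Prime] (hqM : q ∈ sigma M) (hqMs : q ∈ sigma Ms)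
    (S : Subgroup G) (hSq : IsPGroup q S) (hSM : S ≤ M)
    (ℓ : ℕ) [Fact ℓ.Prime] (hℓq : ℓ ≠ q) (hℓ1 : ℓ ∉ tau1 M)
    (L : Subgroup G) (hL : IsPGroup ℓ L) (hLM : L ≤ M) (hLN : L ≤ normalizer (S : Set G)) :
    L ≤ centralizer (S : Set G) := by
  obtain ⟨hodd, hsimple, hna, hsolv⟩ := id hG
  have hq : q.Prime := Fact.out
  have hℓ : ℓ.Prime := Fact.out
  have hU := Cfsg.Agent.Lib.helper13.bgx_uniq hG
  have hF := Cfsg.Agent.Lib.helper13.bgx_fus hG
  have hPL : BGPLenHyp G := by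
    intro p hp H hH
    have : Fact p.Prime := ⟨hp⟩
    exact Cfsg.Agent.S1410.result hG p H hH
  by_cases hL1 : L = ⊥
  · rw [hL1]; exact bot_le
  have hℓM : ℓ ∣ Nat.card M :=
    (Cfsg.Agent.Lib.helper55.BGJ.dvd_card_of_isPGroup_ne_bot hL hL1).trans
      (Subgroup.card_dvd_of_le hLM)
  have hLc : L.subgroupOf M ≤ commutator ↥M := by
    by_cases hσ : ℓ ∈ sigma M
    · exact bg_sylow_le_commutator hG hF M hM hσ _
        (hL.comap_of_injective M.subtype M.subtype_injective)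
    · by_cases h2 : PRankLE ℓ 2 M
      swap
      · exact absurd (bg_alpha_sub_sigma hG hU M hM ⟨hℓ, h2⟩) hσ
      by_cases h1 : PRankLE ℓ 1 M
      swap
      · exfalso
        obtain ⟨A, hAM, hA, hAc⟩ := bg_exists_elemAb_sq M ℓ h2 h1
        obtain ⟨hnil, -⟩ :=
          Cfsg.Agent.S1417.result hG M hM ℓ ⟨hℓ, hσ, h2, h1⟩ A ⟨hAM, hA, hAc⟩
        exact Cfsg.Agent.Lib.helper55.BGJ.not_mem_sigma_of_nilpotent hG hU hF hMs hM hnil hnc
          hqMs hqM
      by_cases hd : ℓ ∣ Nat.card ↥⁅M, M⁆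
      · have hd' : ℓ ∣ Nat.card ↥(commutator ↥M) := by
          rw [← Subgroup.map_subtype_commutator,
            Subgroup.card_map_of_injective M.subtype_injective] at hd
          exact hd
        have h3 := bg_pgroup_le_comm (E := M)
          (fun P => bg_sylow_cyclic_of_prank_one hodd le_rfl ℓ h1 P) hd' L hLM hL
        intro x hx
        have hx' := h3 (Subgroup.mem_subgroupOf.mp hx)
        rw [← Subgroup.map_subtype_commutator] at hx'
        obtain ⟨z, hz, hzx⟩ := hx'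
        have hzx' : z = x := Subtype.ext hzx
        rwa [← hzx']
      · exact absurd ⟨hℓ, hσ, hℓM, hd, h1⟩ hℓ1
  have hqdvd : q ∣ Nat.card M := hqM.2.1
  have hqβ : q ∉ beta M := fun hβ =>
    Cfsg.Agent.Lib.helper55.BGJ.not_mem_alpha_of_sigma hU hMs hM hnc hqMs hβ.1
  obtain ⟨-, -, hc⟩ := bg_beta_key hG hU hPL M hM q hqdvd hqβ
  have hLO : L.subgroupOf M ≤ pPrimeCore q ↥M :=
    bg_pgroup_le_pPrimeCore hℓq hc _ (hL.comap_of_injective M.subtype M.subtype_injective) hLc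
  obtain ⟨hOM, hON, hOcop⟩ := Cfsg.Agent.Lib.helper13.pPrimeCore_map_facts q M
  intro y hy
  rw [Subgroup.mem_centralizer_iff]
  intro s hs
  have hyO : y ∈ (pPrimeCore q ↥M).map M.subtype :=
    ⟨⟨y, hLM hy⟩, hLO (Subgroup.mem_subgroupOf.mpr hy), rfl⟩
  have hsM : s ∈ M := hSM hs
  have h1 : s * y⁻¹ * s⁻¹ ∈ (pPrimeCore q ↥M).map M.subtype :=
    ((Subgroup.mem_normalizer_iff.mp (hON hsM)) y⁻¹).mp (Subgroup.inv_mem _ hyO)
  have hcO : y * (s * y⁻¹ * s⁻¹) ∈ (pPrimeCore q ↥M).map M.subtype := Subgroup.mul_mem _ hyO h1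
  have hcS : y * (s * y⁻¹ * s⁻¹) ∈ S := by
    have h2 : y * s * y⁻¹ ∈ S := (Subgroup.mem_normalizer_iff.mp (hLN hy) s).mp hs
    have h3 : y * (s * y⁻¹ * s⁻¹) = (y * s * y⁻¹) * s⁻¹ := by group
    rw [h3]; exact S.mul_mem h2 (S.inv_mem hs)
  have hbot : S ⊓ (pPrimeCore q ↥M).map M.subtype = ⊥ := by
    apply Disjoint.eq_bot
    apply Subgroup.disjoint_of_coprime_natCard
    obtain ⟨n, hn⟩ := IsPGroup.iff_card.mp hSq
    rw [hn]
    exact Nat.Coprime.pow_left n (Nat.Coprime.symm hOcop)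
  have h4 : y * (s * y⁻¹ * s⁻¹) = 1 := by
    have h5 : y * (s * y⁻¹ * s⁻¹) ∈ S ⊓ (pPrimeCore q ↥M).map M.subtype := ⟨hcS, hcO⟩
    rw [hbot] at h5
    exact Subgroup.mem_bot.mp h5
  have h6 : y * s = (y * (s * y⁻¹ * s⁻¹)) * (s * y) := by group
  rw [h6, h4, one_mul]

/-- The form of the asymmetry lemma (B-G 13.8) used for the `σ`-partition: an element of prime
order `p ∈ τ₁(M) ∩ τ₁(M*)` normalizing a common Sylow subgroup `S` (with `N_G(S) ≤ M ∩ M*`) has a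
non-identity fixed point on `S`. -/
def AsymSylHyp (G : Type*) [Group G] : Prop :=
  ∀ (M L : Subgroup G), IsCoatom M → IsCoatom L →
    (∀ g : G, L ≠ M.map (MulAut.conj g).toMonoidHom) →
    ∀ (q : ℕ) [Fact q.Prime] (S : Sylow q G), (S : Subgroup G) ≤ M → (S : Subgroup G) ≤ L →
      normalizer ((S : Subgroup G) : Set G) ≤ M → normalizer ((S : Subgroup G) : Set G) ≤ L →
      ∀ (p : ℕ), p ∈ tau1 M → p ∈ tau1 L → ∀ x : G,
        x ∈ normalizer ((S : Subgroup G) : Set G) → orderOf x = p →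
        (S : Subgroup G) ⊓ centralizer ({x} : Set G) ≠ ⊥

theorem sigma_disjoint_core [Finite G] (hG : IsMinSimpleOddOrder G) (hAsym : AsymSylHyp G)
    (M Ms : Subgroup G) (hM : IsCoatom M) (hMs : IsCoatom Ms)
    (hnc : ∀ g : G, Ms ≠ M.map (MulAut.conj g).toMonoidHom)
    (q : ℕ) [Fact q.Prime] (S : Sylow q G) (hS1 : (S : Subgroup G) ≠ ⊥)
    (hSM : (S : Subgroup G) ≤ M) (hSMs : (S : Subgroup G) ≤ Ms)
    (hNM : normalizer ((S : Subgroup G) : Set G) ≤ M)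
    (hNMs : normalizer ((S : Subgroup G) : Set G) ≤ Ms) : False := by
  obtain ⟨hodd, hsimple, hna, hsolv⟩ := id hG
  have hq : q.Prime := Fact.out
  have hU := Cfsg.Agent.Lib.helper13.bgx_uniq hG
  have hF := Cfsg.Agent.Lib.helper13.bgx_fus hG
  have hnc' := conj_symm hnc
  have hSq : IsPGroup q (S : Subgroup G) := S.isPGroup'
  have hqM : q ∈ sigma M :=
    Cfsg.Agent.Lib.helper54.PrimeAct.mem_sigma_of_relIndex hSq hSM
      (fun h => S.not_dvd_index (h.trans (Subgroup.relIndex_dvd_index_of_le hSM))) hS1 hNM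
  have hqMs : q ∈ sigma Ms :=
    Cfsg.Agent.Lib.helper54.PrimeAct.mem_sigma_of_relIndex hSq hSMs
      (fun h => S.not_dvd_index (h.trans (Subgroup.relIndex_dvd_index_of_le hSMs))) hS1 hNMs
  -- a complement `V` of `S` in `N_G(S)`
  obtain ⟨V, hV⟩ := Cfsg.Agent.Lib.helper30.BGTenNine.exists_isComplIn_sylow S
  obtain ⟨hSV, -⟩ := Cfsg.Agent.S1411.result hG q S V hV
  have hVN : V ≤ normalizer ((S : Subgroup G) : Set G) := hV.2.1
  have hVM : V ≤ M := hVN.trans hNM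
  have hVMs : V ≤ Ms := hVN.trans hNMs
  -- `S` is abelian
  have hSc : IsMulCommutative (S : Subgroup G) := by
    by_contra hna'
    obtain ⟨K, -, hKu⟩ := Cfsg.Agent.S1422.result hG q (S : Subgroup G) hSq hna'
    have h1 := hKu M ⟨hM, hSM⟩
    have h2 := hKu Ms ⟨hMs, hSMs⟩
    apply hnc 1
    rw [map_conj_one, h1, h2]
  have hcomm : ∀ a ∈ (S : Subgroup G), ∀ b ∈ (S : Subgroup G), a * b = b * a := by
    intro a ha b hb
    exact congrArg Subtype.val (hSc.is_comm.comm (⟨a, ha⟩ : (S : Subgroup G)) ⟨b, hb⟩)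
  -- `q ∤ |V|`
  have hcard := Cfsg.Agent.Lib.helper60.BGCentU.card_of_isComplIn hV
  have hqV : ¬ q ∣ Nat.card V := by
    intro hd
    apply S.not_dvd_index
    have h1 : Nat.card (S : Subgroup G) * Nat.card V ∣ Nat.card G :=
      hcard ▸ Subgroup.card_subgroup_dvd_card _
    have h2 := Subgroup.card_mul_index (S : Subgroup G)
    rw [← h2] at h1
    exact hd.trans ((Nat.mul_dvd_mul_iff_left Nat.card_pos).mp h1)
  have hcop : (Nat.card (S : Subgroup G)).Coprime (Nat.card V) := by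
    obtain ⟨n, hn⟩ := IsPGroup.iff_card.mp hSq
    rw [hn]
    exact Nat.Coprime.pow_left n ((Nat.Prime.coprime_iff_not_dvd hq).mpr hqV)
  -- `C_S(V) = 1`
  have hCV : (S : Subgroup G) ⊓ centralizer (V : Set G) = ⊥ := by
    have h1 := Cfsg.Agent.Lib.helper3.zg_inf_commutator_eq_bot (S : Subgroup G) V hcomm hVN hcop
    rw [← hSV] at h1
    rwa [inf_of_le_left inf_le_left] at h1
  -- a Hall `τ₁(M)`-subgroup `H₁` of `V`
  have hVtop : V ≠ ⊤ := fun h => hM.1 (top_le_iff.mp (h ▸ hVM))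
  have hVsolv : Group.IsSolvable ↥V := hsolv V hVtop
  obtain ⟨H₀, hH₀⟩ := Cfsg.Agent.Lib.lead.exists_isPiHall_of_isSolvable (tau1 M) ↥V
  obtain ⟨H₁, hH₁def⟩ : ∃ H₁ : Subgroup G, H₁ = H₀.map V.subtype := ⟨_, rfl⟩
  have hH₁V : H₁ ≤ V := hH₁def ▸ Subgroup.map_subtype_le _
  have hH₁τ : ∀ p : ℕ, p.Prime → p ∣ Nat.card H₁ → p ∈ tau1 M := by
    intro p hp hd
    rw [hH₁def, Subgroup.card_map_of_injective V.subtype_injective] at hd
    exact hH₀.1 p hp hd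
  have hH₁i : ∀ p : ℕ, p.Prime → p ∈ tau1 M → ¬ p ∣ H₁.relIndex V := by
    intro p hp hpτ
    rw [hH₁def, Cfsg.Agent.Lib.helper71.BGA.relIndex_map_subtype]
    exact hH₀.2 p hp hpτ
  have hH₁M : H₁ ≤ M := hH₁V.trans hVM
  have hH₁cyc : IsCyclic H₁ := bg_tau1_hall_cyclic hG M V hVM H₁ ⟨hH₁V, hH₁τ, hH₁i⟩
  have hH₁comm : ∀ a ∈ H₁, ∀ b ∈ H₁, a * b = b * a := by
    intro a ha b hb
    have := hH₁cyc
    exact congrArg Subtype.val
      ((IsCyclic.isMulCommutative (α := ↥H₁)).is_comm.comm (⟨a, ha⟩ : H₁) ⟨b, hb⟩)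
  obtain ⟨E, hE, hH₁E⟩ := Cfsg.Agent.Lib.helper60.BGCentU.exists_compl_ge hG M hM H₁ hH₁M
    (fun p hp hpd => (hH₁τ p hp hpd).2.1)
  have hSσ : (S : Subgroup G) ≤ sigmaCore M := bg_pgroup_le_sigmaCore hG hU hF M hM hqM _ hSM hSq
  -- reduction: `H₁` centralizes `S₀` as soon as its `τ₁(M*)`-Sylow subgroups do
  have key : ∀ S₀ : Subgroup G, S₀ ≤ (S : Subgroup G) →
      (∀ (ℓ : ℕ) [Fact ℓ.Prime] (L : Subgroup G), IsPGroup ℓ L → L ≤ H₁ → L ≠ ⊥ →
        ℓ ∈ tau1 Ms → L ≤ centralizer (S₀ : Set G)) → H₁ ≤ centralizer (S₀ : Set G) := by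
    intro S₀ hS₀ hτ
    apply le_of_forall_prime_sub
    intro ℓ hℓ
    have : Fact ℓ.Prime := ⟨hℓ⟩
    obtain ⟨P⟩ : Nonempty (Sylow ℓ ↥H₁) := inferInstance
    refine ⟨(P : Subgroup ↥H₁).map H₁.subtype, ?_, ?_⟩
    swap
    · rw [Cfsg.Agent.Lib.helper71.BGA.relIndex_map_subtype]
      exact P.not_dvd_index
    have hLp : IsPGroup ℓ ((P : Subgroup ↥H₁).map H₁.subtype) := P.isPGroup'.map _
    have hLH : (P : Subgroup ↥H₁).map H₁.subtype ≤ H₁ := Subgroup.map_subtype_le _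
    by_cases hL1 : (P : Subgroup ↥H₁).map H₁.subtype = ⊥
    · rw [hL1]; exact bot_le
    by_cases hℓMs : ℓ ∈ tau1 Ms
    · exact hτ ℓ _ hLp hLH hL1 hℓMs
    · have hℓM : ℓ ∈ tau1 M :=
        hH₁τ ℓ hℓ ((Cfsg.Agent.Lib.helper55.BGJ.dvd_card_of_isPGroup_ne_bot hLp hL1).trans
          (Subgroup.card_dvd_of_le hLH))
      have hℓq : ℓ ≠ q := by
        rintro rfl
        exact hℓM.2.1 hqM
      have h1 := cent_of_not_tau1 hG Ms M hMs hM hnc q hqMs hqM (S : Subgroup G) hSq hSMs ℓ hℓq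
        hℓMs _ hLp ((hLH.trans hH₁V).trans hVMs) ((hLH.trans hH₁V).trans hVN)
      exact h1.trans (Subgroup.centralizer_le hS₀)
  -- the key claim
  have hU' : ∃ S₀ : Subgroup G, S₀ ≤ (S : Subgroup G) ∧ S₀ ≠ ⊥ ∧ H₁ ≤ centralizer (S₀ : Set G) := by
    by_cases hex : ∃ x ∈ H₁, (orderOf x).Prime ∧ orderOf x ∈ tau1 Ms
    · obtain ⟨x₁, hx₁H, hx₁p, hx₁Ms⟩ := hex
      have hx₁M : orderOf x₁ ∈ tau1 M := by
        apply hH₁τ _ hx₁p
        have h1 := orderOf_dvd_natCard (⟨x₁, hx₁H⟩ : ↥H₁)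
        rwa [Subgroup.orderOf_mk] at h1
      have hx₁N : x₁ ∈ normalizer ((S : Subgroup G) : Set G) := hVN (hH₁V hx₁H)
      refine ⟨(S : Subgroup G) ⊓ centralizer ({x₁} : Set G), inf_le_left,
        hAsym M Ms hM hMs hnc q S hSM hSMs hNM hNMs _ hx₁M hx₁Ms x₁ hx₁N rfl, ?_⟩
      apply key _ inf_le_left
      intro ℓ _ L hLp hLH hL1 hℓMs
      have hℓ : ℓ.Prime := Fact.out
      have hℓM : ℓ ∈ tau1 M :=
        hH₁τ ℓ hℓ ((Cfsg.Agent.Lib.helper55.BGJ.dvd_card_of_isPGroup_ne_bot hLp hL1).trans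
          (Subgroup.card_dvd_of_le hLH))
      -- an element of order `ℓ` of `L`
      obtain ⟨x', hx'⟩ := exists_prime_orderOf_dvd_card' (G := ↥L) ℓ
        (Cfsg.Agent.Lib.helper55.BGJ.dvd_card_of_isPGroup_ne_bot hLp hL1)
      obtain ⟨x, hxL, hxdef⟩ : ∃ x : G, x ∈ L ∧ x = (x' : G) := ⟨_, x'.2, rfl⟩
      have hxo : orderOf x = ℓ := by rw [hxdef, Subgroup.orderOf_coe, hx']
      have hx1 : x ≠ 1 := by
        rintro rfl
        rw [orderOf_one] at hxo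
        exact hℓ.one_lt.ne hxo
      have hLE : L ≤ E := hLH.trans hH₁E
      obtain ⟨SE, hSE⟩ :=
        (hLp.comap_of_injective E.subtype E.subtype_injective : IsPGroup ℓ (L.subgroupOf E)).exists_le_sylow
      have hLSE : L ≤ (SE : Subgroup ↥E).map E.subtype := by
        intro y hy
        exact ⟨⟨y, hLE hy⟩, hSE (Subgroup.mem_subgroupOf.mpr hy), rfl⟩
      have hSE1 : (SE : Subgroup ↥E) ≠ ⊥ := by
        intro h
        rw [h, Subgroup.map_bot] at hLSE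
        exact hL1 (le_bot_iff.mp hLSE)
      have hSEc : IsCyclic (SE : Subgroup ↥E) :=
        bg_sylow_cyclic_of_prank_one hodd hE.1 ℓ hℓM.2.2.2.2 SE
      have h27 := Cfsg.Agent.S1427.result hG M hM E hE ℓ SE hSE1 hSEc x (hLSE hxL) hx1
      have hxx₁ : x₁ * x = x * x₁ := hH₁comm x₁ hx₁H x (hLH hxL)
      have h28 := Cfsg.Agent.S1428.result hG M hM E hE (orderOf x₁) hx₁M (Subgroup.zpowers x₁)
        (Subgroup.zpowers_le.mpr (hH₁E hx₁H)) (Nat.card_zpowers x₁) (Subgroup.zpowers x)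
        (Subgroup.zpowers_le.mpr ⟨hLE hxL, by
          rw [Cfsg.Agent.Lib.helper87.BG142.cent_zpowers]
          exact Cfsg.Agent.Lib.helper87.BG142.mem_cent_singleton.mpr hxx₁⟩)
        (by rw [Nat.card_zpowers, hxo]; exact hℓ)
      intro y hy
      rw [Subgroup.mem_centralizer_iff]
      intro s hs
      have hs1 : s ∈ sigmaCore M ⊓ centralizer ((Subgroup.zpowers x₁ : Subgroup G) : Set G) := by
        refine ⟨hSσ hs.1, ?_⟩
        rw [Cfsg.Agent.Lib.helper87.BG142.cent_zpowers]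
        exact hs.2
      have hs2 := h28 hs1
      rw [Cfsg.Agent.Lib.helper87.BG142.cent_zpowers, h27] at hs2
      exact ((Subgroup.mem_centralizer_iff.mp hs2.2) y (hLSE hy)).symm
    · refine ⟨(S : Subgroup G), le_rfl, hS1, ?_⟩
      apply key _ le_rfl
      intro ℓ _ L hLp hLH hL1 hℓMs
      exfalso
      apply hex
      obtain ⟨x', hx'⟩ := exists_prime_orderOf_dvd_card' (G := ↥L) ℓ
        (Cfsg.Agent.Lib.helper55.BGJ.dvd_card_of_isPGroup_ne_bot hLp hL1)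
      refine ⟨(x' : G), hLH x'.2, ?_, ?_⟩
      · rw [Subgroup.orderOf_coe, hx']; exact Fact.out
      · rw [Subgroup.orderOf_coe, hx']; exact hℓMs
  obtain ⟨S₀, hS₀S, hS₀1, hH₁S₀⟩ := hU'
  -- `V` centralizes `S₀`
  have hVS₀ : V ≤ centralizer (S₀ : Set G) := by
    apply le_of_forall_prime_sub
    intro ℓ hℓ
    have : Fact ℓ.Prime := ⟨hℓ⟩
    by_cases hℓτ : ℓ ∈ tau1 M
    · exact ⟨H₁, hH₁S₀, hH₁i ℓ hℓ hℓτ⟩
    by_cases hℓq : ℓ = q
    · refine ⟨⊥, bot_le, ?_⟩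
      rw [Subgroup.relIndex_bot_left, hℓq]
      exact hqV
    obtain ⟨P⟩ : Nonempty (Sylow ℓ ↥V) := inferInstance
    refine ⟨(P : Subgroup ↥V).map V.subtype, ?_, ?_⟩
    · have hLV : (P : Subgroup ↥V).map V.subtype ≤ V := Subgroup.map_subtype_le _
      have h1 := cent_of_not_tau1 hG M Ms hM hMs hnc' q hqM hqMs (S : Subgroup G) hSq hSM ℓ hℓq
        hℓτ _ (P.isPGroup'.map _) (hLV.trans hVM) (hLV.trans hVN)
      exact h1.trans (Subgroup.centralizer_le hS₀S)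
    · rw [Cfsg.Agent.Lib.helper71.BGA.relIndex_map_subtype]
      exact P.not_dvd_index
  apply hS₀1
  rw [← le_bot_iff, ← hCV]
  intro s hs
  refine Subgroup.mem_inf.mpr ⟨hS₀S hs, ?_⟩
  rw [Subgroup.mem_centralizer_iff]
  intro v hv
  exact ((Subgroup.mem_centralizer_iff.mp (hVS₀ hv)) s hs).symm

/-- B-G Theorem 13.9 modulo the asymmetry lemma: maximal subgroups with a common `σ`-prime are
conjugate. -/
theorem sigma_inter_conj [Finite G] (hG : IsMinSimpleOddOrder G) (hAsym : AsymSylHyp G)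
    (M N : Subgroup G) (hM : IsCoatom M) (hN : IsCoatom N)
    (h : (sigma M ∩ sigma N).Nonempty) : ∃ g : G, N = M.map (MulAut.conj g).toMonoidHom := by
  by_contra hcon
  push Not at hcon
  obtain ⟨q, hqM, hqN⟩ := h
  have : Fact q.Prime := ⟨hqM.1⟩
  obtain ⟨-, hqdM, P, hP⟩ := id hqM
  obtain ⟨-, -, R, hR⟩ := id hqN
  have hPi := Cfsg.Agent.Lib.helper71.BG12.not_dvd_index_map_of_sigma hqM P
  have hRi := Cfsg.Agent.Lib.helper71.BG12.not_dvd_index_map_of_sigma hqN R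
  have hPq : IsPGroup q ((P : Subgroup ↥M).map M.subtype) := P.isPGroup'.map _
  have hRq : IsPGroup q ((R : Subgroup ↥N).map N.subtype) := R.isPGroup'.map _
  obtain ⟨S, hSdef⟩ : ∃ S : Sylow q G, (S : Subgroup G) = (P : Subgroup ↥M).map M.subtype :=
    ⟨hPq.toSylow hPi, IsPGroup.toSylow_coe _ _⟩
  obtain ⟨T, hTdef⟩ : ∃ T : Sylow q G, (T : Subgroup G) = (R : Subgroup ↥N).map N.subtype :=
    ⟨hRq.toSylow hRi, IsPGroup.toSylow_coe _ _⟩
  obtain ⟨g, hg⟩ := Cfsg.Agent.Lib.helper26.sylow_conj T S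
  have hSM : (S : Subgroup G) ≤ M := hSdef ▸ Subgroup.map_subtype_le _
  have hTN : (T : Subgroup G) ≤ N := hTdef ▸ Subgroup.map_subtype_le _
  have hNM : normalizer ((S : Subgroup G) : Set G) ≤ M := by rw [hSdef]; exact hP
  have hNT : normalizer ((T : Subgroup G) : Set G) ≤ N := by rw [hTdef]; exact hR
  have hSMs : (S : Subgroup G) ≤ N.map (MulAut.conj g).toMonoidHom := by
    intro x hx
    rw [Cfsg.Agent.Lib.helper13.sf_mem_map_conj_iff]
    exact hTN ((hg x).mp hx)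
  have hNMs : normalizer ((S : Subgroup G) : Set G) ≤ N.map (MulAut.conj g).toMonoidHom := by
    intro n hn
    rw [Cfsg.Agent.Lib.helper13.sf_mem_map_conj_iff]
    apply hNT
    rw [Subgroup.mem_normalizer_iff]
    intro t
    have h1 : t ∈ (T : Subgroup G) ↔ g * t * g⁻¹ ∈ (S : Subgroup G) := by
      rw [hg (g * t * g⁻¹)]
      have : g⁻¹ * (g * t * g⁻¹) * g = t := by group
      rw [this]
    rw [h1, (Subgroup.mem_normalizer_iff.mp hn) (g * t * g⁻¹), hg]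
    have : g⁻¹ * (n * (g * t * g⁻¹) * n⁻¹) * g = g⁻¹ * n * g * t * (g⁻¹ * n * g)⁻¹ := by group
    rw [this]
  have hnc : ∀ k : G, N.map (MulAut.conj g).toMonoidHom ≠ M.map (MulAut.conj k).toMonoidHom := by
    intro k hk
    apply hcon (g⁻¹ * k)
    ext x
    have h1 : x ∈ N ↔ g * x * g⁻¹ ∈ N.map (MulAut.conj g).toMonoidHom := by
      rw [Cfsg.Agent.Lib.helper13.sf_mem_map_conj_iff]
      have : g⁻¹ * (g * x * g⁻¹) * g = x := by group
      rw [this]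
    rw [h1, hk, Cfsg.Agent.Lib.helper13.sf_mem_map_conj_iff,
      Cfsg.Agent.Lib.helper13.sf_mem_map_conj_iff]
    have : k⁻¹ * (g * x * g⁻¹) * k = (g⁻¹ * k)⁻¹ * x * (g⁻¹ * k) := by group
    rw [this]
  have hS1 : (S : Subgroup G) ≠ ⊥ :=
    Sylow.ne_bot_of_dvd_card S (hqdM.trans (Subgroup.card_subgroup_dvd_card M))
  exact sigma_disjoint_core hG hAsym M _ hM
    (Cfsg.Agent.Lib.helper71.BGA.isCoatom_map_conj hN g) hnc q S hS1 hSM hSMs hNM hNMs

/-- The statement S1378 modulo the asymmetry lemma. -/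
theorem sigma_partition_statement [Finite G] (hG : IsMinSimpleOddOrder G)
    (hAsym : AsymSylHyp G) :
    (∀ p : ℕ, p.Prime → p ∣ Nat.card G → ∃ M : Subgroup G, IsCoatom M ∧ p ∈ sigma M) ∧
      ∀ M N : Subgroup G, IsCoatom M → IsCoatom N → (sigma M ∩ sigma N).Nonempty →
        ∃ g : G, N = M.map (MulAut.conj g).toMonoidHom := by
  refine ⟨?_, fun M N hM hN h => sigma_inter_conj hG hAsym M N hM hN h⟩
  intro p hp hpG
  have : Fact p.Prime := ⟨hp⟩
  obtain ⟨P⟩ : Nonempty (Sylow p G) := inferInstance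
  have hP1 : (P : Subgroup G) ≠ ⊥ := Sylow.ne_bot_of_dvd_card P hpG
  have hPtop : (P : Subgroup G) ≠ ⊤ := by
    intro h
    apply bg_not_pgroup_top hG p
    have h1 := P.isPGroup'
    rw [h] at h1
    exact IsPGroup.of_equiv h1 Subgroup.topEquiv
  obtain ⟨M, hM, hNM⟩ :=
    (eq_top_or_exists_le_coatom (Subgroup.normalizer ((P : Subgroup G) : Set G))).resolve_left
      (Cfsg.Agent.Lib.helper71.BG12.normalizer_ne_top' hG hP1 hPtop)
  have hPM : (P : Subgroup G) ≤ M := Subgroup.le_normalizer.trans hNM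
  exact ⟨M, hM, Cfsg.Agent.Lib.helper54.PrimeAct.mem_sigma_of_relIndex P.isPGroup' hPM
    (fun h => P.not_dvd_index (h.trans (Subgroup.relIndex_dvd_index_of_le hPM))) hP1 hNM⟩

end Cfsg.Agent.Lib.helper29.SigPart
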