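import Mathlib
import Cfsg.Agent.Lib.helper29.BGSigPart

/-!
Glue for S1378: the hypothesis `AsymSylHyp` of `BGSigPart` follows from the asymmetry lemma
(B-G 13.8) in the shape `Asym70` (the statement of `Cfsg.Agent.Lib.helper70.bg_tau1_asymmetry`).
-/

set_option autoImplicit false
open Cfsg

namespace Cfsg.Agent.Lib.helper29.SigPart

open Subgroup

variable {G : Type*} [Group G]

/-- the shape of the asymmetry lemma (B-G 13.8) as formalized by helper70 -/
def Asym70 (G : Type*) [Group G] : Prop :=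
  ∀ (M L : Subgroup G) (_ : IsCoatom M) (_ : IsCoatom L)
    (_ : ∀ g : G, L ≠ M.map (MulAut.conj g).toMonoidHom) (p : ℕ) (_ : p ∈ Cfsg.tau1 M)
    (_ : p ∈ Cfsg.tau1 L) (P : Subgroup G) (_ : P ≤ M) (_ : P ≤ L) (_ : Nat.card P = p) (q : ℕ)
    (_ : q.Prime) (Q : Subgroup G) (_ : IsPGroup q Q) (_ : Q ≠ ⊥) (_ : Q ≤ M) (_ : Q ≤ L)
    (_ : ∀ Q1 : Subgroup G, IsPGroup q Q1 → Q1 ≤ M → Q1 ≤ L → Q ≤ Q1 → Q1 = Q)
    (_ : P ≤ Subgroup.normalizer (Q : Set G)) (_ : Q ⊓ Subgroup.centralizer (P : Set G) = ⊥)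
    (_ : Subgroup.normalizer (Q : Set G) ≤ L) (r : ℕ) (_ : r.Prime) (R : Subgroup G)
    (_ : IsPGroup r R) (_ : R ≠ ⊥) (_ : R ≤ M) (_ : R ≤ L)
    (_ : ∀ R1 : Subgroup G, IsPGroup r R1 → R1 ≤ M → R1 ≤ L → R ≤ R1 → R1 = R)
    (_ : P ≤ Subgroup.normalizer (R : Set G)) (_ : R ⊓ Subgroup.centralizer (P : Set G) = ⊥)
    (_ : Subgroup.normalizer (R : Set G) ≤ M), False

theorem asymSylHyp_of_asym70 (h : Asym70 G) : AsymSylHyp G := by
  intro M L hM hL hnc q _ S hSM hSL hNM hNL p hpM hpL x hx hxp hbot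
  have hS1 : (S : Subgroup G) ≠ ⊥ := by
    intro h0
    apply hM.1
    rw [eq_top_iff]
    intro g _
    apply hNM
    rw [h0, Subgroup.mem_normalizer_iff]
    intro k
    simp only [Subgroup.mem_bot]
    constructor
    · rintro rfl
      group
    · intro hk
      have : k = g⁻¹ * (g * k * g⁻¹) * g := by group
      rw [this, hk]
      group
  have hP : Nat.card (zpowers x) = p := by rw [Nat.card_zpowers, hxp]
  have hmax : ∀ Q1 : Subgroup G, IsPGroup q Q1 → Q1 ≤ M → Q1 ≤ L → (S : Subgroup G) ≤ Q1 →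
      Q1 = S := by
    intro Q1 hQ1 _ _ hle
    exact S.is_maximal' hQ1 hle
  have hxS : zpowers x ≤ normalizer ((S : Subgroup G) : Set G) := by
    rw [zpowers_le]; exact hx
  have hcent : (S : Subgroup G) ⊓ centralizer ((zpowers x : Subgroup G) : Set G) = ⊥ := by
    rw [Cfsg.Agent.Lib.helper87.BG142.cent_zpowers]; exact hbot
  exact h M L hM hL hnc p hpM hpL (zpowers x) (hxS.trans hNM) (hxS.trans hNL) hP
    q Fact.out S S.isPGroup' hS1 hSM hSL hmax hxS hcent hNL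
    q Fact.out S S.isPGroup' hS1 hSM hSL hmax hxS hcent hNM

end Cfsg.Agent.Lib.helper29.SigPart
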