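/-
Definitions for the split proof of S1366 (B-G 14.7, existence of the partner M*):
hypothesis forms of the frozen rows S1375 / S1377 / S1379 cl.1, and the notion of a
"family member" (a maximal subgroup L with a Hall kappa(L)-subgroup KL of composite order
whose group KL x C_{L_sigma}(KL) is a fixed subgroup Z).
-/
import Mathlib
import Cfsg.Prelude.Def_OddOrderLocal

set_option autoImplicit false

namespace Cfsg.Agent.Lib.helper29.BG1366

open Cfsg

variable {G : Type*} [Group G]

/-- The frozen statement S1377 as a hypothesis. -/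
def H1377 (G : Type*) [Group G] : Prop :=
  ∀ M : Subgroup G, IsCoatom M →
    Set.ncard (tildeOf M ((sigmaCore M : Set G) \ {1})) = (Nat.card (sigmaCore M) - 1) * M.index

/-- The frozen statement S1375 as a hypothesis. -/
def H1375 (G : Type*) [Group G] : Prop :=
  ∀ (M : Subgroup G), IsCoatom M → ∀ x : G, x ∈ sigmaCore M → x ≠ 1 →
    ¬ Subgroup.centralizer ({x} : Set G) ≤ M →
    ∃ N : Subgroup G, (IsCoatom N ∧ Subgroup.centralizer ({x} : Set G) ≤ N) ∧
      (∀ L : Subgroup G, IsCoatom L → Subgroup.centralizer ({x} : Set G) ≤ L → L = N) ∧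
      sigmaCore N = fittingHallOf N ∧
      Subgroup.centralizer ({x} : Set G) ≤
        Subgroup.normalizer ((sigmaCore N ⊓ Subgroup.centralizer ({x} : Set G) : Subgroup G) : Set G) ∧
      IsComplIn (M ⊓ Subgroup.centralizer ({x} : Set G))
        (sigmaCore N ⊓ Subgroup.centralizer ({x} : Set G)) (Subgroup.centralizer ({x} : Set G)) ∧
      IsComplIn (M ⊓ N) (sigmaCore N) N ∧
      ∀ K' U' : Subgroup G, IsSigmaDecomposition N K' U' →
        U' ≠ ⊥ ∧ x ∈ sigmaA N U' ∧ x ∉ sigmaCore N

/-- The first clause of the frozen statement S1379 (tilde-sets of non-conjugate maximal subgroups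
are disjoint) as a hypothesis. -/
def HTD (G : Type*) [Group G] : Prop :=
  ∀ M N : Subgroup G, IsCoatom M → IsCoatom N →
    (∀ g : G, N ≠ M.map (MulAut.conj g).toMonoidHom) →
    tildeOf M ((sigmaCore M : Set G) \ {1}) ∩ tildeOf N ((sigmaCore N : Set G) \ {1}) = ∅

/-- A family member: `L` is a maximal subgroup, `KL` a nontrivial Hall `κ(L)`-subgroup of `L`
of composite order, and `Z = KL ⊔ C_{L_σ}(KL)`. -/
structure Member (Z L KL : Subgroup G) : Prop where
  coatom : IsCoatom L
  hall : IsPiHallOf (kappa L) KL L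
  ne_bot : KL ≠ ⊥
  zeq : Z = KL ⊔ (sigmaCore L ⊓ Subgroup.centralizer (KL : Set G))
  comp : ¬ (Nat.card KL).Prime

end Cfsg.Agent.Lib.helper29.BG1366
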