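/-
The numerical hypotheses `hcard`, `h3` of `helper74.BGCount.count_core` for one member of a
P1-family: `L` maximal, `KL ≠ 1` a Hall `κ(L)`-subgroup, `Z = KL ⊔ C_{L_σ}(KL)`, `L` of type P1.
-/
import Mathlib
import Cfsg.Agent.S1430
import Cfsg.Agent.S1350
import Cfsg.Agent.Lib.helper10.BG1369
import Cfsg.Agent.Lib.helper25.BG1367
import Cfsg.Agent.Lib.helper71.BG1369B

set_option autoImplicit false

namespace Cfsg.Agent.Lib.helper29.BGFamFC

open Cfsg

variable {G : Type*} [Group G]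

/-- The join of two elementwise commuting subgroups with trivial intersection has order the
product of the orders. -/
theorem card_sup_of_comm [Finite G] {A B : Subgroup G} (hc : ∀ a ∈ A, ∀ b ∈ B, a * b = b * a)
    (hAB : A ⊓ B = ⊥) : Nat.card ↥(A ⊔ B) = Nat.card A * Nat.card B := by
  rw [← Nat.card_prod]
  symm
  let f : A × B → ↥(A ⊔ B) := fun p => ⟨p.1.1 * p.2.1, Subgroup.mul_mem_sup p.1.2 p.2.2⟩
  have hf : Function.Bijective f := by
    constructor
    · rintro ⟨⟨a, ha⟩, ⟨b, hb⟩⟩ ⟨⟨a', ha'⟩, ⟨b', hb'⟩⟩ h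
      have h1 : a * b = a' * b' := congrArg Subtype.val h
      have h2 : a'⁻¹ * a = b' * b⁻¹ := by
        calc a'⁻¹ * a = a'⁻¹ * (a * b) * b⁻¹ := by group
          _ = a'⁻¹ * (a' * b') * b⁻¹ := by rw [h1]
          _ = b' * b⁻¹ := by group
      have h3 : a'⁻¹ * a ∈ A ⊓ B :=
        ⟨A.mul_mem (A.inv_mem ha') ha, h2 ▸ B.mul_mem hb' (B.inv_mem hb)⟩
      rw [hAB, Subgroup.mem_bot] at h3
      have h4 : a = a' := by
        calc a = a' * (a'⁻¹ * a) := by group
          _ = a' := by rw [h3, mul_one]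
      have h5 : b = b' := by
        have : b' * b⁻¹ = 1 := by rw [← h2, h3]
        calc b = (b' * b⁻¹)⁻¹ * b' := by group
          _ = b' := by rw [this, inv_one, one_mul]
      subst h4
      subst h5
      rfl
    · rintro ⟨z, hz⟩
      obtain ⟨a, ha, b, hb, rfl⟩ := Cfsg.Agent.Lib.helper10.BG1369.mem_sup_of_comm hc hz
      exact ⟨(⟨a, ha⟩, ⟨b, hb⟩), rfl⟩
  exact Nat.card_congr (Equiv.ofBijective f hf)

/-- `Z ⊓ L_σ = C_{L_σ}(KL)` for `Z = KL ⊔ C_{L_σ}(KL)`, `KL` a `κ(L)`-group. -/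
theorem inf_sigmaCore_eq [Finite G] (L KL Z : Subgroup G)
    (hKLκ : ∀ p : ℕ, p.Prime → p ∣ Nat.card KL → p ∈ kappa L)
    (hZ : KL ⊔ (sigmaCore L ⊓ Subgroup.centralizer (KL : Set G)) = Z) :
    Z ⊓ sigmaCore L = sigmaCore L ⊓ Subgroup.centralizer (KL : Set G) := by
  have hcop : KL ⊓ sigmaCore L = ⊥ :=
    (Subgroup.disjoint_of_coprime_natCard
      (Cfsg.Agent.Lib.helper10.BG1369.coprime_kappa_sigmaCore L KL hKLκ)).eq_bot
  have hc : ∀ a ∈ KL, ∀ b ∈ sigmaCore L ⊓ Subgroup.centralizer (KL : Set G), a * b = b * a :=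
    fun a ha b hb => (Subgroup.mem_centralizer_iff.mp hb.2) a ha
  apply le_antisymm
  · rintro z ⟨hzZ, hzS⟩
    rw [← hZ] at hzZ
    obtain ⟨a, ha, b, hb, rfl⟩ := Cfsg.Agent.Lib.helper10.BG1369.mem_sup_of_comm hc hzZ
    have ha1 : a ∈ KL ⊓ sigmaCore L := by
      refine ⟨ha, ?_⟩
      have := (sigmaCore L).mul_mem hzS ((sigmaCore L).inv_mem hb.1)
      simpa using this
    rw [hcop, Subgroup.mem_bot] at ha1
    rw [ha1, one_mul]
    exact hb
  · rw [← hZ]
    exact le_inf le_sup_right inf_le_left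

/-- `hcard` and `h3` of `count_core` for one P1 member. -/
theorem member_card' [Finite G] (hG : IsMinSimpleOddOrder G) (L KL Z : Subgroup G)
    (hL : IsCoatom L) (hKL : IsPiHallOf (kappa L) KL L) (hKL1 : KL ≠ ⊥)
    (hZ : KL ⊔ (sigmaCore L ⊓ Subgroup.centralizer (KL : Set G)) = Z)
    (hP1 : ∀ q : ℕ, q.Prime → q ∣ Nat.card L → q ∉ sigma L → q ∈ kappa L) :
    Nat.card L * Nat.card ↥(Z ⊓ sigmaCore L) = Nat.card (sigmaCore L) * Nat.card Z ∧
    3 * Nat.card ↥(Z ⊓ sigmaCore L) ≤ Nat.card (sigmaCore L) := by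
  have h30 : Cfsg.Agent.Lib.helper69.H1430 G :=
    fun M hM K hK hK1 => Cfsg.Agent.S1430.result hG M hM K hK hK1
  have hKs1 := Cfsg.Agent.Lib.helper25.BG1367.ks_ne_bot h30 L hL KL hKL hKL1
  have hinf := inf_sigmaCore_eq L KL Z hKL.2.1 hZ
  have hSHall := (Cfsg.Agent.S1350.result hG L hL).1
  have hc : ∀ a ∈ KL, ∀ b ∈ sigmaCore L ⊓ Subgroup.centralizer (KL : Set G), a * b = b * a :=
    fun a ha b hb => (Subgroup.mem_centralizer_iff.mp hb.2) a ha
  have hcop := Cfsg.Agent.Lib.helper10.BG1369.coprime_kappa_sigmaCore L KL hKL.2.1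
  have hKKs : KL ⊓ (sigmaCore L ⊓ Subgroup.centralizer (KL : Set G)) = ⊥ := by
    have h1 : KL ⊓ sigmaCore L = ⊥ := (Subgroup.disjoint_of_coprime_natCard hcop).eq_bot
    exact le_bot_iff.mp (h1 ▸ inf_le_inf_left KL inf_le_left)
  have hZcard : Nat.card Z =
      Nat.card KL * Nat.card ↥(sigmaCore L ⊓ Subgroup.centralizer (KL : Set G)) := by
    rw [← hZ]
    exact card_sup_of_comm hc hKKs
  -- |L| = |L_σ| |KL|
  have hS : Nat.card (sigmaCore L) * (sigmaCore L).relIndex L = Nat.card L := by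
    rw [Subgroup.relIndex, ← Nat.card_congr (Subgroup.subgroupOfEquivOfLe hSHall.1).toEquiv]
    exact Subgroup.card_mul_index _
  have hK : Nat.card KL * KL.relIndex L = Nat.card L := by
    rw [Subgroup.relIndex, ← Nat.card_congr (Subgroup.subgroupOfEquivOfLe hKL.1).toEquiv]
    exact Subgroup.card_mul_index _
  have hLpos : 0 < Nat.card L := Nat.card_pos
  have hdvd : Nat.card (sigmaCore L) * Nat.card KL ∣ Nat.card L :=
    Nat.Coprime.mul_dvd_of_dvd_of_dvd hcop.symm (Dvd.intro _ hS) (Dvd.intro _ hK)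
  obtain ⟨c, hc'⟩ := hdvd
  have hc1 : c = 1 := by
    by_contra hne
    obtain ⟨q, hq, hqc⟩ := Nat.exists_prime_and_dvd hne
    have hqL : q ∣ Nat.card L := hc' ▸ Dvd.dvd.mul_left hqc _
    have hSpos : 0 < Nat.card (sigmaCore L) := Nat.card_pos
    have hKpos : 0 < Nat.card KL := Nat.card_pos
    by_cases hqσ : q ∈ sigma L
    · apply hSHall.2.2 q hq hqσ
      have : (sigmaCore L).relIndex L = Nat.card KL * c := by
        apply Nat.eq_of_mul_eq_mul_left hSpos
        rw [hS, hc', mul_assoc]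
      rw [this]
      exact Dvd.dvd.mul_left hqc _
    · apply hKL.2.2 q hq (hP1 q hq hqL hqσ)
      have : KL.relIndex L = Nat.card (sigmaCore L) * c := by
        apply Nat.eq_of_mul_eq_mul_left hKpos
        rw [hK, hc']
        ring
      rw [this]
      exact Dvd.dvd.mul_left hqc _
  rw [hc1, mul_one] at hc'
  constructor
  · rw [hinf, hc', hZcard]
    ring
  · rw [hinf]
    exact Cfsg.Agent.Lib.helper71.BG1369.three_mul_card_ks_le hG h30 L hL KL hKL hKL1 hKs1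

end Cfsg.Agent.Lib.helper29.BGFamFC
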