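/-
Members of a family with common `Z = K_i ⊔ C_{(M_i)_σ}(K_i)` are pairwise non-conjugate, hence
(S1379 cl.1) their tilde-sets are pairwise disjoint (`hdisj` of `helper74.BGCount.count_core`);
and the reduction of the family count to the two remaining hypotheses `hTI`, `hdisjZ`.
-/
import Mathlib
import Cfsg.Agent.Lib.helper29.BG1366Defs
import Cfsg.Agent.Lib.helper29.BGFamFC
import Cfsg.Agent.Lib.helper74.BGCount
import Cfsg.Agent.Lib.helper3.BGCross

set_option autoImplicit false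

namespace Cfsg.Agent.Lib.helper29.BGFamFD

open Cfsg Cfsg.Agent.Lib.helper29.BG1366

variable {G : Type*} [Group G]

/-- Distinct members of a family with a common `Z` have disjoint `σ`-sets on `Z`; in particular
they are not conjugate. -/
theorem members_not_conj [Finite G] (hG : IsMinSimpleOddOrder G) (Z : Subgroup G) {ι : Type*}
    (M K : ι → Subgroup G) (hMinj : Function.Injective M) (hM : ∀ i, IsCoatom (M i))
    (hK : ∀ i, IsPiHallOf (kappa (M i)) (K i) (M i)) (hK1 : ∀ i, K i ≠ ⊥)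
    (hZ : ∀ i, K i ⊔ (sigmaCore (M i) ⊓ Subgroup.centralizer (K i : Set G)) = Z) :
    ∀ i j, i ≠ j → ∀ g : G, M j ≠ (M i).map (MulAut.conj g).toMonoidHom := by
  intro i j hij g hconj
  apply hij
  apply hMinj
  have h30 : Cfsg.Agent.Lib.helper69.H1430 G :=
    fun M hM K hK hK1 => Cfsg.Agent.S1430.result hG M hM K hK hK1
  have hσ : sigma (M j) = sigma (M i) := by
    rw [hconj]
    exact Cfsg.Agent.Lib.helper3.sigma_map_conj (M i) g
  have hKs1 := Cfsg.Agent.Lib.helper25.BG1367.ks_ne_bot h30 (M i) (hM i) (K i) (hK i) (hK1 i)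
  obtain ⟨y, hy, hyp⟩ := Cfsg.Agent.Lib.helper10.BG1369.exists_prime_order hKs1
  have hqσ : orderOf y ∈ sigma (M i) :=
    Cfsg.Agent.Lib.helper10.BG1369.sigma_of_dvd_sigmaCore (M i) hyp
      (Subgroup.orderOf_dvd_natCard _ hy.1)
  have hyZ : y ∈ K j ⊔ (sigmaCore (M j) ⊓ Subgroup.centralizer (K j : Set G)) := by
    rw [hZ j, ← hZ i]
    exact Subgroup.mem_sup_right hy
  have hyj : y ∈ sigmaCore (M j) ⊓ Subgroup.centralizer (K j : Set G) := by
    rcases Cfsg.Agent.Lib.helper10.BG1369.prime_order_mem_or (M j) (K j) (hK j).2.1 hyZ hyp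
      with h | h
    · exfalso
      have h1 : orderOf y ∈ kappa (M j) :=
        (hK j).2.1 _ hyp (Subgroup.orderOf_dvd_natCard _ h)
      exact h1.2.2.1 (hσ ▸ hqσ)
    · exact h
  have hYp : (Nat.card (Subgroup.zpowers y)).Prime := by rw [Nat.card_zpowers]; exact hyp
  have hi := Cfsg.Agent.Lib.helper25.BG1367.cent_uniq hG h30 (M i) (hM i) (K i) (hK i) (hK1 i)
    (Subgroup.zpowers y) ((Subgroup.zpowers_le).mpr hy) hYp
  have hj := Cfsg.Agent.Lib.helper25.BG1367.cent_uniq hG h30 (M j) (hM j) (K j) (hK j) (hK1 j)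
    (Subgroup.zpowers y) ((Subgroup.zpowers_le).mpr hyj) hYp
  exact hj.2 (M i) (hM i) hi.1

/-- The family count (statement of `helper19.BGFam.no_p1_family`) reduced to the two hypotheses
`hTI` and `hdisjZ` of `count_core`. -/
theorem no_p1_family_of [Finite G] (hG : IsMinSimpleOddOrder G) (h77 : H1377 G) (hD : HTD G)
    (Z : Subgroup G) {ι : Type*} [Fintype ι] (hι : 2 ≤ Fintype.card ι) (M K : ι → Subgroup G)
    (hMinj : Function.Injective M) (hM : ∀ i, IsCoatom (M i))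
    (hK : ∀ i, IsPiHallOf (kappa (M i)) (K i) (M i)) (hK1 : ∀ i, K i ≠ ⊥)
    (hZ : ∀ i, K i ⊔ (sigmaCore (M i) ⊓ Subgroup.centralizer (K i : Set G)) = Z)
    (hP1 : ∀ i, ∀ q : ℕ, q.Prime → q ∣ Nat.card (M i) → q ∉ sigma (M i) → q ∈ kappa (M i))
    (hTI : ∀ z ∈ Z, (∀ i, z ∉ sigmaCore (M i)) → ∀ g : G, g * z * g⁻¹ ∈ Z → g ∈ Z)
    (hdisjZ : ∀ i, ∀ z ∈ Z, (∀ j, z ∉ sigmaCore (M j)) → ∀ y : G,
      y * z * y⁻¹ ∉ tildeOf (M i) ((sigmaCore (M i) : Set G) \ {1})) : False :=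
  Cfsg.Agent.Lib.helper74.BGCount.count_core Z hι M hTI
    (fun i => (Cfsg.Agent.Lib.helper29.BGFamFC.member_card' hG (M i) (K i) Z (hM i) (hK i) (hK1 i)
      (hZ i) (hP1 i)).1)
    (fun i => (Cfsg.Agent.Lib.helper29.BGFamFC.member_card' hG (M i) (K i) Z (hM i) (hK i) (hK1 i)
      (hZ i) (hP1 i)).2)
    (fun i => h77 (M i) (hM i))
    (fun i j hij => Set.disjoint_iff_inter_eq_empty.mpr
      (hD (M i) (M j) (hM i) (hM j) (members_not_conj hG Z M K hMinj hM hK hK1 hZ i j hij)))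
    hdisjZ

end Cfsg.Agent.Lib.helper29.BGFamFD
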