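/-
Hypothesis `hTI` of `helper74.BGCount.count_core` for a family of maximal subgroups `L i` with
Hall `κ(L i)`-subgroups `KL i ≠ 1` and common `Z = KL i ⊔ C_{(L i)_σ}(KL i)`:
an element of `Z` lying in no `(L i)_σ` is conjugated into `Z` only by elements of `Z`.
-/
import Mathlib
import Cfsg.Agent.S1430
import Cfsg.Agent.S1431
import Cfsg.Agent.Lib.helper10.BG1369

set_option autoImplicit false

namespace Cfsg.Agent.Lib.helper29.BGFamFT

open Cfsg

variable {G : Type*} [Group G]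

/-- `Z = KL × KL*`: the `σ(L)`-elements of `Z` lie in `KL* = C_{L_σ}(KL)`, the `σ(L)'`-elements
in `KL`. -/
theorem member_split' [Finite G] (L KL Z : Subgroup G)
    (hKLκ : ∀ p : ℕ, p.Prime → p ∣ Nat.card KL → p ∈ kappa L)
    (hZ : KL ⊔ (sigmaCore L ⊓ Subgroup.centralizer (KL : Set G)) = Z) :
    (∀ z ∈ Z, (∀ p : ℕ, p.Prime → p ∣ orderOf z → p ∈ sigma L) →
      z ∈ sigmaCore L ⊓ Subgroup.centralizer (KL : Set G)) ∧
    (∀ z ∈ Z, (∀ p : ℕ, p.Prime → p ∣ orderOf z → p ∉ sigma L) → z ∈ KL) := by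
  have hc : ∀ a ∈ KL, ∀ b ∈ sigmaCore L ⊓ Subgroup.centralizer (KL : Set G), a * b = b * a :=
    fun a ha b hb => (Subgroup.mem_centralizer_iff.mp hb.2) a ha
  have hcopc := Cfsg.Agent.Lib.helper10.BG1369.coprime_kappa_sigmaCore L KL hKLκ
  have key : ∀ z ∈ Z, ∃ a ∈ KL, ∃ b ∈ sigmaCore L ⊓ Subgroup.centralizer (KL : Set G),
      z = a * b ∧ orderOf z = orderOf a * orderOf b := by
    intro z hz
    rw [← hZ] at hz
    obtain ⟨a, ha, b, hb, rfl⟩ := Cfsg.Agent.Lib.helper10.BG1369.mem_sup_of_comm hc hz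
    refine ⟨a, ha, b, hb, rfl, ?_⟩
    have hcop : (orderOf a).Coprime (orderOf b) :=
      Nat.Coprime.coprime_dvd_left (Subgroup.orderOf_dvd_natCard KL ha)
        (Nat.Coprime.coprime_dvd_right (Subgroup.orderOf_dvd_natCard _ hb.1) hcopc)
    exact Commute.orderOf_mul_eq_mul_orderOf_of_coprime (hc a ha b hb) hcop
  constructor
  · intro z hz hσ
    obtain ⟨a, ha, b, hb, rfl, ho⟩ := key z hz
    have ha1 : a = 1 := by
      by_contra hne
      have h1 : orderOf a ≠ 1 := fun h => hne (orderOf_eq_one_iff.mp h)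
      obtain ⟨p, hp, hpd⟩ := Nat.exists_prime_and_dvd h1
      have h2 : p ∈ sigma L := hσ p hp (ho ▸ Dvd.dvd.mul_right hpd _)
      have h3 : p ∈ kappa L := hKLκ p hp (hpd.trans (Subgroup.orderOf_dvd_natCard KL ha))
      exact h3.2.2.1 h2
    rw [ha1, one_mul]
    exact hb
  · intro z hz hσ
    obtain ⟨a, ha, b, hb, rfl, ho⟩ := key z hz
    have hb1 : b = 1 := by
      by_contra hne
      have h1 : orderOf b ≠ 1 := fun h => hne (orderOf_eq_one_iff.mp h)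
      obtain ⟨p, hp, hpd⟩ := Nat.exists_prime_and_dvd h1
      have h2 : p ∉ sigma L := hσ p hp (ho ▸ Dvd.dvd.mul_left hpd _)
      exact h2 (Cfsg.Agent.Lib.helper10.BG1369.sigma_of_dvd_sigmaCore L hp
        (hpd.trans (Subgroup.orderOf_dvd_natCard _ hb.1)))
    rw [hb1, mul_one]
    exact ha

/-- Hypothesis `hTI` of `count_core` (unbundled form). -/
theorem family_TI' [Finite G] (hG : IsMinSimpleOddOrder G) (Z : Subgroup G) {ι : Type*}
    [Nonempty ι] (L KL : ι → Subgroup G) (hL : ∀ i, IsCoatom (L i))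
    (hKL : ∀ i, IsPiHallOf (kappa (L i)) (KL i) (L i)) (hKL1 : ∀ i, KL i ≠ ⊥)
    (hZ : ∀ i, KL i ⊔ (sigmaCore (L i) ⊓ Subgroup.centralizer (KL i : Set G)) = Z)
    (hcov : ∀ t : ℕ, t.Prime → t ∣ Nat.card Z → ∃ i, t ∈ sigma (L i)) :
    ∀ z ∈ Z, (∀ i, z ∉ sigmaCore (L i)) → ∀ g : G, g * z * g⁻¹ ∈ Z → g ∈ Z := by
  intro z hzZ hz g hg
  have hz1 : z ≠ 1 := by
    rintro rfl
    obtain ⟨i⟩ := ‹Nonempty ι›
    exact hz i (Subgroup.one_mem _)
  have ho1 : orderOf z ≠ 1 := fun h => hz1 (orderOf_eq_one_iff.mp h)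
  have ho0 : orderOf z ≠ 0 := (orderOf_pos z).ne'
  obtain ⟨q, hq, hqd⟩ := Nat.exists_prime_and_dvd ho1
  obtain ⟨i, hqi⟩ := hcov q hq (hqd.trans (Subgroup.orderOf_dvd_natCard Z hzZ))
  obtain ⟨hs2, hs3⟩ := member_split' (L i) (KL i) Z (hKL i).2.1 (hZ i)
  -- a prime of `o(z)` outside `σ(L i)`
  have hex : ∃ q' : ℕ, q'.Prime ∧ q' ∣ orderOf z ∧ q' ∉ sigma (L i) := by
    by_contra hcon
    have hcon' : ∀ p : ℕ, p.Prime → p ∣ orderOf z → p ∈ sigma (L i) :=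
      fun p hp hpd => by_contra (fun h => hcon ⟨p, hp, hpd, h⟩)
    exact hz i (hs2 z hzZ hcon').1
  obtain ⟨q', hq', hq'd, hq'i⟩ := hex
  -- the elements of order `q`, `q'` in `⟨z⟩` and their conjugates
  have hoy : orderOf (z ^ (orderOf z / q)) = q := orderOf_pow_orderOf_div ho0 hqd
  have hoy' : orderOf (z ^ (orderOf z / q')) = q' := orderOf_pow_orderOf_div ho0 hq'd
  have hconj : ∀ n : ℕ, g * z ^ n * g⁻¹ ∈ Z := by
    intro n
    rw [← conj_pow]
    exact Z.pow_mem hg n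
  have hord : ∀ w : G, orderOf (g * w * g⁻¹) = orderOf w := by
    intro w
    have := MulEquiv.orderOf_eq (MulAut.conj g) w
    rwa [MulAut.conj_apply] at this
  have hσq : ∀ w : G, orderOf w = q → ∀ p : ℕ, p.Prime → p ∣ orderOf w → p ∈ sigma (L i) := by
    intro w hw p hp hpd
    rw [hw] at hpd
    rw [(Nat.prime_dvd_prime_iff_eq hp hq).mp hpd]
    exact hqi
  have hσq' : ∀ w : G, orderOf w = q' → ∀ p : ℕ, p.Prime → p ∣ orderOf w → p ∉ sigma (L i) := by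
    intro w hw p hp hpd
    rw [hw] at hpd
    rw [(Nat.prime_dvd_prime_iff_eq hp hq').mp hpd]
    exact hq'i
  have hy : z ^ (orderOf z / q) ∈ sigmaCore (L i) ⊓ Subgroup.centralizer (KL i : Set G) :=
    hs2 _ (Z.pow_mem hzZ _) (hσq _ hoy)
  have hgy : g * z ^ (orderOf z / q) * g⁻¹ ∈
      sigmaCore (L i) ⊓ Subgroup.centralizer (KL i : Set G) :=
    hs2 _ (hconj _) (hσq _ ((hord _).trans hoy))
  have hy' : z ^ (orderOf z / q') ∈ KL i := hs3 _ (Z.pow_mem hzZ _) (hσq' _ hoy')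
  have hgy' : g * z ^ (orderOf z / q') * g⁻¹ ∈ KL i :=
    hs3 _ (hconj _) (hσq' _ ((hord _).trans hoy'))
  obtain ⟨h1, h2, -, -⟩ := Cfsg.Agent.S1431.result hG (L i) (hL i) (KL i) (hKL i) (hKL1 i)
  have hσL : sigmaCore (L i) ≤ L i := by
    unfold sigmaCore
    exact Subgroup.map_subtype_le _
  have hgL : g ∈ L i := by
    by_contra hgn
    have hmem : g * z ^ (orderOf z / q) * g⁻¹ ∈
        (sigmaCore (L i) ⊓ Subgroup.centralizer (KL i : Set G)) ⊓
          (L i).map (MulAut.conj g).toMonoidHom :=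
      ⟨hgy, ⟨z ^ (orderOf z / q), hσL hy.1, rfl⟩⟩
    rw [h1 g hgn, Subgroup.mem_bot] at hmem
    have : orderOf (g * z ^ (orderOf z / q) * g⁻¹) = 1 := by rw [hmem, orderOf_one]
    rw [hord, hoy] at this
    exact hq.ne_one this
  by_contra hgZ
  have hgn : g ∉ KL i ⊔ (sigmaCore (L i) ⊓ Subgroup.centralizer (KL i : Set G)) := by
    rw [hZ i]
    exact hgZ
  have hmem : g * z ^ (orderOf z / q') * g⁻¹ ∈ KL i ⊓ (KL i).map (MulAut.conj g).toMonoidHom :=
    ⟨hgy', ⟨z ^ (orderOf z / q'), hy', rfl⟩⟩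
  rw [h2 g hgL hgn, Subgroup.mem_bot] at hmem
  have : orderOf (g * z ^ (orderOf z / q') * g⁻¹) = 1 := by rw [hmem, orderOf_one]
  rw [hord, hoy'] at this
  exact hq'.ne_one this

end Cfsg.Agent.Lib.helper29.BGFamFT
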