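/-
S1366 (B-G 14.7): assembly of the existence of the partner `M*` from
* the pair lemma (pieces PA `pair_kappa`, PB `pair_struct`, as hypotheses `HPA`, `HPB`),
* the "no P1-family" counting lemma (as hypothesis `HFam`).
-/
import Mathlib
import Cfsg.Agent.Lib.helper29.BG1366Defs
import Cfsg.Agent.S1430
import Cfsg.Agent.S1367
import Cfsg.Agent.Lib.lead.Hall
import Cfsg.Agent.Lib.helper10.BG1369
import Cfsg.Agent.Lib.helper25.BG1367
import Cfsg.Agent.Lib.helper27.BGKPrime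
import Cfsg.Agent.Lib.helper71.BGTwelveAux

set_option autoImplicit false

namespace Cfsg.Agent.Lib.helper29.BG1366

open Cfsg

universe u

variable {G : Type u} [Group G]

/-- Piece PA (`pair_kappa`) as a hypothesis. -/
def HPA (G : Type u) [Group G] : Prop :=
  ∀ (M : Subgroup G), IsCoatom M → ∀ K : Subgroup G, IsPiHallOf (kappa M) K M → K ≠ ⊥ →
    ∀ X : Subgroup G, X ≤ K → (Nat.card X).Prime → ∀ N : Subgroup G, IsCoatom N →
    Subgroup.normalizer (X : Set G) ≤ N →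
    (∀ g : G, N ≠ M.map (MulAut.conj g).toMonoidHom) ∧
    (∀ q : ℕ, q ∈ sigma M → q ∉ sigma N) ∧
    X ≤ sigmaCore N ∧
    K ⊔ (sigmaCore M ⊓ Subgroup.centralizer (K : Set G)) ≤ N ∧
    (∀ q : ℕ, q.Prime → q ∣ Nat.card ↥(sigmaCore M ⊓ Subgroup.centralizer (K : Set G)) →
      q ∈ kappa N)

/-- Piece PB (`pair_struct`) as a hypothesis. -/
def HPB (G : Type u) [Group G] : Prop :=
  ∀ (M : Subgroup G), IsCoatom M → ∀ K : Subgroup G, IsPiHallOf (kappa M) K M → K ≠ ⊥ →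
    ∀ X : Subgroup G, X ≤ K → (Nat.card X).Prime → ∀ N : Subgroup G, IsCoatom N →
    Subgroup.normalizer (X : Set G) ≤ N → N ≠ M → (∀ q : ℕ, q ∈ sigma M → q ∉ sigma N) →
    X ≤ sigmaCore N → K ⊔ (sigmaCore M ⊓ Subgroup.centralizer (K : Set G)) ≤ N →
    ∀ K' : Subgroup G, IsPiHallOf (kappa N) K' N →
    sigmaCore M ⊓ Subgroup.centralizer (K : Set G) ≤ K' →
    K' ⊔ (sigmaCore N ⊓ Subgroup.centralizer (K' : Set G)) =
        K ⊔ (sigmaCore M ⊓ Subgroup.centralizer (K : Set G)) ∧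
    sigmaCore N ⊓ Subgroup.centralizer (K' : Set G) = K ⊓ sigmaCore N ∧
    K' = (sigmaCore M ⊓ Subgroup.centralizer (K : Set G)) ⊔ (K ⊓ K')

/-- The counting lemma "no family of P1 maximal subgroups with a common `Z`" as a hypothesis. -/
def HFam (G : Type u) [Group G] : Prop :=
  ∀ (Z : Subgroup G) (ι : Type u) [Fintype ι], 2 ≤ Fintype.card ι → ∀ (M K : ι → Subgroup G),
    Function.Injective M → (∀ i, IsCoatom (M i)) → (∀ i, IsPiHallOf (kappa (M i)) (K i) (M i)) →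
    (∀ i, K i ≠ ⊥) →
    (∀ i, K i ⊔ (sigmaCore (M i) ⊓ Subgroup.centralizer (K i : Set G)) = Z) →
    (∀ i, ∀ q : ℕ, q.Prime → q ∣ Nat.card (M i) → q ∉ sigma (M i) → q ∈ kappa (M i)) →
    (∀ t : ℕ, t.Prime → t ∣ Nat.card Z → ∃ i, t ∈ sigma (M i)) → False

/-- A `π`-subgroup of a solvable subgroup `N` lies in a Hall `π`-subgroup of `N`. -/
theorem exists_hallOf_ge [Finite G] (π : Set ℕ) (N : Subgroup G) (hNs : Group.IsSolvable N)
    (A : Subgroup G) (hAN : A ≤ N) (hA : ∀ p : ℕ, p.Prime → p ∣ Nat.card A → p ∈ π) :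
    ∃ K' : Subgroup G, IsPiHallOf π K' N ∧ A ≤ K' := by
  have := hNs
  obtain ⟨H0, hH0⟩ := Cfsg.Agent.Lib.lead.exists_isPiHall_of_isSolvable π (↥N)
  have hA' : IsPiSubgroup π (A.subgroupOf N) := by
    intro p hp hd
    apply hA p hp
    rw [← Nat.card_congr (Subgroup.subgroupOfEquivOfLe hAN).toEquiv]
    exact hd
  obtain ⟨g, hg⟩ := Cfsg.Agent.Lib.lead.le_conj_isPiHall_of_isSolvable hH0 hA'
  have hH' := Cfsg.Agent.Lib.lead.isPiHall_map_conj hH0 g
  obtain ⟨H, hHdef⟩ : ∃ H : Subgroup ↥N, H = H0.map (MulAut.conj g).toMonoidHom := ⟨_, rfl⟩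
  rw [← hHdef] at hg hH'
  obtain ⟨hH1, hH2⟩ := hH'
  have hcard : Nat.card ↥(H.map N.subtype) = Nat.card H :=
    (Nat.card_congr (Subgroup.equivMapOfInjective H N.subtype
      (Subgroup.subtype_injective N)).toEquiv).symm
  have hsub : (H.map N.subtype).subgroupOf N = H := by
    ext z
    rw [Subgroup.mem_subgroupOf]
    constructor
    · rintro ⟨w, hw, hwz⟩
      have : w = z := Subtype.ext hwz
      rwa [← this]
    · intro hz
      exact ⟨z, hz, rfl⟩
  refine ⟨H.map N.subtype, ⟨Subgroup.map_subtype_le _, ?_, ?_⟩, ?_⟩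
  · intro p hp hdvd
    rw [hcard] at hdvd
    exact hH1 p hp hdvd
  · intro p hp hpπ hdvd
    apply hH2 p hp hpπ
    rwa [Subgroup.relIndex, hsub] at hdvd
  · intro a ha
    have h1 : (⟨a, hAN ha⟩ : ↥N) ∈ A.subgroupOf N := by
      rw [Subgroup.mem_subgroupOf]
      exact ha
    exact ⟨⟨a, hAN ha⟩, hg h1, rfl⟩

/-- A group of prime order has no two nontrivial subgroups meeting trivially. -/
theorem not_prime_of_disjoint [Finite G] {A B H : Subgroup G} (hA : A ≤ H) (hB : B ≤ H)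
    (hA1 : A ≠ ⊥) (hB1 : B ≠ ⊥) (hAB : A ⊓ B = ⊥) : ¬ (Nat.card H).Prime := by
  intro hp
  have key : ∀ C : Subgroup G, C ≤ H → C ≠ ⊥ → C = H := by
    intro C hC hC1
    have hd := Subgroup.card_dvd_of_le hC
    rcases (Nat.dvd_prime hp).mp hd with h | h
    · exact absurd (Subgroup.card_eq_one.mp h) hC1
    · exact Subgroup.eq_of_le_of_card_ge hC (le_of_eq h.symm)
  rw [key A hA hA1, key B hB hB1, inf_idem] at hAB
  rw [hAB] at hp
  simp at hp
  exact Nat.not_prime_one hp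

/-- B-G 14.7, existence of `M*` (for ANY nontrivial Hall `κ(M)`-subgroup `K`), from the pair
lemma and the family count. -/
theorem exists_partner [Finite G] (hG : IsMinSimpleOddOrder G) (hPA : HPA G) (hPB : HPB G)
    (hFam : HFam G) (M : Subgroup G) (hM : IsCoatom M) (K : Subgroup G)
    (hK : IsPiHallOf (kappa M) K M) (hK1 : K ≠ ⊥) :
    ∃ Mstar : Subgroup G, IsCoatom Mstar ∧
      K = sigmaCore Mstar ⊓ Subgroup.centralizer
        ((sigmaCore M ⊓ Subgroup.centralizer (K : Set G) : Subgroup G) : Set G) ∧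
      IsPiHallOf (kappa Mstar) (sigmaCore M ⊓ Subgroup.centralizer (K : Set G)) Mstar := by
  classical
  obtain ⟨hodd, hsimple, hna, hsolv⟩ := id hG
  have h30 : Cfsg.Agent.Lib.helper69.H1430 G :=
    fun M hM K hK hK1 => Cfsg.Agent.S1430.result hG M hM K hK hK1
  have hKs1' := Cfsg.Agent.Lib.helper25.BG1367.ks_ne_bot h30 M hM K hK hK1
  have hPA' := hPA M hM K hK hK1
  have hPB' := hPB M hM K hK hK1
  have hmemor := fun (w : G) => Cfsg.Agent.Lib.helper10.BG1369.prime_order_mem_or (w := w) M K hK.2.1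
  obtain ⟨Ks, hKsdef⟩ : ∃ Ks : Subgroup G, Ks = sigmaCore M ⊓ Subgroup.centralizer (K : Set G) :=
    ⟨_, rfl⟩
  have hmemor' : ∀ w : G, w ∈ K ⊔ Ks → (orderOf w).Prime → w ∈ K ∨ w ∈ Ks := by
    intro w hw hwp
    rw [hKsdef] at hw ⊢
    exact hmemor w hw hwp
  rw [← hKsdef] at hKs1' hPA' hPB' ⊢
  have hKsσ : Ks ≤ sigmaCore M := by rw [hKsdef]; exact inf_le_left
  have hKκ : ∀ p : ℕ, p.Prime → p ∣ Nat.card K → p ∈ kappa M := hK.2.1
  have hKσ : K ⊓ sigmaCore M = ⊥ :=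
    (Subgroup.disjoint_of_coprime_natCard
      (Cfsg.Agent.Lib.helper10.BG1369.coprime_kappa_sigmaCore M K hKκ)).eq_bot
  have hKKs : K ⊓ Ks = ⊥ := le_bot_iff.mp (hKσ ▸ inf_le_inf_left K hKsσ)
  have hcomm : ∀ a ∈ K, ∀ b ∈ Ks, a * b = b * a := by
    intro a ha b hb
    rw [hKsdef] at hb
    exact (Subgroup.mem_centralizer_iff.mp hb.2) a ha
  by_contra hne
  -- every prime-order subgroup of `K` yields a second family member
  have key : ∀ X : Subgroup G, X ≤ K → (Nat.card X).Prime → ∃ N K' : Subgroup G,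
      N ≠ M ∧ IsCoatom N ∧ IsPiHallOf (kappa N) K' N ∧ K' ≠ ⊥ ∧
      K' ⊔ (sigmaCore N ⊓ Subgroup.centralizer (K' : Set G)) = K ⊔ Ks ∧
      X ≤ sigmaCore N ∧ ¬ (Nat.card K').Prime ∧ ¬ (Nat.card K).Prime := by
    intro X hXK hXp
    have hX1 : X ≠ ⊥ := by
      intro h
      rw [h] at hXp
      simp at hXp
      exact Nat.not_prime_one hXp
    have hXtop : X ≠ ⊤ := by
      intro h
      exact hM.1 (top_le_iff.mp (h ▸ (hXK.trans hK.1)))
    have hNX : Subgroup.normalizer (X : Set G) ≠ ⊤ :=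
      Cfsg.Agent.Lib.helper71.BG12.normalizer_ne_top' hG hX1 hXtop
    obtain ⟨N, hN, hXN⟩ := (eq_top_or_exists_le_coatom _).resolve_left hNX
    obtain ⟨hnc, hσ, hXσ, hZN, hκ⟩ := hPA' X hXK hXp N hN hXN
    have hNM : N ≠ M := by
      intro h
      apply hnc 1
      rw [h]
      ext w
      simp
    have hNs : Group.IsSolvable N := hsolv N hN.1
    obtain ⟨K', hK', hKsK'⟩ :=
      exists_hallOf_ge (kappa N) N hNs Ks (le_sup_right.trans hZN) hκ
    obtain ⟨hZ, hKst, hK'eq⟩ := hPB' X hXK hXp N hN hXN hNM hσ hXσ hZN K' hK' hKsK'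
    have hK'1 : K' ≠ ⊥ := fun h => hKs1' (le_bot_iff.mp (h ▸ hKsK'))
    have hint : K ⊓ K' ≠ ⊥ := by
      intro hint
      apply hne
      have hK'Ks : K' = Ks := by rw [hK'eq, hint, sup_bot_eq]
      rw [hK'Ks] at hK' hZ hKst
      refine ⟨N, hN, ?_, hK'⟩
      rw [hKst]
      have hKle : K ≤ sigmaCore N := by
        intro k hk
        have hk' : k ∈ Ks ⊔ (K ⊓ sigmaCore N) := by
          rw [← hKst, hZ]
          exact Subgroup.mem_sup_left hk
        obtain ⟨s, hs, k1, hk1, rfl⟩ :=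
          Cfsg.Agent.Lib.helper10.BG1369.mem_sup_of_comm (A := Ks) (B := K ⊓ sigmaCore N)
            (fun a ha b hb => (hcomm b hb.1 a ha).symm) hk'
        have hs1 : s = 1 := by
          have h1 : s ∈ K ⊓ Ks := by
            refine ⟨?_, hs⟩
            have := K.mul_mem hk (K.inv_mem hk1.1)
            simpa using this
          rw [hKKs] at h1
          exact Subgroup.mem_bot.mp h1
        rw [hs1, one_mul]
        exact hk1.2
      exact (inf_eq_left.mpr hKle).symm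
    have hK'σ : K' ⊓ sigmaCore N = ⊥ :=
      (Subgroup.disjoint_of_coprime_natCard
        (Cfsg.Agent.Lib.helper10.BG1369.coprime_kappa_sigmaCore N K' hK'.2.1)).eq_bot
    have hcopN : (K ⊓ sigmaCore N) ⊓ (K ⊓ K') = ⊥ := by
      apply le_bot_iff.mp
      rw [← hK'σ]
      intro z hz
      exact ⟨hz.2.2, hz.1.2⟩
    have hXne : K ⊓ sigmaCore N ≠ ⊥ := fun h => hX1 (le_bot_iff.mp (h ▸ le_inf hXK hXσ))
    refine ⟨N, K', hNM, hN, hK', hK'1, hZ, hXσ, ?_, ?_⟩
    · refine not_prime_of_disjoint hKsK' inf_le_right hKs1' hint ?_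
      apply le_bot_iff.mp
      rw [← hKKs]
      intro z hz
      exact ⟨hz.2.1, hz.1⟩
    · exact not_prime_of_disjoint inf_le_left inf_le_left hXne hint hcopN
  -- the family of all members
  obtain ⟨x, hxK, hxp⟩ := Cfsg.Agent.Lib.helper10.BG1369.exists_prime_order hK1
  obtain ⟨N0, K0, hN0M, hN0, hK0, hK01, hZ0, -, hK0np, hKnp⟩ :=
    key (Subgroup.zpowers x) ((Subgroup.zpowers_le).mpr hxK) (by rw [Nat.card_zpowers]; exact hxp)
  let ι : Type u := {L : Subgroup G // ∃ KL : Subgroup G, IsCoatom L ∧ IsPiHallOf (kappa L) KL L ∧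
    KL ≠ ⊥ ∧ KL ⊔ (sigmaCore L ⊓ Subgroup.centralizer (KL : Set G)) = K ⊔ Ks ∧
    ¬ (Nat.card KL).Prime}
  let _ : Fintype ι := Fintype.ofFinite ι
  have hMmem : ∃ KL : Subgroup G, IsCoatom M ∧ IsPiHallOf (kappa M) KL M ∧
      KL ≠ ⊥ ∧ KL ⊔ (sigmaCore M ⊓ Subgroup.centralizer (KL : Set G)) = K ⊔ Ks ∧
      ¬ (Nat.card KL).Prime := ⟨K, hM, hK, hK1, by rw [hKsdef], hKnp⟩
  have hcard : 2 ≤ Fintype.card ι := by
    have hne2 : (⟨M, hMmem⟩ : ι) ≠ ⟨N0, ⟨K0, hN0, hK0, hK01, hZ0, hK0np⟩⟩ :=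
      fun h => hN0M (Subtype.ext_iff.mp h).symm
    exact Fintype.one_lt_card_iff.mpr ⟨_, _, hne2⟩
  apply hFam (K ⊔ Ks) ι hcard (fun i => i.1) (fun i => Classical.choose i.2)
    Subtype.val_injective
    (fun i => (Classical.choose_spec i.2).1) (fun i => (Classical.choose_spec i.2).2.1)
    (fun i => (Classical.choose_spec i.2).2.2.1) (fun i => (Classical.choose_spec i.2).2.2.2.1)
  · intro i q hq hqd hqσ
    obtain ⟨hL, hKL, hKL1, hZL, hnp⟩ := Classical.choose_spec i.2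
    rcases Cfsg.Agent.Lib.helper27.BGKP.sigma_or_kappa_of_card_not_prime hG h30 i.1 hL _ hKL hKL1
      hnp q hq hqd with h | h
    · exact absurd h hqσ
    · exact h
  · intro t ht htd
    have : Fact t.Prime := ⟨ht⟩
    obtain ⟨z, hz⟩ := exists_prime_orderOf_dvd_card' (G := ↥(K ⊔ Ks)) t htd
    have hzo : orderOf (z : G) = t := by
      rw [Subgroup.orderOf_coe]
      exact hz
    rcases hmemor' (z : G) z.2 (hzo ▸ ht) with h | h
    · obtain ⟨N, K', hNM, hN, hK', hK'1, hZ, hXσ, hK'np, -⟩ :=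
        key (Subgroup.zpowers (z : G)) ((Subgroup.zpowers_le).mpr h)
          (by rw [Nat.card_zpowers, hzo]; exact ht)
      refine ⟨⟨N, K', hN, hK', hK'1, hZ, hK'np⟩, ?_⟩
      apply Cfsg.Agent.Lib.helper10.BG1369.sigma_of_dvd_sigmaCore N ht
      rw [← hzo]
      exact Subgroup.orderOf_dvd_natCard _ (hXσ (Subgroup.mem_zpowers _))
    · refine ⟨⟨M, hMmem⟩, ?_⟩
      apply Cfsg.Agent.Lib.helper10.BG1369.sigma_of_dvd_sigmaCore M ht
      rw [← hzo]
      exact Subgroup.orderOf_dvd_natCard _ (hKsσ h)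

/-- The frozen statement S1366 from the pair lemma and the family count (uniqueness by S1367). -/
theorem s1366_of [Finite G] (hG : IsMinSimpleOddOrder G) (hPA : HPA G) (hPB : HPB G)
    (hFam : HFam G) (M : Subgroup G) (hM : IsCoatom M) (K U : Subgroup G)
    (hKU : IsSigmaDecomposition M K U) (hK1 : K ≠ ⊥) :
    ∃! Mstar : Subgroup G, IsCoatom Mstar ∧
      K = sigmaCore Mstar ⊓ Subgroup.centralizer
        ((sigmaCore M ⊓ Subgroup.centralizer (K : Set G)) : Set G) ∧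
      IsPiHallOf (kappa Mstar) (sigmaCore M ⊓ Subgroup.centralizer (K : Set G)) Mstar := by
  obtain ⟨Ms, hMs, hKst, hKstH⟩ := exists_partner hG hPA hPB hFam M hM K hKU.hall hK1
  refine ⟨Ms, ⟨hMs, hKst, hKstH⟩, ?_⟩
  rintro L ⟨hL, hLst, hLH⟩
  obtain ⟨y, hyK, hyp⟩ := Cfsg.Agent.Lib.helper10.BG1369.exists_prime_order hK1
  have hY : Subgroup.zpowers y ≤ K := (Subgroup.zpowers_le).mpr hyK
  have hYp : (Nat.card (Subgroup.zpowers y)).Prime := by rw [Nat.card_zpowers]; exact hyp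
  have h1 := (Cfsg.Agent.S1367.result hG M hM K U hKU hK1 Ms hMs hKst hKstH).2
    (Subgroup.zpowers y) hY hYp
  have h2 := (Cfsg.Agent.S1367.result hG M hM K U hKU hK1 L hL hLst hLH).2
    (Subgroup.zpowers y) hY hYp
  exact h1.2 L hL h2.1

end Cfsg.Agent.Lib.helper29.BG1366
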