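/-
The generic family lemma shared by S1366 (existence of M*) and S1351 (K cyclic):
if `M` and every maximal subgroup `N ≥ N_G(X)` (`X ≤ K` of prime order, `K ≠ 1` a Hall
`κ(M)`-subgroup) are "P1" (every prime of the order lies in `σ ∪ κ`), contradiction.
-/
import Mathlib
import Cfsg.Agent.Lib.helper29.BG1366Asm

set_option autoImplicit false

namespace Cfsg.Agent.Lib.helper29.BG1366

open Cfsg

universe u

variable {G : Type u} [Group G]

/-- `L` is of type P1: every prime divisor of `|L|` lies in `σ(L) ∪ κ(L)`. -/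
def P1 (L : Subgroup G) : Prop :=
  ∀ q : ℕ, q.Prime → q ∣ Nat.card L → q ∉ sigma L → q ∈ kappa L

/-- The generic family contradiction (pair lemma PA/PB + the family count). -/
theorem family_asm [Finite G] (hG : IsMinSimpleOddOrder G) (hPA : HPA G) (hPB : HPB G)
    (hFam : HFam G) (M : Subgroup G) (hM : IsCoatom M) (K : Subgroup G)
    (hK : IsPiHallOf (kappa M) K M) (hK1 : K ≠ ⊥) (hP1M : P1 M)
    (hP1N : ∀ X : Subgroup G, X ≤ K → (Nat.card X).Prime → ∀ N : Subgroup G, IsCoatom N →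
      Subgroup.normalizer (X : Set G) ≤ N → P1 N) : False := by
  classical
  obtain ⟨hodd, hsimple, hna, hsolv⟩ := id hG
  have h30 : Cfsg.Agent.Lib.helper69.H1430 G :=
    fun M hM K hK hK1 => Cfsg.Agent.S1430.result hG M hM K hK hK1
  have hKs1' := Cfsg.Agent.Lib.helper25.BG1367.ks_ne_bot h30 M hM K hK hK1
  have hPA' := hPA M hM K hK hK1
  have hPB' := hPB M hM K hK hK1
  have hmemor := fun (w : G) =>
    Cfsg.Agent.Lib.helper10.BG1369.prime_order_mem_or (w := w) M K hK.2.1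
  obtain ⟨Ks, hKsdef⟩ : ∃ Ks : Subgroup G, Ks = sigmaCore M ⊓ Subgroup.centralizer (K : Set G) :=
    ⟨_, rfl⟩
  have hmemor' : ∀ w : G, w ∈ K ⊔ Ks → (orderOf w).Prime → w ∈ K ∨ w ∈ Ks := by
    intro w hw hwp
    rw [hKsdef] at hw ⊢
    exact hmemor w hw hwp
  rw [← hKsdef] at hKs1' hPA' hPB'
  have hKsσ : Ks ≤ sigmaCore M := by rw [hKsdef]; exact inf_le_left
  have key : ∀ X : Subgroup G, X ≤ K → (Nat.card X).Prime → ∃ N K' : Subgroup G,
      N ≠ M ∧ IsCoatom N ∧ P1 N ∧ IsPiHallOf (kappa N) K' N ∧ K' ≠ ⊥ ∧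
      K' ⊔ (sigmaCore N ⊓ Subgroup.centralizer (K' : Set G)) = K ⊔ Ks ∧
      X ≤ sigmaCore N := by
    intro X hXK hXp
    have hX1 : X ≠ ⊥ := by
      intro h
      rw [h] at hXp
      simp at hXp
      exact Nat.not_prime_one hXp
    have hXtop : X ≠ ⊤ := by
      intro h
      exact hM.1 (top_le_iff.mp (h ▸ (hXK.trans hK.1)))
    have hNX : Subgroup.normalizer (X : Set G) ≠ ⊤ :=
      Cfsg.Agent.Lib.helper71.BG12.normalizer_ne_top' hG hX1 hXtop
    obtain ⟨N, hN, hXN⟩ := (eq_top_or_exists_le_coatom _).resolve_left hNX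
    obtain ⟨hnc, hσ, hXσ, hZN, hκ⟩ := hPA' X hXK hXp N hN hXN
    have hNM : N ≠ M := by
      intro h
      apply hnc 1
      rw [h]
      ext w
      simp
    have hNs : Group.IsSolvable N := hsolv N hN.1
    obtain ⟨K', hK', hKsK'⟩ :=
      exists_hallOf_ge (kappa N) N hNs Ks (le_sup_right.trans hZN) hκ
    obtain ⟨hZ, -, -⟩ := hPB' X hXK hXp N hN hXN hNM hσ hXσ hZN K' hK' hKsK'
    have hK'1 : K' ≠ ⊥ := fun h => hKs1' (le_bot_iff.mp (h ▸ hKsK'))
    exact ⟨N, K', hNM, hN, hP1N X hXK hXp N hN hXN, hK', hK'1, hZ, hXσ⟩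
  obtain ⟨x, hxK, hxp⟩ := Cfsg.Agent.Lib.helper10.BG1369.exists_prime_order hK1
  obtain ⟨N0, K0, hN0M, hN0, hN0P, hK0, hK01, hZ0, -⟩ :=
    key (Subgroup.zpowers x) ((Subgroup.zpowers_le).mpr hxK) (by rw [Nat.card_zpowers]; exact hxp)
  let ι : Type u := {L : Subgroup G // IsCoatom L ∧ P1 L ∧ ∃ KL : Subgroup G,
    IsPiHallOf (kappa L) KL L ∧ KL ≠ ⊥ ∧
    KL ⊔ (sigmaCore L ⊓ Subgroup.centralizer (KL : Set G)) = K ⊔ Ks}
  let _ : Fintype ι := Fintype.ofFinite ι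
  have hMmem : IsCoatom M ∧ P1 M ∧ ∃ KL : Subgroup G, IsPiHallOf (kappa M) KL M ∧ KL ≠ ⊥ ∧
      KL ⊔ (sigmaCore M ⊓ Subgroup.centralizer (KL : Set G)) = K ⊔ Ks :=
    ⟨hM, hP1M, K, hK, hK1, by rw [hKsdef]⟩
  have hcard : 2 ≤ Fintype.card ι := by
    have hne2 : (⟨M, hMmem⟩ : ι) ≠ ⟨N0, ⟨hN0, hN0P, K0, hK0, hK01, hZ0⟩⟩ :=
      fun h => hN0M (Subtype.ext_iff.mp h).symm
    exact Fintype.one_lt_card_iff.mpr ⟨_, _, hne2⟩
  apply hFam (K ⊔ Ks) ι hcard (fun i => i.1) (fun i => Classical.choose i.2.2.2)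
    Subtype.val_injective
    (fun i => i.2.1) (fun i => (Classical.choose_spec i.2.2.2).1)
    (fun i => (Classical.choose_spec i.2.2.2).2.1) (fun i => (Classical.choose_spec i.2.2.2).2.2)
  · intro i q hq hqd hqσ
    exact i.2.2.1 q hq hqd hqσ
  · intro t ht htd
    have : Fact t.Prime := ⟨ht⟩
    obtain ⟨z, hz⟩ := exists_prime_orderOf_dvd_card' (G := ↥(K ⊔ Ks)) t htd
    have hzo : orderOf (z : G) = t := by
      rw [Subgroup.orderOf_coe]
      exact hz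
    rcases hmemor' (z : G) z.2 (hzo ▸ ht) with h | h
    · obtain ⟨N, K', hNM, hN, hNP, hK', hK'1, hZ, hXσ⟩ :=
        key (Subgroup.zpowers (z : G)) ((Subgroup.zpowers_le).mpr h)
          (by rw [Nat.card_zpowers, hzo]; exact ht)
      refine ⟨⟨N, hN, hNP, K', hK', hK'1, hZ⟩, ?_⟩
      apply Cfsg.Agent.Lib.helper10.BG1369.sigma_of_dvd_sigmaCore N ht
      rw [← hzo]
      exact Subgroup.orderOf_dvd_natCard _ (hXσ (Subgroup.mem_zpowers _))
    · refine ⟨⟨M, hMmem⟩, ?_⟩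
      apply Cfsg.Agent.Lib.helper10.BG1369.sigma_of_dvd_sigmaCore M ht
      rw [← hzo]
      exact Subgroup.orderOf_dvd_natCard _ (hKsσ h)

end Cfsg.Agent.Lib.helper29.BG1366
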