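/-
The family count, closed form (B-G 14.7(f) generalised): there is no family of at least two
P1 maximal subgroups `M i` with Hall `κ(M i)`-subgroups `K i ≠ 1` and a common
`Z = K i ⊔ C_{(M i)_σ}(K i)` covering the primes of `|Z|` by the `σ(M i)`.
-/
import Mathlib
import Cfsg.Agent.Lib.helper29.BG1366Defs
import Cfsg.Agent.Lib.helper29.BGFamFC
import Cfsg.Agent.Lib.helper29.BGFamFD
import Cfsg.Agent.Lib.helper29.BGFamFT
import Cfsg.Agent.Lib.helper71.BGFamZ
import Cfsg.Agent.Lib.helper71.BGTilde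
import Cfsg.Agent.S1375
import Cfsg.Agent.S1377
import Cfsg.Agent.S1433

set_option autoImplicit false

namespace Cfsg.Agent.Lib.helper29.BGFamAll

open Cfsg Cfsg.Agent.Lib.helper29.BG1366

variable {G : Type*} [Group G]

/-- The family count (the statement of `helper19.BGFam.no_p1_family`, with the frozen rows
S1375, S1377, S1433 plugged in). -/
theorem no_p1_family [Finite G] (hG : IsMinSimpleOddOrder G) (Z : Subgroup G) {ι : Type*}
    [Fintype ι] (hι : 2 ≤ Fintype.card ι) (M K : ι → Subgroup G)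
    (hMinj : Function.Injective M) (hM : ∀ i, IsCoatom (M i))
    (hK : ∀ i, IsPiHallOf (kappa (M i)) (K i) (M i)) (hK1 : ∀ i, K i ≠ ⊥)
    (hZ : ∀ i, K i ⊔ (sigmaCore (M i) ⊓ Subgroup.centralizer (K i : Set G)) = Z)
    (hP1 : ∀ i, ∀ q : ℕ, q.Prime → q ∣ Nat.card (M i) → q ∉ sigma (M i) → q ∈ kappa (M i))
    (hcov : ∀ t : ℕ, t.Prime → t ∣ Nat.card Z → ∃ i, t ∈ sigma (M i)) : False := by
  have h75 : H1375 G := fun M hM x hx hx1 hxM => Cfsg.Agent.S1375.result hG M hM x hx hx1 hxM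
  have h77 : H1377 G := fun M hM => Cfsg.Agent.S1377.result hG M hM
  have hD : HTD G := fun M N hM hN hnc =>
    Cfsg.Agent.Lib.helper71.BGTilde.tilde_disjoint hG
      (fun M hM x hx hx1 hxM => Cfsg.Agent.S1375.result hG M hM x hx hx1 hxM)
      (fun M N hM hN x y hx hy hx1 hy1 hxy =>
        Cfsg.Agent.S1433.result hG M N hM hN x y hx hy hx1 hy1 hxy) M N hM hN hnc
  have hne : Nonempty ι := Fintype.card_pos_iff.mp (by omega)
  have hTI := Cfsg.Agent.Lib.helper29.BGFamFT.family_TI' hG Z M K hM hK hK1 hZ hcov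
  exact Cfsg.Agent.Lib.helper29.BGFamFD.no_p1_family_of hG h77 hD Z hι M K hMinj hM hK hK1 hZ hP1
    hTI (Cfsg.Agent.Lib.helper71.BGFamZ.family_disjZ_of_TI hG h75 Z M K hM hK hK1 hZ hTI)

end Cfsg.Agent.Lib.helper29.BGFamAll
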