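import Mathlib

/-! S4501 piece AR3 : consecutive degrees `d, d+1` dividing `p² q^b`. -/

set_option autoImplicit false

namespace Cfsg.Agent.Lib.helper29.BW

/-- a divisor of `p^2 * q^b` is `p^i * q^j`. -/
theorem helper29_ar3_decomp (p q b n : ℕ) (hp : p.Prime) (hq : q.Prime)
    (hn : n ∣ p ^ 2 * q ^ b) : ∃ i j : ℕ, i ≤ 2 ∧ j ≤ b ∧ n = p ^ i * q ^ j := by
  obtain ⟨k1, k2, hk1, hk2, rfl⟩ := (Nat.dvd_mul).mp hn
  obtain ⟨i, hi, rfl⟩ := (Nat.dvd_prime_pow hp).mp hk1
  obtain ⟨j, hj, rfl⟩ := (Nat.dvd_prime_pow hq).mp hk2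
  exact ⟨i, j, hi, hj, rfl⟩

/-- `p` odd prime, `p ≠ 3`: `p^2` is not `2^j + 1`. -/
theorem helper29_ar3_minus (p j : ℕ) (hp : p.Prime) (hp2 : p ≠ 2) (hp3 : p ≠ 3)
    (h : 2 ^ j + 1 = p ^ 2) : False := by
  have hodd : p % 2 = 1 := by
    rcases hp.eq_two_or_odd with h2 | h2
    · exact absurd h2 hp2
    · exact h2
  obtain ⟨k, hk⟩ : ∃ k, p = 2 * k + 1 := ⟨p / 2, by omega⟩
  subst hk
  have h4 : 2 ^ j = 4 * (k * (k + 1)) := by
    have : (2 * k + 1) ^ 2 = 4 * (k * (k + 1)) + 1 := by ring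
    omega
  have hkd : k ∣ 2 ^ j := by
    rw [h4]
    exact ⟨4 * (k + 1), by ring⟩
  have hkd' : k + 1 ∣ 2 ^ j := by
    rw [h4]
    exact ⟨4 * k, by ring⟩
  obtain ⟨s, -, hs⟩ := (Nat.dvd_prime_pow Nat.prime_two).mp hkd
  obtain ⟨t, -, ht⟩ := (Nat.dvd_prime_pow Nat.prime_two).mp hkd'
  rcases Nat.eq_zero_or_pos s with hs0 | hs0
  · subst hs0
    have : k = 1 := by simpa using hs
    subst this
    exact hp3 rfl
  · rcases Nat.eq_zero_or_pos t with ht0 | ht0
    · subst ht0
      have : k = 0 := by simpa using ht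
      subst this
      exact Nat.not_prime_one (by simpa using hp)
    · have e1 : 2 ∣ 2 ^ s := dvd_pow_self 2 (by omega)
      have e2 : 2 ∣ 2 ^ t := dvd_pow_self 2 (by omega)
      rw [← hs] at e1
      rw [← ht] at e2
      omega

/-- `p` odd prime: `p^2 + 1` is not a power of `2`. -/
theorem helper29_ar3_plus (p j : ℕ) (hp : p.Prime) (hp2 : p ≠ 2)
    (h : p ^ 2 + 1 = 2 ^ j) : False := by
  have hodd : p % 2 = 1 := by
    rcases hp.eq_two_or_odd with h2 | h2
    · exact absurd h2 hp2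
    · exact h2
  obtain ⟨k, hk⟩ : ∃ k, p = 2 * k + 1 := ⟨p / 2, by omega⟩
  subst hk
  have h4 : 2 ^ j = 4 * (k * (k + 1)) + 2 := by
    have : (2 * k + 1) ^ 2 = 4 * (k * (k + 1)) + 1 := by ring
    omega
  have hj : j < 2 := by
    by_contra hcon
    have : 4 ∣ 2 ^ j := by
      have : (2 : ℕ) ^ 2 ∣ 2 ^ j := pow_dvd_pow 2 (by omega)
      simpa using this
    omega
  interval_cases j
  · omega
  · have hk0 : k * (k + 1) = 0 := by omega
    have : k = 0 := by
      rcases Nat.mul_eq_zero.mp hk0 with h0 | h0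
      · exact h0
      · omega
    subst this
    exact Nat.not_prime_one (by simpa using hp)

/-- AR3 : consecutive degrees `d, d+1` dividing `p² q^b` (`p` odd, `p ≠ 3`), the `p`-power one
being `p^i` with `i ≥ 2`: impossible. -/
theorem ar_three (p q b d : ℕ) (hp : p.Prime) (hq : q.Prime) (hpq : p ≠ q) (hp2 : p ≠ 2)
    (hp3 : p ≠ 3) (hd1 : 1 < d) (hd : d ∣ p ^ 2 * q ^ b) (hd' : d + 1 ∣ p ^ 2 * q ^ b)
    (hBV : ∀ i : ℕ, (d = p ^ i ∨ d + 1 = p ^ i) → 2 ≤ i) : False := by
  obtain ⟨i, j, hi, hj, hdij⟩ := helper29_ar3_decomp p q b d hp hq hd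
  obtain ⟨i', j', hi', hj', hdij'⟩ := helper29_ar3_decomp p q b (d + 1) hp hq hd'
  have hpodd : p % 2 = 1 := by
    rcases hp.eq_two_or_odd with h2 | h2
    · exact absurd h2 hp2
    · exact h2
  -- coprimality
  have hcop : ∀ r : ℕ, r.Prime → r ∣ d → r ∣ d + 1 → False := by
    intro r hr h1 h2
    have : r ∣ 1 := (Nat.dvd_add_right h1).mp h2
    exact hr.one_lt.ne' (Nat.dvd_one.mp this)
  have hI : i = 0 ∨ i' = 0 := by
    by_contra hcon
    have h1 : i ≠ 0 := fun h => hcon (Or.inl h)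
    have h2 : i' ≠ 0 := fun h => hcon (Or.inr h)
    refine hcop p hp ?_ ?_
    · rw [hdij]; exact Dvd.dvd.mul_right (dvd_pow_self p h1) _
    · rw [hdij']; exact Dvd.dvd.mul_right (dvd_pow_self p h2) _
  have hJ : j = 0 ∨ j' = 0 := by
    by_contra hcon
    have h1 : j ≠ 0 := fun h => hcon (Or.inl h)
    have h2 : j' ≠ 0 := fun h => hcon (Or.inr h)
    refine hcop q hq ?_ ?_
    · rw [hdij]; exact Dvd.dvd.mul_left (dvd_pow_self q h1) _
    · rw [hdij']; exact Dvd.dvd.mul_left (dvd_pow_self q h2) _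
  rcases hI with hI | hI
  · rcases hJ with hJ | hJ
    · -- d = 1
      subst hI; subst hJ
      simp at hdij
      omega
    · -- d = q^j, d+1 = p^i'
      subst hI; subst hJ
      have e1 : d = q ^ j := by simpa using hdij
      have e2 : d + 1 = p ^ i' := by simpa using hdij'
      have h2i : 2 ≤ i' := hBV i' (Or.inr e2)
      have hi2 : i' = 2 := by omega
      subst hi2
      have hj0 : j ≠ 0 := by
        intro h0
        subst h0
        simp at e1
        omega
      -- p^2 odd, so q^j even, so q = 2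
      have hp2odd : p ^ 2 % 2 = 1 := by
        rw [Nat.pow_mod, hpodd]
      have hqeven : 2 ∣ q ^ j := by omega
      have hq2 : q = 2 := by
        have : 2 ∣ q := Nat.Prime.dvd_of_dvd_pow Nat.prime_two hqeven
        exact ((Nat.prime_dvd_prime_iff_eq Nat.prime_two hq).mp this).symm
      subst hq2
      exact helper29_ar3_minus p j hp hp2 hp3 (by omega)
  · rcases hJ with hJ | hJ
    · -- d = p^i, d+1 = q^j'
      subst hI; subst hJ
      have e1 : d = p ^ i := by simpa using hdij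
      have e2 : d + 1 = q ^ j' := by simpa using hdij'
      have h2i : 2 ≤ i := hBV i (Or.inl e1)
      have hi2 : i = 2 := by omega
      subst hi2
      have hj0 : j' ≠ 0 := by
        intro h0
        subst h0
        simp at e2
        omega
      have hp2odd : p ^ 2 % 2 = 1 := by
        rw [Nat.pow_mod, hpodd]
      have hqeven : 2 ∣ q ^ j' := by omega
      have hq2 : q = 2 := by
        have : 2 ∣ q := Nat.Prime.dvd_of_dvd_pow Nat.prime_two hqeven
        exact ((Nat.prime_dvd_prime_iff_eq Nat.prime_two hq).mp this).symm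
      subst hq2
      exact helper29_ar3_plus p j' hp hp2 (by omega)
    · -- d + 1 = 1
      subst hI; subst hJ
      simp at hdij'
      omega

end Cfsg.Agent.Lib.helper29.BW
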