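import Mathlib

/-! S4501 piece SYL : a Sylow `r`-subgroup is abelian when `r³ ∤ |G|`. -/

set_option autoImplicit false

namespace Cfsg.Agent.Lib.helper29.BW

universe u

variable {G : Type u} [Group G] [Finite G]

/-- SYL : a Sylow `r`-subgroup is abelian when `r³ ∤ |G|`. -/
theorem sylow_comm_of_not_cube (r : ℕ) [Fact r.Prime] (h : ¬ r ^ 3 ∣ Nat.card G)
    (Q : Sylow r G) : ∀ x ∈ (Q : Subgroup G), ∀ y ∈ (Q : Subgroup G), x * y = y * x := by
  have hr : r.Prime := Fact.out
  obtain ⟨n, hn⟩ := (Q.isPGroup').exists_card_eq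
  have hdvd : r ^ n ∣ Nat.card G := by
    rw [← hn]
    exact Subgroup.card_subgroup_dvd_card (Q : Subgroup G)
  have hn2 : n ≤ 2 := by
    by_contra hcon
    have h3 : 3 ≤ n := by omega
    exact h ((pow_dvd_pow r h3).trans hdvd)
  intro x hx y hy
  have key : ∀ a b : (Q : Subgroup G), a * b = b * a := by
    interval_cases n
    · -- card = 1
      have hsub : Subsingleton (Q : Subgroup G) := by
        rw [← Finite.card_le_one_iff_subsingleton, hn]
        simp
      intro a b
      rw [Subsingleton.elim a b]
    · -- card = r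
      have hcard : Nat.card (Q : Subgroup G) = r := by simpa using hn
      have hcyc : IsCyclic (Q : Subgroup G) := isCyclic_of_prime_card hcard
      intro a b
      obtain ⟨g, hg⟩ := hcyc.exists_generator
      obtain ⟨i, rfl⟩ := hg a
      obtain ⟨j, rfl⟩ := hg b
      exact (zpow_mul_comm g i j)
    · -- card = r^2
      intro a b
      exact (IsPGroup.isMulCommutative_of_card_eq_prime_sq (p := r) hn).is_comm.comm a b
  have := key ⟨x, hx⟩ ⟨y, hy⟩
  exact congrArg Subtype.val this

end Cfsg.Agent.Lib.helper29.BW
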