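import Mathlib

/-!
# S0998 piece SYL (helper29): a Sylow `p`-subgroup has order `p` when `p ∥ |G|`
-/

set_option autoImplicit false

namespace Cfsg.Agent.Lib.helper29.BT

/-- SYL : a Sylow `p`-subgroup has order `p` when `p ∥ |G|`. -/
theorem sylow_card_prime {G : Type*} [Group G] [Finite G] (p m : ℕ) [Fact p.Prime]
    (hcard : Nat.card G = p * m) (hm : ¬ p ∣ m) (P : Sylow p G) : Nat.card P = p := by
  have hp : p.Prime := Fact.out
  have hm0 : m ≠ 0 := by
    rintro rfl
    exact hm (dvd_zero p)
  rw [Sylow.card_eq_multiplicity, hcard, Nat.factorization_mul hp.ne_zero hm0]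
  simp only [Finsupp.coe_add, Pi.add_apply]
  rw [hp.factorization_self, Nat.factorization_eq_zero_of_not_dvd hm, add_zero, pow_one]

end Cfsg.Agent.Lib.helper29.BT
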