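import Mathlib

/-!
# S0998 piece INV (helper29): a `2`-central involution
-/

set_option autoImplicit false

namespace Cfsg.Agent.Lib.helper29.BT

/-- INV : a `2`-central involution. -/
theorem exists_two_central {G : Type*} [Group G] [Finite G] (b m : ℕ) (hb : 1 ≤ b)
    (hm : ¬ 2 ∣ m) (hcard : Nat.card G = m * 2 ^ b) :
    ∃ s : G, orderOf s = 2 ∧ 2 ^ b ∣ Nat.card (Subgroup.centralizer ({s} : Set G)) := by
  haveI : Fact (Nat.Prime 2) := ⟨Nat.prime_two⟩
  have hm0 : m ≠ 0 := by
    rintro rfl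
    exact hm (dvd_zero 2)
  obtain ⟨S⟩ := (Sylow.nonempty : Nonempty (Sylow 2 G))
  have hS : Nat.card S = 2 ^ b := by
    rw [Sylow.card_eq_multiplicity, hcard, Nat.factorization_mul hm0 (pow_ne_zero _ (by norm_num))]
    simp only [Finsupp.coe_add, Pi.add_apply]
    rw [Nat.factorization_eq_zero_of_not_dvd hm, Nat.prime_two.factorization_pow, zero_add]
    simp
  haveI : Nontrivial ↥(S : Subgroup G) := by
    rw [← Finite.one_lt_card_iff_nontrivial, hS]
    exact Nat.one_lt_pow (by omega) (by norm_num)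
  have hSp : IsPGroup 2 ↥(S : Subgroup G) := S.isPGroup'
  haveI := hSp.center_nontrivial
  have h2 : 2 ∣ Nat.card (Subgroup.center ↥(S : Subgroup G)) := by
    have hZp : IsPGroup 2 (Subgroup.center ↥(S : Subgroup G)) := hSp.to_subgroup _
    rcases hZp.card_eq_or_dvd with h | h
    · exact absurd (Finite.one_lt_card_iff_nontrivial.mpr inferInstance) (by rw [h]; exact lt_irrefl 1)
    · exact h
  obtain ⟨z, hz⟩ := exists_prime_orderOf_dvd_card' (G := Subgroup.center ↥(S : Subgroup G)) 2 h2
  refine ⟨((z : ↥(S : Subgroup G)) : G), ?_, ?_⟩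
  · rw [Subgroup.orderOf_coe, Subgroup.orderOf_coe, hz]
  · rw [← hS]
    apply Subgroup.card_dvd_of_le
    intro x hx
    rw [Subgroup.mem_centralizer_singleton_iff]
    have := Subgroup.mem_center_iff.mp z.2 ⟨x, hx⟩
    exact congrArg Subtype.val this

end Cfsg.Agent.Lib.helper29.BT
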