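import Mathlib
import Cfsg.Agent.Lib.helper95.APDefs

/-!
# S2276, piece INTV (racer copy, simplified design)

`L = l₁ :: L'`.  `b :=` (reversed cycle on `[0, l₁)`) `*` (forward cycles on the following
intervals).  The fixed points of `finRotate * b` are exactly the non-first points of the reversed
interval; the witness is `x = 0`, `y = p^(e-1)`; the odd `τ` commuting with `b` comes from
`Equiv.Perm.centralizer_le_alternating_iff`.
-/

set_option autoImplicit false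

namespace Cfsg.Agent.Lib.helper95.AP

open Equiv

/-- value of `finRotate` -/
theorem h29_finRotate_val (M : ℕ) (w : Fin M) :
    ((finRotate M w : Fin M) : ℕ) = if (w : ℕ) + 1 < M then (w : ℕ) + 1 else 0 := by
  cases M with
  | zero => exact w.elim0
  | succ n =>
    rw [coe_finRotate]
    by_cases h : w = Fin.last n
    · subst h; simp
    · have h' : (w : ℕ) < n := Fin.val_lt_last h
      rw [if_neg h, if_pos (by omega)]

/-- the interval `[s, s + l)` of `Fin M` as a subtype, equivalent to `Fin l` -/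
def h29_ivEquiv (M s l : ℕ) (h : s + l ≤ M) :
    Fin l ≃ {z : Fin M // s ≤ (z : ℕ) ∧ (z : ℕ) < s + l} where
  toFun i := ⟨⟨s + (i : ℕ), by have := i.isLt; omega⟩, by
    have := i.isLt
    exact ⟨Nat.le_add_right _ _, by show s + (i : ℕ) < s + l; omega⟩⟩
  invFun z := ⟨((z : Fin M) : ℕ) - s, by have := z.2; omega⟩
  left_inv i := by
    apply Fin.ext
    show s + (i : ℕ) - s = (i : ℕ)
    omega
  right_inv z := by
    apply Subtype.ext
    apply Fin.ext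
    show s + (((z : Fin M) : ℕ) - s) = ((z : Fin M) : ℕ)
    have := z.2
    omega

/-- the forward cycle on the interval `[s, s + l)` -/
def h29_fc (M s l : ℕ) (h : s + l ≤ M) : Perm (Fin M) :=
  (finRotate l).extendDomain (h29_ivEquiv M s l h)

theorem h29_fc_cycleType (M s l : ℕ) (h : s + l ≤ M) (hl : 2 ≤ l) :
    (h29_fc M s l h).cycleType = {l} := by
  unfold h29_fc
  rw [Equiv.Perm.cycleType_extendDomain, cycleType_finRotate_of_le hl]

theorem h29_fc_out (M s l : ℕ) (h : s + l ≤ M) (z : Fin M)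
    (hz : ¬ (s ≤ (z : ℕ) ∧ (z : ℕ) < s + l)) : h29_fc M s l h z = z :=
  Equiv.Perm.extendDomain_apply_not_subtype _ _ hz

theorem h29_fc_in (M s l : ℕ) (h : s + l ≤ M) (z : Fin M)
    (hz : s ≤ (z : ℕ) ∧ (z : ℕ) < s + l) :
    ((h29_fc M s l h z : Fin M) : ℕ) = if (z : ℕ) + 1 < s + l then (z : ℕ) + 1 else s := by
  unfold h29_fc
  rw [Equiv.Perm.extendDomain_apply_subtype (finRotate l) (h29_ivEquiv M s l h) hz]
  show s + ((finRotate l ((h29_ivEquiv M s l h).symm ⟨z, hz⟩) : Fin l) : ℕ) = _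
  rw [h29_finRotate_val]
  show s + (if ((z : ℕ) - s) + 1 < l then ((z : ℕ) - s) + 1 else 0) = _
  split_ifs <;> omega

theorem h29_fixes_above {M : ℕ} (r : Perm (Fin M)) (c : ℕ)
    (hr : ∀ z : Fin M, (z : ℕ) < c → r z = z) (z : Fin M) (hz : c ≤ (z : ℕ)) :
    c ≤ ((r z : Fin M) : ℕ) := by
  by_contra hlt
  have h1 := hr (r z) (not_le.mp hlt)
  have h2 : r z = z := r.injective h1
  rw [h2] at hlt
  exact hlt hz

theorem h29_fwd (q M : ℕ) : ∀ (L : List ℕ) (s : ℕ), (∀ l ∈ L, q ∣ l ∧ 3 ≤ l) → s + L.sum ≤ M →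
    ∃ r : Perm (Fin M), r.cycleType = (L : Multiset ℕ) ∧
      (∀ z : Fin M, (z : ℕ) < s → r z = z) ∧
      (∀ z : Fin M, s + L.sum ≤ (z : ℕ) → r z = z) ∧
      (∀ z : Fin M, s ≤ (z : ℕ) → (z : ℕ) < s + L.sum →
        ((r z : Fin M) : ℕ) = (z : ℕ) + 1 ∨
          ∃ l, q ∣ l ∧ 3 ≤ l ∧ ((r z : Fin M) : ℕ) + l = (z : ℕ) + 1) := by
  intro L
  induction L with
  | nil =>
    intro s _ _
    refine ⟨1, ?_, ?_, ?_, ?_⟩
    · simp
    · intro z _; rfl
    · intro z _; rfl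
    · intro z h1 h2
      simp only [List.sum_nil, add_zero] at h2
      omega
  | cons l L ih =>
    intro s hL hs
    have hl := hL l List.mem_cons_self
    have hsum : (l :: L).sum = l + L.sum := List.sum_cons
    rw [hsum] at hs
    obtain ⟨r, hr1, hr2, hr3, hr4⟩ :=
      ih (s + l) (fun l' hl' => hL l' (List.mem_cons_of_mem _ hl')) (by omega)
    have hsl : s + l ≤ M := by omega
    refine ⟨h29_fc M s l hsl * r, ?_, ?_, ?_, ?_⟩
    · have hdisj : Perm.Disjoint (h29_fc M s l hsl) r := by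
        intro z
        by_cases hz : (z : ℕ) < s + l
        · exact Or.inr (hr2 z hz)
        · exact Or.inl (h29_fc_out M s l hsl z (by omega))
      rw [hdisj.cycleType_mul, h29_fc_cycleType M s l hsl (by omega), hr1]
      rfl
    · intro z hz
      rw [Perm.mul_apply, hr2 z (by omega)]
      exact h29_fc_out M s l hsl z (by omega)
    · intro z hz
      rw [hsum] at hz
      rw [Perm.mul_apply, hr3 z (by omega)]
      exact h29_fc_out M s l hsl z (by omega)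
    · intro z hz1 hz2
      rw [hsum] at hz2
      rw [Perm.mul_apply]
      by_cases hz : (z : ℕ) < s + l
      · rw [hr2 z hz, h29_fc_in M s l hsl z ⟨hz1, hz⟩]
        by_cases h' : (z : ℕ) + 1 < s + l
        · left; rw [if_pos h']
        · right; rw [if_neg h']; exact ⟨l, hl.1, hl.2, by omega⟩
      · have hge := h29_fixes_above r (s + l) hr2 z (by omega)
        rw [h29_fc_out M s l hsl (r z) (by omega)]
        exact hr4 z (by omega) (by omega)

theorem h29_constr (q M l₁ : ℕ) (L : List ℕ) (h3 : 3 ≤ l₁) (hL : ∀ l ∈ L, q ∣ l ∧ 3 ≤ l)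
    (hsum : l₁ + L.sum ≤ M) :
    ∃ b : Perm (Fin M), b.cycleType = ((l₁ :: L : List ℕ) : Multiset ℕ) ∧
      (∀ z : Fin M, (z : ℕ) < l₁ →
        ((b z : Fin M) : ℕ) = if (z : ℕ) = 0 then l₁ - 1 else (z : ℕ) - 1) ∧
      (∀ z : Fin M, l₁ ≤ (z : ℕ) → (z : ℕ) < l₁ + L.sum →
        ((b z : Fin M) : ℕ) = (z : ℕ) + 1 ∨
          ∃ l, q ∣ l ∧ 3 ≤ l ∧ ((b z : Fin M) : ℕ) + l = (z : ℕ) + 1) ∧
      (∀ z : Fin M, l₁ + L.sum ≤ (z : ℕ) → b z = z) := by
  obtain ⟨r, hr1, hr2, hr3, hr4⟩ := h29_fwd q M L l₁ hL hsum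
  have h0 : 0 + l₁ ≤ M := by omega
  have hinv_out : ∀ z : Fin M, l₁ ≤ (z : ℕ) → (h29_fc M 0 l₁ h0)⁻¹ z = z := by
    intro z hz
    rw [Perm.inv_eq_iff_eq]
    exact (h29_fc_out M 0 l₁ h0 z (by omega)).symm
  refine ⟨(h29_fc M 0 l₁ h0)⁻¹ * r, ?_, ?_, ?_, ?_⟩
  · have hdisj : Perm.Disjoint (h29_fc M 0 l₁ h0)⁻¹ r := by
      intro z
      by_cases hz : (z : ℕ) < l₁
      · exact Or.inr (hr2 z hz)
      · exact Or.inl (hinv_out z (by omega))
    rw [hdisj.cycleType_mul, Perm.cycleType_inv, h29_fc_cycleType M 0 l₁ h0 (by omega), hr1]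
    rfl
  · intro z hz
    have hzM := z.isLt
    rw [Perm.mul_apply, hr2 z hz]
    by_cases hz0 : (z : ℕ) = 0
    · rw [if_pos hz0]
      have hw : (h29_fc M 0 l₁ h0)⁻¹ z = ⟨l₁ - 1, by omega⟩ := by
        rw [Perm.inv_eq_iff_eq]
        apply Fin.ext
        rw [h29_fc_in M 0 l₁ h0 _ ⟨Nat.zero_le _, by show l₁ - 1 < 0 + l₁; omega⟩]
        show (z : ℕ) = if (l₁ - 1) + 1 < 0 + l₁ then (l₁ - 1) + 1 else 0
        rw [if_neg (by omega)]
        exact hz0
      rw [hw]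
    · rw [if_neg hz0]
      have hw : (h29_fc M 0 l₁ h0)⁻¹ z = ⟨(z : ℕ) - 1, by omega⟩ := by
        rw [Perm.inv_eq_iff_eq]
        apply Fin.ext
        rw [h29_fc_in M 0 l₁ h0 _ ⟨Nat.zero_le _, by show (z : ℕ) - 1 < 0 + l₁; omega⟩]
        show (z : ℕ) = if ((z : ℕ) - 1) + 1 < 0 + l₁ then ((z : ℕ) - 1) + 1 else 0
        rw [if_pos (by omega)]
        omega
      rw [hw]
  · intro z hz1 hz2
    rw [Perm.mul_apply]
    have hge := h29_fixes_above r l₁ hr2 z hz1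
    rw [hinv_out (r z) hge]
    exact hr4 z hz1 hz2
  · intro z hz
    rw [Perm.mul_apply, hr3 z hz]
    exact hinv_out z (by omega)

theorem h29_hits (q M l₁ S : ℕ) (h3 : 3 ≤ l₁) (hlt : l₁ < M) (b : Perm (Fin M))
    (hb1 : ∀ z : Fin M, (z : ℕ) < l₁ →
        ((b z : Fin M) : ℕ) = if (z : ℕ) = 0 then l₁ - 1 else (z : ℕ) - 1)
    (hb2 : ∀ z : Fin M, l₁ ≤ (z : ℕ) → (z : ℕ) < l₁ + S →
        ((b z : Fin M) : ℕ) = (z : ℕ) + 1 ∨
          ∃ l, q ∣ l ∧ 3 ≤ l ∧ ((b z : Fin M) : ℕ) + l = (z : ℕ) + 1)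
    (hb3 : ∀ z : Fin M, l₁ + S ≤ (z : ℕ) → b z = z) :
    (Finset.univ.filter (fun z : Fin M => (finRotate M * b) z = z)).card = l₁ - 1 := by
  have key : ∀ z : Fin M, (finRotate M * b) z = z ↔ (1 ≤ (z : ℕ) ∧ (z : ℕ) < l₁) := by
    intro z
    rw [Perm.mul_apply, Fin.ext_iff, h29_finRotate_val]
    have hzM := z.isLt
    have hbM := (b z).isLt
    by_cases h1 : (z : ℕ) < l₁
    · have hb := hb1 z h1
      by_cases h0 : (z : ℕ) = 0
      · rw [if_pos h0] at hb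
        rw [hb]; split_ifs <;> omega
      · rw [if_neg h0] at hb
        rw [hb]; split_ifs <;> omega
    · by_cases h2 : (z : ℕ) < l₁ + S
      · rcases hb2 z (by omega) h2 with h | ⟨l, _, hl3, h⟩
        · rw [h]; split_ifs <;> omega
        · split_ifs <;> omega
      · rw [hb3 z (by omega)]; split_ifs <;> omega
  rw [Finset.filter_congr (fun z _ => key z)]
  have hc : (Finset.univ.filter (fun z : Fin M => 1 ≤ (z : ℕ) ∧ (z : ℕ) < l₁)).card
      = (Finset.Ico 1 l₁).card := by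
    apply Finset.card_bij (fun (z : Fin M) _ => (z : ℕ))
    · intro z hz
      simp only [Finset.mem_filter, Finset.mem_univ, true_and] at hz
      exact Finset.mem_Ico.mpr hz
    · intro z₁ _ z₂ _ h; exact Fin.ext h
    · intro n hn
      rw [Finset.mem_Ico] at hn
      refine ⟨⟨n, by omega⟩, ?_, rfl⟩
      simp only [Finset.mem_filter, Finset.mem_univ, true_and]
      exact hn
  rw [hc, Nat.card_Ico]

theorem h29_sum_lt (p : ℕ) (hp3 : 3 ≤ p) : ∀ (L : List ℕ) (l₁ : ℕ),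
    (l₁ :: L).Pairwise (· > ·) → (∀ l ∈ l₁ :: L, ∃ j : ℕ, l = p ^ j) →
    (l₁ :: L).sum < 2 * l₁ := by
  intro L
  induction L with
  | nil =>
    intro l₁ _ h
    obtain ⟨j, hj⟩ := h l₁ List.mem_cons_self
    have hpos : 0 < p ^ j := Nat.pow_pos (by omega)
    simp only [List.sum_cons, List.sum_nil, add_zero]
    omega
  | cons l₂ L ih =>
    intro l₁ hpw h
    have hpw' := List.pairwise_cons.mp hpw
    have h12 : l₁ > l₂ := hpw'.1 l₂ List.mem_cons_self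
    have ih' := ih l₂ hpw'.2 (fun l hl => h l (List.mem_cons_of_mem _ hl))
    obtain ⟨j₁, hj₁⟩ := h l₁ List.mem_cons_self
    obtain ⟨j₂, hj₂⟩ := h l₂ (List.mem_cons_of_mem _ List.mem_cons_self)
    have hjlt : j₂ < j₁ := by
      rw [hj₁, hj₂] at h12
      exact (Nat.pow_lt_pow_iff_right (by omega)).mp h12
    have h3 : 3 * l₂ ≤ l₁ := by
      rw [hj₁, hj₂]
      calc 3 * p ^ j₂ ≤ p * p ^ j₂ := Nat.mul_le_mul_right _ hp3
        _ = p ^ (j₂ + 1) := by rw [pow_succ, mul_comm]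
        _ ≤ p ^ j₁ := Nat.pow_le_pow_right (by omega) hjlt
    have hs : (l₁ :: l₂ :: L).sum = l₁ + (l₂ :: L).sum := List.sum_cons
    omega

theorem h29_not_dvd (p : ℕ) (hp3 : 3 ≤ p) (A B : ℤ) (r : ℤ) (hr : r = 1 ∨ r = 2)
    (h : (p : ℤ) ∣ A - B + r) : ¬ (p : ℤ) ∣ A - B := by
  intro h2
  have h3 : (p : ℤ) ∣ r := by
    have h4 := dvd_sub h h2
    have e : A - B + r - (A - B) = r := by ring
    rw [e] at h4
    exact h4
  have h5 : (3 : ℤ) ≤ p := by exact_mod_cast hp3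
  rcases hr with rfl | rfl
  · have := Int.le_of_dvd (by norm_num) h3
    omega
  · have := Int.le_of_dvd (by norm_num) h3
    omega

/-- INTV with the statement of GPC (for this `p`, `e`, given `1 ≤ e`) as a hypothesis. -/
theorem h29_intv_core (p : ℕ) (_hp : p.Prime) (hp3 : 3 ≤ p) (e : ℕ) (L : List ℕ) (hL0 : L ≠ [])
    (hsort : L.Pairwise (· ≥ ·)) (hpow : ∀ l ∈ L, ∃ j : ℕ, 1 ≤ j ∧ l = p ^ j ∧ l < p ^ e)
    (hsum : L.sum ≤ p ^ e)
    (hgpc : 1 ≤ e → ∀ (b : Perm (Fin (p ^ e))) (x y : Fin (p ^ e)),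
      ((p ^ (e - 1) : ℕ) : ℤ) ∣ ((x : ℕ) : ℤ) - ((y : ℕ) : ℤ) →
      ¬ (p : ℤ) ∣ (((b x : Fin (p ^ e)) : ℕ) : ℤ) - (((b y : Fin (p ^ e)) : ℕ) : ℤ) →
      ∀ f : ℕ,
      (Finset.univ.filter (fun z : Fin (p ^ e) => (finRotate (p ^ e) * b) z = z)).card = f →
      2 ≤ f → ¬ p ∣ f → Good p (finRotate (p ^ e)) b) :
    ∃ b : Perm (Fin (p ^ e)), b.cycleType = (L : Multiset ℕ) ∧
      GoodBoth p (finRotate (p ^ e)) b := by
  obtain ⟨l₁, L', rfl⟩ := List.exists_cons_of_ne_nil hL0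
  obtain ⟨j₁, hj₁, hl₁, hl₁M⟩ := hpow l₁ List.mem_cons_self
  have hp1 : 1 < p := by omega
  have hje : j₁ < e := by
    rw [hl₁] at hl₁M
    exact (Nat.pow_lt_pow_iff_right hp1).mp hl₁M
  have hpl₁ : p ∣ l₁ := by rw [hl₁]; exact dvd_pow_self p (by omega)
  have h3l₁ : 3 ≤ l₁ := by
    have hpos : 0 < l₁ := by rw [hl₁]; exact Nat.pow_pos (by omega)
    exact le_trans hp3 (Nat.le_of_dvd hpos hpl₁)
  have hL' : ∀ l ∈ L', p ∣ l ∧ 3 ≤ l := by
    intro l hl
    obtain ⟨j, hj, hlj, _⟩ := hpow l (List.mem_cons_of_mem _ hl)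
    have hd : p ∣ l := by rw [hlj]; exact dvd_pow_self p (by omega)
    have hpos : 0 < l := by rw [hlj]; exact Nat.pow_pos (by omega)
    exact ⟨hd, le_trans hp3 (Nat.le_of_dvd hpos hd)⟩
  have hsum' : l₁ + L'.sum ≤ p ^ e := by rw [List.sum_cons] at hsum; exact hsum
  have hy : p ^ (e - 1) < p ^ e := Nat.pow_lt_pow_right hp1 (by omega)
  have hl₁y : l₁ ≤ p ^ (e - 1) := by
    rw [hl₁]; exact Nat.pow_le_pow_right (by omega) (by omega)
  have hpy : p ∣ p ^ (e - 1) := dvd_pow_self p (by omega)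
  obtain ⟨b, hb0, hb1, hb2, hb3⟩ := h29_constr p (p ^ e) l₁ L' h3l₁ hL' hsum'
  have hf := h29_hits p (p ^ e) l₁ L'.sum h3l₁ hl₁M b hb1 hb2 hb3
  obtain ⟨x, hxv⟩ : ∃ x : Fin (p ^ e), (x : ℕ) = 0 := ⟨⟨0, by omega⟩, rfl⟩
  obtain ⟨y, hyv⟩ : ∃ y : Fin (p ^ e), (y : ℕ) = p ^ (e - 1) := ⟨⟨_, hy⟩, rfl⟩
  have hbx : ((b x : Fin (p ^ e)) : ℕ) + 1 = l₁ := by
    rw [hb1 x (by omega), if_pos hxv]; omega
  have hbxz : (((b x : Fin (p ^ e)) : ℕ) : ℤ) + 1 = (l₁ : ℤ) := by exact_mod_cast hbx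
  have hdl : (p : ℤ) ∣ (l₁ : ℤ) - ((y : ℕ) : ℤ) := by
    rw [hyv]
    exact dvd_sub (Int.natCast_dvd_natCast.mpr hpl₁) (Int.natCast_dvd_natCast.mpr hpy)
  have hwit : ¬ (p : ℤ) ∣ (((b x : Fin (p ^ e)) : ℕ) : ℤ) - (((b y : Fin (p ^ e)) : ℕ) : ℤ) := by
    by_cases hy2 : (y : ℕ) < l₁ + L'.sum
    · rcases hb2 y (by omega) hy2 with h | ⟨l, hpl, hl3, h⟩
      · apply h29_not_dvd p hp3 _ _ 2 (Or.inr rfl)
        have e1 : (((b x : Fin (p ^ e)) : ℕ) : ℤ) - (((b y : Fin (p ^ e)) : ℕ) : ℤ) + 2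
            = (l₁ : ℤ) - ((y : ℕ) : ℤ) := by omega
        rw [e1]; exact hdl
      · apply h29_not_dvd p hp3 _ _ 2 (Or.inr rfl)
        have e1 : (((b x : Fin (p ^ e)) : ℕ) : ℤ) - (((b y : Fin (p ^ e)) : ℕ) : ℤ) + 2
            = (l₁ : ℤ) - ((y : ℕ) : ℤ) + (l : ℤ) := by omega
        rw [e1]; exact dvd_add hdl (Int.natCast_dvd_natCast.mpr hpl)
    · apply h29_not_dvd p hp3 _ _ 1 (Or.inl rfl)
      have hby : b y = y := hb3 y (by omega)
      rw [hby]
      have e1 : (((b x : Fin (p ^ e)) : ℕ) : ℤ) - ((y : ℕ) : ℤ) + 1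
          = (l₁ : ℤ) - ((y : ℕ) : ℤ) := by omega
      rw [e1]; exact hdl
  have hgood : Good p (finRotate (p ^ e)) b := by
    refine hgpc (by omega) b x y ?_ hwit (l₁ - 1) hf (by omega) ?_
    · rw [hxv, hyv]
      simp
    · intro hdvd
      have h1 : p ∣ l₁ - (l₁ - 1) := Nat.dvd_sub hpl₁ hdvd
      rw [show l₁ - (l₁ - 1) = 1 by omega] at h1
      have := Nat.le_of_dvd one_pos h1
      omega
  have hτ : ∃ τ : Perm (Fin (p ^ e)), Perm.sign τ = -1 ∧ τ * b * τ⁻¹ = b := by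
    have hnot : ¬ (Subgroup.centralizer {b} ≤ alternatingGroup (Fin (p ^ e))) := by
      rw [Equiv.Perm.centralizer_le_alternating_iff]
      rintro ⟨-, hcard, hcount⟩
      rw [Fintype.card_fin, hb0] at hcard
      have hs : ((l₁ :: L' : List ℕ) : Multiset ℕ).sum = l₁ + L'.sum := by
        rw [Multiset.sum_coe, List.sum_cons]
      rw [hs] at hcard
      have hpS : p ∣ L'.sum := List.dvd_sum (fun l hl => (hL' l hl).1)
      have hpM : p ∣ p ^ e := dvd_pow_self p (by omega)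
      have hpd : p ∣ p ^ e - (l₁ + L'.sum) := Nat.dvd_sub hpM (dvd_add hpl₁ hpS)
      have heq : l₁ + L'.sum = p ^ e := by
        by_contra hne
        have hpos : 0 < p ^ e - (l₁ + L'.sum) := by omega
        have := Nat.le_of_dvd hpos hpd
        omega
      rw [hb0] at hcount
      have hnd : (l₁ :: L').Nodup := by
        rw [← Multiset.coe_nodup, Multiset.nodup_iff_count_le_one]; exact hcount
      have hgt : (l₁ :: L').Pairwise (· > ·) :=
        (hsort.and hnd).imp (fun h => lt_of_le_of_ne h.1 (Ne.symm h.2))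
      have hlt := h29_sum_lt p hp3 L' l₁ hgt
        (fun l hl => by obtain ⟨j, _, hj, _⟩ := hpow l hl; exact ⟨j, hj⟩)
      rw [List.sum_cons, heq] at hlt
      have h3M : 3 * l₁ ≤ p ^ e := by
        rw [hl₁]
        calc 3 * p ^ j₁ ≤ p * p ^ j₁ := Nat.mul_le_mul_right _ hp3
          _ = p ^ (j₁ + 1) := by rw [pow_succ, mul_comm]
          _ ≤ p ^ e := Nat.pow_le_pow_right (by omega) hje
      omega
    obtain ⟨τ, hτc, hτa⟩ := SetLike.not_le_iff_exists.mp hnot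
    refine ⟨τ, ?_, ?_⟩
    · rw [Equiv.Perm.mem_alternatingGroup] at hτa
      rcases Int.units_eq_one_or (Perm.sign τ) with h | h
      · exact absurd h hτa
      · exact h
    · rw [Subgroup.mem_centralizer_iff] at hτc
      have h1 := hτc b (Set.mem_singleton b)
      rw [← h1]
      group
  obtain ⟨τ, hτ1, hτ2⟩ := hτ
  exact ⟨b, hb0, hgood, τ, hτ1, by rw [hτ2]; exact hgood⟩

end Cfsg.Agent.Lib.helper95.AP
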