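import Mathlib
import Cfsg.Agent.Lib.helper95.APDefs
import Cfsg.Agent.Lib.helper29.APINTVcore
import Cfsg.Agent.Lib.helper7.APGPCcore
import Cfsg.Agent.Lib.helper4.APPORD
import Cfsg.Agent.Lib.helper4.APNS
import Cfsg.Agent.Lib.helper98.APPRIM

/-!
# S2276, piece INTV (racer copy): the verbatim statement, from `h29_intv_core` and a copy of GPC
assembled from helper7's core and the landed PORD, NS, PRIM.
-/

set_option autoImplicit false

namespace Cfsg.Agent.Lib.helper95.AP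

open Equiv

/-- [GPC] (racer copy: helper7's core + PORD + NS + PRIM) -/
theorem h29_gpc (p : ℕ) (hp : p.Prime) (hp3 : 3 ≤ p) (e : ℕ) (he : 1 ≤ e) (b : Perm (Fin (p ^ e)))
    (x y : Fin (p ^ e)) (hxy : ((p ^ (e - 1) : ℕ) : ℤ) ∣ ((x : ℕ) : ℤ) - ((y : ℕ) : ℤ))
    (hbxy : ¬ (p : ℤ) ∣ (((b x : Fin (p ^ e)) : ℕ) : ℤ) - (((b y : Fin (p ^ e)) : ℕ) : ℤ))
    (f : ℕ)
    (hf : (Finset.univ.filter (fun z : Fin (p ^ e) => (finRotate (p ^ e) * b) z = z)).card = f)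
    (hf2 : 2 ≤ f) (hfp : ¬ p ∣ f) : Good p (finRotate (p ^ e)) b := by
  have hM : 2 ≤ p ^ e := by
    calc 2 ≤ p := by omega
      _ = p ^ 1 := (pow_one p).symm
      _ ≤ p ^ e := Nat.pow_le_pow_right (by omega) he
  refine helper7_gpc_core p hp e he b (fun g hg => pord p hp g hg)
    (fun H hprim hsol => (ns hM H hprim hsol).2) ?_ f hf hf2 hfp
  exact prim p hp e he _ (Subgroup.subset_closure (by simp)) b
    (Subgroup.subset_closure (by simp)) x y hxy hbxy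

/-- [INTV] (racer copy) -/
theorem h29_intv (p : ℕ) (hp : p.Prime) (hp3 : 3 ≤ p) (e : ℕ) (L : List ℕ) (hL0 : L ≠ [])
    (hsort : L.Pairwise (· ≥ ·)) (hpow : ∀ l ∈ L, ∃ j : ℕ, 1 ≤ j ∧ l = p ^ j ∧ l < p ^ e)
    (hsum : L.sum ≤ p ^ e) :
    ∃ b : Perm (Fin (p ^ e)), b.cycleType = (L : Multiset ℕ) ∧ GoodBoth p (finRotate (p ^ e)) b :=
  h29_intv_core p hp hp3 e L hL0 hsort hpow hsum
    (fun he b x y hxy hbxy f hf hf2 hfp => h29_gpc p hp hp3 e he b x y hxy hbxy f hf hf2 hfp)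

end Cfsg.Agent.Lib.helper95.AP
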