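import Mathlib
import Cfsg.Agent.Lib.helper57.SfoBINCNT

/-!
# S5977 block [C], piece BINM: an anisotropic binary quadratic form takes the value `1`
exactly `q + 1` times.
-/

set_option autoImplicit false

namespace Cfsg.Agent.Lib.helper2

/-- BINM -/
theorem qfc_bin_minus_count {F : Type*} [Field F] [Fintype F] (h2 : (2 : F) ≠ 0) (a b : F)
    (hab : ∀ x y : F, x ^ 2 + a * x * y + b * y ^ 2 = 0 → x = 0 ∧ y = 0) :
    Nat.card {z : Fin 2 → F // z 0 ^ 2 + a * z 0 * z 1 + b * z 1 ^ 2 = 1} = Fintype.card F + 1 := by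
  classical
  have h4 : (4 : F) ≠ 0 := by
    have e4 : (4 : F) = 2 * 2 := by norm_num
    rw [e4]; exact mul_ne_zero h2 h2
  obtain ⟨c, hc⟩ : ∃ c : F, c = b - a ^ 2 / 4 := ⟨_, rfl⟩
  have key : ∀ x y : F, (x - a * y / 2) ^ 2 + a * (x - a * y / 2) * y + b * y ^ 2
      = 1 * x ^ 2 + c * y ^ 2 := by
    intro x y
    rw [hc]; field_simp; ring
  have hc0 : c ≠ 0 := by
    intro h0
    have h := hab (0 - a * 1 / 2) 1 (by rw [key, h0]; ring)
    exact one_ne_zero h.2
  obtain ⟨e, he, h1, h0⟩ := Cfsg.Agent.Lib.helper24.sfo_bin_count h2 (1 : F) c one_ne_zero hc0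
  have hz : (Finset.univ.filter (fun p : F × F => (1 : F) * p.1 ^ 2 + c * p.2 ^ 2 = 0))
      = {(0, 0)} := by
    ext p
    simp only [Finset.mem_filter, Finset.mem_univ, true_and, Finset.mem_singleton]
    constructor
    · intro h
      have h' := hab (p.1 - a * p.2 / 2) p.2 (by rw [key]; exact h)
      have h2' : p.2 = 0 := h'.2
      have h1' : p.1 = 0 := by
        have h3 := h'.1
        rw [h2'] at h3
        simpa using h3
      exact Prod.ext h1' h2'
    · rintro rfl; simp
  rw [hz, Finset.card_singleton] at h0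
  have hq : 1 < Fintype.card F := Fintype.one_lt_card
  have he' : e = -1 := by
    rcases he with rfl | rfl
    · exfalso
      have h3 : ((Fintype.card F : ℕ) : ℤ) = 1 := by push_cast at h0; linarith
      have h4' : Fintype.card F = 1 := by exact_mod_cast h3
      omega
    · rfl
  have hone := h1 1 one_ne_zero
  rw [he'] at hone
  have hcard : Nat.card {z : Fin 2 → F // z 0 ^ 2 + a * z 0 * z 1 + b * z 1 ^ 2 = 1}
      = (Finset.univ.filter (fun p : F × F => (1 : F) * p.1 ^ 2 + c * p.2 ^ 2 = 1)).card := by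
    rw [← Fintype.card_subtype, ← Nat.card_eq_fintype_card]
    apply Nat.card_congr
    exact {
      toFun := fun z => ⟨(z.1 0 + a * z.1 1 / 2, z.1 1), by
        have h := key (z.1 0 + a * z.1 1 / 2) (z.1 1)
        have e1 : z.1 0 + a * z.1 1 / 2 - a * z.1 1 / 2 = z.1 0 := by ring
        rw [e1] at h
        rw [← h]; exact z.2⟩
      invFun := fun p => ⟨![p.1.1 - a * p.1.2 / 2, p.1.2], by
        have h := key p.1.1 p.1.2
        simp only [Matrix.cons_val_zero, Matrix.cons_val_one]
        rw [h]; exact p.2⟩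
      left_inv := by
        intro z
        apply Subtype.ext
        funext i
        fin_cases i <;> simp
      right_inv := by
        intro p
        apply Subtype.ext
        apply Prod.ext <;> simp }
  rw [hcard]
  have hfin : ((Finset.univ.filter
      (fun p : F × F => (1 : F) * p.1 ^ 2 + c * p.2 ^ 2 = 1)).card : ℤ)
      = ((Fintype.card F + 1 : ℕ) : ℤ) := by
    rw [hone]; push_cast; ring
  exact_mod_cast hfin

end Cfsg.Agent.Lib.helper2
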