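import Mathlib
import Cfsg.Prelude.Def_GeometricClasses

/-!
# S5977 block [C], piece IDX: a subgroup containing a full `r`-part of the isometry group has
`r'`-index in `Ω`.
-/

set_option autoImplicit false

namespace Cfsg.Agent.Lib.helper2

open Cfsg.Geo Matrix

theorem helper29_relIndex_mul_card {G : Type*} [Group G] (A B : Subgroup G) [A.Normal] :
    B.relIndex A * Nat.card B = Nat.card ↥(A ⊔ B) := by
  have e1 := Subgroup.relIndex_mul_relIndex (⊥ : Subgroup G) A (A ⊔ B) bot_le le_sup_left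
  have e2 := Subgroup.relIndex_mul_relIndex (⊥ : Subgroup G) (A ⊓ B) A bot_le inf_le_left
  have e3 := Subgroup.relIndex_mul_relIndex (⊥ : Subgroup G) (A ⊓ B) B bot_le inf_le_right
  rw [Subgroup.relIndex_bot_left, Subgroup.relIndex_bot_left, Subgroup.relIndex_sup_left] at e1
  rw [Subgroup.relIndex_bot_left, Subgroup.relIndex_bot_left, Subgroup.inf_relIndex_left] at e2
  rw [Subgroup.relIndex_bot_left, Subgroup.relIndex_bot_left, Subgroup.inf_relIndex_right] at e3
  rw [← e1, ← e3, ← e2]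
  ring

/-- IDX -/
theorem qfc_index {F : Type*} [Field F] [Fintype F] {ι : Type} [Fintype ι] [DecidableEq ι]
    (Q : (ι → F) → F) (N H : Subgroup (GL ι F)) (hHO : H ≤ Cfsg.isometryGroup F Q) (hHN : H ≤ N)
    (r : ℕ) [Fact r.Prime]
    (hv : padicValNat r (Nat.card (Cfsg.isometryGroup F Q)) ≤ padicValNat r (Nat.card H)) :
    ¬ r ∣ N.relIndex (omegaGL Q) := by
  intro hr
  have hΩ : N.relIndex (omegaGL Q)
      = (N.subgroupOf (Cfsg.isometryGroup F Q)).relIndex (Cfsg.Omega F Q) := by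
    unfold omegaGL
    exact (Subgroup.relIndex_comap N (Cfsg.isometryGroup F Q).subtype (Cfsg.Omega F Q)).symm
  rw [hΩ] at hr
  have hle : H.subgroupOf (Cfsg.isometryGroup F Q) ≤ N.subgroupOf (Cfsg.isometryGroup F Q) := by
    intro x hx
    rw [Subgroup.mem_subgroupOf] at hx ⊢
    exact hHN hx
  have hdvd := Subgroup.relIndex_dvd_of_le_left (Cfsg.Omega F Q) hle
  have hr2 : r ∣ (H.subgroupOf (Cfsg.isometryGroup F Q)).relIndex (Cfsg.Omega F Q) :=
    dvd_trans hr hdvd
  have hcard := helper29_relIndex_mul_card (Cfsg.Omega F Q)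
    (H.subgroupOf (Cfsg.isometryGroup F Q))
  have hsub : Nat.card ↥(Cfsg.Omega F Q ⊔ H.subgroupOf (Cfsg.isometryGroup F Q))
      ∣ Nat.card ↥(Cfsg.isometryGroup F Q) := Subgroup.card_subgroup_dvd_card _
  have hHcard : Nat.card ↥(H.subgroupOf (Cfsg.isometryGroup F Q)) = Nat.card ↥H :=
    Nat.card_congr (Subgroup.subgroupOfEquivOfLe hHO).toEquiv
  rw [← hcard, hHcard] at hsub
  obtain ⟨c, hc⟩ := hr2
  rw [hc] at hsub
  have hO : Nat.card ↥(Cfsg.isometryGroup F Q) ≠ 0 := Nat.card_pos.ne'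
  have hH0 : Nat.card ↥H ≠ 0 := Nat.card_pos.ne'
  obtain ⟨m, hm⟩ := hsub
  have hc0 : c ≠ 0 := by
    rintro rfl
    rw [mul_zero, zero_mul, zero_mul] at hm
    exact hO hm
  have hm0 : m ≠ 0 := by
    rintro rfl
    rw [mul_zero] at hm
    exact hO hm
  have hr0 : r ≠ 0 := (Fact.out : r.Prime).ne_zero
  have hval : padicValNat r (Nat.card ↥(Cfsg.isometryGroup F Q))
      = 1 + padicValNat r c + padicValNat r (Nat.card ↥H) + padicValNat r m := by
    rw [hm, padicValNat.mul (mul_ne_zero (mul_ne_zero hr0 hc0) hH0) hm0,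
      padicValNat.mul (mul_ne_zero hr0 hc0) hH0, padicValNat.mul hr0 hc0, padicValNat_self]
  omega

end Cfsg.Agent.Lib.helper2
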