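import Mathlib
import Cfsg.Prelude.Def_GeometricClasses
import Cfsg.Agent.Lib.helper24.SfoDefs

/-!
# S5977U (KUNIQ sub-split), piece ISOSQ (racer copy): diagonal forms `<1,..,1,c>` and
`<1,..,1,c'>` with `c = s² c'` are isometric.
-/

set_option autoImplicit false

namespace Cfsg.Agent.Lib.helper2

open Cfsg.Geo Matrix Cfsg.Agent.Lib.helper24

/-- ISOSQ (racer copy) -/
theorem h29_qfu_iso_of_sq {E : Type*} [Field E] {m : ℕ}
    (Q Q' : (Fin (m + 1) → E) → E) (P P' : GL (Fin (m + 1)) E) (c c' s : E) (hc : c ≠ 0)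
    (hcs : c = s ^ 2 * c')
    (hP : ∀ x : Fin (m + 1) → E, Q ((P : Matrix (Fin (m + 1)) (Fin (m + 1)) E) *ᵥ x) =
      ∑ j, (if j = Fin.last m then c else 1) * x j ^ 2)
    (hP' : ∀ x : Fin (m + 1) → E, Q' ((P' : Matrix (Fin (m + 1)) (Fin (m + 1)) E) *ᵥ x) =
      ∑ j, (if j = Fin.last m then c' else 1) * x j ^ 2) :
    ∃ T : GL (Fin (m + 1)) E, ∀ x : Fin (m + 1) → E,
      Q' ((T : Matrix (Fin (m + 1)) (Fin (m + 1)) E) *ᵥ x) = Q x := by
  have hs : s ≠ 0 := by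
    rintro rfl
    apply hc
    rw [hcs]; ring
  have hdet : (Matrix.diagonal (fun j : Fin (m + 1) => if j = Fin.last m then s else 1)).det ≠ 0 := by
    rw [Matrix.det_diagonal, Finset.prod_ne_zero_iff]
    intro j _
    split_ifs
    · exact hs
    · exact one_ne_zero
  refine ⟨P' * Matrix.GeneralLinearGroup.mkOfDetNeZero _ hdet * P⁻¹, ?_⟩
  intro x
  have hx : Q x = Q ((P : Matrix (Fin (m + 1)) (Fin (m + 1)) E) *ᵥ
      (((P⁻¹ : GL (Fin (m + 1)) E) : Matrix (Fin (m + 1)) (Fin (m + 1)) E) *ᵥ x)) := by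
    rw [Matrix.mulVec_mulVec, ← Units.val_mul, mul_inv_cancel, Units.val_one, Matrix.one_mulVec]
  rw [hx, hP]
  have hT : ((P' * Matrix.GeneralLinearGroup.mkOfDetNeZero _ hdet * P⁻¹ : GL (Fin (m + 1)) E) :
      Matrix (Fin (m + 1)) (Fin (m + 1)) E) *ᵥ x
      = (P' : Matrix (Fin (m + 1)) (Fin (m + 1)) E) *ᵥ
        (Matrix.diagonal (fun j : Fin (m + 1) => if j = Fin.last m then s else 1) *ᵥ
          (((P⁻¹ : GL (Fin (m + 1)) E) : Matrix (Fin (m + 1)) (Fin (m + 1)) E) *ᵥ x)) := by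
    rw [Units.val_mul, Units.val_mul, Matrix.mulVec_mulVec, Matrix.mulVec_mulVec]
    rfl
  rw [hT, hP']
  apply Finset.sum_congr rfl
  intro j _
  rw [Matrix.mulVec_diagonal]
  by_cases hj : j = Fin.last m
  · rw [if_pos hj, if_pos hj, if_pos hj, hcs]; ring
  · rw [if_neg hj, if_neg hj, if_neg hj]; ring

end Cfsg.Agent.Lib.helper2
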