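import Mathlib
import Cfsg.Agent.Lib.helper89.S60Defs

/-!
# S6000 piece BTF: the trace formula `4 * (tr y * tr y⁻¹) = |C_R(y)|`

`s60_trace_formula` has the verbatim skeleton statement (adapted from the landed S6002 piece
`h40_s6_trace_formula`).
-/

set_option autoImplicit false

namespace Cfsg.Agent.Lib.helper89.S60

open Matrix Cfsg Cfsg.Geo

/-- the trace of `y⁻¹ s y s⁻¹` for `s ∈ R` -/
theorem helper29_s60_trace_term {F : Type*} [Field F] (R : Subgroup (GL (Fin 4) F)) (w : F)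
    (hG : Good R w) (y : GL (Fin 4) F) (hy : y ∈ subgroupNormalizer R) (k : ℕ) (hk : Odd k)
    (hyk : y ^ k = 1) (s : GL (Fin 4) F) (hs : s ∈ R) [Decidable (y * s = s * y)] :
    Matrix.trace (((y⁻¹ * s * y * s⁻¹ : GL (Fin 4) F) : GL (Fin 4) F) : Matrix (Fin 4) (Fin 4) F) =
      if y * s = s * y then (4 : F) else 0 := by
  have hcR : y⁻¹ * s * y * s⁻¹ ∈ R := by
    have h1 : y⁻¹ * s * y ∈ R := (Subgroup.mem_set_normalizer_iff''.1 hy s).1 hs
    exact R.mul_mem h1 (R.inv_mem hs)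
  by_cases hcomm : y * s = s * y
  · rw [if_pos hcomm]
    have h1 : y⁻¹ * s * y * s⁻¹ = 1 := by
      rw [mul_assoc y⁻¹ s y, ← hcomm]
      group
    rw [h1]
    simp [Matrix.trace_one]
  · rw [if_neg hcomm]
    apply hG.tr0 _ hcR
    intro c0 hc0
    apply hcomm
    obtain ⟨z, hzdef⟩ : ∃ z : GL (Fin 4) F, z = y⁻¹ * s * y * s⁻¹ := ⟨_, rfl⟩
    rw [← hzdef] at hc0 hcR
    have hc4 : c0 ^ 4 = 1 := hG.scal z hcR c0 hc0
    have hzc : ∀ g : GL (Fin 4) F, z * g = g * z := by
      intro g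
      apply Units.ext
      rw [Units.val_mul, Units.val_mul, hc0]
      simp
    have hys : y⁻¹ * s * y = z * s := by
      rw [hzdef]
      group
    have hind : ∀ j : ℕ, y⁻¹ ^ j * s * y ^ j = z ^ j * s := by
      intro j
      induction j with
      | zero => simp
      | succ j ih =>
        have e1 : y⁻¹ ^ (j + 1) * s * y ^ (j + 1) = y⁻¹ * (y⁻¹ ^ j * s * y ^ j) * y := by
          rw [pow_succ', pow_succ]
          group
        have hcz : Commute (z ^ j) y⁻¹ := Commute.pow_left (hzc y⁻¹) j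
        have e2 : y⁻¹ * (z ^ j * s) * y = z ^ j * (y⁻¹ * s * y) := by
          calc y⁻¹ * (z ^ j * s) * y = (y⁻¹ * z ^ j) * s * y := by group
            _ = (z ^ j * y⁻¹) * s * y := by rw [hcz.eq]
            _ = z ^ j * (y⁻¹ * s * y) := by group
        rw [e1, ih, e2, hys, ← mul_assoc, ← pow_succ]
    have hk' := hind k
    rw [inv_pow, hyk, inv_one, one_mul, mul_one] at hk'
    have hzk : z ^ k = 1 := by
      have h5 : z ^ k * s = 1 * s := by rw [one_mul, ← hk']
      exact mul_right_cancel h5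
    -- `c0 ^ k = 1`
    have hzkM : ((z ^ k : GL (Fin 4) F) : Matrix (Fin 4) (Fin 4) F) =
        (c0 ^ k) • (1 : Matrix (Fin 4) (Fin 4) F) := by
      rw [Units.val_pow_eq_pow_val, hc0, smul_pow, one_pow]
    have hck : c0 ^ k = 1 := by
      rw [hzk] at hzkM
      have h7 := congrFun (congrFun hzkM 0) 0
      simp at h7
      exact h7.symm
    obtain ⟨m, rfl⟩ := hk
    have hc2 : c0 ^ 2 = 1 := by
      have h8 : c0 ^ (2 * (2 * m + 1)) = 1 := by rw [mul_comm, pow_mul, hck, one_pow]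
      have h9 : c0 ^ (2 * (2 * m + 1)) = (c0 ^ 4) ^ m * c0 ^ 2 := by
        rw [← pow_mul, ← pow_add]
        congr 1
        ring
      rw [h9, hc4, one_pow, one_mul] at h8
      exact h8
    have hc1 : c0 = 1 := by
      rw [pow_succ, pow_mul, hc2, one_pow, one_mul] at hck
      exact hck
    have hz1 : z = 1 := by
      apply Units.ext
      rw [hc0, hc1, one_smul]
      rfl
    have h4 : y⁻¹ * s * y = s := by
      rw [hys, hz1, one_mul]
    calc y * s = y * (y⁻¹ * s * y) := by rw [h4]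
      _ = s * y := by group

/-- BTF (L). Trace formula. -/
theorem s60_trace_formula {F : Type*} [Field F] [Fintype F] (h2 : (2 : F) ≠ 0) (R : Subgroup (GL (Fin 4) F)) (w : F) (hG : Good R w)
    (y : GL (Fin 4) F) (hy : y ∈ subgroupNormalizer R) (k : ℕ) (hk : Odd k) (hyk : y ^ k = 1) :
    4 * (Matrix.trace (y : Matrix (Fin 4) (Fin 4) F) * Matrix.trace ((y⁻¹ : GL (Fin 4) F) : Matrix (Fin 4) (Fin 4) F)) = ((Nat.card {s : GL (Fin 4) F // s ∈ R ∧ y * s = s * y} : ℕ) : F) := by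
  classical
  have : Finite (GL (Fin 4) F) := inferInstance
  let _ : Fintype R := Fintype.ofFinite R
  have havg := hG.avg (y : Matrix (Fin 4) (Fin 4) F)
  rw [finsum_eq_sum_of_fintype] at havg
  have h1 : ∑ s : R, Matrix.trace (((y⁻¹ : GL (Fin 4) F) : Matrix (Fin 4) (Fin 4) F) *
      (((s : GL (Fin 4) F) : Matrix (Fin 4) (Fin 4) F) * (y : Matrix (Fin 4) (Fin 4) F) *
        (((s : GL (Fin 4) F)⁻¹ : GL (Fin 4) F) : Matrix (Fin 4) (Fin 4) F))) =
      16 * Matrix.trace (y : Matrix (Fin 4) (Fin 4) F) *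
        Matrix.trace ((y⁻¹ : GL (Fin 4) F) : Matrix (Fin 4) (Fin 4) F) := by
    rw [← Matrix.trace_sum, ← Finset.mul_sum, havg, Matrix.mul_smul, Matrix.mul_one,
      Matrix.trace_smul, smul_eq_mul]
  have hterm : ∀ s : R, Matrix.trace (((y⁻¹ : GL (Fin 4) F) : Matrix (Fin 4) (Fin 4) F) *
      (((s : GL (Fin 4) F) : Matrix (Fin 4) (Fin 4) F) * (y : Matrix (Fin 4) (Fin 4) F) *
        (((s : GL (Fin 4) F)⁻¹ : GL (Fin 4) F) : Matrix (Fin 4) (Fin 4) F))) =
      if y * (s : GL (Fin 4) F) = (s : GL (Fin 4) F) * y then (4 : F) else 0 := by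
    intro s
    rw [← helper29_s60_trace_term R w hG y hy k hk hyk (s : GL (Fin 4) F) s.2]
    congr 1
    simp only [Units.val_mul, Matrix.mul_assoc]
  rw [Finset.sum_congr rfl (fun s _ => hterm s)] at h1
  rw [Finset.sum_ite, Finset.sum_const, Finset.sum_const_zero, add_zero, nsmul_eq_mul] at h1
  have hcard : Nat.card {s : GL (Fin 4) F // s ∈ R ∧ y * s = s * y} =
      (Finset.univ.filter (fun s : R => y * (s : GL (Fin 4) F) = (s : GL (Fin 4) F) * y)).card := by
    rw [← Fintype.card_subtype, ← Nat.card_eq_fintype_card]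
    exact Nat.card_congr (Equiv.subtypeSubtypeEquivSubtypeInter (fun s : GL (Fin 4) F => s ∈ R)
      (fun s : GL (Fin 4) F => y * s = s * y)).symm
  rw [hcard]
  have h4 : (4 : F) ≠ 0 := by
    have : (4 : F) = 2 * 2 := by norm_num
    rw [this]
    exact mul_ne_zero h2 h2
  apply mul_left_cancel₀ h4
  linear_combination (-1 : F) * h1

end Cfsg.Agent.Lib.helper89.S60
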