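import Mathlib
import Cfsg.Agent.S1409
import Cfsg.Agent.S1415
import Cfsg.Agent.S1418
import Cfsg.Agent.S1423
import Cfsg.Agent.Lib.helper29.BGSigPart
import Cfsg.Agent.Lib.helper97.BGSeven1
import Cfsg.Agent.Lib.helper66.PGroupAction
import Cfsg.Agent.Lib.helper87.BG1425Main

/-!
Step (4) of the asymmetry lemma (Bender-Glauberman 13.8): the `c`-claim.

`p ∈ τ₁(M) ∩ τ₁(L)`, `P` of order `p`, `X ≤ M ∩ C_G(P)` of prime order `t ∈ β(M)`,
`Y ≤ L ∩ C_G(P)` of prime order `s ∈ β(L)`.  Then some `c ∈ C_G(P)` has `Y^c ≤ M` or `X ≤ L^c`.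
-/

set_option autoImplicit false
open Cfsg

namespace Cfsg.Agent.Lib.helper29.Asym4

open Cfsg.Agent.Lib.helper8 Subgroup

variable {G : Type*} [Group G]

/-- In a solvable subgroup `C`, for two `π`-subgroups `X`, `Y` of `C` there is a `π`-subgroup
`F ≤ C` containing `X` and a `C`-conjugate of `Y`. -/
theorem exists_pi_sub_conj [Finite G] (π : Set ℕ) (C : Subgroup G) (hC : Group.IsSolvable ↥C)
    (X Y : Subgroup G) (hXC : X ≤ C) (hYC : Y ≤ C)
    (hX : ∀ p : ℕ, p.Prime → p ∣ Nat.card X → p ∈ π)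
    (hY : ∀ p : ℕ, p.Prime → p ∣ Nat.card Y → p ∈ π) :
    ∃ F : Subgroup G, F ≤ C ∧ (∀ p : ℕ, p.Prime → p ∣ Nat.card F → p ∈ π) ∧ X ≤ F ∧
      ∃ c ∈ C, Y.map (MulAut.conj c).toMonoidHom ≤ F := by
  obtain ⟨H₀, hH₀⟩ := Cfsg.Agent.Lib.lead.exists_isPiHall_of_isSolvable π ↥C
  have hXs : IsPiSubgroup π (X.subgroupOf C) := by
    intro p hp hd
    apply hX p hp
    rwa [Nat.card_congr (Subgroup.subgroupOfEquivOfLe hXC).toEquiv] at hd
  have hYs : IsPiSubgroup π (Y.subgroupOf C) := by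
    intro p hp hd
    apply hY p hp
    rwa [Nat.card_congr (Subgroup.subgroupOfEquivOfLe hYC).toEquiv] at hd
  obtain ⟨g₁, hg₁⟩ := Cfsg.Agent.Lib.lead.le_conj_isPiHall_of_isSolvable hH₀ hXs
  obtain ⟨g₂, hg₂⟩ := Cfsg.Agent.Lib.lead.le_conj_isPiHall_of_isSolvable hH₀ hYs
  refine ⟨(H₀.map (MulAut.conj g₁).toMonoidHom).map C.subtype, Subgroup.map_subtype_le _, ?_, ?_,
    ⟨(g₁ : G) * (g₂ : G)⁻¹, C.mul_mem g₁.2 (C.inv_mem g₂.2), ?_⟩⟩
  · intro p hp hd
    rw [Subgroup.card_map_of_injective C.subtype_injective] at hd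
    exact (Cfsg.Agent.Lib.lead.isPiHall_map_conj hH₀ g₁).1 p hp hd
  · intro x hx
    exact ⟨⟨x, hXC hx⟩, hg₁ (Subgroup.mem_subgroupOf.mpr hx), rfl⟩
  · rintro _ ⟨y, hy, rfl⟩
    have h1 := hg₂ (Subgroup.mem_subgroupOf.mpr hy : (⟨y, hYC hy⟩ : C) ∈ Y.subgroupOf C)
    obtain ⟨h, hh, hhy⟩ := h1
    refine ⟨(MulAut.conj g₁).toMonoidHom h, Subgroup.mem_map_of_mem _ hh, ?_⟩
    have hy' : y = (g₂ : G) * (h : G) * (g₂ : G)⁻¹ := by
      have := congrArg Subtype.val hhy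
      simpa using this.symm
    subst hy'
    simp [mul_assoc]

theorem centralizer_le_normalizer' (P : Subgroup G) :
    centralizer (P : Set G) ≤ normalizer (P : Set G) := by
  intro c hc
  rw [Subgroup.mem_normalizer_iff]
  intro h
  rw [Subgroup.mem_centralizer_iff] at hc
  constructor
  · intro hh
    have h1 : c * h * c⁻¹ = h := by
      rw [← hc h hh]; group
    rw [h1]; exact hh
  · intro hh
    have h1 : c * h * c⁻¹ = h := by
      have h2 := hc _ hh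
      have h4 : c * h * c⁻¹ * c = c * (c * h * c⁻¹) := h2
      have h5 : c * h * c⁻¹ * c = c * h := by group
      rw [h5] at h4
      exact (mul_left_cancel h4).symm
    rw [← h1]; exact hh

/-- a maximal subgroup containing `N_G(P)`, `P` of order `p ∈ τ₁(M)`, is not conjugate to `M` -/
theorem not_conj_of_tau1 [Finite G] (hG : IsMinSimpleOddOrder G) (M H : Subgroup G)
    (hM : IsCoatom M) (p : ℕ) (hp : p ∈ tau1 M) (P : Subgroup G) (hP : Nat.card P = p)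
    (hNH : normalizer (P : Set G) ≤ H) : ∀ g : G, M ≠ H.map (MulAut.conj g).toMonoidHom := by
  intro g hMg
  have : Fact p.Prime := ⟨hp.1⟩
  have hN : normalizer ((P.map (MulAut.conj g).toMonoidHom : Subgroup G) : Set G) ≤ M := by
    rw [Cfsg.Agent.Lib.helper13.normalizer_map_conj, hMg]
    exact Subgroup.map_mono hNH
  have hc : Nat.card (P.map (MulAut.conj g).toMonoidHom) = p := by
    rw [Subgroup.card_map_of_injective (MulAut.conj g).injective]; exact hP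
  obtain ⟨⟨-, h1⟩, -⟩ := Cfsg.Agent.S1409.result hG M hM p hp.2.1 _ hc hN
  exact h1 hp.2.2.2.2

/-- `X ≤ M` of prime order `t ∈ β(M)`: `N_G(X) ≤ M` and `M` is the only maximal subgroup over
`C_G(X)` -/
theorem beta_facts [Finite G] (hG : IsMinSimpleOddOrder G) (M : Subgroup G) (hM : IsCoatom M)
    (t : ℕ) (ht : t ∈ beta M) (X : Subgroup G) (hXM : X ≤ M) (hX : Nat.card X = t) :
    normalizer (X : Set G) ≤ M ∧ centralizer (X : Set G) ≤ M ∧
      ∀ L : Subgroup G, IsCoatom L → centralizer (X : Set G) ≤ L → L = M := by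
  have hU := Cfsg.Agent.Lib.helper13.bgx_uniq hG
  have htp : t.Prime := ht.1.1
  have : Fact t.Prime := ⟨htp⟩
  have htσ : t ∈ sigma M := bg_alpha_sub_sigma hG hU M hM ht.1
  obtain ⟨P⟩ : Nonempty (Sylow t ↥(sigmaCore M)) := inferInstance
  obtain ⟨⟨h1, h2⟩, -⟩ := Cfsg.Agent.S1423.result hG M hM t htσ X hXM hX P (Or.inl ht)
  have hXp : IsPGroup t X := IsPGroup.of_card (n := 1) (by rw [hX, pow_one])
  have hX1 : X ≠ ⊥ := by
    intro h
    rw [h, Subgroup.card_bot] at hX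
    exact htp.one_lt.ne hX
  obtain ⟨-, h3⟩ := Cfsg.Agent.S1404.result hG M hM t htσ X hXp hX1 hXM
  refine ⟨?_, h1, h2⟩
  rw [h3]
  exact sup_le inf_le_left h1

/-- a subgroup of prime order `t ∈ τ₃(H)` of a complement `E` of `H_σ` is normal in `E` -/
theorem normal_of_tau3 [Finite G] (hG : IsMinSimpleOddOrder G) (H : Subgroup G) (hH : IsCoatom H)
    (E : Subgroup G) (hE : IsComplIn E (sigmaCore H) H) (t : ℕ) (ht : t ∈ tau3 H)
    (X : Subgroup G) (hXE : X ≤ E) (hX : Nat.card X = t) : E ≤ normalizer (X : Set G) := by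
  obtain ⟨hodd, hsimple, hna, hsolv⟩ := id hG
  have hU := Cfsg.Agent.Lib.helper13.bgx_uniq hG
  have hF := Cfsg.Agent.Lib.helper13.bgx_fus hG
  have hEtop : E ≠ ⊤ := fun h => hH.1 (top_le_iff.mp (h ▸ hE.1))
  have hEsolv : Group.IsSolvable ↥E := hsolv E hEtop
  obtain ⟨H₀, hH₀⟩ := Cfsg.Agent.Lib.lead.exists_isPiHall_of_isSolvable (tau3 H) ↥E
  obtain ⟨E₃, hE₃def⟩ : ∃ E₃ : Subgroup G, E₃ = H₀.map E.subtype := ⟨_, rfl⟩
  have hE₃E : E₃ ≤ E := hE₃def ▸ Subgroup.map_subtype_le _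
  have hE₃ : IsPiHallOf (tau3 H) E₃ E := by
    refine ⟨hE₃E, ?_, ?_⟩
    · intro p hp hd
      rw [hE₃def, Subgroup.card_map_of_injective E.subtype_injective] at hd
      exact hH₀.1 p hp hd
    · intro p hp hpτ
      rw [hE₃def, Cfsg.Agent.Lib.helper71.BGA.relIndex_map_subtype]
      exact hH₀.2 p hp hpτ
  obtain ⟨hcyc, -, hnorm⟩ := bg_tau3_hall hG hU hF H hH E hE E₃ hE₃
  have hXs : IsPiSubgroup (tau3 H) (X.subgroupOf E) := by
    intro p hp hd
    rw [Nat.card_congr (Subgroup.subgroupOfEquivOfLe hXE).toEquiv, hX] at hd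
    rw [(Nat.prime_dvd_prime_iff_eq hp ht.1).mp hd]
    exact ht
  obtain ⟨g, hg⟩ := Cfsg.Agent.Lib.lead.le_conj_isPiHall_of_isSolvable hH₀ hXs
  have hXE₃ : X ≤ E₃ := by
    intro x hx
    obtain ⟨h, hh, hhx⟩ :=
      hg (Subgroup.mem_subgroupOf.mpr hx : (⟨x, hXE hx⟩ : E) ∈ X.subgroupOf E)
    have hx' : x = (g : G) * (h : G) * (g : G)⁻¹ := by
      have := congrArg Subtype.val hhx
      simpa using this.symm
    rw [hx']
    have hhE₃ : (h : G) ∈ E₃ := by rw [hE₃def]; exact ⟨h, hh, rfl⟩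
    exact (Subgroup.mem_normalizer_iff.mp (hnorm g.2) _).mp hhE₃
  intro e he
  have hXe : X.map (MulAut.conj e).toMonoidHom ≤ E₃ := by
    rintro _ ⟨x, hx, rfl⟩
    exact (Subgroup.mem_normalizer_iff.mp (hnorm he) _).mp (hXE₃ hx)
  have hcard : Nat.card (X.map (MulAut.conj e).toMonoidHom) = Nat.card X :=
    Subgroup.card_map_of_injective (MulAut.conj e).injective
  have heq : X.map (MulAut.conj e).toMonoidHom = X := by
    have := hcyc
    exact Cfsg.Agent.Lib.helper66.eq_of_card_eq_of_isCyclic hXe hXE₃ hcard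
  rw [Subgroup.mem_normalizer_iff]
  intro h
  constructor
  · intro hh
    rw [← heq]
    exact ⟨h, hh, rfl⟩
  · intro hh
    rw [← heq] at hh
    obtain ⟨x, hx, hxe⟩ := hh
    have h2 : e * x * e⁻¹ = e * h * e⁻¹ := hxe
    have h3 : x = h := by
      have h4 : e * x = e * h := mul_right_cancel h2
      exact mul_left_cancel h4
    rwa [← h3]

/-- `t ∈ β(M)` is not in `τ₂(H)` for a maximal subgroup `H ≠ M` over `N_G(P)`, `X` of order `t`
centralizing `P` of order `p ∈ τ₁(M)` -/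
theorem not_tau2 [Finite G] (hG : IsMinSimpleOddOrder G) (M H : Subgroup G) (hM : IsCoatom M)
    (hH : IsCoatom H) (hHM : H ≠ M)
    (p : ℕ) (hpM : p ∈ tau1 M) (P : Subgroup G) (hP : Nat.card P = p)
    (hNH : normalizer (P : Set G) ≤ H)
    (t : ℕ) (ht : t ∈ beta M) (X : Subgroup G) (hXM : X ≤ M) (hX : Nat.card X = t)
    (hXP : X ≤ centralizer (P : Set G)) (htH : t ∉ sigma H) : t ∉ tau2 H := by
  intro ht2
  have hU := Cfsg.Agent.Lib.helper13.bgx_uniq hG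
  have hF := Cfsg.Agent.Lib.helper13.bgx_fus hG
  have hp : p.Prime := hpM.1
  have htp : t.Prime := ht.1.1
  have : Fact p.Prime := ⟨hp⟩
  have : Fact t.Prime := ⟨htp⟩
  obtain ⟨hNX, hCX, hCXu⟩ := beta_facts hG M hM t ht X hXM hX
  have hXH : X ≤ H := hXP.trans ((centralizer_le_normalizer' P).trans hNH)
  have hPH : P ≤ H := Subgroup.le_normalizer.trans hNH
  obtain ⟨E, hE, hXE⟩ := Cfsg.Agent.Lib.helper60.BGCentU.exists_compl_ge hG H hH X hXH
    (fun q hq hqd => by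
      rw [hX] at hqd
      rw [(Nat.prime_dvd_prime_iff_eq hq htp).mp hqd]
      exact htH)
  obtain ⟨A, hAE, hAel, hAc⟩ := Cfsg.Agent.Lib.helper97.bg7_exists_elemAb_compl H E hE t ht2
  obtain ⟨⟨hEA, hXA⟩, -, h3⟩ :=
    Cfsg.Agent.S1418.result hG H hH E hE t ht2 A ⟨hAE, hAel, hAc⟩
  have hXleA : X ≤ A := hXA X hXE hX
  have hPX : P ≤ centralizer (X : Set G) := by
    intro y hy
    rw [Subgroup.mem_centralizer_iff]
    intro x hx
    exact ((Subgroup.mem_centralizer_iff.mp (hXP hx)) y hy).symm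
  by_cases hpσ : p ∈ sigma H
  · have hPσ : P ≤ sigmaCore H := bg_pgroup_le_sigmaCore hG hU hF H hH hpσ P hPH
      (IsPGroup.of_card (n := 1) (by rw [hP, pow_one]))
    have hne : sigmaCore H ⊓ centralizer (X : Set G) ≠ ⊥ := by
      intro h0
      have hP0 : P ≤ ⊥ := h0 ▸ le_inf hPσ hPX
      rw [le_bot_iff] at hP0
      rw [hP0, Subgroup.card_bot] at hP
      exact hp.one_lt.ne hP
    obtain ⟨-, hu⟩ := h3 X hXleA hX hne
    exact hHM (hu M hM hCX).symm
  · obtain ⟨⟨h2, h1⟩, -, -⟩ := Cfsg.Agent.S1409.result hG H hH p hpσ P hP hNH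
    have hp2 : p ∈ tau2 H := ⟨hp, hpσ, h2, h1⟩
    obtain ⟨B, hBE, hBel, hBc⟩ := Cfsg.Agent.Lib.helper97.bg7_exists_elemAb_compl H E hE p hp2
    obtain ⟨⟨hEB, -⟩, -, -⟩ :=
      Cfsg.Agent.S1418.result hG H hH E hE p hp2 B ⟨hBE, hBel, hBc⟩
    have hpt : p ≠ t := by
      rintro rfl
      exact hpM.2.1 (bg_alpha_sub_sigma hG hU M hM ht.1)
    have hdisj : B ⊓ A = ⊥ := by
      apply Disjoint.eq_bot
      apply Subgroup.disjoint_of_coprime_natCard
      rw [hBc, hAc]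
      exact Nat.Coprime.pow 2 2 ((Nat.coprime_primes hp htp).mpr hpt)
    have hBA : B ≤ centralizer (A : Set G) := by
      intro b hb
      rw [Subgroup.mem_centralizer_iff]
      intro a ha
      have h1' : b * a * b⁻¹ * a⁻¹ ∈ B ⊓ A := by
        refine Subgroup.mem_inf.mpr ⟨?_, ?_⟩
        · have h4 : a * b⁻¹ * a⁻¹ ∈ B :=
            (Subgroup.mem_normalizer_iff.mp (hEB (hAE ha)) _).mp (B.inv_mem hb)
          have h5 : b * a * b⁻¹ * a⁻¹ = b * (a * b⁻¹ * a⁻¹) := by group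
          rw [h5]; exact B.mul_mem hb h4
        · have h4 : b * a * b⁻¹ ∈ A := (Subgroup.mem_normalizer_iff.mp (hEA (hBE hb)) _).mp ha
          exact A.mul_mem h4 (A.inv_mem ha)
      rw [hdisj, Subgroup.mem_bot] at h1'
      have h6 : b * a = (b * a * b⁻¹ * a⁻¹) * (a * b) := by group
      rw [h1', one_mul] at h6
      exact h6.symm
    have hBM : B ≤ M := (hBA.trans (Subgroup.centralizer_le hXleA)).trans hCX
    exact Cfsg.Agent.Lib.helper87.BG133.not_prankLE_one hp hBM hBel hBc hpM.2.2.2.2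

/-- **Step (4) of the asymmetry lemma.** -/
theorem asym_claim [Finite G] (hG : IsMinSimpleOddOrder G) (M L : Subgroup G) (hM : IsCoatom M)
    (hL : IsCoatom L) (p : ℕ) (hpM : p ∈ tau1 M) (hpL : p ∈ tau1 L) (P : Subgroup G)
    (hPM : P ≤ M) (hPL : P ≤ L) (hP : Nat.card P = p)
    (t : ℕ) (ht : t ∈ beta M) (X : Subgroup G) (hXM : X ≤ M) (hX : Nat.card X = t)
    (hXP : X ≤ Subgroup.centralizer (P : Set G))
    (s : ℕ) (hs : s ∈ beta L) (Y : Subgroup G) (hYL : Y ≤ L) (hY : Nat.card Y = s)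
    (hYP : Y ≤ Subgroup.centralizer (P : Set G)) :
    ∃ c ∈ Subgroup.centralizer (P : Set G),
      Y.map (MulAut.conj c).toMonoidHom ≤ M ∨ X ≤ L.map (MulAut.conj c).toMonoidHom := by
  obtain ⟨hodd, hsimple, hna, hsolv⟩ := id hG
  have hU := Cfsg.Agent.Lib.helper13.bgx_uniq hG
  have hF := Cfsg.Agent.Lib.helper13.bgx_fus hG
  have hp : p.Prime := hpM.1
  have htp : t.Prime := ht.1.1
  have hsp : s.Prime := hs.1.1
  have hP1 : P ≠ ⊥ := by
    intro h
    rw [h, Subgroup.card_bot] at hP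
    exact hp.one_lt.ne hP
  have hPtop : P ≠ ⊤ := fun h => hM.1 (top_le_iff.mp (h ▸ hPM))
  have hN := Cfsg.Agent.Lib.helper71.BG12.normalizer_ne_top' hG hP1 hPtop
  obtain ⟨H, hH, hNH⟩ := (eq_top_or_exists_le_coatom _).resolve_left hN
  have hCH : centralizer (P : Set G) ≤ H := (centralizer_le_normalizer' P).trans hNH
  have hncM := not_conj_of_tau1 hG M H hM p hpM P hP hNH
  have hncL := not_conj_of_tau1 hG L H hL p hpL P hP hNH
  have hHM : H ≠ M := by
    intro h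
    apply hncM 1
    rw [Cfsg.Agent.Lib.helper29.SigPart.map_conj_one, h]
  have hHL : H ≠ L := by
    intro h
    apply hncL 1
    rw [Cfsg.Agent.Lib.helper29.SigPart.map_conj_one, h]
  have htH : t ∉ sigma H := fun h =>
    Cfsg.Agent.Lib.helper55.BGJ.not_mem_alpha_of_sigma hU hH hM hncM h ht.1
  have hsH : s ∉ sigma H := fun h =>
    Cfsg.Agent.Lib.helper55.BGJ.not_mem_alpha_of_sigma hU hH hL hncL h hs.1
  have ht2 := not_tau2 hG M H hM hH hHM p hpM P hP hNH t ht X hXM hX hXP htH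
  have hs2 := not_tau2 hG L H hL hH hHL p hpL P hP hNH s hs Y hYL hY hYP hsH
  have hXH : X ≤ H := hXP.trans hCH
  have hYH : Y ≤ H := hYP.trans hCH
  obtain ⟨hNX, hCX, -⟩ := beta_facts hG M hM t ht X hXM hX
  obtain ⟨hNY, hCY, -⟩ := beta_facts hG L hL s hs Y hYL hY
  have hrank : ∀ q : ℕ, q.Prime → q ∉ sigma H → q ∉ tau2 H → PRankLE q 1 H := by
    intro q hq hqσ hq2
    by_contra h1
    by_cases h2 : PRankLE q 2 H
    · exact hq2 ⟨hq, hqσ, h2, h1⟩
    · exact hqσ (bg_alpha_sub_sigma hG hU H hH ⟨hq, h2⟩)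
  have ht1 := hrank t htp htH ht2
  have hs1 := hrank s hsp hsH hs2
  have htd : t ∣ Nat.card H := hX ▸ Subgroup.card_dvd_of_le hXH
  have hsd : s ∣ Nat.card H := hY ▸ Subgroup.card_dvd_of_le hYH
  have hCtop : centralizer (P : Set G) ≠ ⊤ := fun h => hH.1 (top_le_iff.mp (h ▸ hCH))
  have hCsolv := hsolv _ hCtop
  have hXπ : ∀ (π : Set ℕ), t ∈ π → ∀ q : ℕ, q.Prime → q ∣ Nat.card X → q ∈ π := by
    intro π htπ q hq hqd
    rw [hX] at hqd
    rw [(Nat.prime_dvd_prime_iff_eq hq htp).mp hqd]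
    exact htπ
  have hYπ : ∀ (π : Set ℕ), s ∈ π → ∀ q : ℕ, q.Prime → q ∣ Nat.card Y → q ∈ π := by
    intro π hsπ q hq hqd
    rw [hY] at hqd
    rw [(Nat.prime_dvd_prime_iff_eq hq hsp).mp hqd]
    exact hsπ
  by_cases ht3 : t ∣ Nat.card ↥⁅H, H⁆
  · have ht3' : t ∈ tau3 H := ⟨htp, htH, ht3, ht1⟩
    obtain ⟨F, hFC, hFπ, hXF, c, hc, hYF⟩ := exists_pi_sub_conj {q | q ∉ sigma H}
      (centralizer (P : Set G)) hCsolv X Y hXP hYP (hXπ _ htH) (hYπ _ hsH)
    obtain ⟨E, hE, hFE⟩ := Cfsg.Agent.Lib.helper60.BGCentU.exists_compl_ge hG H hH F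
      (hFC.trans hCH) hFπ
    have hEN := normal_of_tau3 hG H hH E hE t ht3' X (hXF.trans hFE) hX
    exact ⟨c, hc, Or.inl ((hYF.trans hFE).trans (hEN.trans hNX))⟩
  by_cases hs3 : s ∣ Nat.card ↥⁅H, H⁆
  · have hs3' : s ∈ tau3 H := ⟨hsp, hsH, hs3, hs1⟩
    obtain ⟨F, hFC, hFπ, hXF, c, hc, hYF⟩ := exists_pi_sub_conj {q | q ∉ sigma H}
      (centralizer (P : Set G)) hCsolv X Y hXP hYP (hXπ _ htH) (hYπ _ hsH)
    obtain ⟨E, hE, hFE⟩ := Cfsg.Agent.Lib.helper60.BGCentU.exists_compl_ge hG H hH F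
      (hFC.trans hCH) hFπ
    have hYc : Nat.card (Y.map (MulAut.conj c).toMonoidHom) = s := by
      rw [Subgroup.card_map_of_injective (MulAut.conj c).injective]; exact hY
    have hEN := normal_of_tau3 hG H hH E hE s hs3' _ (hYF.trans hFE) hYc
    refine ⟨c, hc, Or.inr ?_⟩
    have h1 : normalizer ((Y.map (MulAut.conj c).toMonoidHom : Subgroup G) : Set G) ≤
        L.map (MulAut.conj c).toMonoidHom := by
      rw [Cfsg.Agent.Lib.helper13.normalizer_map_conj]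
      exact Subgroup.map_mono hNY
    exact (hXF.trans hFE).trans (hEN.trans h1)
  · have ht1' : t ∈ tau1 H := ⟨htp, htH, htd, ht3, ht1⟩
    have hs1' : s ∈ tau1 H := ⟨hsp, hsH, hsd, hs3, hs1⟩
    obtain ⟨F, hFC, hFπ, hXF, c, hc, hYF⟩ := exists_pi_sub_conj (tau1 H)
      (centralizer (P : Set G)) hCsolv X Y hXP hYP (hXπ _ ht1') (hYπ _ hs1')
    have hFcyc : IsCyclic F := bg_tau1_hall_cyclic hG H F (hFC.trans hCH) F
      ⟨le_rfl, hFπ, fun q hq _ => by rw [Subgroup.relIndex_self]; exact hq.not_dvd_one⟩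
    refine ⟨c, hc, Or.inl ?_⟩
    have h1 : Y.map (MulAut.conj c).toMonoidHom ≤ centralizer (X : Set G) := by
      intro y hy
      rw [Subgroup.mem_centralizer_iff]
      intro x hx
      have := hFcyc
      exact congrArg Subtype.val
        ((IsCyclic.isMulCommutative (α := ↥F)).is_comm.comm (⟨x, hXF hx⟩ : F) ⟨y, hYF hy⟩)
    exact h1.trans hCX

end Cfsg.Agent.Lib.helper29.Asym4
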