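import Mathlib
import Cfsg.Prelude.Def_Characters
import Cfsg.Prelude.Def_Blocks
import Cfsg.Agent.Lib.helper84.BrDefs
import Cfsg.Agent.Lib.helper81.CharOrtho

/-!
# S0998 piece T3F (helper29): the order bound from the class multiplication constant of a
`2`-central involution at an element of order `3`
-/

set_option autoImplicit false

namespace Cfsg.Agent.Lib.helper29.BT

open Cfsg Cfsg.Agent.Lib.helper81 Cfsg.Agent.Lib.helper84.Br
open scoped ComplexConjugate

universe u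

section three

variable {G : Type u} [Group G] [Fintype G]

/-- T3F : the order bound from the class multiplication constant of a `2`-central involution
at an element of order `3`. -/
theorem three_final [Fact (Nat.Prime 3)] [Fintype (IrrCharacter G)] (p b : ℕ)
    (hp : p = 5 ∨ p = 7) (hcard : Nat.card G = 3 * p * 2 ^ b) {R : Sylow 3 G}
    (hR : Nat.card R = 3)
    (ψs ψb : IrrCharacter G) (hs1 : ψs ≠ trivChar G) (hb1 : ψb ≠ trivChar G) (hsb : ψs ≠ ψb)
    (hdeg : charDegree (ψb : G → ℂ) = charDegree (ψs : G → ℂ) + 1)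
    (hu : (p = 5 ∧ charDegree (ψs : G → ℂ) = 4) ∨ (p = 7 ∧ charDegree (ψs : G → ℂ) = 7))
    (hreg : ∀ g : G, ¬ 3 ∣ orderOf g → (ψb : G → ℂ) g = 1 + (ψs : G → ℂ) g)
    (hval : ∀ y : G, y ∈ (R : Subgroup G) → y ≠ 1 →
      (ψs : G → ℂ) y = 1 ∧ (ψb : G → ℂ) y = -1)
    (hvan : ∀ ψ : IrrCharacter G, ψ ≠ trivChar G → ψ ≠ ψs → ψ ≠ ψb →
      ∀ y : G, y ∈ (R : Subgroup G) → y ≠ 1 → (ψ : G → ℂ) y = 0)
    (hburn : ∀ χ : IrrCharacter G, χ ≠ trivChar G → ∀ s : G, s ≠ 1 →
      Nat.Coprime (charDegree (χ : G → ℂ)) (Subgroup.centralizer ({s} : Set G)).index →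
      (χ : G → ℂ) s = 0)
    (hinv : 1 ≤ b → ∃ s : G, orderOf s = 2 ∧
      2 ^ b ∣ Nat.card (Subgroup.centralizer ({s} : Set G)))
    (hcc : ∀ s y : G, ∃ N₀ : ℕ, (N₀ : ℂ) * (Nat.card G : ℂ) =
      ((Subgroup.centralizer ({s} : Set G)).index : ℂ) ^ 2 *
        ∑ χ : IrrCharacter G, conj ((χ : G → ℂ) s) ^ 2 * (χ : G → ℂ) y / (χ : G → ℂ) 1) :
    Nat.card G ≤ 168 := by
  classical
  by_cases hb0 : b = 0
  · subst hb0
    rw [hcard]
    rcases hp with rfl | rfl <;> norm_num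
  have hbpos : 1 ≤ b := Nat.one_le_iff_ne_zero.mpr hb0
  obtain ⟨s, hs2, hsC⟩ := hinv hbpos
  obtain ⟨y, hyR, hy1⟩ : ∃ y : G, y ∈ (R : Subgroup G) ∧ y ≠ 1 := by
    have : Nontrivial ↥(R : Subgroup G) := by
      rw [← Finite.one_lt_card_iff_nontrivial, hR]; norm_num
    obtain ⟨y, hy⟩ := exists_ne (1 : ↥(R : Subgroup G))
    exact ⟨y.1, y.2, fun h => hy (Subtype.ext h)⟩
  obtain ⟨N₀, hN⟩ := hcc s y
  obtain ⟨C, hC⟩ : ∃ C : Subgroup G, C = Subgroup.centralizer ({s} : Set G) := ⟨_, rfl⟩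
  rw [← hC] at hN hsC
  obtain ⟨c, hc⟩ := hsC
  have hidx : Nat.card C * C.index = Nat.card G := Subgroup.card_mul_index C
  have hci : c * C.index = 3 * p := by
    rw [hc, hcard] at hidx
    have h1 : 2 ^ b * (c * C.index) = 2 ^ b * (3 * p) := by rw [← mul_assoc, hidx]; ring
    exact Nat.eq_of_mul_eq_mul_left (by positivity) h1
  have hsne : s ≠ 1 := by
    rintro rfl
    rw [orderOf_one] at hs2
    omega
  have hs3 : ¬ 3 ∣ orderOf s := by rw [hs2]; norm_num
  have hrel := hreg s hs3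
  obtain ⟨hvs, hvb⟩ := hval y hyR hy1
  have hsum : ∑ χ : IrrCharacter G, conj ((χ : G → ℂ) s) ^ 2 * (χ : G → ℂ) y / (χ : G → ℂ) 1
      = 1 + conj ((ψs : G → ℂ) s) ^ 2 / (charDegree (ψs : G → ℂ) : ℂ)
        - conj ((ψb : G → ℂ) s) ^ 2 / (charDegree (ψb : G → ℂ) : ℂ) := by
    have hsub : ∑ χ : IrrCharacter G,
        conj ((χ : G → ℂ) s) ^ 2 * (χ : G → ℂ) y / (χ : G → ℂ) 1 =
        ∑ χ ∈ ({trivChar G, ψs, ψb} : Finset (IrrCharacter G)),
          conj ((χ : G → ℂ) s) ^ 2 * (χ : G → ℂ) y / (χ : G → ℂ) 1 := by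
      symm
      apply Finset.sum_subset (Finset.subset_univ _)
      intro χ _ hχ
      simp only [Finset.mem_insert, Finset.mem_singleton, not_or] at hχ
      rw [hvan χ hχ.1 hχ.2.1 hχ.2.2 y hyR hy1, mul_zero, zero_div]
    have hnot : trivChar G ∉ ({ψs, ψb} : Finset (IrrCharacter G)) := by
      simp only [Finset.mem_insert, Finset.mem_singleton, not_or]
      exact ⟨hs1.symm, hb1.symm⟩
    rw [hsub, Finset.sum_insert hnot, Finset.sum_pair hsb, hvs, hvb,
      irr_one_eq_charDegree ψs, irr_one_eq_charDegree ψb]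
    simp only [trivChar_apply, map_one, one_pow, mul_one, div_one]
    ring
  rw [hsum] at hN
  have hidxC : (C.index : ℂ) ≠ 0 := by
    have : C.index ≠ 0 := by
      intro h0
      rw [h0, mul_zero] at hci
      rcases hp with rfl | rfl <;> omega
    exact_mod_cast this
  rcases hu with ⟨rfl, hds⟩ | ⟨rfl, hds⟩
  · -- `p = 5`: degrees 4 and 5
    have hdb : charDegree (ψb : G → ℂ) = 5 := by rw [hdeg, hds]
    have hcop : Nat.Coprime (charDegree (ψs : G → ℂ)) C.index := by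
      rw [hds]
      exact Nat.Coprime.coprime_dvd_right ⟨c, by rw [← hci]; exact mul_comm _ _⟩
        (by norm_num : Nat.Coprime 4 (3 * 5))
    have h0 := hburn ψs hs1 s hsne (hC ▸ hcop)
    rw [h0, add_zero] at hrel
    rw [h0, hrel, hds, hdb] at hN
    have h5 : (5 : ℂ) * ((N₀ : ℂ) * (Nat.card G : ℂ)) = 4 * (C.index : ℂ) ^ 2 := by
      rw [hN]
      simp only [map_zero, map_one]
      norm_num
      ring
    have h5n : 5 * (N₀ * Nat.card G) = 4 * C.index ^ 2 := by exact_mod_cast h5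
    rw [hcard] at h5n ⊢
    have h75 : 75 * (N₀ * 2 ^ b) = 4 * C.index ^ 2 := by rw [← h5n]; ring
    have hdvd : C.index ∣ 15 := ⟨c, by rw [mul_comm]; exact hci.symm⟩
    have hmem : C.index ∈ Nat.divisors 15 := Nat.mem_divisors.mpr ⟨hdvd, by norm_num⟩
    have hdiv : Nat.divisors 15 = {1, 3, 5, 15} := by decide
    rw [hdiv] at hmem
    simp only [Finset.mem_insert, Finset.mem_singleton] at hmem
    obtain ⟨t, ht⟩ : ∃ t, t = N₀ * 2 ^ b := ⟨_, rfl⟩
    rw [← ht] at h75
    rcases hmem with h | h | h | h <;> rw [h] at h75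
    · omega
    · omega
    · omega
    · have ht12 : t = 12 := by omega
      have h2b : 2 ^ b ∣ 12 := ⟨N₀, by rw [← ht12, ht, mul_comm]⟩
      have hb2 : b ≤ 2 := by
        by_contra hh
        have h3 : 2 ^ 3 ∣ 2 ^ b := pow_dvd_pow 2 (by omega)
        have := h3.trans h2b
        norm_num at this
      have := Nat.pow_le_pow_right (by norm_num : 0 < 2) hb2
      omega
  · -- `p = 7`: degrees 7 and 8
    have hdb : charDegree (ψb : G → ℂ) = 8 := by rw [hdeg, hds]
    have hcop : Nat.Coprime (charDegree (ψb : G → ℂ)) C.index := by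
      rw [hdb]
      exact Nat.Coprime.coprime_dvd_right ⟨c, by rw [← hci]; exact mul_comm _ _⟩
        (by norm_num : Nat.Coprime 8 (3 * 7))
    have h0 := hburn ψb hb1 s hsne (hC ▸ hcop)
    rw [h0] at hrel
    have hs' : (ψs : G → ℂ) s = -1 := by linear_combination -hrel
    rw [h0, hs', hds, hdb] at hN
    have h7 : (7 : ℂ) * ((N₀ : ℂ) * (Nat.card G : ℂ)) = 8 * (C.index : ℂ) ^ 2 := by
      rw [hN]
      simp only [map_zero, map_neg, map_one]
      norm_num
      ring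
    have h7n : 7 * (N₀ * Nat.card G) = 8 * C.index ^ 2 := by exact_mod_cast h7
    rw [hcard] at h7n ⊢
    have h147 : 147 * (N₀ * 2 ^ b) = 8 * C.index ^ 2 := by rw [← h7n]; ring
    have hdvd : C.index ∣ 21 := ⟨c, by rw [mul_comm]; exact hci.symm⟩
    have hmem : C.index ∈ Nat.divisors 21 := Nat.mem_divisors.mpr ⟨hdvd, by norm_num⟩
    have hdiv : Nat.divisors 21 = {1, 3, 7, 21} := by decide
    rw [hdiv] at hmem
    simp only [Finset.mem_insert, Finset.mem_singleton] at hmem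
    obtain ⟨t, ht⟩ : ∃ t, t = N₀ * 2 ^ b := ⟨_, rfl⟩
    rw [← ht] at h147
    rcases hmem with h | h | h | h <;> rw [h] at h147
    · omega
    · omega
    · omega
    · have ht24 : t = 24 := by omega
      have h2b : 2 ^ b ∣ 24 := ⟨N₀, by rw [← ht24, ht, mul_comm]⟩
      have hb3 : b ≤ 3 := by
        by_contra hh
        have h4 : 2 ^ 4 ∣ 2 ^ b := pow_dvd_pow 2 (by omega)
        have := h4.trans h2b
        norm_num at this
      have := Nat.pow_le_pow_right (by norm_num : 0 < 2) hb3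
      omega

end three

end Cfsg.Agent.Lib.helper29.BT
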