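import Mathlib

/-! S4501 piece AR2 : the degrees are `5, 3, 3` and the primes are `3, 5`. -/

set_option autoImplicit false

namespace Cfsg.Agent.Lib.helper29.BW

/-- primes dividing `4 p^a q^b`. -/
theorem helper29_ar2_prime_dvd (p q a b r : ℕ) (hp : p.Prime) (hq : q.Prime) (hr : r.Prime)
    (h : r ∣ 4 * p ^ a * q ^ b) : r = 2 ∨ r = p ∨ r = q := by
  rcases (Nat.Prime.dvd_mul hr).mp h with h1 | h1
  · rcases (Nat.Prime.dvd_mul hr).mp h1 with h2 | h2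
    · left
      have h3 : r ∣ 2 ^ 2 := by
        have : (2 : ℕ) ^ 2 = 4 := by norm_num
        rw [this]; exact h2
      exact (Nat.prime_dvd_prime_iff_eq hr Nat.prime_two).mp (hr.dvd_of_dvd_pow h3)
    · right; left
      exact (Nat.prime_dvd_prime_iff_eq hr hp).mp (hr.dvd_of_dvd_pow h2)
  · right; right
    exact (Nat.prime_dvd_prime_iff_eq hr hq).mp (hr.dvd_of_dvd_pow h1)

/-- coprime `{p,q}`-numbers `> 1`: one is a `p`-number, the other a `q`-number. -/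
theorem helper29_ar2_split (p q m n : ℕ)
    (hm : ∀ r : ℕ, r.Prime → r ∣ m → r = p ∨ r = q)
    (hn : ∀ r : ℕ, r.Prime → r ∣ n → r = p ∨ r = q)
    (hm1 : m ≠ 1) (hn1 : n ≠ 1) (hcop : Nat.Coprime m n) :
    (p ∣ m ∧ ¬ q ∣ m ∧ q ∣ n ∧ ¬ p ∣ n) ∨ (q ∣ m ∧ ¬ p ∣ m ∧ p ∣ n ∧ ¬ q ∣ n) := by
  obtain ⟨r, hr, hrm⟩ := Nat.exists_prime_and_dvd hm1
  obtain ⟨s, hs, hsn⟩ := Nat.exists_prime_and_dvd hn1
  have hno : ∀ t : ℕ, t.Prime → t ∣ m → t ∣ n → False := by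
    intro t ht h1 h2
    have h3 : t ∣ Nat.gcd m n := Nat.dvd_gcd h1 h2
    have h4 : Nat.gcd m n = 1 := hcop
    rw [h4] at h3
    exact ht.one_lt.ne' (Nat.dvd_one.mp h3)
  rcases hm r hr hrm with h1 | h1 <;> rcases hn s hs hsn with h2 | h2
  · exact (hno p (h1 ▸ hr) (h1 ▸ hrm) (h2 ▸ hsn)).elim
  · have hpP : p.Prime := h1 ▸ hr
    have hqP : q.Prime := h2 ▸ hs
    have hpm : p ∣ m := h1 ▸ hrm
    have hqn : q ∣ n := h2 ▸ hsn
    exact Or.inl ⟨hpm, fun h => hno q hqP h hqn, hqn, fun h => hno p hpP hpm h⟩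
  · have hqP : q.Prime := h1 ▸ hr
    have hpP : p.Prime := h2 ▸ hs
    have hqm : q ∣ m := h1 ▸ hrm
    have hpn : p ∣ n := h2 ▸ hsn
    exact Or.inr ⟨hqm, fun h => hno p hpP h hpn, hpn, fun h => hno q hqP hqm h⟩
  · exact (hno q (h1 ▸ hr) (h1 ▸ hrm) (h2 ▸ hsn)).elim

/-- an `s`-number bigger than `s` is divisible by `s^2`. -/
theorem helper29_ar2_sq (r s n : ℕ)
    (hn : ∀ t : ℕ, t.Prime → t ∣ n → t = r ∨ t = s) (hr : ¬ r ∣ n) (hs : s ∣ n) (hlt : s < n) :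
    s * s ∣ n := by
  obtain ⟨k, rfl⟩ := hs
  have hk1 : k ≠ 1 := by
    rintro rfl
    simp at hlt
  obtain ⟨t, ht, htk⟩ := Nat.exists_prime_and_dvd hk1
  rcases hn t ht (Dvd.dvd.mul_left htk s) with h | h
  · exact absurd (h ▸ (Dvd.dvd.mul_left htk s)) hr
  · exact Nat.mul_dvd_mul_left s (h ▸ htk)

/-- step (a): `β = 1` or `γ = 1`. -/
theorem helper29_ar2_stepa (p q A B C α β γ : ℕ) (hp : p.Prime) (hq : q.Prime)
    (hp2 : p ≠ 2) (hq2 : q ≠ 2)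
    (hA : ∀ r : ℕ, r.Prime → r ∣ A → r = p ∨ r = q)
    (hB : ∀ r : ℕ, r.Prime → r ∣ B → r = p ∨ r = q)
    (hC : ∀ r : ℕ, r.Prime → r ∣ C → r = p ∨ r = q)
    (hα : ∀ r : ℕ, r.Prime → r ∣ α → r = p ∨ r = q)
    (hβ : ∀ r : ℕ, r.Prime → r ∣ β → r = p ∨ r = q)
    (hγ : ∀ r : ℕ, r.Prime → r ∣ γ → r = p ∨ r = q)
    (eA : A + 1 = 2 * α) (eB : B = 2 * β + 1) (eC : C = 2 * γ + 1) (erel : α = β + γ + 1)
    (hβ1 : 1 ≤ β) (hγ1 : 1 ≤ γ) : β = 1 ∨ γ = 1 := by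
  by_contra hcon
  have hβn : β ≠ 1 := fun h => hcon (Or.inl h)
  have hγn : γ ≠ 1 := fun h => hcon (Or.inr h)
  have hαn : α ≠ 1 := by omega
  have hAn : A ≠ 1 := by omega
  have hBn : B ≠ 1 := by omega
  have hCn : C ≠ 1 := by omega
  have hcA : Nat.Coprime A α := by
    have h1 : Nat.gcd A α ∣ A := Nat.gcd_dvd_left A α
    have h2 : Nat.gcd A α ∣ 2 * α := Dvd.dvd.mul_left (Nat.gcd_dvd_right A α) 2
    rw [← eA] at h2
    exact Nat.dvd_one.mp ((Nat.dvd_add_right h1).mp h2)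
  have hcB : Nat.Coprime B β := by
    have h1 : Nat.gcd B β ∣ 2 * β + 1 := (Nat.gcd_dvd_left B β).trans (dvd_of_eq eB)
    have h2 : Nat.gcd B β ∣ 2 * β := Dvd.dvd.mul_left (Nat.gcd_dvd_right B β) 2
    exact Nat.dvd_one.mp ((Nat.dvd_add_right h2).mp h1)
  have hcC : Nat.Coprime C γ := by
    have h1 : Nat.gcd C γ ∣ 2 * γ + 1 := (Nat.gcd_dvd_left C γ).trans (dvd_of_eq eC)
    have h2 : Nat.gcd C γ ∣ 2 * γ := Dvd.dvd.mul_left (Nat.gcd_dvd_right C γ) 2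
    exact Nat.dvd_one.mp ((Nat.dvd_add_right h2).mp h1)
  have same : ∀ u v : ℕ, u.Prime → u ≠ 2 → v ≠ 1 → u ∣ B → u ∣ C → v ∣ β → v ∣ γ →
      (¬ u ∣ α ∨ v ∣ A) → False := by
    intro u v hu hu2 hv1 hBu hCu hβv hγv hAu
    have h1 : u ∣ 2 * α := by
      have h0 : 2 * α = B + C := by omega
      rw [h0]; exact dvd_add hBu hCu
    have h2 : u ∣ α := by
      rcases (Nat.Prime.dvd_mul hu).mp h1 with h | h
      · exact absurd ((Nat.prime_dvd_prime_iff_eq hu Nat.prime_two).mp h) hu2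
      · exact h
    rcases hAu with hAu | hAu
    · exact hAu h2
    · have h3 : v ∣ 2 * β + 2 * γ := dvd_add (Dvd.dvd.mul_left hβv 2) (Dvd.dvd.mul_left hγv 2)
      have h4 : v ∣ 2 * β + 2 * γ + 1 := by
        have h0 : A = 2 * β + 2 * γ + 1 := by omega
        rw [← h0]; exact hAu
      exact hv1 (Nat.dvd_one.mp ((Nat.dvd_add_right h3).mp h4))
  have diff : ∀ u v : ℕ, u ≠ 1 → v ≠ 1 → u ∣ B → v ∣ β → v ∣ C → u ∣ γ →
      (u ∣ α ∨ v ∣ α) → False := by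
    intro u v hu1 hv1 hBu hβv hCv hγu hαuv
    rcases hαuv with hαu | hαv
    · have h3 : u ∣ B + 2 * γ := dvd_add hBu (Dvd.dvd.mul_left hγu 2)
      have h4 : u ∣ B + 2 * γ + 1 := by
        have h0 : B + 2 * γ + 1 = 2 * α := by omega
        rw [h0]; exact Dvd.dvd.mul_left hαu 2
      exact hu1 (Nat.dvd_one.mp ((Nat.dvd_add_right h3).mp h4))
    · have h3 : v ∣ C + 2 * β := dvd_add hCv (Dvd.dvd.mul_left hβv 2)
      have h4 : v ∣ C + 2 * β + 1 := by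
        have h0 : C + 2 * β + 1 = 2 * α := by omega
        rw [h0]; exact Dvd.dvd.mul_left hαv 2
      exact hv1 (Nat.dvd_one.mp ((Nat.dvd_add_right h3).mp h4))
  have hp1 : p ≠ 1 := hp.one_lt.ne'
  have hq1 : q ≠ 1 := hq.one_lt.ne'
  rcases helper29_ar2_split p q A α hA hα hAn hαn hcA with ⟨a1, a2, a3, a4⟩ | ⟨a1, a2, a3, a4⟩ <;>
  rcases helper29_ar2_split p q B β hB hβ hBn hβn hcB with ⟨b1, b2, b3, b4⟩ | ⟨b1, b2, b3, b4⟩ <;>
  rcases helper29_ar2_split p q C γ hC hγ hCn hγn hcC with ⟨c1, c2, c3, c4⟩ | ⟨c1, c2, c3, c4⟩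
  · exact same p q hp hp2 hq1 b1 c1 b3 c3 (Or.inl a4)
  · exact diff p q hp1 hq1 b1 b3 c1 c3 (Or.inr a3)
  · exact diff q p hq1 hp1 b1 b3 c1 c3 (Or.inl a3)
  · exact same q p hq hq2 hp1 b1 c1 b3 c3 (Or.inr a1)
  · exact same p q hp hp2 hq1 b1 c1 b3 c3 (Or.inr a1)
  · exact diff p q hp1 hq1 b1 b3 c1 c3 (Or.inl a3)
  · exact diff q p hq1 hp1 b1 b3 c1 c3 (Or.inr a3)
  · exact same q p hq hq2 hp1 b1 c1 b3 c3 (Or.inl a4)

/-- step (b): `β = 1` forces `γ = 1`. -/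
theorem helper29_ar2_stepb (p q A C α γ : ℕ) (hp : p.Prime) (hq : q.Prime)
    (hA : ∀ r : ℕ, r.Prime → r ∣ A → r = p ∨ r = q)
    (hC : ∀ r : ℕ, r.Prime → r ∣ C → r = p ∨ r = q)
    (hα : ∀ r : ℕ, r.Prime → r ∣ α → r = p ∨ r = q)
    (eA : A + 1 = 2 * α) (eC : C = 2 * γ + 1) (erel : α = γ + 2)
    (hγ1 : 1 ≤ γ) : γ = 1 := by
  by_contra hγn
  have hαn : α ≠ 1 := by omega
  have hAn : A ≠ 1 := by omega
  have hCn : C ≠ 1 := by omega
  have hcA : Nat.Coprime A α := by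
    have h1 : Nat.gcd A α ∣ A := Nat.gcd_dvd_left A α
    have h2 : Nat.gcd A α ∣ 2 * α := Dvd.dvd.mul_left (Nat.gcd_dvd_right A α) 2
    rw [← eA] at h2
    exact Nat.dvd_one.mp ((Nat.dvd_add_right h1).mp h2)
  have hcAC : Nat.Coprime A C := by
    have h2 : Nat.gcd A C ∣ C := Nat.gcd_dvd_right A C
    have h0 : A = C + 2 := by omega
    have h1 : Nat.gcd A C ∣ C + 2 := (Nat.gcd_dvd_left A C).trans (dvd_of_eq h0)
    have h3 : Nat.gcd A C ∣ 2 := (Nat.dvd_add_right h2).mp h1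
    have h4 : Nat.gcd A C ≤ 2 := Nat.le_of_dvd (by norm_num) h3
    have h5 : Nat.gcd A C ≠ 0 := by
      intro h
      rw [h] at h2
      have := Nat.eq_zero_of_zero_dvd h2
      omega
    have h6 : Nat.gcd A C ≠ 2 := by
      intro h
      rw [h] at h2
      omega
    show Nat.gcd A C = 1
    omega
  have fin : ∀ r s : ℕ, s.Prime → (∀ t : ℕ, t.Prime → t ∣ C → t = r ∨ t = s) →
      (∀ t : ℕ, t.Prime → t ∣ α → t = r ∨ t = s) → ¬ r ∣ C → ¬ r ∣ α → s ∣ C → s ∣ α →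
      False := by
    intro r s hs hCt hαt hrC hrα hsC hsα
    have e : C + 3 = 2 * α := by omega
    have h3 : s ∣ 3 := by
      have h1 : s ∣ C + 3 := by rw [e]; exact Dvd.dvd.mul_left hsα 2
      exact (Nat.dvd_add_right hsC).mp h1
    have hs3 : s = 3 := (Nat.prime_dvd_prime_iff_eq hs Nat.prime_three).mp h3
    subst hs3
    have h9C : 3 * 3 ∣ C := helper29_ar2_sq r 3 C hCt hrC hsC (by omega)
    have h9α : 3 * 3 ∣ α := helper29_ar2_sq r 3 α hαt hrα hsα (by omega)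
    have h9 : 3 * 3 ∣ C + 3 := by rw [e]; exact Dvd.dvd.mul_left h9α 2
    have h93 : 3 * 3 ∣ 3 := (Nat.dvd_add_right h9C).mp h9
    have := Nat.le_of_dvd (by norm_num) h93
    omega
  rcases helper29_ar2_split p q A α hA hα hAn hαn hcA with ⟨a1, a2, a3, a4⟩ | ⟨a1, a2, a3, a4⟩ <;>
  rcases helper29_ar2_split p q A C hA hC hAn hCn hcAC with ⟨c1, c2, c3, c4⟩ | ⟨c1, c2, c3, c4⟩
  · exact fin p q hq hC hα c4 a4 c3 a3
  · exact a2 c1
  · exact a2 c1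
  · exact fin q p hp (fun t ht h => (hC t ht h).symm) (fun t ht h => (hα t ht h).symm) c4 a4 c3 a3

/-- AR2 (sign `-`): the degrees are `5, 3, 3` and the primes are `3, 5`. -/
theorem ar_minus (p q a b A B C cJ cP : ℕ) (hp : p.Prime) (hq : q.Prime) (hpq : p ≠ q)
    (hp2 : p ≠ 2) (hq2 : q ≠ 2)
    (hA4 : A % 4 = 1) (hB4 : B % 4 = 3) (hC4 : C % 4 = 3) (hA1 : 1 < A) (hrel : 1 + A = B + C)
    (hAd : A ∣ 4 * p ^ a * q ^ b) (hBd : B ∣ 4 * p ^ a * q ^ b) (hCd : C ∣ 4 * p ^ a * q ^ b)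
    (hcJ : cJ ∣ 4 * p ^ a * q ^ b)
    (hform : (4 * p ^ a * q ^ b) * ((A + 1) * (B - 1) * (C - 1)) * cP ^ 2
      = 8 * (A * B * C) * cJ ^ 3) :
    A = 5 ∧ B = 3 ∧ C = 3 ∧ ((p = 3 ∧ q = 5) ∨ (p = 5 ∧ q = 3)) := by
  obtain ⟨α, eA⟩ : ∃ α, A + 1 = 2 * α := ⟨(A + 1) / 2, by omega⟩
  obtain ⟨β, eB⟩ : ∃ β, B = 2 * β + 1 := ⟨B / 2, by omega⟩
  obtain ⟨γ, eC⟩ : ∃ γ, C = 2 * γ + 1 := ⟨C / 2, by omega⟩
  have hαodd : α % 2 = 1 := by omega
  have hβodd : β % 2 = 1 := by omega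
  have hγodd : γ % 2 = 1 := by omega
  have erel : α = β + γ + 1 := by omega
  -- odd divisors of `4 p^a q^b`
  have hG : ∀ n : ℕ, n % 2 = 1 → n ∣ 4 * p ^ a * q ^ b →
      ∀ r : ℕ, r.Prime → r ∣ n → r = p ∨ r = q := by
    intro n hn hnd r hr hrn
    rcases helper29_ar2_prime_dvd p q a b r hp hq hr (hrn.trans hnd) with h | h | h
    · exfalso
      rw [h] at hrn
      omega
    · exact Or.inl h
    · exact Or.inr h
  have hA := hG A (by omega) hAd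
  have hB := hG B (by omega) hBd
  have hC := hG C (by omega) hCd
  -- primes dividing `(A+1)(B-1)(C-1)`
  have hX : ∀ r : ℕ, r.Prime → r ∣ (A + 1) * (B - 1) * (C - 1) → r = 2 ∨ r = p ∨ r = q := by
    intro r hr hrd
    have h1 : r ∣ 8 * (A * B * C) * cJ ^ 3 := by
      rw [← hform]
      exact Dvd.dvd.mul_right (Dvd.dvd.mul_left hrd _) _
    rcases (Nat.Prime.dvd_mul hr).mp h1 with h2 | h2
    · rcases (Nat.Prime.dvd_mul hr).mp h2 with h3 | h3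
      · left
        have h4 : r ∣ 2 ^ 3 := by
          have : (2 : ℕ) ^ 3 = 8 := by norm_num
          rw [this]; exact h3
        exact (Nat.prime_dvd_prime_iff_eq hr Nat.prime_two).mp (hr.dvd_of_dvd_pow h4)
      · rcases (Nat.Prime.dvd_mul hr).mp h3 with h4 | h4
        · rcases (Nat.Prime.dvd_mul hr).mp h4 with h5 | h5
          · exact helper29_ar2_prime_dvd p q a b r hp hq hr (h5.trans hAd)
          · exact helper29_ar2_prime_dvd p q a b r hp hq hr (h5.trans hBd)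
        · exact helper29_ar2_prime_dvd p q a b r hp hq hr (h4.trans hCd)
    · exact helper29_ar2_prime_dvd p q a b r hp hq hr ((hr.dvd_of_dvd_pow h2).trans hcJ)
  have hY : ∀ n : ℕ, n % 2 = 1 → n ∣ (A + 1) * (B - 1) * (C - 1) →
      ∀ r : ℕ, r.Prime → r ∣ n → r = p ∨ r = q := by
    intro n hn hnd r hr hrn
    rcases hX r hr (hrn.trans hnd) with h | h | h
    · exfalso
      rw [h] at hrn
      omega
    · exact Or.inl h
    · exact Or.inr h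
  have hα := hY α hαodd (by
    rw [eA]
    exact Dvd.dvd.mul_right (Dvd.dvd.mul_right (Dvd.intro_left 2 rfl) _) _)
  have hβ := hY β hβodd (by
    have h0 : B - 1 = 2 * β := by omega
    rw [h0]
    exact Dvd.dvd.mul_right (Dvd.dvd.mul_left (Dvd.intro_left 2 rfl) _) _)
  have hγ := hY γ hγodd (by
    have h0 : C - 1 = 2 * γ := by omega
    rw [h0]
    exact Dvd.dvd.mul_left (Dvd.intro_left 2 rfl) _)
  have hβ1 : 1 ≤ β := by omega
  have hγ1 : 1 ≤ γ := by omega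
  have hboth : β = 1 ∧ γ = 1 := by
    rcases helper29_ar2_stepa p q A B C α β γ hp hq hp2 hq2 hA hB hC hα hβ hγ eA eB eC erel
      hβ1 hγ1 with h | h
    · exact ⟨h, helper29_ar2_stepb p q A C α γ hp hq hA hC hα eA eC (by omega) hγ1⟩
    · exact ⟨helper29_ar2_stepb p q A B α β hp hq hA hB hα eA eB (by omega) hβ1, h⟩
  obtain ⟨hβe, hγe⟩ := hboth
  have hA5 : A = 5 := by omega
  have hB3 : B = 3 := by omega
  have hC3 : C = 3 := by omega
  refine ⟨hA5, hB3, hC3, ?_⟩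
  have h5 : 5 = p ∨ 5 = q := hA 5 (by norm_num) (by rw [hA5])
  have h3 : 3 = p ∨ 3 = q := hB 3 (by norm_num) (by rw [hB3])
  rcases h5 with h5 | h5 <;> rcases h3 with h3 | h3
  · omega
  · exact Or.inr ⟨h5.symm, h3.symm⟩
  · exact Or.inl ⟨h3.symm, h5.symm⟩
  · omega

end Cfsg.Agent.Lib.helper29.BW
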