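import Mathlib
import Cfsg.Agent.Lib.helper16.CG33Defs

/-!
# S3412 piece ALG (helper29): algebra of the matrices `tvM v φ = 1 + v φᵀ` over `F_3`
-/

set_option autoImplicit false

open Matrix
open Cfsg.Agent.Lib.helper16.CG33

namespace Cfsg.Agent.Lib.helper29.CG33

/-- PIECE ALG (1/4). -/
theorem det_tvM (v φ : Fin 3 → ZMod 3) (h : φ ⬝ᵥ v = 0) : (tvM v φ).det = 1 := by
  unfold tvM
  rw [Matrix.vecMulVec_eq (ι := Unit), Matrix.det_one_add_replicateCol_mul_replicateRow, h,
    add_zero]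

theorem alg_scalar : ∀ x : ZMod 3, x ≠ 0 → x = 1 ∨ x = -1 := by decide

theorem alg_exists_ne {v : Fin 3 → ZMod 3} (hv : v ≠ 0) : ∃ a, v a ≠ 0 := by
  by_contra hh
  apply hv
  funext a
  by_contra ha
  exact hh ⟨a, ha⟩

/-- PIECE ALG (2/4): rank one matrices over `F_3`. -/
theorem tvM_eq_iff (v φ w ψ : Fin 3 → ZMod 3) (hv : v ≠ 0) (hφ : φ ≠ 0) (hw : w ≠ 0)
    (hψ : ψ ≠ 0) : tvM v φ = tvM w ψ ↔ (w = v ∧ ψ = φ) ∨ (w = -v ∧ ψ = -φ) := by
  constructor
  · intro h
    have key : ∀ a b, v a * φ b = w a * ψ b := by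
      intro a b
      have h1 := congrFun (congrFun h a) b
      simp only [tvM, Matrix.add_apply, Matrix.vecMulVec_apply] at h1
      exact add_left_cancel h1
    obtain ⟨b, hb⟩ := alg_exists_ne hψ
    obtain ⟨a, ha⟩ := alg_exists_ne hv
    obtain ⟨a', ha'⟩ := alg_exists_ne hw
    have hφb : φ b ≠ 0 := by
      intro h0
      have := key a' b
      rw [h0, mul_zero] at this
      exact (mul_ne_zero ha' hb) this.symm
    rcases alg_scalar _ hb with h1 | h1 <;> rcases alg_scalar _ hφb with h2 | h2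
    · left
      have hwv : w = v := by
        funext x
        have := key x b
        rw [h1, h2, mul_one, mul_one] at this
        exact this.symm
      refine ⟨hwv, ?_⟩
      funext y
      have := key a y
      rw [hwv] at this
      exact (mul_left_cancel₀ ha this).symm
    · right
      have hwv : w = -v := by
        funext x
        have := key x b
        rw [h1, h2, mul_one, mul_neg, mul_one] at this
        rw [Pi.neg_apply, this]
      refine ⟨hwv, ?_⟩
      funext y
      have := key a y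
      rw [hwv, Pi.neg_apply, neg_mul, ← mul_neg] at this
      rw [Pi.neg_apply, mul_left_cancel₀ ha this, neg_neg]
    · right
      have hwv : w = -v := by
        funext x
        have := key x b
        rw [h1, h2, mul_one, mul_neg, mul_one] at this
        rw [Pi.neg_apply, this, neg_neg]
      refine ⟨hwv, ?_⟩
      funext y
      have := key a y
      rw [hwv, Pi.neg_apply, neg_mul, ← mul_neg] at this
      rw [Pi.neg_apply, mul_left_cancel₀ ha this, neg_neg]
    · left
      have hwv : w = v := by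
        funext x
        have := key x b
        rw [h1, h2, mul_neg, mul_neg, mul_one, mul_one] at this
        exact (neg_injective this).symm
      refine ⟨hwv, ?_⟩
      funext y
      have := key a y
      rw [hwv] at this
      exact (mul_left_cancel₀ ha this).symm
  · rintro (⟨rfl, rfl⟩ | ⟨rfl, rfl⟩)
    · rfl
    · unfold tvM
      congr 1
      ext a b
      simp [Matrix.vecMulVec_apply]

/-- PIECE ALG (3/4): two transvections commute iff the centre of each lies on the axis of the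
other. -/
theorem tvM_comm_iff (v φ w ψ : Fin 3 → ZMod 3) (hv : v ≠ 0) (hφ : φ ≠ 0) (hw : w ≠ 0)
    (hψ : ψ ≠ 0) (h1 : φ ⬝ᵥ v = 0) (h2 : ψ ⬝ᵥ w = 0) :
    tvM v φ * tvM w ψ = tvM w ψ * tvM v φ ↔ (φ ⬝ᵥ w = 0 ∧ ψ ⬝ᵥ v = 0) := by
  have expand : ∀ (v φ w ψ : Fin 3 → ZMod 3), tvM v φ * tvM w ψ =
      1 + vecMulVec v φ + vecMulVec w ψ + vecMulVec v ((φ ⬝ᵥ w) • ψ) := by
    intro v φ w ψ
    unfold tvM
    rw [add_mul, mul_add, mul_add, one_mul, mul_one, one_mul, Matrix.vecMulVec_mul_vecMulVec]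
    abel
  rw [expand, expand]
  constructor
  · intro h
    have key : ∀ a b, (φ ⬝ᵥ w) * v a * ψ b = (ψ ⬝ᵥ v) * w a * φ b := by
      intro a b
      have h3 := congrFun (congrFun h a) b
      simp only [Matrix.add_apply, Matrix.vecMulVec_apply, Pi.smul_apply, smul_eq_mul] at h3
      linear_combination h3
    obtain ⟨b0, hb0⟩ := alg_exists_ne hψ
    obtain ⟨a0, ha0⟩ := alg_exists_ne hv
    obtain ⟨a1, ha1⟩ := alg_exists_ne hw
    obtain ⟨b1, hb1⟩ := alg_exists_ne hφ
    have hprod : (φ ⬝ᵥ w) * ψ b0 * (ψ ⬝ᵥ v) = 0 := by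
      have e1 : (φ ⬝ᵥ w) * ψ b0 * (ψ ⬝ᵥ v) = ∑ a, ψ a * ((φ ⬝ᵥ w) * v a * ψ b0) := by
        simp only [dotProduct, Finset.mul_sum]
        apply Finset.sum_congr rfl
        intro a _
        ring
      have e2 : ∑ a, ψ a * ((ψ ⬝ᵥ v) * w a * φ b0) = (ψ ⬝ᵥ v) * φ b0 * (ψ ⬝ᵥ w) := by
        simp only [dotProduct, Finset.mul_sum]
        apply Finset.sum_congr rfl
        intro a _
        ring
      rw [e1]
      simp only [key]
      rw [e2, h2, mul_zero]
    rcases mul_eq_zero.mp hprod with h4 | h4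
    · rcases mul_eq_zero.mp h4 with h5 | h5
      · refine ⟨h5, ?_⟩
        have := key a1 b1
        rw [h5, zero_mul, zero_mul] at this
        rcases mul_eq_zero.mp this.symm with h6 | h6
        · rcases mul_eq_zero.mp h6 with h7 | h7
          · exact h7
          · exact absurd h7 ha1
        · exact absurd h6 hb1
      · exact absurd h5 hb0
    · have := key a0 b0
      rw [h4, zero_mul, zero_mul] at this
      rcases mul_eq_zero.mp this with h6 | h6
      · rcases mul_eq_zero.mp h6 with h7 | h7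
        · exact ⟨h7, h4⟩
        · exact absurd h7 ha0
      · exact absurd h6 hb0
  · rintro ⟨h3, h4⟩
    rw [h3, h4, zero_smul, zero_smul]
    simp only [Matrix.vecMulVec_zero, add_zero]
    abel

/-- PIECE ALG (4/4): `g (1 + v φᵀ) g⁻¹ = 1 + (g v) (φᵀ g⁻¹)`. -/
theorem conj_tvM (g : S33) (v φ : Fin 3 → ZMod 3) :
    (g : Matrix (Fin 3) (Fin 3) (ZMod 3)) * tvM v φ *
        ((g⁻¹ : S33) : Matrix (Fin 3) (Fin 3) (ZMod 3)) =
      tvM ((g : Matrix (Fin 3) (Fin 3) (ZMod 3)) *ᵥ v)
        (φ ᵥ* ((g⁻¹ : S33) : Matrix (Fin 3) (Fin 3) (ZMod 3))) := by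
  unfold tvM
  have h1 : (g : Matrix (Fin 3) (Fin 3) (ZMod 3)) *
      ((g⁻¹ : S33) : Matrix (Fin 3) (Fin 3) (ZMod 3)) = 1 := by
    rw [← Matrix.SpecialLinearGroup.coe_mul, mul_inv_cancel, Matrix.SpecialLinearGroup.coe_one]
  rw [mul_add, add_mul, mul_one, h1, Matrix.mul_vecMulVec, Matrix.vecMulVec_mul]

end Cfsg.Agent.Lib.helper29.CG33
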