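import Mathlib
import Cfsg.Agent.Lib.helper16.CG33Defs

/-!
# S3412 piece LA (helper29): `v, w ∈ φ^⊥ ∩ ψ^⊥` in `F_3^3` forces `w = ± v` or `ψ = ± φ`
-/

set_option autoImplicit false

open Matrix
open Cfsg.Agent.Lib.helper16.CG33

namespace Cfsg.Agent.Lib.helper29.CG33

set_option maxRecDepth 100000 in
set_option synthInstance.maxSize 100000 in
set_option synthInstance.maxHeartbeats 0 in
/-- two non-zero vectors of `F_3^3` with vanishing cross product are equal up to sign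
(coordinate form). -/
theorem la_par : ∀ a0 a1 a2 b0 b1 b2 : ZMod 3,
    (a0 ≠ 0 ∨ a1 ≠ 0 ∨ a2 ≠ 0) → (b0 ≠ 0 ∨ b1 ≠ 0 ∨ b2 ≠ 0) →
    a1 * b2 - a2 * b1 = 0 → a2 * b0 - a0 * b2 = 0 → a0 * b1 - a1 * b0 = 0 →
    (b0 = a0 ∧ b1 = a1 ∧ b2 = a2) ∨ (b0 = -a0 ∧ b1 = -a1 ∧ b2 = -a2) := by
  decide +kernel

theorem la_ne {v : Fin 3 → ZMod 3} (hv : v ≠ 0) : v 0 ≠ 0 ∨ v 1 ≠ 0 ∨ v 2 ≠ 0 := by
  by_contra hh
  apply hv
  funext a
  by_contra ha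
  apply hh
  fin_cases a
  · exact Or.inl ha
  · exact Or.inr (Or.inl ha)
  · exact Or.inr (Or.inr ha)

theorem la_eq {v w : Fin 3 → ZMod 3} (h : w 0 = v 0 ∧ w 1 = v 1 ∧ w 2 = v 2) : w = v := by
  funext a
  fin_cases a
  · exact h.1
  · exact h.2.1
  · exact h.2.2

theorem la_eq_neg {v w : Fin 3 → ZMod 3} (h : w 0 = -v 0 ∧ w 1 = -v 1 ∧ w 2 = -v 2) :
    w = -v := by
  funext a
  fin_cases a
  · exact h.1
  · exact h.2.1
  · exact h.2.2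

/-- vector form of `la_par`. -/
theorem la_par' (a b : Fin 3 → ZMod 3) (ha : a ≠ 0) (hb : b ≠ 0)
    (h0 : a 1 * b 2 - a 2 * b 1 = 0) (h1 : a 2 * b 0 - a 0 * b 2 = 0)
    (h2 : a 0 * b 1 - a 1 * b 0 = 0) : b = a ∨ b = -a := by
  rcases la_par (a 0) (a 1) (a 2) (b 0) (b 1) (b 2) (la_ne ha) (la_ne hb) h0 h1 h2 with h | h
  · exact Or.inl (la_eq h)
  · exact Or.inr (la_eq_neg h)

/-- PIECE LA: if `v, w ∈ φ^⊥ ∩ ψ^⊥` then `w = ± v` or `ψ = ± φ`. -/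
theorem la (v φ w ψ : Fin 3 → ZMod 3) (hv : v ≠ 0) (hφ : φ ≠ 0) (hw : w ≠ 0) (hψ : ψ ≠ 0)
    (h1 : φ ⬝ᵥ v = 0) (h2 : φ ⬝ᵥ w = 0) (h3 : ψ ⬝ᵥ v = 0) (h4 : ψ ⬝ᵥ w = 0) :
    (w = v ∨ w = -v) ∨ (ψ = φ ∨ ψ = -φ) := by
  simp only [dotProduct, Fin.sum_univ_three] at h1 h2 h3 h4
  -- the cross product `n = v × w`
  obtain ⟨n, hn⟩ : ∃ n : Fin 3 → ZMod 3, n = ![v 1 * w 2 - v 2 * w 1, v 2 * w 0 - v 0 * w 2,
      v 0 * w 1 - v 1 * w 0] := ⟨_, rfl⟩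
  have n0 : n 0 = v 1 * w 2 - v 2 * w 1 := by rw [hn]; rfl
  have n1 : n 1 = v 2 * w 0 - v 0 * w 2 := by rw [hn]; rfl
  have n2 : n 2 = v 0 * w 1 - v 1 * w 0 := by rw [hn]; rfl
  by_cases hn0 : n = 0
  · left
    have e0 : v 1 * w 2 - v 2 * w 1 = 0 := by rw [← n0, hn0]; rfl
    have e1 : v 2 * w 0 - v 0 * w 2 = 0 := by rw [← n1, hn0]; rfl
    have e2 : v 0 * w 1 - v 1 * w 0 = 0 := by rw [← n2, hn0]; rfl
    exact la_par' v w hv hw e0 e1 e2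
  · right
    -- `φ × n = (φ·w) v - (φ·v) w = 0`
    have hφn : n = φ ∨ n = -φ := by
      apply la_par' φ n hφ hn0
      · rw [n1, n2]; linear_combination (v 0) * h2 - (w 0) * h1
      · rw [n0, n2]; linear_combination (v 1) * h2 - (w 1) * h1
      · rw [n0, n1]; linear_combination (v 2) * h2 - (w 2) * h1
    have hψn : n = ψ ∨ n = -ψ := by
      apply la_par' ψ n hψ hn0
      · rw [n1, n2]; linear_combination (v 0) * h4 - (w 0) * h3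
      · rw [n0, n2]; linear_combination (v 1) * h4 - (w 1) * h3
      · rw [n0, n1]; linear_combination (v 2) * h4 - (w 2) * h3
    rcases hφn with e1 | e1 <;> rcases hψn with e2 | e2
    · left; exact e2.symm.trans e1
    · right
      have e3 : -ψ = φ := e2.symm.trans e1
      rw [← e3, neg_neg]
    · right; exact e2.symm.trans e1
    · left; exact neg_injective (e2.symm.trans e1)

end Cfsg.Agent.Lib.helper29.CG33
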