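import Mathlib
import Cfsg.Agent.Lib.helper16.CG33Defs

/-!
# S3412 piece TRANS (helper29): every transvection of `SL(3,3)` is conjugate to `1 + E₁₃`
-/

set_option autoImplicit false

open Matrix
open Cfsg.Agent.Lib.helper16.CG33

namespace Cfsg.Agent.Lib.helper29.CG33

set_option maxRecDepth 100000 in
set_option synthInstance.maxSize 100000 in
set_option synthInstance.maxHeartbeats 0 in
/-- completion of `v` to a matrix `[v | u | w]` of determinant `1` with `φ·u = 0`, `φ·w = 1`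
(coordinate form). -/
theorem trans_aux : ∀ v0 v1 v2 f0 f1 f2 : ZMod 3,
    (v0 ≠ 0 ∨ v1 ≠ 0 ∨ v2 ≠ 0) → (f0 ≠ 0 ∨ f1 ≠ 0 ∨ f2 ≠ 0) →
    f0 * v0 + f1 * v1 + f2 * v2 = 0 →
    ∃ u0 u1 u2 w0 w1 w2 : ZMod 3,
      f0 * u0 + f1 * u1 + f2 * u2 = 0 ∧ f0 * w0 + f1 * w1 + f2 * w2 = 1 ∧
      v0 * u1 * w2 - v0 * w1 * u2 - u0 * v1 * w2 + u0 * w1 * v2 + w0 * v1 * u2
        - w0 * u1 * v2 = 1 := by
  decide +kernel

theorem trans_ne {v : Fin 3 → ZMod 3} (hv : v ≠ 0) : v 0 ≠ 0 ∨ v 1 ≠ 0 ∨ v 2 ≠ 0 := by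
  by_contra hh
  apply hv
  funext a
  by_contra ha
  apply hh
  fin_cases a
  · exact Or.inl ha
  · exact Or.inr (Or.inl ha)
  · exact Or.inr (Or.inr ha)

/-- PIECE TRANS: every transvection of `SL(3,3)` is conjugate to `x₀ = tvM e₁ e₃`. -/
theorem exists_conj (v φ : Fin 3 → ZMod 3) (hv : v ≠ 0) (hφ : φ ≠ 0) (h : φ ⬝ᵥ v = 0) :
    ∃ g : S33, (g : Matrix (Fin 3) (Fin 3) (ZMod 3)) * tvM ![1, 0, 0] ![0, 0, 1] =
      tvM v φ * (g : Matrix (Fin 3) (Fin 3) (ZMod 3)) := by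
  simp only [dotProduct, Fin.sum_univ_three] at h
  obtain ⟨u0, u1, u2, w0, w1, w2, hu, hw, hdet⟩ :=
    trans_aux (v 0) (v 1) (v 2) (φ 0) (φ 1) (φ 2) (trans_ne hv) (trans_ne hφ) h
  have hd : (!![v 0, u0, w0; v 1, u1, w1; v 2, u2, w2] : Matrix (Fin 3) (Fin 3) (ZMod 3)).det
      = 1 := by
    rw [Matrix.det_fin_three]
    simp
    linear_combination hdet
  refine ⟨⟨!![v 0, u0, w0; v 1, u1, w1; v 2, u2, w2], hd⟩, ?_⟩
  show (!![v 0, u0, w0; v 1, u1, w1; v 2, u2, w2] : Matrix (Fin 3) (Fin 3) (ZMod 3)) *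
      tvM ![1, 0, 0] ![0, 0, 1] =
    tvM v φ * (!![v 0, u0, w0; v 1, u1, w1; v 2, u2, w2] : Matrix (Fin 3) (Fin 3) (ZMod 3))
  unfold tvM
  rw [mul_add, add_mul, mul_one, one_mul, Matrix.mul_vecMulVec, Matrix.vecMulVec_mul]
  congr 1
  ext i j
  rw [Matrix.vecMulVec_apply, Matrix.vecMulVec_apply]
  have e1 : (!![v 0, u0, w0; v 1, u1, w1; v 2, u2, w2] : Matrix (Fin 3) (Fin 3) (ZMod 3)) *ᵥ
      ![1, 0, 0] = v := by
    funext a
    fin_cases a <;> simp [Matrix.mulVec, dotProduct, Fin.sum_univ_three]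
  have e2 : φ ᵥ* (!![v 0, u0, w0; v 1, u1, w1; v 2, u2, w2] :
      Matrix (Fin 3) (Fin 3) (ZMod 3)) = ![0, 0, 1] := by
    funext a
    fin_cases a
    · simp [Matrix.vecMul, dotProduct, Fin.sum_univ_three]
      linear_combination h
    · simp [Matrix.vecMul, dotProduct, Fin.sum_univ_three]
      linear_combination hu
    · simp [Matrix.vecMul, dotProduct, Fin.sum_univ_three]
      linear_combination hw
  rw [e1, e2]

end Cfsg.Agent.Lib.helper29.CG33
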