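import Mathlib
import Cfsg.Agent.Lib.helper16.CG33Defs

/-!
# S3412 piece U27 (helper29): the upper unitriangular subgroup of `SL(3,3)` and its centralizer
-/

set_option autoImplicit false

open Matrix
open Cfsg.Agent.Lib.helper16.CG33

namespace Cfsg.Agent.Lib.helper29.CG33

theorem u27_mul (A B : S33) (i j : Fin 3) :
    (A * B).1 i j = A.1 i 0 * B.1 0 j + A.1 i 1 * B.1 1 j + A.1 i 2 * B.1 2 j := by
  rw [Matrix.SpecialLinearGroup.coe_mul, Matrix.mul_apply, Fin.sum_univ_three]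

theorem u27_ext {A B : Matrix (Fin 3) (Fin 3) (ZMod 3)}
    (h00 : A 0 0 = B 0 0) (h01 : A 0 1 = B 0 1) (h02 : A 0 2 = B 0 2)
    (h10 : A 1 0 = B 1 0) (h11 : A 1 1 = B 1 1) (h12 : A 1 2 = B 1 2)
    (h20 : A 2 0 = B 2 0) (h21 : A 2 1 = B 2 1) (h22 : A 2 2 = B 2 2) : A = B := by
  ext i j
  fin_cases i <;> fin_cases j
  · exact h00
  · exact h01
  · exact h02
  · exact h10
  · exact h11
  · exact h12
  · exact h20
  · exact h21
  · exact h22

/-- the upper unitriangular matrix with entries `a, b, c` above the diagonal. -/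
def uMat (a b c : ZMod 3) : S33 :=
  ⟨!![1, a, b; 0, 1, c; 0, 0, 1], by rw [Matrix.det_fin_three]; simp⟩

/-- the upper unitriangular subgroup of `SL(3,3)`. -/
def U27 : Subgroup S33 where
  carrier := {g | g.1 1 0 = 0 ∧ g.1 2 0 = 0 ∧ g.1 2 1 = 0 ∧ g.1 0 0 = 1 ∧ g.1 1 1 = 1 ∧
    g.1 2 2 = 1}
  mul_mem' := by
    rintro a b ⟨a10, a20, a21, a00, a11, a22⟩ ⟨b10, b20, b21, b00, b11, b22⟩
    refine ⟨?_, ?_, ?_, ?_, ?_, ?_⟩ <;> rw [u27_mul] <;>
      simp [a10, a20, a21, a00, a11, a22, b10, b20, b21, b00, b11, b22]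
  one_mem' := by
    refine ⟨?_, ?_, ?_, ?_, ?_, ?_⟩ <;> simp
  inv_mem' := by
    rintro a ⟨a10, a20, a21, a00, a11, a22⟩
    refine ⟨?_, ?_, ?_, ?_, ?_, ?_⟩ <;>
      rw [Matrix.SpecialLinearGroup.coe_inv, Matrix.adjugate_fin_three] <;>
      simp [a10, a20, a21, a00, a11, a22]

theorem mem_U27 (g : S33) : g ∈ U27 ↔ (g.1 1 0 = 0 ∧ g.1 2 0 = 0 ∧ g.1 2 1 = 0 ∧
    g.1 0 0 = 1 ∧ g.1 1 1 = 1 ∧ g.1 2 2 = 1) := Iff.rfl

theorem uMat_mem (a b c : ZMod 3) : uMat a b c ∈ U27 := by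
  rw [mem_U27]
  refine ⟨?_, ?_, ?_, ?_, ?_, ?_⟩ <;> rfl

theorem eq_uMat (g : S33) (hg : g ∈ U27) : g = uMat (g.1 0 1) (g.1 0 2) (g.1 1 2) := by
  obtain ⟨g10, g20, g21, g00, g11, g22⟩ := hg
  apply Subtype.ext
  apply u27_ext
  · exact g00
  · rfl
  · rfl
  · exact g10
  · exact g11
  · rfl
  · exact g20
  · exact g21
  · exact g22

/-- `U27 ≃ F_3^3`. -/
def u27Equiv : U27 ≃ ZMod 3 × ZMod 3 × ZMod 3 where
  toFun g := (g.1.1 0 1, g.1.1 0 2, g.1.1 1 2)
  invFun t := ⟨uMat t.1 t.2.1 t.2.2, uMat_mem _ _ _⟩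
  left_inv g := by
    apply Subtype.ext
    exact (eq_uMat g.1 g.2).symm
  right_inv t := rfl

theorem card_U27 : Nat.card U27 = 27 := by
  rw [Nat.card_congr u27Equiv, Nat.card_prod, Nat.card_prod, Nat.card_eq_fintype_card,
    ZMod.card]

theorem u27_scalar : ∀ a : ZMod 3, a * a * a = 1 → a = 1 := by decide

theorem u27_cases : ∀ b : ZMod 3, b = 0 ∨ b = 1 ∨ b = 2 := by decide

/-- PIECE U27: the upper unitriangular subgroup `U` (order 27), its centralizer
`{1, x₀, x₀⁻¹}` with `x₀ = 1 + E₁₃ = tvM e₁ e₃`, and `U ≤ C(x₀)`. -/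
theorem exists_U : ∃ U : Subgroup S33, Nat.card U = 27 ∧
    (∀ g : S33, (∀ u ∈ U, g * u = u * g) →
      (g : Matrix (Fin 3) (Fin 3) (ZMod 3)) = 1 ∨
      (g : Matrix (Fin 3) (Fin 3) (ZMod 3)) = tvM ![1, 0, 0] ![0, 0, 1] ∨
      (g : Matrix (Fin 3) (Fin 3) (ZMod 3)) = tvM ![1, 0, 0] ![0, 0, 2]) ∧
    (∀ u ∈ U, ∀ x : S33, (x : Matrix (Fin 3) (Fin 3) (ZMod 3)) = tvM ![1, 0, 0] ![0, 0, 1] →
      u * x = x * u) := by
  refine ⟨U27, card_U27, ?_, ?_⟩
  · intro g hg
    have h1 := hg (uMat 1 0 0) (uMat_mem _ _ _)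
    have h2 := hg (uMat 0 0 1) (uMat_mem _ _ _)
    have ent : ∀ (a b c : ZMod 3) (i j : Fin 3), g * uMat a b c = uMat a b c * g →
        g.1 i 0 * (uMat a b c).1 0 j + g.1 i 1 * (uMat a b c).1 1 j +
          g.1 i 2 * (uMat a b c).1 2 j =
        (uMat a b c).1 i 0 * g.1 0 j + (uMat a b c).1 i 1 * g.1 1 j +
          (uMat a b c).1 i 2 * g.1 2 j := by
      intro a b c i j h
      rw [← u27_mul, ← u27_mul, h]
    have g10 : g.1 1 0 = 0 := by
      have := ent 1 0 0 0 0 h1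
      simp [uMat] at this
      exact this
    have g12 : g.1 1 2 = 0 := by
      have := ent 1 0 0 0 2 h1
      simp [uMat] at this
      exact this
    have g0011 : g.1 0 0 = g.1 1 1 := by
      have := ent 1 0 0 0 1 h1
      simp [uMat] at this
      linear_combination this
    have g20 : g.1 2 0 = 0 := by
      have := ent 1 0 0 2 1 h1
      simp [uMat] at this
      exact this
    have g01 : g.1 0 1 = 0 := by
      have := ent 0 0 1 0 2 h2
      simp [uMat] at this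
      exact this
    have g21 : g.1 2 1 = 0 := by
      have := ent 0 0 1 1 1 h2
      simp [uMat] at this
      exact this
    have g1122 : g.1 1 1 = g.1 2 2 := by
      have := ent 0 0 1 1 2 h2
      simp [uMat] at this
      linear_combination this
    have hdet := g.2
    rw [Matrix.det_fin_three, g10, g12, g20, g01, g21, g0011, ← g1122] at hdet
    have ha : g.1 1 1 = 1 := by
      apply u27_scalar
      linear_combination hdet
    have g00 : g.1 0 0 = 1 := g0011.trans ha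
    have g22 : g.1 2 2 = 1 := g1122.symm.trans ha
    rcases u27_cases (g.1 0 2) with hb | hb | hb
    · left
      apply u27_ext <;> simp [g10, g12, g20, g01, g21, g00, ha, g22, hb]
    · right; left
      apply u27_ext <;> simp [g10, g12, g20, g01, g21, g00, ha, g22, hb, tvM]
    · right; right
      apply u27_ext <;> simp [g10, g12, g20, g01, g21, g00, ha, g22, hb, tvM]
  · rintro u ⟨u10, u20, u21, u00, u11, u22⟩ x hx
    have hx' : ∀ i j, x.1 i j = tvM ![1, 0, 0] ![0, 0, 1] i j := by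
      intro i j; rw [hx]
    apply Subtype.ext
    apply u27_ext <;> rw [u27_mul, u27_mul] <;>
      simp [hx', u10, u20, u21, u00, u11, u22, tvM] <;> ring

end Cfsg.Agent.Lib.helper29.CG33
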