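import Cfsg.Agent.Lib.helper3.GfDefs

/-!
# S4395, piece IRRDIM: an irreducible `F_p⟨T⟩`-module with `T` of order `q` has `p ^ ord_q(p)` elements
-/

set_option autoImplicit false

namespace Cfsg.Agent.Lib.helper3.Gf

open Polynomial

/-- a finite commutative domain all of whose elements satisfy `r ^ N = r` has at most `N`
elements -/
theorem helper29_card_le_of_pow_eq {R : Type*} [CommRing R] [IsDomain R] [Finite R] (N : ℕ)
    (hN : 1 < N) (h : ∀ r : R, r ^ N = r) : Nat.card R ≤ N := by
  classical
  have : Fintype R := Fintype.ofFinite R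
  have hlt : (X : R[X]).natDegree < (X ^ N : R[X]).natDegree := by
    rw [natDegree_X_pow, natDegree_X]
    exact hN
  have hdeg : (X ^ N - X : R[X]).natDegree = N := by
    rw [natDegree_sub_eq_left_of_natDegree_lt hlt, natDegree_X_pow]
  have hne : (X ^ N - X : R[X]) ≠ 0 := by
    intro h0
    rw [h0, natDegree_zero] at hdeg
    omega
  have hsub : (Finset.univ : Finset R) ⊆ (X ^ N - X : R[X]).roots.toFinset := by
    intro a _
    rw [Multiset.mem_toFinset, mem_roots hne]
    simp [h a]
  have h1 := Finset.card_le_card hsub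
  have h2 := Multiset.toFinset_card_le (X ^ N - X : R[X]).roots
  have h3 := card_roots' (X ^ N - X : R[X])
  rw [Finset.card_univ, ← Nat.card_eq_fintype_card] at h1
  rw [hdeg] at h3
  omega

/-- iterated Frobenius on polynomials over `ZMod p` -/
theorem helper29_pow_char_pow (p : ℕ) [Fact p.Prime] (P : (ZMod p)[X]) (k : ℕ) :
    P ^ (p ^ k) = expand (ZMod p) (p ^ k) P := by
  induction k with
  | zero => rw [pow_zero, pow_one, expand_one]
  | succ k ih =>
    rw [pow_succ, pow_mul, ih, ← ZMod.expand_card, expand_expand, Nat.mul_comm]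

/-- a function as an element of the monoid `Function.End` -/
def helper29_toEnd {α : Type*} (t : α → α) : Function.End α := t

/-- powers in `Function.End` are iterates -/
theorem helper29_end_pow {α : Type*} (t : α → α) (n : ℕ) :
    (helper29_toEnd t) ^ n = helper29_toEnd (t^[n]) := by
  induction n with
  | zero => rfl
  | succ n ih =>
    rw [pow_succ, ih]
    exact (Function.iterate_succ t n).symm

/-- the upper bound: `V` is a quotient of a finite domain in which `r ^ (p ^ a) = r` -/
theorem helper29_irr_card_le (p q : ℕ) [Fact p.Prime] [Fact q.Prime] {V : Type*} [AddCommGroup V]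
    [Module (ZMod p) V] [Finite V] (T : V ≃+ V) (h : Irr p q T) (v₀ : V) (hv₀0 : v₀ ≠ 0)
    (a k : ℕ) (hN1 : 1 < p ^ a) (hk : p ^ a = 1 + q * k) : Nat.card V ≤ p ^ a := by
  classical
  -- the module structure and the endomorphism
  obtain ⟨f, hf⟩ : ∃ f : Module.End (ZMod p) V, ∀ v, f v = T v :=
    ⟨T.toAddMonoidHom.toZModLinearMap p, fun _ => rfl⟩
  have hfq : f ^ q = 1 := by
    refine LinearMap.ext fun v => ?_
    rw [Module.End.pow_apply, Module.End.one_apply]
    have hit : ∀ n : ℕ, ∀ w, (⇑f)^[n] w = (⇑T)^[n] w := by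
      intro n
      induction n with
      | zero => intro w; rfl
      | succ n ih =>
        intro w
        rw [Function.iterate_succ_apply, Function.iterate_succ_apply, hf, ih]
    rw [hit]
    exact h.pow v
  have hfN : f ^ (p ^ a) = f := by
    rw [hk, pow_add, pow_one, pow_mul, hfq, one_pow, mul_one]
  have key : ∀ P : (ZMod p)[X], aeval f (P ^ (p ^ a)) = aeval f P := by
    intro P
    rw [helper29_pow_char_pow, expand_aeval, hfN]
  have hcomm : ∀ (P : (ZMod p)[X]) (v : V), aeval f P (T v) = T (aeval f P v) := by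
    intro P v
    have h1 : aeval f P * f = f * aeval f P := by
      have hX : aeval f (X : (ZMod p)[X]) = f := aeval_X f
      calc aeval f P * f = aeval f P * aeval f X := by rw [hX]
        _ = aeval f (P * X) := (map_mul _ _ _).symm
        _ = aeval f (X * P) := by rw [mul_comm]
        _ = aeval f X * aeval f P := map_mul _ _ _
        _ = f * aeval f P := by rw [hX]
    have h2 := congrArg (fun g : Module.End (ZMod p) V => g v) h1
    simp only [Module.End.mul_apply] at h2
    rw [← hf, ← hf]
    exact h2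
  -- the kernel of evaluation is a prime ideal
  have hprime : (RingHom.ker (aeval f : (ZMod p)[X] →ₐ[ZMod p] Module.End (ZMod p) V).toRingHom).IsPrime := by
    refine ⟨?_, ?_⟩
    · rw [Ideal.ne_top_iff_one, RingHom.mem_ker]
      intro h1
      have h2 : (aeval f (1 : (ZMod p)[X])) v₀ = 0 := by
        have h3 := congrArg (fun g : Module.End (ZMod p) V => g v₀) h1
        simpa using h3
      rw [map_one, Module.End.one_apply] at h2
      exact hv₀0 h2
    · intro P Q hPQ
      rw [RingHom.mem_ker] at hPQ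
      have hPQ' : aeval f P * aeval f Q = 0 := by
        rw [← map_mul]
        exact hPQ
      by_cases hQ : aeval f Q = 0
      · right
        rw [RingHom.mem_ker]
        exact hQ
      · left
        rw [RingHom.mem_ker]
        obtain ⟨v, hv⟩ : ∃ v, aeval f Q v ≠ 0 := by
          by_contra hcon
          apply hQ
          refine LinearMap.ext fun v => ?_
          by_contra hv
          exact hcon ⟨v, hv⟩
        have hW : ∀ w ∈ (aeval f P).toAddMonoidHom.ker, T w ∈ (aeval f P).toAddMonoidHom.ker := by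
          intro w hw
          rw [AddMonoidHom.mem_ker] at hw ⊢
          show aeval f P (T w) = 0
          rw [hcomm]
          have hw' : aeval f P w = 0 := hw
          rw [hw', map_zero]
        rcases h.irr _ hW with hb | ht
        · exfalso
          have hmem : aeval f Q v ∈ (aeval f P).toAddMonoidHom.ker := by
            rw [AddMonoidHom.mem_ker]
            show aeval f P (aeval f Q v) = 0
            have h3 := congrArg (fun g : Module.End (ZMod p) V => g v) hPQ'
            simpa using h3
          rw [hb, AddSubgroup.mem_bot] at hmem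
          exact hv hmem
        · refine LinearMap.ext fun w => ?_
          have hmem : w ∈ (aeval f P).toAddMonoidHom.ker := by
            rw [ht]
            exact AddSubgroup.mem_top w
          rw [AddMonoidHom.mem_ker] at hmem
          exact hmem
  have hdom : IsDomain ((ZMod p)[X] ⧸
      RingHom.ker (aeval f : (ZMod p)[X] →ₐ[ZMod p] Module.End (ZMod p) V).toRingHom) :=
    Ideal.Quotient.isDomain _
  have hfinEnd : Finite (Module.End (ZMod p) V) :=
    Finite.of_injective (fun g : Module.End (ZMod p) V => (g : V → V)) DFunLike.coe_injective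
  have hfinR : Finite ((ZMod p)[X] ⧸
      RingHom.ker (aeval f : (ZMod p)[X] →ₐ[ZMod p] Module.End (ZMod p) V).toRingHom) :=
    Finite.of_injective _ (RingHom.kerLift_injective
      (aeval f : (ZMod p)[X] →ₐ[ZMod p] Module.End (ZMod p) V).toRingHom)
  have hRpow : ∀ r : (ZMod p)[X] ⧸
      RingHom.ker (aeval f : (ZMod p)[X] →ₐ[ZMod p] Module.End (ZMod p) V).toRingHom,
      r ^ (p ^ a) = r := by
    intro r
    obtain ⟨P, rfl⟩ := Ideal.Quotient.mk_surjective r
    rw [← map_pow, Ideal.Quotient.eq, RingHom.mem_ker, map_sub, sub_eq_zero]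
    exact key P
  have hcardR := helper29_card_le_of_pow_eq (R := (ZMod p)[X] ⧸
      RingHom.ker (aeval f : (ZMod p)[X] →ₐ[ZMod p] Module.End (ZMod p) V).toRingHom)
      (p ^ a) hN1 hRpow
  -- V is a cyclic module
  have hcyc : ∀ v : V, ∃ P : (ZMod p)[X], aeval f P v₀ = v := by
    have hW : ∀ w ∈ (LinearMap.range ((LinearMap.applyₗ v₀).comp
        (aeval f : (ZMod p)[X] →ₐ[ZMod p] Module.End (ZMod p) V).toLinearMap)).toAddSubgroup,
        T w ∈ (LinearMap.range ((LinearMap.applyₗ v₀).comp
        (aeval f : (ZMod p)[X] →ₐ[ZMod p] Module.End (ZMod p) V).toLinearMap)).toAddSubgroup := by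
      rintro w ⟨P, rfl⟩
      refine ⟨X * P, ?_⟩
      show aeval f (X * P) v₀ = T (aeval f P v₀)
      rw [map_mul, aeval_X, Module.End.mul_apply, hf]
    rcases h.irr _ hW with hb | ht
    · exfalso
      have hmem : v₀ ∈ (LinearMap.range ((LinearMap.applyₗ v₀).comp
          (aeval f : (ZMod p)[X] →ₐ[ZMod p] Module.End (ZMod p) V).toLinearMap)).toAddSubgroup := by
        refine ⟨1, ?_⟩
        show aeval f (1 : (ZMod p)[X]) v₀ = v₀
        rw [map_one, Module.End.one_apply]
      rw [hb, AddSubgroup.mem_bot] at hmem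
      exact hv₀0 hmem
    · intro v
      have hmem : v ∈ (LinearMap.range ((LinearMap.applyₗ v₀).comp
          (aeval f : (ZMod p)[X] →ₐ[ZMod p] Module.End (ZMod p) V).toLinearMap)).toAddSubgroup := by
        rw [ht]
        exact AddSubgroup.mem_top v
      obtain ⟨P, hP⟩ := hmem
      exact ⟨P, hP⟩
  refine le_trans (Nat.card_le_card_of_surjective
    (fun r : (ZMod p)[X] ⧸
      RingHom.ker (aeval f : (ZMod p)[X] →ₐ[ZMod p] Module.End (ZMod p) V).toRingHom =>
      (RingHom.kerLift (aeval f : (ZMod p)[X] →ₐ[ZMod p] Module.End (ZMod p) V).toRingHom r) v₀) ?_)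
    hcardR
  intro v
  obtain ⟨P, hP⟩ := hcyc v
  refine ⟨Ideal.Quotient.mk _ P, ?_⟩
  show (RingHom.kerLift (aeval f : (ZMod p)[X] →ₐ[ZMod p] Module.End (ZMod p) V).toRingHom
    (Ideal.Quotient.mk _ P)) v₀ = v
  rw [RingHom.kerLift_mk]
  exact hP

/-- IRRDIM -/
theorem irr_card (p q : ℕ) [Fact p.Prime] [Fact q.Prime] (hpq : p ≠ q) {V : Type*} [AddCommGroup V] [Finite V]
    (T : V ≃+ V) (h : Irr p q T) : Nat.card V = p ^ orderOf (p : ZMod q) := by
  classical
  have hp : p.Prime := Fact.out
  have hq : q.Prime := Fact.out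
  obtain ⟨v₀, hv₀⟩ := h.ne
  have hv₀0 : v₀ ≠ 0 := by
    rintro rfl
    exact hv₀ (map_zero T)
  -- the fixed points of T are trivial
  have hfix : ∀ v, T v = v → v = 0 := by
    have hW : ∀ w ∈ (T.toAddMonoidHom - AddMonoidHom.id V).ker,
        T w ∈ (T.toAddMonoidHom - AddMonoidHom.id V).ker := by
      intro w hw
      rw [AddMonoidHom.mem_ker, AddMonoidHom.sub_apply, sub_eq_zero] at hw ⊢
      exact congrArg T hw
    rcases h.irr _ hW with hb | ht
    · intro v hv
      have hmem : v ∈ (T.toAddMonoidHom - AddMonoidHom.id V).ker := by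
        rw [AddMonoidHom.mem_ker, AddMonoidHom.sub_apply, sub_eq_zero]
        exact hv
      rw [hb, AddSubgroup.mem_bot] at hmem
      exact hmem
    · exfalso
      have hmem : v₀ ∈ (T.toAddMonoidHom - AddMonoidHom.id V).ker := by
        rw [ht]
        exact AddSubgroup.mem_top v₀
      rw [AddMonoidHom.mem_ker, AddMonoidHom.sub_apply, sub_eq_zero] at hmem
      exact hv₀ hmem
  -- |V| = p ^ d
  have hPG : IsPGroup p (Multiplicative V) := by
    intro g
    refine ⟨1, ?_⟩
    rw [pow_one]
    exact congrArg Multiplicative.ofAdd (h.exp (Multiplicative.toAdd g))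
  obtain ⟨d, hd⟩ := IsPGroup.iff_card.mp hPG
  have hd' : Nat.card V = p ^ d := hd
  -- |V| ≡ 1 mod q
  have hmod : Nat.card V ≡ 1 [MOD q] := by
    have : Fintype V := Fintype.ofFinite V
    have hf : (helper29_toEnd (T : V → V)) ^ q ^ 1 = 1 := by
      rw [pow_one, helper29_end_pow]
      funext v
      exact h.pow v
    have h1 := Equiv.Perm.card_fixedPoints_modEq (p := q) (n := 1) hf
    have h2 : ∀ inst : Fintype (Function.fixedPoints (helper29_toEnd (T : V → V))),
        @Fintype.card _ inst = 1 := by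
      intro inst
      rw [Fintype.card_eq_one_iff]
      refine ⟨⟨0, map_zero T⟩, ?_⟩
      intro y
      exact Subtype.ext (hfix y.1 y.2)
    rw [h2, ← Nat.card_eq_fintype_card] at h1
    exact h1
  -- the order of p mod q divides d
  have hpd : (p : ZMod q) ^ d = 1 := by
    have h1 := (ZMod.natCast_eq_natCast_iff _ _ _).mpr hmod
    rw [hd'] at h1
    push_cast at h1
    exact h1
  have hdvd : orderOf (p : ZMod q) ∣ d := orderOf_dvd_of_pow_eq_one hpd
  have hd0 : d ≠ 0 := by
    rintro rfl
    rw [pow_zero] at hd'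
    have hsub : Subsingleton V := (Nat.card_eq_one_iff_unique.mp hd').1
    exact hv₀0 (Subsingleton.elim v₀ 0)
  have ha0 : orderOf (p : ZMod q) ≠ 0 := by
    intro h0
    rw [h0, zero_dvd_iff] at hdvd
    exact hd0 hdvd
  have hle1 : p ^ orderOf (p : ZMod q) ≤ Nat.card V := by
    rw [hd']
    exact Nat.pow_le_pow_right hp.pos (Nat.le_of_dvd (Nat.pos_of_ne_zero hd0) hdvd)
  -- N = p ^ a ≡ 1 mod q
  have hN1 : 1 < p ^ orderOf (p : ZMod q) := Nat.one_lt_pow ha0 hp.one_lt
  obtain ⟨k, hk⟩ : ∃ k, p ^ orderOf (p : ZMod q) = 1 + q * k := by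
    have h1 : ((p ^ orderOf (p : ZMod q) : ℕ) : ZMod q) = ((1 : ℕ) : ZMod q) := by
      push_cast
      exact pow_orderOf_eq_one _
    have h2 := (ZMod.natCast_eq_natCast_iff _ _ _).mp h1
    have h3 : q ∣ p ^ orderOf (p : ZMod q) - 1 := (Nat.modEq_iff_dvd' hN1.le).mp h2.symm
    obtain ⟨k, hk⟩ := h3
    exact ⟨k, by omega⟩
  let _inst : Module (ZMod p) V := AddCommGroup.zmodModule h.exp
  have hle2 : Nat.card V ≤ p ^ orderOf (p : ZMod q) :=
    helper29_irr_card_le p q T h v₀ hv₀0 (orderOf (p : ZMod q)) k hN1 hk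
  exact le_antisymm hle2 hle1

end Cfsg.Agent.Lib.helper3.Gf
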