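import Mathlib

set_option autoImplicit false

/-!
# The commutator subgroup `[M, x]` of an abelian group `M` normalised by `x`

`Hup.exists_comm_subgroup`: `M` abelian, normalised by `x` with `x ^ ℓ = 1`, and `M` without
non-identity elements of order dividing `ℓ`.  Then `B = {m⁻¹ (x m x⁻¹) : m ∈ M}` is an `x`-invariant
subgroup of `M` on which `x` has no non-identity fixed point, and `B = 1` only if `x` centralizes `M`.
-/

namespace Cfsg.Agent.Lib.helper29.Hup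

theorem conj_pow_mul {G : Type*} [Group G] {x m b : G} (h3 : x * m * x⁻¹ = m * b)
    (hxb : x * b = b * x) (k : ℕ) : x ^ k * m * (x ^ k)⁻¹ = m * b ^ k := by
  have h4 : ∀ k : ℕ, x * b ^ k * x⁻¹ = b ^ k := by
    intro k
    have hc : Commute x (b ^ k) := Commute.pow_right (show Commute x b from hxb) k
    rw [hc.eq, mul_inv_cancel_right]
  induction k with
  | zero => simp
  | succ k ih =>
    calc x ^ (k + 1) * m * (x ^ (k + 1))⁻¹ = x * (x ^ k * m * (x ^ k)⁻¹) * x⁻¹ := by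
          rw [pow_succ']; group
      _ = x * (m * b ^ k) * x⁻¹ := by rw [ih]
      _ = (x * m * x⁻¹) * (x * b ^ k * x⁻¹) := by group
      _ = m * b * b ^ k := by rw [h3, h4]
      _ = m * b ^ (k + 1) := by rw [pow_succ']; group

theorem exists_comm_subgroup {G : Type*} [Group G] (M : Subgroup G) (x : G) (ℓ : ℕ) (hx : x ^ ℓ = 1)
    (hMab : ∀ a ∈ M, ∀ b ∈ M, a * b = b * a) (hxM : ∀ m ∈ M, x * m * x⁻¹ ∈ M)
    (hℓM : ∀ z ∈ M, z ^ ℓ = 1 → z = 1) :
    ∃ B : Subgroup G, B ≤ M ∧ (∀ b ∈ B, x * b * x⁻¹ ∈ B) ∧ (∀ b ∈ B, x * b = b * x → b = 1) ∧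
      (B = ⊥ → ∀ m ∈ M, x * m = m * x) := by
  let B : Subgroup G :=
    { carrier := {b | ∃ m ∈ M, b = m⁻¹ * (x * m * x⁻¹)}
      one_mem' := ⟨1, M.one_mem, by simp⟩
      mul_mem' := by
        rintro a b ⟨m, hm, rfl⟩ ⟨n, hn, rfl⟩
        refine ⟨m * n, M.mul_mem hm hn, ?_⟩
        have h1 := hMab _ (hxM m hm) _ (M.inv_mem hn)
        have h2 := hMab _ (M.inv_mem hn) _ (M.inv_mem hm)
        calc m⁻¹ * (x * m * x⁻¹) * (n⁻¹ * (x * n * x⁻¹))
            = m⁻¹ * ((x * m * x⁻¹) * n⁻¹) * (x * n * x⁻¹) := by group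
          _ = m⁻¹ * (n⁻¹ * (x * m * x⁻¹)) * (x * n * x⁻¹) := by rw [h1]
          _ = (m⁻¹ * n⁻¹) * (x * m * x⁻¹) * (x * n * x⁻¹) := by group
          _ = (n⁻¹ * m⁻¹) * (x * m * x⁻¹) * (x * n * x⁻¹) := by rw [h2]
          _ = (m * n)⁻¹ * (x * (m * n) * x⁻¹) := by group
      inv_mem' := by
        rintro a ⟨m, hm, rfl⟩
        refine ⟨m⁻¹, M.inv_mem hm, ?_⟩
        have h1 := hMab _ (hxM _ (M.inv_mem hm)) _ hm
        calc (m⁻¹ * (x * m * x⁻¹))⁻¹ = (x * m⁻¹ * x⁻¹) * m := by group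
          _ = m * (x * m⁻¹ * x⁻¹) := h1
          _ = m⁻¹⁻¹ * (x * m⁻¹ * x⁻¹) := by rw [inv_inv] }
  have hmem : ∀ b : G, b ∈ B ↔ ∃ m ∈ M, b = m⁻¹ * (x * m * x⁻¹) := fun b => Iff.rfl
  have hBM : B ≤ M := by
    intro b hb
    obtain ⟨m, hm, rfl⟩ := (hmem b).mp hb
    exact M.mul_mem (M.inv_mem hm) (hxM m hm)
  refine ⟨B, hBM, ?_, ?_, ?_⟩
  · intro b hb
    obtain ⟨m, hm, rfl⟩ := (hmem b).mp hb
    rw [hmem]
    refine ⟨x * m * x⁻¹, hxM m hm, ?_⟩
    group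
  · intro b hb hxb
    obtain ⟨m, hm, hbm⟩ := (hmem b).mp hb
    have h3 : x * m * x⁻¹ = m * b := by rw [hbm]; group
    have h4 := conj_pow_mul h3 hxb ℓ
    rw [hx] at h4
    have h5 : b ^ ℓ = 1 := by
      have : m = m * b ^ ℓ := by simpa using h4
      exact (mul_eq_left.mp this.symm)
    exact hℓM b (hBM hb) h5
  · intro hB m hm
    have h1 : m⁻¹ * (x * m * x⁻¹) ∈ B := (hmem _).mpr ⟨m, hm, rfl⟩
    rw [hB, Subgroup.mem_bot] at h1
    have h2 : x * m * x⁻¹ = m := by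
      have := congrArg (fun t => m * t) h1
      simpa using this
    calc x * m = (x * m * x⁻¹) * x := by group
      _ = m * x := by rw [h2]

end Cfsg.Agent.Lib.helper29.Hup
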