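import Mathlib
import Cfsg.Agent.Lib.helper74.HupClassTwo
import Cfsg.Agent.Lib.helper71.HupSemireg
import Cfsg.Agent.Lib.helper62.HupSpan
import Cfsg.Agent.Lib.helper15.LinReg
import Cfsg.Agent.Lib.helper66.PGroupAction

set_option autoImplicit false

/-!
# Huppert's theorem: the Zsigmondy exception `2 ^ 6` (core argument)

`Hup.no_two_six_of`: a solvable group acting faithfully and linearly on `V = F_2 ^ 6`, transitively
on the non-zero vectors, cannot have all its cyclic normal subgroups reducible.  The two external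
inputs (`H2`: the order of a class-2 extension, `H9`: semiregular abelian groups are cyclic of order
dividing `q ^ d - 1`) are taken as explicit hypotheses.
-/

namespace Cfsg.Agent.Lib.helper29.Hup

open Subgroup

/-- `63 = |V| - 1` divides `|G|`. -/
theorem card_sub_one_dvd {q : ℕ} [Fact q.Prime] {V : Type*} [AddCommGroup V] [Module (ZMod q) V]
    [Finite V] [Nontrivial V] {G : Type*} [Group G] [Finite G] (ρ : G →* (V ≃ₗ[ZMod q] V))
    (htrans : ∀ v w : V, v ≠ 0 → w ≠ 0 → ∃ g : G, ρ g v = w) : Nat.card V - 1 ∣ Nat.card G := by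
  classical
  obtain ⟨v₀, hv₀⟩ := exists_ne (0 : V)
  let _ : MulAction G V := MulAction.compHom V ρ
  have hsmul : ∀ (g : G) (v : V), g • v = ρ g v := fun g v => rfl
  have horb : MulAction.orbit G v₀ = ({0} : Set V)ᶜ := by
    ext w
    constructor
    · rintro ⟨g, rfl⟩
      show g • v₀ ∉ ({0} : Set V)
      rw [Set.mem_singleton_iff, hsmul]
      exact fun h => hv₀ ((LinearEquiv.map_eq_zero_iff _).mp h)
    · intro hw
      obtain ⟨g, hg⟩ := htrans v₀ w hv₀ (by simpa using hw)
      exact ⟨g, hg⟩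
  have h1 := MulAction.index_stabilizer G v₀
  rw [horb, Set.ncard_compl, Set.ncard_singleton] at h1
  rw [← h1]
  exact Subgroup.index_dvd_card _

/-- A maximal normal abelian subgroup. -/
theorem exists_max_normal_abelian (G : Type*) [Group G] [Finite G] :
    ∃ M : Subgroup G, M.Normal ∧ (∀ a ∈ M, ∀ b ∈ M, a * b = b * a) ∧
      ∀ A : Subgroup G, A.Normal → (∀ a ∈ A, ∀ b ∈ A, a * b = b * a) → M ≤ A → A = M := by
  let S : Set (Subgroup G) := {A | A.Normal ∧ ∀ a ∈ A, ∀ b ∈ A, a * b = b * a}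
  have hSne : S.Nonempty := by
    refine ⟨⊥, inferInstance, ?_⟩
    intro a ha b hb
    rw [Subgroup.mem_bot] at ha hb
    rw [ha, hb]
  obtain ⟨M, ⟨hMn, hMab⟩, hmax⟩ := wellFounded_gt.has_min S hSne
  refine ⟨M, hMn, hMab, ?_⟩
  intro A hAn hAab hMA
  by_contra hne
  exact hmax A ⟨hAn, hAab⟩ (lt_of_le_of_ne hMA (Ne.symm hne))

/-- Class two: if `z = g h g⁻¹ h⁻¹` commutes with `g` and `h` and `g ^ r` commutes with `h`, then
`z ^ r = 1`. -/
theorem comm_pow_eq_one {G : Type*} [Group G] {g h z : G} (hz : z = g * h * g⁻¹ * h⁻¹)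
    (hzg : g * z = z * g) (hzh : h * z = z * h) (r : ℕ) (hr : g ^ r * h = h * g ^ r) :
    z ^ r = 1 := by
  have h3 : g * h * g⁻¹ = h * z := by
    rw [hzh, hz]; group
  have h4 : ∀ k : ℕ, g * z ^ k * g⁻¹ = z ^ k := by
    intro k
    have hc : Commute g (z ^ k) := Commute.pow_right (show Commute g z from hzg) k
    rw [hc.eq, mul_inv_cancel_right]
  have h5 : ∀ k : ℕ, g ^ k * h * (g ^ k)⁻¹ = h * z ^ k := by
    intro k
    induction k with
    | zero => simp
    | succ k ih =>
      calc g ^ (k + 1) * h * (g ^ (k + 1))⁻¹ = g * (g ^ k * h * (g ^ k)⁻¹) * g⁻¹ := by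
            rw [pow_succ']; group
        _ = g * (h * z ^ k) * g⁻¹ := by rw [ih]
        _ = (g * h * g⁻¹) * (g * z ^ k * g⁻¹) := by group
        _ = h * z * z ^ k := by rw [h3, h4]
        _ = h * z ^ (k + 1) := by rw [pow_succ']; group
  have h6 := h5 r
  rw [hr, mul_inv_cancel_right] at h6
  exact (mul_eq_left.mp h6.symm)

/-- An element of order `7` centralizes a normal subgroup of order `27`. -/
theorem centralizes_of_card {G : Type*} [Group G] [Finite G] (N : Subgroup G) (hNn : N.Normal)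
    (hN : Nat.card N = 27) (x : G) (hx : orderOf x = 7) : ∀ n ∈ N, x * n = n * x := by
  have : Fact (Nat.Prime 7) := ⟨by norm_num⟩
  set B : Subgroup G := Subgroup.zpowers x with hB
  have hBcard : Nat.card B = 7 := by rw [hB, Nat.card_zpowers, hx]
  have hBp : IsPGroup 7 B := IsPGroup.of_card (n := 1) (by rw [hBcard, pow_one])
  set F : Subgroup G := N ⊓ centralizer (B : Set G) with hF
  have hFN : F ≤ N := inf_le_left
  have hFdvd : Nat.card F ∣ 27 := hN ▸ Subgroup.card_dvd_of_le hFN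
  have hkey : F = N := by
    by_contra hne
    have hlt : Nat.card F < 27 := by
      by_contra hge
      push Not at hge
      exact hne (Subgroup.eq_of_le_of_card_ge hFN (by rw [hN]; exact hge))
    set T : Set G := (N : Set G) \ (F : Set G) with hT
    have hTinv : ∀ b ∈ B, ∀ y ∈ T, b * y * b⁻¹ ∈ T := by
      intro b hb y hy
      refine ⟨hNn.conj_mem y hy.1 b, ?_⟩
      intro hmem
      apply hy.2
      refine ⟨hy.1, ?_⟩
      have hc : b * y * b⁻¹ ∈ centralizer (B : Set G) := hmem.2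
      rw [mem_centralizer_iff] at hc
      have h1 := hc b hb
      have h2 : b * y * b⁻¹ = y := by
        have : b * (b * y * b⁻¹) * b⁻¹ = b * y * b⁻¹ := by rw [h1]; group
        have h3 : b * (b * y * b⁻¹) * b⁻¹ = b * y * b⁻¹ → b * y * b⁻¹ = y := by
          intro h
          have := congrArg (fun t => b⁻¹ * t * b) h
          simpa [mul_assoc] using this
        exact h3 this
      rw [h2] at hc
      exact (mem_centralizer_iff.mpr hc)
    have hTcard : T.ncard + Nat.card F = 27 := by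
      have h1 := Set.ncard_sdiff_add_ncard_of_subset (s := (F : Set G)) (t := (N : Set G)) hFN
      have h2 : (F : Set G).ncard = Nat.card F := (Nat.card_coe_set_eq (F : Set G)).symm
      have h3 : (N : Set G).ncard = Nat.card N := (Nat.card_coe_set_eq (N : Set G)).symm
      rw [h2, h3, hN] at h1
      exact h1
    have hnd : ¬ 7 ∣ T.ncard := by
      have hFle : Nat.card F ≤ 27 := Nat.le_of_dvd (by norm_num) hFdvd
      have hFpos : 0 < Nat.card F := Nat.card_pos
      generalize Nat.card F = f at hFdvd hlt hTcard hFle hFpos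
      interval_cases f <;> omega
    obtain ⟨y, hyT, hy⟩ :=
      Cfsg.Agent.Lib.helper66.exists_fixed_of_conj_invariant hBp T hTinv hnd
    apply hyT.2
    refine ⟨hyT.1, ?_⟩
    show y ∈ centralizer (B : Set G)
    rw [mem_centralizer_iff]
    intro b hb
    have h1 := hy b hb
    calc b * y = (b * y * b⁻¹) * b := by group
      _ = y * b := by rw [h1]
  intro n hn
  have h1 : n ∈ F := hkey ▸ hn
  have h2 : n ∈ centralizer (B : Set G) := h1.2
  rw [mem_centralizer_iff] at h2
  exact h2 x (Subgroup.mem_zpowers x)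

theorem le_sixteen_of_pow {K : ℕ} (h : K ^ 9 ≤ 2 ^ 36) : K ≤ 16 := by
  by_contra hK
  push Not at hK
  have h1 : 17 ^ 9 ≤ K ^ 9 := Nat.pow_le_pow_left hK 9
  norm_num at h h1
  omega

theorem div_cases (d c : ℕ) (hd0 : 0 < d) (hd6 : d < 6) (hc : 0 < c) (h63 : c ∣ 63)
    (hd : c ∣ 2 ^ d - 1) : c = 1 ∨ c = 3 ∨ c = 7 := by
  have hle : c ≤ 63 := Nat.le_of_dvd (by norm_num) h63
  interval_cases d
  · have h1 : c ∣ 1 := by simpa using hd
    exact Or.inl (Nat.dvd_one.mp h1)
  · have h1 : c ∣ 3 := by simpa using hd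
    have h2 : c ≤ 3 := Nat.le_of_dvd (by norm_num) h1
    interval_cases c <;> omega
  · have h1 : c ∣ 7 := by simpa using hd
    have h2 : c ≤ 7 := Nat.le_of_dvd (by norm_num) h1
    interval_cases c <;> omega
  · have h1 : c ∣ 15 := by simpa using hd
    have h2 : c ≤ 15 := Nat.le_of_dvd (by norm_num) h1
    interval_cases c <;> omega
  · have h1 : c ∣ 31 := by simpa using hd
    have h2 : c ≤ 31 := Nat.le_of_dvd (by norm_num) h1
    interval_cases c <;> omega

/-- The `2 ^ 6` case, with the external inputs `H9` (two parts) and `H2` as hypotheses. -/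
theorem no_two_six_of {q : ℕ} [Fact q.Prime] {V : Type*} [AddCommGroup V] [Module (ZMod q) V]
    [Finite V] [Nontrivial V] {G : Type*} [Group G] [Finite G] (hsol : IsSolvable G)
    (ρ : G →* (V ≃ₗ[ZMod q] V)) (hρ : Function.Injective ρ)
    (htrans : ∀ v w : V, v ≠ 0 → w ≠ 0 → ∃ g : G, ρ g v = w)
    (hq : q = 2) (hn : Module.finrank (ZMod q) V = 6)
    (hI : ∀ A : Subgroup G, A.Normal → IsCyclic A →
      ∃ W : Submodule (ZMod q) V, W ≠ ⊥ ∧ W ≠ ⊤ ∧ ∀ a ∈ A, ∀ v ∈ W, ρ a v ∈ W)
    (hH9a : ∀ A : Subgroup G, (∀ a ∈ A, ∀ b ∈ A, a * b = b * a) →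
      (∀ a ∈ A, ∀ v : V, v ≠ 0 → ρ a v = v → a = 1) → IsCyclic A)
    (hH9b : ∀ A : Subgroup G, (∀ a ∈ A, ∀ v : V, v ≠ 0 → ρ a v = v → a = 1) →
      ∀ W : Submodule (ZMod q) V, (∀ a ∈ A, ∀ v ∈ W, ρ a v ∈ W) →
        Nat.card A ∣ q ^ Module.finrank (ZMod q) W - 1)
    (hH2 : ∀ (r : ℕ), r.Prime → ∀ M N : Subgroup G, M ≤ N → IsCyclic M →
      (∀ g ∈ N, ∀ z ∈ M, g * z = z * g) → (∀ g ∈ N, ∀ h ∈ N, g * h * g⁻¹ * h⁻¹ ∈ M) →
      (∀ g ∈ N, g ^ r ∈ M) → (∀ g ∈ N, (∀ h ∈ N, g * h = h * g) → g ∈ M) →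
      ∃ m : ℕ, Nat.card N = Nat.card M * r ^ (2 * m)) :
    False := by
  subst hq
  have hfd : Module.Finite (ZMod 2) V := Module.Finite.of_finite
  have hV : Nat.card V = 64 := by
    rw [Module.natCard_eq_pow_finrank (K := ZMod 2) (V := V), Nat.card_zmod, hn]; norm_num
  have h63 : 63 ∣ Nat.card G := by
    have h := card_sub_one_dvd ρ htrans
    rwa [hV] at h
  have hG63 : 63 ≤ Nat.card G := Nat.le_of_dvd Nat.card_pos h63
  obtain ⟨M, hMn, hMab, hMmax⟩ := exists_max_normal_abelian G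
  have hfree := Cfsg.Agent.Lib.helper71.Hup.semiregular_of_normal_abelian ρ hρ htrans M hMn hMab
  have hMcyc : IsCyclic M := hH9a M hMab hfree
  have hM63 : Nat.card M ∣ 63 := by
    have h := hH9b M hfree ⊤ (fun _ _ _ _ => Submodule.mem_top)
    rw [finrank_top, hn] at h
    simpa using h
  obtain ⟨W, hW0, hW1, hWinv⟩ := hI M hMn hMcyc
  have hd0 : 0 < Module.finrank (ZMod 2) W :=
    Module.finrank_pos_iff.mpr ((Submodule.nontrivial_iff_ne_bot).mpr hW0)
  have hd6 : Module.finrank (ZMod 2) W < 6 := hn ▸ Submodule.finrank_lt hW1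
  have hMd := hH9b M hfree W hWinv
  have hMcard : Nat.card M = 1 ∨ Nat.card M = 3 ∨ Nat.card M = 7 :=
    div_cases _ _ hd0 hd6 Nat.card_pos hM63 hMd
  have hMcc : Nat.card M * Nat.card M ≤ 49 := by
    rcases hMcard with h | h | h <;> rw [h] <;> norm_num
  have hCn : (centralizer (M : Set G)).Normal := inferInstance
  have hMC : M ≤ centralizer (M : Set G) := by
    intro a ha
    rw [mem_centralizer_iff]
    intro b hb
    exact hMab b hb a ha
  have hCM : M ≠ centralizer (M : Set G) := by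
    intro h
    have h1 := Cfsg.Agent.Lib.helper15.LinReg.card_le_of_cyclic_normal G M
    rw [← h] at h1
    omega
  have hMltC : M < centralizer (M : Set G) := lt_of_le_of_ne hMC hCM
  obtain ⟨r, N, hr, hNn, hMN, hNC, hcomm, hexp, hZ⟩ :=
    Cfsg.Agent.Lib.helper74.Hup.exists_class_two hsol M (centralizer (M : Set G)) hMn hCn hMab
      hMmax hMltC (fun g hg z hz => ((mem_centralizer_iff.mp hg) z hz).symm)
  have hcent : ∀ g ∈ N, ∀ z ∈ M, g * z = z * g :=
    fun g hg z hz => ((mem_centralizer_iff.mp (hNC hg)) z hz).symm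
  obtain ⟨m, hm⟩ := hH2 r hr M N hMN.le hMcyc hcent hcomm hexp hZ
  have hm1 : 1 ≤ m := by
    by_contra h0
    have hm0 : m = 0 := by omega
    rw [hm0] at hm
    simp at hm
    exact hMN.ne (Subgroup.eq_of_le_of_card_ge hMN.le (le_of_eq hm))
  let R : G →* Module.End (ZMod 2) V :=
    (LinearEquiv.automorphismGroup.toLinearMapMonoidHom (R := ZMod 2) (M := V)).comp ρ
  have hfreeR : ∀ a ∈ M, ∀ v : V, v ≠ 0 → R a v = v → a = 1 :=
    fun a ha v hv h => hfree a ha v hv h
  have hk36 := Cfsg.Agent.Lib.helper62.Hup.index_le_sq R M N hMN.le hfreeR hcent hcomm hZ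
    (r ^ (2 * m)) hm
  rw [hn] at hk36
  have hnab : ∃ g ∈ N, ∃ h ∈ N, g * h ≠ h * g := by
    by_contra hcon
    push Not at hcon
    have hNM : N ≤ M := fun g hg => hZ g hg (fun h hh => hcon g hg h hh)
    exact (lt_iff_le_not_ge.mp hMN).2 hNM
  obtain ⟨g, hg, h, hh, hgh⟩ := hnab
  have hzM : g * h * g⁻¹ * h⁻¹ ∈ M := hcomm g hg h hh
  have hz1 : g * h * g⁻¹ * h⁻¹ ≠ 1 := by
    intro h1
    apply hgh
    calc g * h = (g * h * g⁻¹ * h⁻¹) * (h * g) := by group
      _ = h * g := by rw [h1, one_mul]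
  have hzr : (g * h * g⁻¹ * h⁻¹) ^ r = 1 :=
    comm_pow_eq_one rfl (hcent g hg _ hzM) (hcent h hh _ hzM) r
      ((hcent h hh (g ^ r) (hexp g hg)).symm)
  have : Fact r.Prime := ⟨hr⟩
  have hord : orderOf (g * h * g⁻¹ * h⁻¹) = r := orderOf_eq_prime hzr hz1
  have hrM : r ∣ Nat.card M := by
    have h1 := Subgroup.orderOf_dvd_natCard M hzM
    rwa [hord] at h1
  have hr37 : Nat.card M = r ∧ (r = 3 ∨ r = 7) := by
    rcases hMcard with h1 | h3 | h7
    · rw [h1] at hrM
      exact absurd (Nat.dvd_one.mp hrM) hr.one_lt.ne'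
    · rw [h3] at hrM
      have h := (Nat.prime_dvd_prime_iff_eq hr (by norm_num)).mp hrM
      exact ⟨by rw [h3, h], Or.inl h⟩
    · rw [h7] at hrM
      have h := (Nat.prime_dvd_prime_iff_eq hr (by norm_num)).mp hrM
      exact ⟨by rw [h7, h], Or.inr h⟩
  obtain ⟨hMr, hr3 | hr7⟩ := hr37
  swap
  · rw [hr7] at hk36
    have h1 : 7 ^ 2 ≤ 7 ^ (2 * m) := Nat.pow_le_pow_right (by norm_num) (by omega)
    norm_num at h1 hk36
    omega
  rw [hr3] at hk36 hm hMr
  have hm_eq : m = 1 := by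
    by_contra hne
    have h2 : 2 ≤ m := by omega
    have h1 : 3 ^ 4 ≤ 3 ^ (2 * m) := Nat.pow_le_pow_right (by norm_num) (by omega)
    norm_num at h1 hk36
    omega
  rw [hm_eq, hMr] at hm
  have hN27 : Nat.card N = 27 := by rw [hm]; norm_num
  have : Fact (Nat.Prime 7) := ⟨by norm_num⟩
  obtain ⟨x, hx⟩ := exists_prime_orderOf_dvd_card' (G := G) 7 (Dvd.dvd.trans (by norm_num) h63)
  have hxN := centralizes_of_card N hNn hN27 x hx
  have hMD : M ≤ centralizer (N : Set G) := by
    intro a ha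
    rw [mem_centralizer_iff]
    intro n hn'
    exact hcent n hn' a ha
  have hxD : Subgroup.zpowers x ≤ centralizer (N : Set G) := by
    rw [Subgroup.zpowers_le, mem_centralizer_iff]
    intro n hn'
    exact (hxN n hn').symm
  have hD21 : 21 ≤ Nat.card (centralizer (N : Set G)) := by
    have h3 : 3 ∣ Nat.card (centralizer (N : Set G)) := hMr ▸ Subgroup.card_dvd_of_le hMD
    have h7 : 7 ∣ Nat.card (centralizer (N : Set G)) := by
      have h := Subgroup.card_dvd_of_le hxD
      rwa [Nat.card_zpowers, hx] at h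
    have h21 : 3 * 7 ∣ Nat.card (centralizer (N : Set G)) :=
      Nat.Coprime.mul_dvd_of_dvd_of_dvd (by norm_num) h3 h7
    exact Nat.le_of_dvd Nat.card_pos h21
  have hfinE : Finite (Module.End (ZMod 2) V) :=
    Finite.of_injective (fun e : Module.End (ZMod 2) V => (e : V → V)) DFunLike.coe_injective
  let f : centralizer (N : Set G) →
      {c : Module.End (ZMod 2) V // ∀ h ∈ N, c * R h = R h * c} :=
    fun d => ⟨R (d : G), fun h hh => by
      rw [← map_mul, ← map_mul]
      exact congrArg R ((mem_centralizer_iff.mp d.2) h hh).symm⟩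
  have hfinj : Function.Injective f := by
    intro a b hab
    have h1 : R (a : G) = R (b : G) := congrArg Subtype.val hab
    have h2 : ρ (a : G) = ρ (b : G) := by
      ext v
      exact congrArg (fun T : Module.End (ZMod 2) V => T v) h1
    exact Subtype.ext (hρ h2)
  have hDK := Nat.card_le_card_of_injective f hfinj
  have hK := Cfsg.Agent.Lib.helper62.Hup.card_centralizer_pow_le R M N hMN.le hfreeR hcent hcomm
    hZ 9 (by rw [hN27, hMr])
  rw [Cfsg.Agent.Lib.helper62.Hup.card_end, hn] at hK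
  have hK16 := le_sixteen_of_pow (by simpa using hK)
  omega

end Cfsg.Agent.Lib.helper29.Hup
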