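import Mathlib
import Cfsg.Agent.Lib.helper29.HupTwoSixCore
import Cfsg.Agent.Lib.helper39.HupCyc
import Cfsg.Agent.Lib.helper83.HupSquare

set_option autoImplicit false

/-!
# Huppert's theorem: the Zsigmondy exception `2 ^ 6`

`Hup.no_two_six`: a solvable group acting faithfully and linearly on `F_2 ^ 6`, transitively on the
non-zero vectors, cannot have all its cyclic normal subgroups reducible.
-/

namespace Cfsg.Agent.Lib.helper29.Hup

theorem no_two_six {q : ℕ} [Fact q.Prime] {V : Type*} [AddCommGroup V] [Module (ZMod q) V] [Finite V] [Nontrivial V]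
    {G : Type*} [Group G] [Finite G] (hsol : IsSolvable G) (ρ : G →* (V ≃ₗ[ZMod q] V)) (hρ : Function.Injective ρ)
    (htrans : ∀ v w : V, v ≠ 0 → w ≠ 0 → ∃ g : G, ρ g v = w)
    (hq : q = 2) (hn : Module.finrank (ZMod q) V = 6)
    (hI : ∀ A : Subgroup G, A.Normal → IsCyclic A → ∃ W : Submodule (ZMod q) V, W ≠ ⊥ ∧ W ≠ ⊤ ∧ ∀ a ∈ A, ∀ v ∈ W, ρ a v ∈ W) :
    False :=
  no_two_six_of hsol ρ hρ htrans hq hn hI
    (fun A hAab hfree =>
      Cfsg.Agent.Lib.helper39.Hup.isCyclic_of_semiregular_abelian ρ A hAab hfree)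
    (fun A hfree W hW => Cfsg.Agent.Lib.helper39.Hup.card_dvd_of_semiregular ρ A hfree W hW)
    (fun r hr M N hMN hMcyc hcent hcomm hexp hZ =>
      Cfsg.Agent.Lib.helper83.Hup.card_eq_mul_sq r hr M N hMN hMcyc hcent hcomm hexp hZ)

end Cfsg.Agent.Lib.helper29.Hup
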