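import Mathlib
import Cfsg.Agent.Lib.helper86.IvDefs

/-!
# S3928, piece BFS (racer core): Brauer–Fowler for an `α`-invariant subgroup, from the statement of
BF for the restricted automorphism (given as a hypothesis)
-/

set_option autoImplicit false

namespace Cfsg.Agent.Lib.helper86.IV

/-- the restriction of an involutive automorphism to an invariant subgroup -/
def helper29_resAut {G : Type*} [Group G] (α : MulAut G) (h2 : ∀ g, α (α g) = g)
    (N : Subgroup G) (hN : ∀ n ∈ N, α n ∈ N) : MulAut ↥N where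
  toFun n := ⟨α n, hN n n.2⟩
  invFun n := ⟨α n, hN n n.2⟩
  left_inv n := Subtype.ext (h2 n)
  right_inv n := Subtype.ext (h2 n)
  map_mul' a b := Subtype.ext (map_mul α (a : G) (b : G))

theorem helper29_resAut_apply {G : Type*} [Group G] (α : MulAut G) (h2 : ∀ g, α (α g) = g)
    (N : Subgroup G) (hN : ∀ n ∈ N, α n ∈ N) (n : ↥N) :
    ((helper29_resAut α h2 N hN n : ↥N) : G) = α (n : G) := rfl

theorem helper29_bf_sub_core {G : Type*} [Group G] [Finite G] (α : MulAut G)
    (h2 : ∀ g, α (α g) = g)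
    (N : Subgroup G) (hN : ∀ n ∈ N, α n ∈ N) (hne : ∃ n ∈ N, α n ≠ n)
    (hbf : ∀ β : MulAut ↥N, (∀ g, β (β g) = g) → (∃ g, β g ≠ g) →
      ∃ g : ↥N, g ≠ 1 ∧
        (Subgroup.centralizer {g}).index ≤ 2 * (Nat.card {c : ↥N // β c = c}) ^ 2) :
    ∃ g ∈ N, g ≠ 1 ∧
      (Subgroup.centralizer {g}).relIndex N ≤ 2 * (Nat.card {c : N // α (c : G) = c}) ^ 2 := by
  have hβ2 : ∀ g, helper29_resAut α h2 N hN (helper29_resAut α h2 N hN g) = g :=
    fun g => Subtype.ext (h2 g)
  have hβne : ∃ g, helper29_resAut α h2 N hN g ≠ g := by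
    obtain ⟨n, hn, hne'⟩ := hne
    refine ⟨⟨n, hn⟩, fun h => hne' ?_⟩
    exact congrArg Subtype.val h
  obtain ⟨g, hg1, hg⟩ := hbf (helper29_resAut α h2 N hN) hβ2 hβne
  refine ⟨(g : G), g.2, fun h => hg1 (Subtype.ext h), ?_⟩
  have hcard : Nat.card {c : ↥N // helper29_resAut α h2 N hN c = c} =
      Nat.card {c : N // α (c : G) = c} := by
    refine Nat.card_congr (Equiv.subtypeEquivRight fun c => ?_)
    constructor
    · intro h
      exact congrArg Subtype.val h
    · intro h
      exact Subtype.ext h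
  have hsub : (Subgroup.centralizer {(g : G)}).subgroupOf N = Subgroup.centralizer {g} := by
    ext x
    rw [Subgroup.mem_subgroupOf, Subgroup.mem_centralizer_iff, Subgroup.mem_centralizer_iff]
    constructor
    · intro h y hy
      rw [Set.mem_singleton_iff] at hy
      rw [hy]
      exact Subtype.ext (h (g : G) (Set.mem_singleton _))
    · intro h y hy
      rw [Set.mem_singleton_iff] at hy
      rw [hy]
      exact congrArg Subtype.val (h g (Set.mem_singleton _))
  show ((Subgroup.centralizer {(g : G)}).subgroupOf N).index ≤ _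
  rw [hsub, ← hcard]
  exact hg

end Cfsg.Agent.Lib.helper86.IV
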