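import Mathlib
import Cfsg.Agent.Lib.helper86.IvDefs

/-!
# S3928, piece CENT: a centreless subgroup generated by `k` elements whose centralizers have
relative index `≤ c` has order `≤ c ^ k`
-/

set_option autoImplicit false

namespace Cfsg.Agent.Lib.helper86.IV

/-- the common centralizer of a finite set has relative index at most `c ^ k` -/
theorem helper29_cent_aux {G : Type*} [Group G] (N : Subgroup G) (c : ℕ) (s : Finset G)
    (hc : ∀ o ∈ s, (Subgroup.centralizer {o}).relIndex N ≤ c) :
    ∃ D : Subgroup G, (∀ z, z ∈ D ↔ ∀ o ∈ s, o * z = z * o) ∧ D.relIndex N ≤ c ^ s.card := by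
  classical
  revert hc
  refine Finset.induction_on s ?_ ?_
  · intro _
    refine ⟨⊤, fun z => ?_, ?_⟩
    · simp
    · rw [Subgroup.relIndex_top_left, Finset.card_empty, pow_zero]
  · intro a s ha ih hc
    obtain ⟨D, hD, hDc⟩ := ih (fun o ho => hc o (Finset.mem_insert_of_mem ho))
    refine ⟨Subgroup.centralizer {a} ⊓ D, fun z => ?_, ?_⟩
    · rw [Subgroup.mem_inf, hD, Subgroup.mem_centralizer_iff]
      constructor
      · rintro ⟨h1, h2⟩ o ho
        rcases Finset.mem_insert.mp ho with rfl | ho
        · exact h1 o (Set.mem_singleton o)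
        · exact h2 o ho
      · intro h
        refine ⟨fun x hx => ?_, fun o ho => h o (Finset.mem_insert_of_mem ho)⟩
        rw [Set.mem_singleton_iff] at hx
        rw [hx]
        exact h a (Finset.mem_insert_self a s)
    · rw [Finset.card_insert_of_notMem ha, pow_succ, mul_comm]
      exact Subgroup.relIndex_inf_le.trans
        (Nat.mul_le_mul (hc a (Finset.mem_insert_self a s)) hDc)

/-- CENT : a centreless subgroup generated by `k` elements with centralizers of index `≤ c`
has order `≤ c ^ k`. -/
theorem iv_cent_card {G : Type*} [Group G] [Finite G] (N : Subgroup G) (O : Finset G) (c : ℕ)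
    (hO : Subgroup.closure (O : Set G) = N)
    (hZ : ∀ z ∈ N, (∀ n ∈ N, n * z = z * n) → z = 1)
    (hc : ∀ o ∈ O, (Subgroup.centralizer {o}).relIndex N ≤ c) : Nat.card N ≤ c ^ O.card := by
  obtain ⟨D, hD, hDc⟩ := helper29_cent_aux N c O hc
  have hbot : D ⊓ N = ⊥ := by
    rw [eq_bot_iff]
    intro z hz
    obtain ⟨hzD, hzN⟩ := Subgroup.mem_inf.mp hz
    rw [Subgroup.mem_bot]
    refine hZ z hzN ?_
    have hle : Subgroup.closure (O : Set G) ≤ Subgroup.centralizer {z} := by
      rw [Subgroup.closure_le]
      intro o ho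
      rw [SetLike.mem_coe, Subgroup.mem_centralizer_iff]
      intro x hx
      rw [Set.mem_singleton_iff] at hx
      rw [hx]
      exact ((hD z).mp hzD o ho).symm
    intro n hn
    rw [← hO] at hn
    have h1 := hle hn
    rw [Subgroup.mem_centralizer_iff] at h1
    exact (h1 z (Set.mem_singleton z)).symm
  have hcard : D.relIndex N = Nat.card N := by
    rw [← Subgroup.inf_relIndex_right, hbot, Subgroup.relIndex_bot_left]
  rw [← hcard]
  exact hDc

end Cfsg.Agent.Lib.helper86.IV
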