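import Mathlib
import Cfsg.Agent.Lib.helper86.IvDefs
import Cfsg.Agent.Lib.helper29.IvCENT

/-!
# S3928, piece LNAB (core): the non-abelian layer, with the conclusions of GEN / FIX / BFS / ORBIT
for the given data as hypotheses
-/

set_option autoImplicit false

namespace Cfsg.Agent.Lib.helper86.IV

theorem helper29_layer_nab_core {G : Type*} [Group G] [Finite G] (α : MulAut G)
    (h2 : ∀ g, α (α g) = g) (m B : ℕ)
    (hm : Nat.card (ivI α) ≤ m) (N : Subgroup G) [N.Normal] (hN : ∀ n ∈ N, α n ∈ N)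
    (hmin : ∀ L : Subgroup G, L.Normal → (∀ n ∈ L, α n ∈ L) → L ≤ N → L = ⊥ ∨ L = N)
    (hB : N.index ≤ B)
    (hnab : ¬ ∀ a ∈ N, ∀ b ∈ N, a * b = b * a)
    (hfix : N ⊓ Subgroup.center G = ⊥ →
      Nat.card {c : N // α (c : G) = c} ≤ Nat.factorial (Nat.card (ivI α)))
    (hbfs : (∃ n ∈ N, α n ≠ n) → ∃ g ∈ N, g ≠ 1 ∧
      (Subgroup.centralizer {g}).relIndex N ≤ 2 * (Nat.card {c : N // α (c : G) = c}) ^ 2)
    (horb : ∀ v ∈ N, v ≠ 1 → ∃ O : Finset G, Subgroup.closure (O : Set G) = N ∧
      O.card ≤ 2 * (Subgroup.centralizer {v}).index ∧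
      ∀ o ∈ O, orderOf o = orderOf v ∧
        (Subgroup.centralizer {o}).relIndex N = (Subgroup.centralizer {v}).relIndex N) :
    Nat.card N ≤ Nat.factorial m +
      (2 * (Nat.factorial m) ^ 2) ^ (4 * B * (Nat.factorial m) ^ 2) := by
  classical
  -- Z = N ⊓ C_G(N) is trivial
  have hZnormal : (N ⊓ Subgroup.centralizer (N : Set G)).Normal := inferInstance
  have hZinv : ∀ z ∈ N ⊓ Subgroup.centralizer (N : Set G),
      α z ∈ N ⊓ Subgroup.centralizer (N : Set G) := by
    intro z hz
    obtain ⟨hzN, hzC⟩ := Subgroup.mem_inf.mp hz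
    refine Subgroup.mem_inf.mpr ⟨hN z hzN, ?_⟩
    rw [Subgroup.mem_centralizer_iff] at hzC ⊢
    intro n hn
    have h1 := hzC (α n) (hN n hn)
    have h3 := congrArg α h1
    rw [map_mul, map_mul, h2 n] at h3
    exact h3
  have hZ : N ⊓ Subgroup.centralizer (N : Set G) = ⊥ := by
    rcases hmin _ hZnormal hZinv inf_le_left with h | h
    · exact h
    · exfalso
      apply hnab
      intro a ha b hb
      have hb' : b ∈ N ⊓ Subgroup.centralizer (N : Set G) := by rw [h]; exact hb
      have hbC := (Subgroup.mem_inf.mp hb').2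
      rw [Subgroup.mem_centralizer_iff] at hbC
      exact hbC a ha
  have hZ' : ∀ z ∈ N, (∀ n ∈ N, n * z = z * n) → z = 1 := by
    intro z hz hcomm
    have hmem : z ∈ N ⊓ Subgroup.centralizer (N : Set G) := by
      refine Subgroup.mem_inf.mpr ⟨hz, ?_⟩
      rw [Subgroup.mem_centralizer_iff]
      exact hcomm
    rw [hZ, Subgroup.mem_bot] at hmem
    exact hmem
  have hNZ : N ⊓ Subgroup.center G = ⊥ := by
    rw [eq_bot_iff, ← hZ]
    exact inf_le_inf_left N (Subgroup.center_le_centralizer _)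
  have hc : Nat.card {c : N // α (c : G) = c} ≤ Nat.factorial m :=
    (hfix hNZ).trans (Nat.factorial_le hm)
  have hfpos : 1 ≤ Nat.factorial m := Nat.factorial_pos m
  by_cases hall : ∀ n ∈ N, α n = n
  · -- α fixes N pointwise
    have h1 : Nat.card N ≤ Nat.card {c : N // α (c : G) = c} := by
      refine Nat.card_le_card_of_injective (fun n : N => (⟨n, hall n n.2⟩ : {c : N // α (c : G) = c})) ?_
      intro a b hab
      exact congrArg Subtype.val hab
    exact (h1.trans hc).trans (Nat.le_add_right _ _)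
  · have hne : ∃ n ∈ N, α n ≠ n := by
      by_contra hcon
      apply hall
      intro n hn
      by_contra hn2
      exact hcon ⟨n, hn, hn2⟩
    obtain ⟨g, hgN, hg1, hgc⟩ := hbfs hne
    obtain ⟨O, hOcl, hOcard, hO⟩ := horb g hgN hg1
    have hrel : (Subgroup.centralizer {g}).relIndex N ≤ 2 * (Nat.factorial m) ^ 2 :=
      hgc.trans (Nat.mul_le_mul_left 2 (Nat.pow_le_pow_left hc 2))
    -- index of the centralizer of g
    have hidx : (Subgroup.centralizer {g}).index ≤ 2 * (Nat.factorial m) ^ 2 * B := by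
      have h1 : (Subgroup.centralizer {g} ⊓ N).relIndex N * N.index =
          (Subgroup.centralizer {g} ⊓ N).index := Subgroup.relIndex_mul_index inf_le_right
      have h3 : (Subgroup.centralizer {g}).index ≤ (Subgroup.centralizer {g} ⊓ N).index :=
        Nat.le_of_dvd (Nat.pos_of_ne_zero Subgroup.index_ne_zero_of_finite)
          (Subgroup.index_dvd_of_le inf_le_left)
      rw [Subgroup.inf_relIndex_right] at h1
      calc (Subgroup.centralizer {g}).index ≤ (Subgroup.centralizer {g} ⊓ N).index := h3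
        _ = (Subgroup.centralizer {g}).relIndex N * N.index := h1.symm
        _ ≤ 2 * (Nat.factorial m) ^ 2 * B := Nat.mul_le_mul hrel hB
    have hOc : O.card ≤ 4 * B * (Nat.factorial m) ^ 2 := by
      calc O.card ≤ 2 * (Subgroup.centralizer {g}).index := hOcard
        _ ≤ 2 * (2 * (Nat.factorial m) ^ 2 * B) := Nat.mul_le_mul_left 2 hidx
        _ = 4 * B * (Nat.factorial m) ^ 2 := by ring
    have hcent : Nat.card N ≤ (2 * (Nat.factorial m) ^ 2) ^ O.card :=
      iv_cent_card N O (2 * (Nat.factorial m) ^ 2) hOcl hZ'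
        (fun o ho => by rw [(hO o ho).2]; exact hrel)
    have hbase : 1 ≤ 2 * (Nat.factorial m) ^ 2 := by
      have : 1 ≤ (Nat.factorial m) ^ 2 := Nat.one_le_pow _ _ hfpos
      omega
    exact (hcent.trans (Nat.pow_le_pow_right hbase hOc)).trans (Nat.le_add_left _ _)

end Cfsg.Agent.Lib.helper86.IV
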