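import Mathlib
import Cfsg.Agent.Lib.helper86.IvDefs
import Cfsg.Agent.Lib.helper98.IvGEN
import Cfsg.Agent.Lib.helper46.IvFIX
import Cfsg.Agent.Lib.helper12.IvORBIT
import Cfsg.Agent.Lib.helper29.IvBFS
import Cfsg.Agent.Lib.helper29.IvLNABcore

/-!
# S3928, piece LNAB: the non-abelian layer
-/

set_option autoImplicit false

namespace Cfsg.Agent.Lib.helper86.IV

/-- LNAB : the non-abelian layer (uses GEN, FIX, BFS, ORBIT, CENT). -/
theorem iv_layer_nab {G : Type*} [Group G] [Finite G] (α : MulAut G) (h : IvHyp α) (m B : ℕ)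
    (hm : Nat.card (ivI α) ≤ m) (N : Subgroup G) [N.Normal] (hN : ∀ n ∈ N, α n ∈ N)
    (hmin : ∀ L : Subgroup G, L.Normal → (∀ n ∈ L, α n ∈ L) → L ≤ N → L = ⊥ ∨ L = N)
    (hB : N.index ≤ B)
    (hnab : ¬ ∀ a ∈ N, ∀ b ∈ N, a * b = b * a) :
    Nat.card N ≤ Nat.factorial m +
      (2 * (Nat.factorial m) ^ 2) ^ (4 * B * (Nat.factorial m) ^ 2) := by
  exact helper29_layer_nab_core α h.invol m B hm N hN hmin hB hnab
    (fun hNZ => iv_fix_card α (iv_gen α h) N hNZ)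
    (fun hne => helper29_iv_bf_sub α h.invol N hN hne)
    (fun v hv hv1 => h12_iv_orbit α h.invol N hN hmin v hv hv1)

end Cfsg.Agent.Lib.helper86.IV
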