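import Mathlib
import Cfsg.Prelude.Def_LieTypeChar
import Cfsg.Agent.Lib.helper44.LODefs
import Cfsg.Agent.Lib.helper6.LOARITH
import Cfsg.Agent.S0243

/-!
# S2363, piece PSL2 (racer copy): `|PSL_2(q)| < q^3` and `q = p^k`, `k` the exponent of `p`.
-/

set_option autoImplicit false

namespace Cfsg.Agent.Lib.helper44.LO

open Cfsg

/-- PSL2 (racer copy) -/
theorem h29_lo_psl_two {F : Type} [Field F] [Fintype F] (p : ℕ) (hp : p.Prime) [CharP F p] :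
    Nat.card (Matrix.ProjectiveSpecialLinearGroup (Fin 2) F) <
        p ^ (3 * (Nat.card (Matrix.ProjectiveSpecialLinearGroup (Fin 2) F)).factorization p) ∧
      Fintype.card F = p ^ (Nat.card (Matrix.ProjectiveSpecialLinearGroup (Fin 2) F)).factorization p := by
  obtain ⟨f, -, hf⟩ := FiniteField.card F p
  obtain ⟨q, hq⟩ : ∃ q : ℕ, q = p ^ (f : ℕ) := ⟨_, rfl⟩
  have hf1 : 1 ≤ (f : ℕ) := f.pos
  have hFq : Fintype.card F = q := by rw [hq]; exact hf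
  have hpq : p ∣ q := by rw [hq]; exact dvd_pow_self p (by omega)
  have hq2 : 2 ≤ q := by
    have h1 : 0 < q := by rw [hq]; exact Nat.pow_pos hp.pos
    have h2 := Nat.le_of_dvd h1 hpq
    have h3 := hp.two_le
    omega
  have hres := Cfsg.Agent.S0243.result hFq 2 le_rfl
  rw [Fin.prod_univ_two] at hres
  have e0 : q ^ 2 - q ^ ((0 : Fin 2) : ℕ) = q ^ 2 - 1 := by simp
  have e1 : q ^ 2 - q ^ ((1 : Fin 2) : ℕ) = q * (q - 1) := by
    have : ((1 : Fin 2) : ℕ) = 1 := rfl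
    rw [this, pow_one, Nat.mul_sub_one, sq]
  rw [e0, e1] at hres
  -- p does not divide q - 1, q^2 - 1
  have hnd1 : ¬ p ∣ q - 1 := by
    intro h
    have h1 : p ∣ q - (q - 1) := Nat.dvd_sub hpq h
    rw [show q - (q - 1) = 1 by omega] at h1
    exact hp.one_lt.ne' (Nat.dvd_one.mp h1)
  have hnd2 : ¬ p ∣ q ^ 2 - 1 := by
    intro h
    have hq2' : p ∣ q ^ 2 := dvd_pow hpq (by norm_num)
    have hpos : 1 ≤ q ^ 2 := Nat.one_le_pow _ _ (by omega)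
    have h1 : p ∣ q ^ 2 - (q ^ 2 - 1) := Nat.dvd_sub hq2' h
    rw [show q ^ 2 - (q ^ 2 - 1) = 1 by omega] at h1
    exact hp.one_lt.ne' (Nat.dvd_one.mp h1)
  have hg : ¬ p ∣ Nat.gcd 2 (q - 1) := fun h => hnd1 (dvd_trans h (Nat.gcd_dvd_right 2 (q - 1)))
  have hgpos : 1 ≤ Nat.gcd 2 (q - 1) := Nat.gcd_pos_of_pos_left _ (by norm_num)
  have hc : (Nat.gcd 2 (q - 1) * (q - 1)) *
      Nat.card (Matrix.ProjectiveSpecialLinearGroup (Fin 2) F)
      = (p ^ (f : ℕ)) ^ 1 * ((q ^ 2 - 1) * (q - 1)) := by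
    rw [← hq, pow_one, mul_assoc, hres]; ring
  have hcp : ¬ p ∣ Nat.gcd 2 (q - 1) * (q - 1) := by
    intro h
    rcases (Nat.Prime.dvd_mul hp).mp h with h | h
    · exact hg h
    · exact hnd1 h
  have hMp : ¬ p ∣ (q ^ 2 - 1) * (q - 1) := by
    intro h
    rcases (Nat.Prime.dvd_mul hp).mp h with h | h
    · exact hnd2 h
    · exact hnd1 h
  have hM : (q ^ 2 - 1) * (q - 1) < Nat.gcd 2 (q - 1) * (q - 1) * (p ^ (f : ℕ)) ^ 2 := by
    rw [← hq]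
    have hpos : 1 ≤ q ^ 2 := Nat.one_le_pow _ _ (by omega)
    have h1 : (q ^ 2 - 1) * (q - 1) < q ^ 2 * (q - 1) :=
      Nat.mul_lt_mul_of_pos_right (by omega) (by omega)
    have h2 : q ^ 2 * (q - 1) ≤ Nat.gcd 2 (q - 1) * (q - 1) * q ^ 2 := by
      calc q ^ 2 * (q - 1) = 1 * (q - 1) * q ^ 2 := by ring
        _ ≤ Nat.gcd 2 (q - 1) * (q - 1) * q ^ 2 :=
          Nat.mul_le_mul_right _ (Nat.mul_le_mul_right _ hgpos)
    omega
  obtain ⟨hfac, hlt⟩ := helper6_lo_arith hp (f : ℕ) _ _ 1 _ 2 hc hcp hMp hM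
  rw [mul_one] at hfac
  rw [hfac]
  refine ⟨?_, hf⟩
  calc Nat.card (Matrix.ProjectiveSpecialLinearGroup (Fin 2) F)
      < (p ^ (f : ℕ)) ^ (1 + 2) := hlt
    _ = p ^ (3 * (f : ℕ)) := by rw [← pow_mul]; ring_nf

end Cfsg.Agent.Lib.helper44.LO
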