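import Mathlib
import Cfsg.Prelude.Def_Transfer
import Cfsg.Agent.Lib.helper4.P3XS

/-!
# S5239 piece EXP27 (racer copy, helper29)

`h29_p3_exp27` has the verbatim skeleton statement of `p3_exp27` (prefixed name).
-/

set_option autoImplicit false
open Cfsg
open scoped commutatorElement

namespace Cfsg.Agent.Lib.helper79.P3

/-- cube formula when the commutator commutes with both elements -/
theorem h29_cube_mul {G : Type*} [Group G] (u v : G)
    (hcu : (v⁻¹ * u⁻¹ * v * u) * u = u * (v⁻¹ * u⁻¹ * v * u))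
    (hcv : (v⁻¹ * u⁻¹ * v * u) * v = v * (v⁻¹ * u⁻¹ * v * u)) :
    (u * v) ^ 3 = u ^ 3 * v ^ 3 * (v⁻¹ * u⁻¹ * v * u) ^ 3 := by
  obtain ⟨c, hc⟩ : ∃ c : G, c = v⁻¹ * u⁻¹ * v * u := ⟨_, rfl⟩
  rw [← hc] at hcu hcv ⊢
  have hvu : v * u = u * (v * c) := by
    rw [hc]
    group
  have hvu' : ∀ X : G, v * (u * X) = u * (v * (c * X)) := by
    intro X
    rw [← mul_assoc, hvu]
    simp only [mul_assoc]
  have hcu' : ∀ X : G, c * (u * X) = u * (c * X) := by
    intro X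
    rw [← mul_assoc, hcu, mul_assoc]
  have hcv' : ∀ X : G, c * (v * X) = v * (c * X) := by
    intro X
    rw [← mul_assoc, hcv, mul_assoc]
  simp only [pow_succ, pow_zero, one_mul, mul_assoc, hvu', hcu', hcv, hcv']

/-- a conjugation identity for a central commutator -/
theorem h29_conj_sq {G : Type*} [Group G] (a y c : G) (hdef : c = a⁻¹ * y⁻¹ * a * y)
    (hc1 : ∀ g : G, g * c = c * g) :
    a * (y⁻¹ * y⁻¹ * a⁻¹ * y * y) = c⁻¹ * c⁻¹ := by
  have hc2 : ∀ g : G, g * c⁻¹ = c⁻¹ * g := by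
    intro g
    calc g * c⁻¹ = c⁻¹ * (c * g) * c⁻¹ := by group
      _ = c⁻¹ * (g * c) * c⁻¹ := by rw [hc1 g]
      _ = c⁻¹ * g := by group
  have h1 : y⁻¹ * a⁻¹ * y = c⁻¹ * a⁻¹ := by
    rw [hdef]
    group
  calc a * (y⁻¹ * y⁻¹ * a⁻¹ * y * y)
      = a * (y⁻¹ * (y⁻¹ * a⁻¹ * y) * y) := by group
    _ = a * (y⁻¹ * (c⁻¹ * a⁻¹) * y) := by rw [h1]
    _ = a * ((y⁻¹ * c⁻¹) * a⁻¹ * y) := by group
    _ = a * ((c⁻¹ * y⁻¹) * a⁻¹ * y) := by rw [hc2 y⁻¹]
    _ = a * (c⁻¹ * (y⁻¹ * a⁻¹ * y)) := by group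
    _ = a * (c⁻¹ * (c⁻¹ * a⁻¹)) := by rw [h1]
    _ = (a * c⁻¹) * (c⁻¹ * a⁻¹) := by group
    _ = (c⁻¹ * a) * (c⁻¹ * a⁻¹) := by rw [hc2 a]
    _ = c⁻¹ * ((a * c⁻¹) * a⁻¹) := by group
    _ = c⁻¹ * ((c⁻¹ * a) * a⁻¹) := by rw [hc2 a]
    _ = c⁻¹ * c⁻¹ := by group

/-- EXP27 (L), racer copy. -/
theorem h29_p3_exp27 {G : Type*} [Group G] [Finite G] (hG : Nat.card G = 27) (hna : ∃ a b : G, a * b ≠ b * a)
    (E : Subgroup G) (hE : Nat.card E = 9) (hEe : ∀ e ∈ E, e ^ 3 = 1) (ψ : G →* G)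
    (hψ : Function.Injective ψ) (hψE : ∀ e ∈ E, ψ e = e⁻¹) : ∀ g : G, g ^ 3 = 1 := by
  classical
  have hf3 : Fact (Nat.Prime 3) := ⟨by norm_num⟩
  obtain ⟨⟨-, -, hcomm⟩, hZ⟩ := p3_extraspecial27 hG hna
  -- commutators are central
  have hcen : ∀ u v g : G, g * (v⁻¹ * u⁻¹ * v * u) = (v⁻¹ * u⁻¹ * v * u) * g := by
    intro u v g
    have h1 : v⁻¹ * u⁻¹ * v * u ∈ commutator G := by
      have h2 : ⁅v⁻¹, u⁻¹⁆ ∈ commutator G :=
        Subgroup.commutator_mem_commutator (Subgroup.mem_top _) (Subgroup.mem_top _)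
      have e : ⁅v⁻¹, u⁻¹⁆ = v⁻¹ * u⁻¹ * v * u := by
        rw [commutatorElement_def]
        group
      rw [← e]
      exact h2
    rw [hcomm] at h1
    exact Subgroup.mem_center_iff.1 h1 g
  -- `E` is normal
  have hidx : E.index = 3 := by
    have h1 := E.card_mul_index
    rw [hE, hG] at h1
    omega
  have hEn : E.Normal := by
    apply Subgroup.normal_of_index_eq_minFac_card
    rw [hidx, hG]
    norm_num
  -- an element of `E` outside the centre
  have hEZ : ∃ a ∈ E, a ∉ Subgroup.center G := by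
    by_contra hcon
    have hle : E ≤ Subgroup.center G := by
      intro a ha
      by_contra h
      exact hcon ⟨a, ha, h⟩
    have h1 := Subgroup.card_le_of_le hle
    rw [hE, hZ] at h1
    omega
  obtain ⟨a, haE, haZ⟩ := hEZ
  -- `E` is commutative
  have hEc : ∀ e1 ∈ E, ∀ e2 ∈ E, e1 * e2 = e2 * e1 := by
    intro e1 h1 e2 h2
    have hc : IsMulCommutative E :=
      IsPGroup.isMulCommutative_of_card_eq_prime_sq (p := 3) (by rw [hE]; norm_num)
    have h := hc.is_comm.comm (⟨e1, h1⟩ : E) ⟨e2, h2⟩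
    exact congrArg Subtype.val h
  -- `ψ` reflects `E`
  have hψin : ∀ g : G, ψ g ∈ E → g ∈ E := by
    intro g hg
    have h1 : ψ ((ψ g)⁻¹) = ψ g := by rw [hψE _ (E.inv_mem hg), inv_inv]
    have h2 := hψ h1
    rw [← h2]
    exact E.inv_mem hg
  intro y
  by_contra hy3
  have hyE : y ∉ E := fun h => hy3 (hEe y h)
  have hq3 : Nat.card (G ⧸ E) = 3 := by
    rw [← Subgroup.index_eq_card]
    exact hidx
  have hy1 : (QuotientGroup.mk y : G ⧸ E) ≠ 1 := by
    intro h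
    exact hyE ((QuotientGroup.eq_one_iff y).1 h)
  have htop := zpowers_eq_top_of_prime_card (G := G ⧸ E) (p := 3) hq3 hy1
  have hmem : (QuotientGroup.mk (ψ y) : G ⧸ E) ∈ Subgroup.zpowers (QuotientGroup.mk y : G ⧸ E) := by
    rw [htop]
    exact Subgroup.mem_top _
  obtain ⟨k, hk⟩ := Subgroup.mem_zpowers_iff.1 hmem
  have hy3q : (QuotientGroup.mk y : G ⧸ E) ^ 3 = 1 := by
    rw [← hq3]
    exact pow_card_eq_one'
  have hy3E : y ^ 3 ∈ E := by
    have h : ((y ^ 3 : G) : G ⧸ E) = 1 := by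
      rw [QuotientGroup.mk_pow]
      exact hy3q
    exact (QuotientGroup.eq_one_iff _).1 h
  -- reduce the exponent modulo 3
  have hkr : (QuotientGroup.mk y : G ⧸ E) ^ k = (QuotientGroup.mk y : G ⧸ E) ^ (k % 3) := by
    conv_lhs => rw [← Int.mul_ediv_add_emod k 3]
    rw [zpow_add, zpow_mul]
    have h3 : (QuotientGroup.mk y : G ⧸ E) ^ (3 : ℤ) = 1 := by
      have := hy3q
      exact_mod_cast this
    rw [h3, one_zpow, one_mul]
  rw [hkr] at hk
  have hr : k % 3 = 0 ∨ k % 3 = 1 ∨ k % 3 = 2 := by omega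
  rcases hr with hr | hr | hr
  · -- `ψ y ∈ E`
    rw [hr, zpow_zero] at hk
    exact hyE (hψin y ((QuotientGroup.eq_one_iff _).1 hk.symm))
  · -- `ψ y ∈ y E`
    rw [hr, zpow_one] at hk
    have he' : y⁻¹ * ψ y ∈ E := QuotientGroup.eq.1 hk
    obtain ⟨e', hedef⟩ : ∃ e' : G, e' = y⁻¹ * ψ y := ⟨_, rfl⟩
    rw [← hedef] at he'
    have hψy : ψ y = y * e' := by
      rw [hedef]
      group
    have hcE : e'⁻¹ * y⁻¹ * e' * y ∈ E := by
      have h1 : y⁻¹ * e' * y ∈ E := by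
        have := hEn.conj_mem e' he' y⁻¹
        rwa [inv_inv] at this
      have h2 := E.mul_mem (E.inv_mem he') h1
      have e : e'⁻¹ * (y⁻¹ * e' * y) = e'⁻¹ * y⁻¹ * e' * y := by group
      rwa [e] at h2
    have hcube := h29_cube_mul y e' (hcen y e' y).symm (hcen y e' e').symm
    rw [hEe e' he', hEe _ hcE, mul_one, mul_one] at hcube
    have h1 : ψ (y ^ 3) = (y ^ 3)⁻¹ := hψE _ hy3E
    rw [map_pow, hψy, hcube] at h1
    -- `t = t⁻¹` and `t ^ 3 = 1`
    have h2 : (y ^ 3) ^ 3 = 1 := hEe _ hy3E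
    apply hy3
    have h3 : y ^ 3 * y ^ 3 = 1 := by
      nth_rewrite 2 [h1]
      exact mul_inv_cancel _
    calc y ^ 3 = (y ^ 3) ^ 3 * (y ^ 3 * y ^ 3)⁻¹ := by group
      _ = 1 := by rw [h2, h3, inv_one, mul_one]
  · -- `ψ y ∈ y² E`
    rw [hr] at hk
    have hk2 : ((y * y : G) : G ⧸ E) = (ψ y : G ⧸ E) := by
      rw [QuotientGroup.mk_mul, ← hk]
      exact (zpow_two _).symm
    have he' : (y * y)⁻¹ * ψ y ∈ E := QuotientGroup.eq.1 hk2
    obtain ⟨e', hedef⟩ : ∃ e' : G, e' = (y * y)⁻¹ * ψ y := ⟨_, rfl⟩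
    rw [← hedef] at he'
    have hψy : ψ y = y * y * e' := by
      rw [hedef]
      group
    obtain ⟨c, hc⟩ : ∃ c : G, c = a⁻¹ * y⁻¹ * a * y := ⟨_, rfl⟩
    have hc1 : ∀ g : G, g * c = c * g := by
      intro g
      rw [hc]
      exact hcen y a g
    have hcE : c ∈ E := by
      have h1 : y⁻¹ * a * y ∈ E := by
        have := hEn.conj_mem a haE y⁻¹
        rwa [inv_inv] at this
      have h2 := E.mul_mem (E.inv_mem haE) h1
      have e : a⁻¹ * (y⁻¹ * a * y) = c := by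
        rw [hc]
        group
      rwa [e] at h2
    -- `m = y⁻² a⁻¹ y² ∈ E`
    have hmE : y⁻¹ * y⁻¹ * a⁻¹ * y * y ∈ E := by
      have h1 : y⁻¹ * a⁻¹ * y ∈ E := by
        have := hEn.conj_mem a⁻¹ (E.inv_mem haE) y⁻¹
        rwa [inv_inv] at this
      have h2 : y⁻¹ * (y⁻¹ * a⁻¹ * y) * y ∈ E := by
        have := hEn.conj_mem _ h1 y⁻¹
        rwa [inv_inv] at this
      have e : y⁻¹ * (y⁻¹ * a⁻¹ * y) * y = y⁻¹ * y⁻¹ * a⁻¹ * y * y := by group
      rwa [e] at h2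
    have hψc : ψ c = c⁻¹ * c⁻¹ := by
      have h1 : ψ c = a * ((y * y * e')⁻¹ * a⁻¹ * (y * y * e')) := by
        rw [hc]
        simp only [map_mul, map_inv, hψE a haE, hψy, inv_inv]
        group
      have h2 : (y * y * e')⁻¹ * a⁻¹ * (y * y * e') = y⁻¹ * y⁻¹ * a⁻¹ * y * y := by
        have h3 : (y * y * e')⁻¹ * a⁻¹ * (y * y * e') =
            e'⁻¹ * ((y⁻¹ * y⁻¹ * a⁻¹ * y * y) * e') := by group
        rw [h3, hEc _ hmE e' he']
        group
      rw [h1, h2]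
      exact h29_conj_sq a y c hc hc1
    have hψc' : ψ c = c⁻¹ := hψE c hcE
    have hc_one : c = 1 := by
      have h1 : c⁻¹ = c⁻¹ * c⁻¹ := hψc'.symm.trans hψc
      have h2 : c⁻¹ = 1 := by
        have h3 : c⁻¹ * 1 = c⁻¹ * c⁻¹ := by rw [mul_one]; exact h1
        exact (mul_left_cancel h3).symm
      rw [← inv_inv c, h2, inv_one]
    have hay : a * y = y * a := by
      calc a * y = y * a * (a⁻¹ * y⁻¹ * a * y) := by group
        _ = y * a := by rw [← hc, hc_one, mul_one]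
    -- `a` is central
    apply haZ
    have hCle : E ≤ Subgroup.centralizer ({a} : Set G) := by
      intro e he
      rw [Subgroup.mem_centralizer_iff]
      intro h hh
      rw [Set.mem_singleton_iff] at hh
      rw [hh]
      exact hEc a haE e he
    have hyC : y ∈ Subgroup.centralizer ({a} : Set G) := by
      rw [Subgroup.mem_centralizer_iff]
      intro h hh
      rw [Set.mem_singleton_iff] at hh
      rw [hh]
      exact hay
    have hdvd : Nat.card (Subgroup.centralizer ({a} : Set G)) ∣ 27 := by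
      rw [← hG]
      exact Subgroup.card_subgroup_dvd_card _
    have hge : 9 ≤ Nat.card (Subgroup.centralizer ({a} : Set G)) := by
      rw [← hE]
      exact Subgroup.card_le_of_le hCle
    have hne9 : Nat.card (Subgroup.centralizer ({a} : Set G)) ≠ 9 := by
      intro h9
      have heq : E = Subgroup.centralizer ({a} : Set G) :=
        Subgroup.eq_of_le_of_card_ge hCle (by rw [hE, h9])
      exact hyE (heq ▸ hyC)
    have h27 : Nat.card (Subgroup.centralizer ({a} : Set G)) = 27 := by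
      have hle : Nat.card (Subgroup.centralizer ({a} : Set G)) ≤ 27 := Nat.le_of_dvd (by norm_num) hdvd
      obtain ⟨m, hm⟩ : ∃ m : ℕ, m = Nat.card (Subgroup.centralizer ({a} : Set G)) := ⟨_, rfl⟩
      rw [← hm] at hdvd hge hne9 hle ⊢
      interval_cases m <;> omega
    have htopC : Subgroup.centralizer ({a} : Set G) = ⊤ :=
      Subgroup.eq_top_of_card_eq _ (by rw [h27, hG])
    rw [Subgroup.mem_center_iff]
    intro g
    have hg : g ∈ Subgroup.centralizer ({a} : Set G) := by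
      rw [htopC]
      exact Subgroup.mem_top g
    rw [Subgroup.mem_centralizer_iff] at hg
    exact (hg a (Set.mem_singleton a)).symm

end Cfsg.Agent.Lib.helper79.P3
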