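import Mathlib
import Cfsg.Agent.Lib.helper65.PearlBasic

/-! S5238L piece Q (racer copy, helper29): `q_claim` from D1, I1, S, U taken as hypotheses. -/

set_option autoImplicit false

namespace Cfsg.Agent.Lib.helper65.PearlPow

open Cfsg.Agent.Lib.helper68

variable {H : Type*} [Group H]

/-- Q core: `q_claim` with the statements of `rel_dl`, `rel_dl_mul_const`, `s_claim`, `u_claim`
as hypotheses. -/
theorem h29_q_claim_core
    (hD1 : ∀ {u v : ℕ} {s s' : ℕ → H}, PolySeq v s → Rel u s s' → Rel (u + 1) (dl s) (dl s'))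
    (hI1 : ∀ {v j : ℕ} {s : ℕ → H} {y : H}, PolySeq v s → y ∈ gam H j →
      Rel (v + 1 + j) (dl s) (dl (fun n => s n * y)))
    (hS : ∀ (x g : H) {w : ℕ}, 1 ≤ w → g ∈ gam H w → ∀ (j : ℕ),
      Rel (w + j + 2) ((ph x)^[j] (dl (tt x g))) (dl ((ph x)^[j] (tt x g))))
    (hU : ∀ (x g : H) {w : ℕ}, 1 ≤ w → g ∈ gam H w → ∀ (j : ℕ),
      Rel (w + j + 2) (fun n => (ph x)^[j + 1] (tt x g) n * yk x (com x g) j)
        ((ph x)^[j] (dl (tt x g))))
    (x g : H) {w : ℕ} (hw : 1 ≤ w) (hg : g ∈ gam H w) (k : ℕ) :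
    Rel (w + k + 2) (fun n => (ph x)^[k + 1] (tt x g) n * yk x (com x g) k)
      (dl^[k + 1] (tt x g)) := by
  induction k with
  | zero =>
    apply rel_of_eq
    have h1 := dl_tt x g
    show (fun n => ph x (tt x g) n * com x g) = dl (tt x g)
    exact h1.symm
  | succ k ih =>
    -- the sequence `(ph x)^[k+1] t * y_k` is polynomial of weight `w + k + 1`
    have hP : PolySeq (w + (k + 1)) ((ph x)^[k + 1] (tt x g)) :=
      polyseq_ph_iter x (tt_polyseq x g hg) (k + 1)
    have hy : yk x (com x g) k ∈ gam H (w + 1 + k) := yk_mem x g hg k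
    have hyP : PolySeq (w + (k + 1)) (fun _ : ℕ => yk x (com x g) k) := by
      have e : w + 1 + k = w + (k + 1) := by omega
      rw [e] at hy
      exact polyseq_const hy
    have hprod : PolySeq (w + (k + 1))
        (fun n => (ph x)^[k + 1] (tt x g) n * yk x (com x g) k) := PolySeq.mul hP hyP
    -- D1 on the induction hypothesis
    have h1 : Rel (w + k + 2 + 1) (dl (fun n => (ph x)^[k + 1] (tt x g) n * yk x (com x g) k))
        (dl (dl^[k + 1] (tt x g))) := hD1 hprod ih
    have e1 : dl (dl^[k + 1] (tt x g)) = dl^[k + 1 + 1] (tt x g) :=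
      (Function.iterate_succ_apply' dl (k + 1) (tt x g)).symm
    rw [e1] at h1
    -- I1
    have h2 : Rel (w + (k + 1) + 1 + (w + 1 + k)) (dl ((ph x)^[k + 1] (tt x g)))
        (dl (fun n => (ph x)^[k + 1] (tt x g) n * yk x (com x g) k)) := hI1 hP hy
    -- S and U at `k + 1`
    have h3 := hS x g hw hg (k + 1)
    have h4 := hU x g hw hg (k + 1)
    have h1' : Rel (w + (k + 1) + 2) (dl (fun n => (ph x)^[k + 1] (tt x g) n * yk x (com x g) k))
        (dl^[k + 1 + 1] (tt x g)) := rel_mono (by omega) h1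
    have h2' : Rel (w + (k + 1) + 2) (dl ((ph x)^[k + 1] (tt x g)))
        (dl (fun n => (ph x)^[k + 1] (tt x g) n * yk x (com x g) k)) := rel_mono (by omega) h2
    exact rel_trans h4 (rel_trans h3 (rel_trans h2' h1'))

end Cfsg.Agent.Lib.helper65.PearlPow
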