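import Mathlib
import Cfsg.Agent.Lib.helper65.PearlBasic

/-! S5238L piece S (racer copy, helper29): `s_claim` from I2, D2 taken as hypotheses. -/

set_option autoImplicit false

namespace Cfsg.Agent.Lib.helper65.PearlPow

open Cfsg.Agent.Lib.helper68

variable {H : Type*} [Group H]

/-- S core: `s_claim` with the statements of `rel_dl_ph` (I2) and `rel_ph` (D2) as hypotheses. -/
theorem h29_s_claim_core
    (hI2 : ∀ {v : ℕ} (x : H) {s : ℕ → H}, PolySeq v s →
      Rel (2 * v + 2) (ph x (dl s)) (dl (ph x s)))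
    (hD2 : ∀ {u v : ℕ} (x : H) {s s' : ℕ → H}, PolySeq v s → Rel u s s' →
      Rel (u + 1) (ph x s) (ph x s'))
    (x g : H) {w : ℕ} (hw : 1 ≤ w) (hg : g ∈ gam H w) (j : ℕ) :
    Rel (w + j + 2) ((ph x)^[j] (dl (tt x g))) (dl ((ph x)^[j] (tt x g))) := by
  induction j with
  | zero => exact rel_refl _ _
  | succ j ih =>
    have ht : PolySeq w (tt x g) := tt_polyseq x g hg
    have hdt : PolySeq (w + 1) (dl (tt x g)) := PolySeq.diff ht
    have hP : PolySeq (w + 1 + j) ((ph x)^[j] (dl (tt x g))) := polyseq_ph_iter x hdt j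
    have hQ : PolySeq (w + j) ((ph x)^[j] (tt x g)) := polyseq_ph_iter x ht j
    -- D2 on the induction hypothesis
    have h1 : Rel (w + j + 2 + 1) (ph x ((ph x)^[j] (dl (tt x g))))
        (ph x (dl ((ph x)^[j] (tt x g)))) := hD2 x hP ih
    -- I2 for `(ph x)^[j] t`
    have h2 : Rel (2 * (w + j) + 2) (ph x (dl ((ph x)^[j] (tt x g))))
        (dl (ph x ((ph x)^[j] (tt x g)))) := hI2 x hQ
    have e1 : (ph x)^[j + 1] (dl (tt x g)) = ph x ((ph x)^[j] (dl (tt x g))) :=
      Function.iterate_succ_apply' (ph x) j (dl (tt x g))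
    have e2 : (ph x)^[j + 1] (tt x g) = ph x ((ph x)^[j] (tt x g)) :=
      Function.iterate_succ_apply' (ph x) j (tt x g)
    rw [e1, e2]
    exact rel_trans (rel_mono (by omega) h1) (rel_mono (by omega) h2)

end Cfsg.Agent.Lib.helper65.PearlPow
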