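import Cfsg.Agent.Lib.helper74.QODefs

/-!
# S1935 piece N (`exists_filtration`), helper29.

For a `p`-group `𝔾` of additive automorphisms of a finite abelian group `V` of exponent `p`:
the ascending series `U 0 = 0`, `U (j+1) = {v | ∀ g ∈ 𝔾, g v - v ∈ U j}` reaches `V`, and
`E i = {φ | ∀ j, φ (U (j+i)) ⊆ U j}` is the required filtration of `End V`.
-/

set_option autoImplicit false

namespace Cfsg.Agent.Lib.helper29.QO

open Cfsg.Agent.Lib.helper74.QO

section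
variable {V : Type*} [AddCommGroup V]

/-- next term of the ascending series. -/
def nxt (𝔾 : Subgroup (AddMonoid.End V)ˣ) (U : AddSubgroup V) : AddSubgroup V where
  carrier := {v | ∀ g ∈ 𝔾, ((g : (AddMonoid.End V)ˣ) : AddMonoid.End V) v - v ∈ U}
  zero_mem' := by
    intro g _
    simp
  add_mem' := by
    intro v w hv hw g hg
    have e : ((g : (AddMonoid.End V)ˣ) : AddMonoid.End V) (v + w) - (v + w)
        = (((g : (AddMonoid.End V)ˣ) : AddMonoid.End V) v - v)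
          + (((g : (AddMonoid.End V)ˣ) : AddMonoid.End V) w - w) := by
      rw [map_add]; abel
    rw [e]; exact U.add_mem (hv g hg) (hw g hg)
  neg_mem' := by
    intro v hv g hg
    have e : ((g : (AddMonoid.End V)ˣ) : AddMonoid.End V) (-v) - (-v)
        = -(((g : (AddMonoid.End V)ˣ) : AddMonoid.End V) v - v) := by
      rw [map_neg]; abel
    rw [e]; exact U.neg_mem (hv g hg)

/-- the ascending series. -/
def ser (𝔾 : Subgroup (AddMonoid.End V)ˣ) : ℕ → AddSubgroup V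
  | 0 => ⊥
  | (j + 1) => nxt 𝔾 (ser 𝔾 j)

theorem mem_ser_succ {𝔾 : Subgroup (AddMonoid.End V)ˣ} {j : ℕ} {v : V} :
    v ∈ ser 𝔾 (j + 1) ↔
      ∀ g ∈ 𝔾, ((g : (AddMonoid.End V)ˣ) : AddMonoid.End V) v - v ∈ ser 𝔾 j := Iff.rfl

theorem ser_zero (𝔾 : Subgroup (AddMonoid.End V)ˣ) : ser 𝔾 0 = ⊥ := rfl

theorem ser_le_succ (𝔾 : Subgroup (AddMonoid.End V)ˣ) : ∀ j, ser 𝔾 j ≤ ser 𝔾 (j + 1)
  | 0 => by rw [ser_zero]; exact bot_le
  | (j + 1) => fun _ hv g hg => ser_le_succ 𝔾 j (hv g hg)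

theorem ser_le_add (𝔾 : Subgroup (AddMonoid.End V)ˣ) (j k : ℕ) : ser 𝔾 j ≤ ser 𝔾 (j + k) := by
  induction k with
  | zero => exact le_refl _
  | succ k ih => exact le_trans ih (ser_le_succ 𝔾 (j + k))

theorem ser_inv (𝔾 : Subgroup (AddMonoid.End V)ˣ) :
    ∀ j, ∀ g ∈ 𝔾, ∀ v ∈ ser 𝔾 j, ((g : (AddMonoid.End V)ˣ) : AddMonoid.End V) v ∈ ser 𝔾 j
  | 0, g, _, v, hv => by
      rw [ser_zero] at hv ⊢
      rw [AddSubgroup.mem_bot] at hv ⊢
      rw [hv, map_zero]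
  | (j + 1), g, hg, v, hv => by
      have h1 : ((g : (AddMonoid.End V)ˣ) : AddMonoid.End V) v - v ∈ ser 𝔾 (j + 1) :=
        ser_le_succ 𝔾 j (hv g hg)
      have e : ((g : (AddMonoid.End V)ˣ) : AddMonoid.End V) v
          = (((g : (AddMonoid.End V)ˣ) : AddMonoid.End V) v - v) + v := by abel
      rw [e]; exact (ser 𝔾 (j + 1)).add_mem h1 hv

/-- a `p`-group acting on `V` of exponent `p` and preserving a proper subgroup `U` fixes a
nonzero coset of `U`. -/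
theorem exists_fixed_coset [Finite V] (p : ℕ) [Fact p.Prime] (hV : ∀ v : V, p • v = 0)
    (𝔾 : Subgroup (AddMonoid.End V)ˣ) (h𝔾 : IsPGroup p 𝔾) (U : AddSubgroup V)
    (hU : ∀ g ∈ 𝔾, ∀ u ∈ U, ((g : (AddMonoid.End V)ˣ) : AddMonoid.End V) u ∈ U)
    (hne : U ≠ ⊤) :
    ∃ v, v ∉ U ∧ ∀ g ∈ 𝔾, ((g : (AddMonoid.End V)ˣ) : AddMonoid.End V) v - v ∈ U := by
  classical
  let act : ↥𝔾 → (V ⧸ U) → (V ⧸ U) := fun g q =>
    QuotientAddGroup.map U U (((g : (AddMonoid.End V)ˣ) : AddMonoid.End V))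
      (fun u hu => hU g g.2 u hu) q
  have hact_mk : ∀ (g : ↥𝔾) (v : V), act g (v : V ⧸ U)
      = ((((g : (AddMonoid.End V)ˣ) : AddMonoid.End V) v : V) : V ⧸ U) := by
    intro g v
    exact QuotientAddGroup.map_mk U U _ _ v
  letI : MulAction ↥𝔾 (V ⧸ U) :=
    { smul := act
      one_smul := by
        intro q
        induction q using QuotientAddGroup.induction_on with
        | H v =>
          show act 1 (v : V ⧸ U) = (v : V ⧸ U)
          rw [hact_mk]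
          rfl
      mul_smul := by
        intro g h q
        induction q using QuotientAddGroup.induction_on with
        | H v =>
          show act (g * h) (v : V ⧸ U) = act g (act h (v : V ⧸ U))
          rw [hact_mk, hact_mk, hact_mk]
          rfl }
  have hsmul_mk : ∀ (g : ↥𝔾) (v : V), g • (v : V ⧸ U)
      = ((((g : (AddMonoid.End V)ˣ) : AddMonoid.End V) v : V) : V ⧸ U) := hact_mk
  -- p divides the order of the quotient
  obtain ⟨w, hw⟩ : ∃ w : V, w ∉ U := by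
    by_contra hcon
    apply hne
    rw [eq_top_iff]
    intro w _
    by_contra hw
    exact hcon ⟨w, hw⟩
  have hq0 : (w : V ⧸ U) ≠ 0 := fun h => hw ((QuotientAddGroup.eq_zero_iff w).mp h)
  have hpq : p • (w : V ⧸ U) = 0 := by
    have : ((p • w : V) : V ⧸ U) = 0 := by rw [hV w]; rfl
    exact this
  have hord : addOrderOf (w : V ⧸ U) = p := by
    have hdvd : addOrderOf (w : V ⧸ U) ∣ p := addOrderOf_dvd_of_nsmul_eq_zero hpq
    rcases (Nat.dvd_prime (Fact.out : p.Prime)).mp hdvd with h | h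
    · exact absurd (AddMonoid.addOrderOf_eq_one_iff.mp h) hq0
    · exact h
  have hpdvd : p ∣ Nat.card (V ⧸ U) := hord ▸ addOrderOf_dvd_natCard (w : V ⧸ U)
  have hfix0 : (0 : V ⧸ U) ∈ MulAction.fixedPoints ↥𝔾 (V ⧸ U) := by
    intro g
    have : g • ((0 : V) : V ⧸ U) = ((0 : V) : V ⧸ U) := by
      rw [hsmul_mk, map_zero]
    exact this
  obtain ⟨b, hb, hb0⟩ :=
    h𝔾.exists_fixed_point_of_prime_dvd_card_of_fixed_point (V ⧸ U) hpdvd hfix0
  obtain ⟨v, rfl⟩ := QuotientAddGroup.mk_surjective b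
  refine ⟨v, fun hv => hb0 ((QuotientAddGroup.eq_zero_iff v).mpr hv).symm, ?_⟩
  intro g hg
  have h1 : (⟨g, hg⟩ : ↥𝔾) • (v : V ⧸ U) = (v : V ⧸ U) := hb ⟨g, hg⟩
  rw [hsmul_mk] at h1
  have h2 := QuotientAddGroup.eq.mp h1
  have e : ((g : (AddMonoid.End V)ˣ) : AddMonoid.End V) v - v
      = -(-(((g : (AddMonoid.End V)ˣ) : AddMonoid.End V) v) + v) := by abel
  rw [e]
  exact U.neg_mem h2

/-- the ascending series reaches the top. -/
theorem exists_ser_eq_top [Finite V] (p : ℕ) [Fact p.Prime] (hV : ∀ v : V, p • v = 0)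
    (𝔾 : Subgroup (AddMonoid.End V)ˣ) (h𝔾 : IsPGroup p 𝔾) : ∃ n, ser 𝔾 n = ⊤ := by
  by_contra hcon
  have hne : ∀ n, ser 𝔾 n ≠ ⊤ := fun n h => hcon ⟨n, h⟩
  have hgrow : ∀ n, n + 1 ≤ ((ser 𝔾 n : AddSubgroup V) : Set V).ncard := by
    intro n
    induction n with
    | zero =>
      have : (0 : V) ∈ ((ser 𝔾 0 : AddSubgroup V) : Set V) := (ser 𝔾 0).zero_mem
      have hpos : 0 < ((ser 𝔾 0 : AddSubgroup V) : Set V).ncard :=
        (Set.ncard_pos (Set.toFinite _)).mpr ⟨0, this⟩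
      omega
    | succ n ih =>
      obtain ⟨v, hv, hv'⟩ := exists_fixed_coset p hV 𝔾 h𝔾 (ser 𝔾 n) (ser_inv 𝔾 n) (hne n)
      have hss : ((ser 𝔾 n : AddSubgroup V) : Set V) ⊂ ((ser 𝔾 (n + 1) : AddSubgroup V) : Set V) := by
        refine ⟨fun x hx => ser_le_succ 𝔾 n hx, fun hsub => hv (hsub ?_)⟩
        exact mem_ser_succ.mpr hv'
      have := Set.ncard_lt_ncard hss (Set.toFinite _)
      omega
  have h1 := hgrow (Nat.card V)
  have h2 := Set.ncard_le_card ((ser 𝔾 (Nat.card V) : AddSubgroup V) : Set V)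
  omega

/-- the filtration of `End V` attached to the series. -/
def filt (𝔾 : Subgroup (AddMonoid.End V)ˣ) (i : ℕ) : AddSubgroup (AddMonoid.End V) where
  carrier := {φ | ∀ j, ∀ v ∈ ser 𝔾 (j + i), φ v ∈ ser 𝔾 j}
  zero_mem' := by
    intro j v _
    exact (ser 𝔾 j).zero_mem
  add_mem' := by
    intro φ ψ hφ hψ j v hv
    exact (ser 𝔾 j).add_mem (hφ j v hv) (hψ j v hv)
  neg_mem' := by
    intro φ hφ j v hv
    exact (ser 𝔾 j).neg_mem (hφ j v hv)

theorem mem_filt {𝔾 : Subgroup (AddMonoid.End V)ˣ} {i : ℕ} {φ : AddMonoid.End V} :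
    φ ∈ filt 𝔾 i ↔ ∀ j, ∀ v ∈ ser 𝔾 (j + i), φ v ∈ ser 𝔾 j := Iff.rfl

end

/-- PIECE N -/
theorem exists_filtration {V : Type*} [AddCommGroup V] [Finite V] (p : ℕ) [Fact p.Prime]
    (hV : ∀ v : V, p • v = 0) (𝔾 : Subgroup (AddMonoid.End V)ˣ) (h𝔾 : IsPGroup p 𝔾) :
    ∃ (E : ℕ → AddSubgroup (AddMonoid.End V)) (n : ℕ), E n = ⊥ ∧ (∀ i, E (i + 1) ≤ E i) ∧
      (∀ g ∈ 𝔾, ((g : (AddMonoid.End V)ˣ) : AddMonoid.End V) - 1 ∈ E 1) ∧
      (∀ i, ∀ e ∈ E i, ∀ g ∈ 𝔾,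
        (((g : (AddMonoid.End V)ˣ) : AddMonoid.End V) - 1) * e ∈ E (i + 1) ∧
        e * (((g : (AddMonoid.End V)ˣ) : AddMonoid.End V) - 1) ∈ E (i + 1)) := by
  obtain ⟨n, hn⟩ := exists_ser_eq_top p hV 𝔾 h𝔾
  have happ : ∀ (g : (AddMonoid.End V)ˣ) (v : V),
      (((g : (AddMonoid.End V)ˣ) : AddMonoid.End V) - 1) v
        = ((g : (AddMonoid.End V)ˣ) : AddMonoid.End V) v - v := fun _ _ => rfl
  refine ⟨filt 𝔾, n, ?_, ?_, ?_, ?_⟩
  · rw [eq_bot_iff]
    intro φ hφ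
    rw [AddSubgroup.mem_bot]
    ext v
    have h := (mem_filt.mp hφ) 0 v (by rw [zero_add, hn]; trivial)
    rw [ser_zero, AddSubgroup.mem_bot] at h
    rw [h]; rfl
  · intro i φ hφ j v hv
    have hv' : v ∈ ser 𝔾 (j + (i + 1)) := by
      have := ser_le_succ 𝔾 (j + i) hv
      rwa [add_assoc] at this
    exact hφ j v hv'
  · intro g hg j v hv
    rw [happ]
    exact mem_ser_succ.mp hv g hg
  · intro i e he g hg
    constructor
    · intro j v hv
      have hv' : v ∈ ser 𝔾 ((j + 1) + i) := by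
        have e1 : j + (i + 1) = (j + 1) + i := by omega
        rwa [e1] at hv
      have h1 : e v ∈ ser 𝔾 (j + 1) := he (j + 1) v hv'
      show (((g : (AddMonoid.End V)ˣ) : AddMonoid.End V) - 1) (e v) ∈ ser 𝔾 j
      rw [happ]
      exact mem_ser_succ.mp h1 g hg
    · intro j v hv
      have hv' : v ∈ ser 𝔾 ((j + i) + 1) := by
        rwa [← add_assoc] at hv
      have h1 : ((g : (AddMonoid.End V)ˣ) : AddMonoid.End V) v - v ∈ ser 𝔾 (j + i) :=
        mem_ser_succ.mp hv' g hg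
      show e ((((g : (AddMonoid.End V)ˣ) : AddMonoid.End V) - 1) v) ∈ ser 𝔾 j
      rw [happ]
      exact he j _ h1

end Cfsg.Agent.Lib.helper29.QO
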