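import Cfsg.Agent.Lib.helper74.QODefs

/-!
# S1935 piece T (`exists_quad_offender`, Timmesfeld replacement), helper29 (parallel copy).
-/

set_option autoImplicit false

namespace Cfsg.Agent.Lib.helper29.QO

open Cfsg.Agent.Lib.helper74.QO

section
variable {V : Type*} [AddCommGroup V]

/-- `A_x`: the elements of `A` fixing `(b - 1) x` for all `b ∈ A`. -/
def offStab (A : Subgroup (AddMonoid.End V)ˣ) (x : V) : Subgroup (AddMonoid.End V)ˣ where
  carrier := {a | a ∈ A ∧ ∀ b ∈ A,
    ((a : (AddMonoid.End V)ˣ) : AddMonoid.End V)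
        (((b : (AddMonoid.End V)ˣ) : AddMonoid.End V) x - x)
      = ((b : (AddMonoid.End V)ˣ) : AddMonoid.End V) x - x}
  one_mem' := ⟨A.one_mem, fun _ _ => rfl⟩
  mul_mem' := by
    rintro a a' ⟨ha, h⟩ ⟨ha', h'⟩
    refine ⟨A.mul_mem ha ha', fun b hb => ?_⟩
    show ((a : (AddMonoid.End V)ˣ) : AddMonoid.End V)
        (((a' : (AddMonoid.End V)ˣ) : AddMonoid.End V)
          (((b : (AddMonoid.End V)ˣ) : AddMonoid.End V) x - x)) = _
    rw [h' b hb, h b hb]
  inv_mem' := by
    rintro a ⟨ha, h⟩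
    refine ⟨A.inv_mem ha, fun b hb => ?_⟩
    have e : (((a⁻¹ : (AddMonoid.End V)ˣ) : AddMonoid.End V))
        (((a : (AddMonoid.End V)ˣ) : AddMonoid.End V)
          (((b : (AddMonoid.End V)ˣ) : AddMonoid.End V) x - x))
        = ((b : (AddMonoid.End V)ˣ) : AddMonoid.End V) x - x := by
      have h1 : ((a⁻¹ : (AddMonoid.End V)ˣ) : AddMonoid.End V)
          * ((a : (AddMonoid.End V)ˣ) : AddMonoid.End V) = 1 := by simp
      have h2 := congrArg (fun f : AddMonoid.End V =>
        f (((b : (AddMonoid.End V)ˣ) : AddMonoid.End V) x - x)) h1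
      exact h2
    rw [h b hb] at e
    exact e

theorem mem_offStab {A : Subgroup (AddMonoid.End V)ˣ} {x : V} {a : (AddMonoid.End V)ˣ} :
    a ∈ offStab A x ↔ a ∈ A ∧ ∀ b ∈ A,
      ((a : (AddMonoid.End V)ˣ) : AddMonoid.End V)
          (((b : (AddMonoid.End V)ˣ) : AddMonoid.End V) x - x)
        = ((b : (AddMonoid.End V)ˣ) : AddMonoid.End V) x - x := Iff.rfl

theorem offStab_le (A : Subgroup (AddMonoid.End V)ˣ) (x : V) : offStab A x ≤ A :=
  fun _ h => h.1

/-- commuting units commute as maps. -/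
theorem comm_apply {a b : (AddMonoid.End V)ˣ} (h : a * b = b * a) (v : V) :
    ((a : (AddMonoid.End V)ˣ) : AddMonoid.End V) (((b : (AddMonoid.End V)ˣ) : AddMonoid.End V) v)
      = ((b : (AddMonoid.End V)ˣ) : AddMonoid.End V)
          (((a : (AddMonoid.End V)ˣ) : AddMonoid.End V) v) := by
  have h1 := congrArg (fun u : (AddMonoid.End V)ˣ => ((u : AddMonoid.End V)) v) h
  exact h1

theorem inv_apply_apply (a : (AddMonoid.End V)ˣ) (v : V) :
    ((a⁻¹ : (AddMonoid.End V)ˣ) : AddMonoid.End V)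
      (((a : (AddMonoid.End V)ˣ) : AddMonoid.End V) v) = v := by
  have h1 : ((a⁻¹ : (AddMonoid.End V)ˣ) : AddMonoid.End V)
      * ((a : (AddMonoid.End V)ˣ) : AddMonoid.End V) = 1 := by simp
  exact congrArg (fun f : AddMonoid.End V => f v) h1

/-- key lemma: if `(a - a') x` is fixed by `A` (commutative) then `a'⁻¹ a ∈ A_x`. -/
theorem inv_mul_mem_offStab (A : Subgroup (AddMonoid.End V)ˣ)
    (hAc : ∀ a ∈ A, ∀ b ∈ A, a * b = b * a) (x : V) (a a' : (AddMonoid.End V)ˣ)
    (ha : a ∈ A) (ha' : a' ∈ A)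
    (hfix : ∀ b ∈ A, ((b : (AddMonoid.End V)ˣ) : AddMonoid.End V)
        (((a : (AddMonoid.End V)ˣ) : AddMonoid.End V) x
          - ((a' : (AddMonoid.End V)ˣ) : AddMonoid.End V) x)
      = ((a : (AddMonoid.End V)ˣ) : AddMonoid.End V) x
          - ((a' : (AddMonoid.End V)ˣ) : AddMonoid.End V) x) :
    a'⁻¹ * a ∈ offStab A x := by
  refine ⟨A.mul_mem (A.inv_mem ha') ha, fun b hb => ?_⟩
  -- a (b x - x) = a' (b x - x)
  have h1 : ((a : (AddMonoid.End V)ˣ) : AddMonoid.End V)
        (((b : (AddMonoid.End V)ˣ) : AddMonoid.End V) x - x)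
      = ((a' : (AddMonoid.End V)ˣ) : AddMonoid.End V)
        (((b : (AddMonoid.End V)ˣ) : AddMonoid.End V) x - x) := by
    have hb1 := hfix b hb
    rw [map_sub] at hb1
    rw [map_sub, map_sub, comm_apply (hAc a ha b hb) x, comm_apply (hAc a' ha' b hb) x]
    have e : ∀ (p q r s : V), p - q = r - s → p - r = q - s := by
      intro p q r s h
      have : p - r = (p - q) - (r - s) + (q - s) := by abel
      rw [this, h]; abel
    exact e _ _ _ _ hb1
  show ((a'⁻¹ : (AddMonoid.End V)ˣ) : AddMonoid.End V)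
      (((a : (AddMonoid.End V)ˣ) : AddMonoid.End V)
        (((b : (AddMonoid.End V)ˣ) : AddMonoid.End V) x - x)) = _
  rw [h1, inv_apply_apply]

/-- the counting inequality `|A| |helper74.QO.Fix A| ≤ |A_x| |helper74.QO.Fix A_x|`. -/
theorem card_mul_le_offStab [Finite V] (A : Subgroup (AddMonoid.End V)ˣ)
    (hAc : ∀ a ∈ A, ∀ b ∈ A, a * b = b * a) (x : V) :
    Nat.card A * Nat.card (helper74.QO.Fix A) ≤ Nat.card (offStab A x) * Nat.card (helper74.QO.Fix (offStab A x)) := by
  classical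
  let H : Subgroup ↥A := (offStab A x).subgroupOf A
  let r : ↥A → ↥A := fun a => (QuotientGroup.mk a : ↥A ⧸ H).out
  have hr : ∀ a : ↥A, (r a)⁻¹ * a ∈ H := by
    intro a
    have h1 : (QuotientGroup.mk (r a) : ↥A ⧸ H) = QuotientGroup.mk a :=
      QuotientGroup.out_eq' _
    exact QuotientGroup.eq.mp h1
  have hr' : ∀ a : ↥A, (((r a)⁻¹ * a : ↥A) : (AddMonoid.End V)ˣ) ∈ offStab A x :=
    fun a => Subgroup.mem_subgroupOf.mp (hr a)
  have himg : ∀ (a : ↥A) (c : ↥(helper74.QO.Fix A)),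
      ((((a : ↥A) : (AddMonoid.End V)ˣ) : AddMonoid.End V) x - x) + (c : V)
        ∈ helper74.QO.Fix (offStab A x) := by
    intro a c d hd
    rw [map_add, hd.2 a a.2]
    congr 1
    exact c.2 d hd.1
  let ι : ↥A × ↥(helper74.QO.Fix A) → ↥(offStab A x) × ↥(helper74.QO.Fix (offStab A x)) := fun q =>
    (⟨(((r q.1)⁻¹ * q.1 : ↥A) : (AddMonoid.End V)ˣ), hr' q.1⟩,
     ⟨((((q.1 : ↥A) : (AddMonoid.End V)ˣ) : AddMonoid.End V) x - x) + (q.2 : V), himg q.1 q.2⟩)
  have hinj : Function.Injective ι := by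
    rintro ⟨a, c⟩ ⟨a', c'⟩ h
    have h1 : (((r a)⁻¹ * a : ↥A) : (AddMonoid.End V)ˣ) = (((r a')⁻¹ * a' : ↥A) : (AddMonoid.End V)ˣ) :=
      congrArg (fun q : ↥(offStab A x) × ↥(helper74.QO.Fix (offStab A x)) => (q.1 : (AddMonoid.End V)ˣ)) h
    have h2 : ((((a : ↥A) : (AddMonoid.End V)ˣ) : AddMonoid.End V) x - x) + (c : V)
        = ((((a' : ↥A) : (AddMonoid.End V)ˣ) : AddMonoid.End V) x - x) + (c' : V) :=
      congrArg (fun q : ↥(offStab A x) × ↥(helper74.QO.Fix (offStab A x)) => (q.2 : V)) h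
    have h3 : (((a : ↥A) : (AddMonoid.End V)ˣ) : AddMonoid.End V) x
        - (((a' : ↥A) : (AddMonoid.End V)ˣ) : AddMonoid.End V) x = (c' : V) - (c : V) := by
      have e : ∀ (p q s u : V), (p - x) + s = (q - x) + u → p - q = u - s := by
        intro p q s u h
        have : p - q = ((p - x) + s) - ((q - x) + u) + (u - s) := by abel
        rw [this, h]; abel
      exact e _ _ _ _ h2
    have hfix : ∀ b ∈ A, ((b : (AddMonoid.End V)ˣ) : AddMonoid.End V)
        ((((a : ↥A) : (AddMonoid.End V)ˣ) : AddMonoid.End V) x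
          - (((a' : ↥A) : (AddMonoid.End V)ˣ) : AddMonoid.End V) x)
        = (((a : ↥A) : (AddMonoid.End V)ˣ) : AddMonoid.End V) x
          - (((a' : ↥A) : (AddMonoid.End V)ˣ) : AddMonoid.End V) x := by
      intro b hb
      rw [h3, map_sub, c'.2 b hb, c.2 b hb]
    have h4 : ((a' : ↥A) : (AddMonoid.End V)ˣ)⁻¹ * ((a : ↥A) : (AddMonoid.End V)ˣ) ∈ offStab A x :=
      inv_mul_mem_offStab A hAc x _ _ a.2 a'.2 hfix
    have h5 : (QuotientGroup.mk a' : ↥A ⧸ H) = QuotientGroup.mk a := by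
      apply QuotientGroup.eq.mpr
      exact Subgroup.mem_subgroupOf.mpr h4
    have h6 : r a = r a' := by
      show (QuotientGroup.mk a : ↥A ⧸ H).out = (QuotientGroup.mk a' : ↥A ⧸ H).out
      rw [h5]
    have h7 : (r a)⁻¹ * a = (r a')⁻¹ * a' := Subtype.ext h1
    have h8 : a = a' := by
      rw [h6] at h7
      exact mul_left_cancel h7
    subst h8
    have h9 : (c : V) = (c' : V) := add_left_cancel h2
    rw [Prod.mk.injEq]
    exact ⟨rfl, Subtype.ext h9⟩
  have hle := Nat.card_le_card_of_injective ι hinj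
  rw [Nat.card_prod, Nat.card_prod] at hle
  exact hle

end

/-- PIECE T (Timmesfeld replacement) -/
theorem exists_quad_offender {V : Type*} [AddCommGroup V] [Finite V] (p : ℕ) [Fact p.Prime]
    (hV : ∀ v : V, p • v = 0) (E : Subgroup (AddMonoid.End V)ˣ) (hE1 : E ≠ ⊥)
    (hEc : ∀ a ∈ E, ∀ b ∈ E, a * b = b * a) (hEp : ∀ a ∈ E, a ^ p = 1)
    (hoff : Nat.card V ≤ Nat.card E * Nat.card (helper74.QO.Fix E)) :
    ∃ A : Subgroup (AddMonoid.End V)ˣ, A ≤ E ∧ A ≠ ⊥ ∧ Quad A ∧
      Nat.card V ≤ Nat.card A * Nat.card (helper74.QO.Fix A) := by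
  classical
  -- the family and the choice of A
  let 𝓕 : Set (Subgroup (AddMonoid.End V)ˣ) :=
    {A | A ≤ E ∧ A ≠ ⊥ ∧ Nat.card V ≤ Nat.card A * Nat.card (helper74.QO.Fix A)}
  let C : ℕ := Nat.card (AddMonoid.End V)ˣ
  let g : ↥𝓕 → ℕ := fun A =>
    (Nat.card (A : Subgroup (AddMonoid.End V)ˣ) * Nat.card (helper74.QO.Fix (A : Subgroup (AddMonoid.End V)ˣ)))
      * (C + 1) + (C - Nat.card (A : Subgroup (AddMonoid.End V)ˣ))
  haveI : Nonempty ↥𝓕 := ⟨⟨E, le_refl E, hE1, hoff⟩⟩
  obtain ⟨⟨A, hAE, hA1, hAoff⟩, hmax⟩ := Finite.exists_max g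
  have hcardle : ∀ B : Subgroup (AddMonoid.End V)ˣ, Nat.card B ≤ C := fun B =>
    Nat.card_le_card_of_injective (Subtype.val : ↥B → (AddMonoid.End V)ˣ) Subtype.val_injective
  have hAc : ∀ a ∈ A, ∀ b ∈ A, a * b = b * a := fun a ha b hb => hEc a (hAE ha) b (hAE hb)
  -- consequences of maximality
  have hmax1 : ∀ B : Subgroup (AddMonoid.End V)ˣ, B ≤ E → B ≠ ⊥ →
      Nat.card V ≤ Nat.card B * Nat.card (helper74.QO.Fix B) →
      Nat.card A * Nat.card (helper74.QO.Fix A) ≤ Nat.card B * Nat.card (helper74.QO.Fix B) → Nat.card A ≤ Nat.card B := by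
    intro B hBE hB1 hBoff hle
    have h := hmax ⟨B, hBE, hB1, hBoff⟩
    have h' : (Nat.card B * Nat.card (helper74.QO.Fix B)) * (C + 1) + (C - Nat.card B)
        ≤ (Nat.card A * Nat.card (helper74.QO.Fix A)) * (C + 1) + (C - Nat.card A) := h
    have hA := hcardle A
    have hB := hcardle B
    have h'' : (Nat.card A * Nat.card (helper74.QO.Fix A)) * (C + 1) ≤ (Nat.card B * Nat.card (helper74.QO.Fix B)) * (C + 1) :=
      Nat.mul_le_mul_right _ hle
    omega
  -- A_x = A for all x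
  have hstab : ∀ x : V, offStab A x = A := by
    intro x
    have hcount := card_mul_le_offStab A hAc x
    by_cases hx : offStab A x = ⊥
    · exfalso
      -- the map (a, c) ↦ (a - 1) x + c is injective, hence bijective onto V
      let Φ : ↥A × ↥(helper74.QO.Fix A) → V := fun q =>
        ((((q.1 : ↥A) : (AddMonoid.End V)ˣ) : AddMonoid.End V) x - x) + (q.2 : V)
      have hΦinj : Function.Injective Φ := by
        rintro ⟨a, c⟩ ⟨a', c'⟩ h
        have h2 : ((((a : ↥A) : (AddMonoid.End V)ˣ) : AddMonoid.End V) x - x) + (c : V)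
            = ((((a' : ↥A) : (AddMonoid.End V)ˣ) : AddMonoid.End V) x - x) + (c' : V) := h
        have h3 : (((a : ↥A) : (AddMonoid.End V)ˣ) : AddMonoid.End V) x
            - (((a' : ↥A) : (AddMonoid.End V)ˣ) : AddMonoid.End V) x = (c' : V) - (c : V) := by
          have e : ∀ (p q s u : V), (p - x) + s = (q - x) + u → p - q = u - s := by
            intro p q s u h
            have : p - q = ((p - x) + s) - ((q - x) + u) + (u - s) := by abel
            rw [this, h]; abel
          exact e _ _ _ _ h2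
        have hfix : ∀ b ∈ A, ((b : (AddMonoid.End V)ˣ) : AddMonoid.End V)
            ((((a : ↥A) : (AddMonoid.End V)ˣ) : AddMonoid.End V) x
              - (((a' : ↥A) : (AddMonoid.End V)ˣ) : AddMonoid.End V) x)
            = (((a : ↥A) : (AddMonoid.End V)ˣ) : AddMonoid.End V) x
              - (((a' : ↥A) : (AddMonoid.End V)ˣ) : AddMonoid.End V) x := by
          intro b hb
          rw [h3, map_sub, c'.2 b hb, c.2 b hb]
        have h4 : ((a' : ↥A) : (AddMonoid.End V)ˣ)⁻¹ * ((a : ↥A) : (AddMonoid.End V)ˣ)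
            ∈ offStab A x := inv_mul_mem_offStab A hAc x _ _ a.2 a'.2 hfix
        rw [hx, Subgroup.mem_bot] at h4
        have h5 : ((a : ↥A) : (AddMonoid.End V)ˣ) = ((a' : ↥A) : (AddMonoid.End V)ˣ) :=
          (inv_mul_eq_one.mp h4).symm
        have h8 : a = a' := Subtype.ext h5
        subst h8
        have h9 : (c : V) = (c' : V) := add_left_cancel h2
        rw [Prod.mk.injEq]
        exact ⟨rfl, Subtype.ext h9⟩
      have hcardΦ : Nat.card V ≤ Nat.card (↥A × ↥(helper74.QO.Fix A)) := by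
        rw [Nat.card_prod]; exact hAoff
      have hΦsurj := (hΦinj.bijective_of_nat_card_le hcardΦ).2
      obtain ⟨⟨a, c⟩, hac⟩ := hΦsurj x
      have hac' : ((((a : ↥A) : (AddMonoid.End V)ˣ) : AddMonoid.End V) x - x) + (c : V) = x := hac
      -- for b ∈ A, y = b x - x satisfies a y = y + y
      have hy2 : ∀ b ∈ A,
          (((a : ↥A) : (AddMonoid.End V)ˣ) : AddMonoid.End V)
            (((b : (AddMonoid.End V)ˣ) : AddMonoid.End V) x - x)
          = (((b : (AddMonoid.End V)ˣ) : AddMonoid.End V) x - x)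
            + (((b : (AddMonoid.End V)ˣ) : AddMonoid.End V) x - x) := by
        intro b hb
        have hc : (c : V) = x - ((((a : ↥A) : (AddMonoid.End V)ˣ) : AddMonoid.End V) x - x) := by
          have e0 : ∀ (P cc : V), (P - x) + cc = x → cc = x - (P - x) := by
            intro P cc h
            have h' : cc = ((P - x) + cc) - (P - x) := by abel
            rw [h', h]
          exact e0 _ _ hac'
        have hbc := c.2 b hb
        rw [hc, map_sub, map_sub, ← comm_apply (hAc _ a.2 b hb) x] at hbc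
        rw [map_sub]
        have e : ∀ (P Q Bx : V), Bx - (P - Bx) = x - (Q - x) → P - Q = (Bx - x) + (Bx - x) := by
          intro P Q Bx h
          have : P - Q = -((Bx - (P - Bx)) - (x - (Q - x))) + ((Bx - x) + (Bx - x)) := by abel
          rw [this, h]; abel
        exact e _ _ _ hbc
      have hpow : ∀ (k : ℕ) (b : (AddMonoid.End V)ˣ), b ∈ A →
          ((((a : ↥A) : (AddMonoid.End V)ˣ) ^ k : (AddMonoid.End V)ˣ) : AddMonoid.End V)
            (((b : (AddMonoid.End V)ˣ) : AddMonoid.End V) x - x)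
          = (2 ^ k) • (((b : (AddMonoid.End V)ˣ) : AddMonoid.End V) x - x) := by
        intro k b hb
        induction k with
        | zero => simp
        | succ k ih =>
          rw [pow_succ, Units.val_mul]
          show (((((a : ↥A) : (AddMonoid.End V)ˣ) ^ k : (AddMonoid.End V)ˣ) : AddMonoid.End V))
            ((((a : ↥A) : (AddMonoid.End V)ˣ) : AddMonoid.End V)
              (((b : (AddMonoid.End V)ˣ) : AddMonoid.End V) x - x)) = _
          rw [hy2 b hb, map_add, ih, pow_succ, mul_nsmul, two_nsmul]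
      have hy0 : ∀ b ∈ A, ((b : (AddMonoid.End V)ˣ) : AddMonoid.End V) x - x = 0 := by
        intro b hb
        have h1 := hpow p b hb
        rw [hEp _ (hAE a.2)] at h1
        have h1' : ((b : (AddMonoid.End V)ˣ) : AddMonoid.End V) x - x
            = (2 ^ p) • (((b : (AddMonoid.End V)ˣ) : AddMonoid.End V) x - x) := h1
        -- Fermat
        have hmod : 2 ^ p ≡ 2 [MOD p] := by
          rw [← ZMod.natCast_eq_natCast_iff]
          push_cast
          exact ZMod.pow_card 2
        have hge : 2 ≤ 2 ^ p := by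
          calc 2 = 2 ^ 1 := by norm_num
            _ ≤ 2 ^ p := Nat.pow_le_pow_right (by norm_num) (Fact.out : p.Prime).one_lt.le
        obtain ⟨m, hm⟩ : ∃ m, 2 ^ p = 2 + p * m := by
          have hdvd : p ∣ 2 ^ p - 2 := (Nat.modEq_iff_dvd' hge).mp hmod.symm
          obtain ⟨m, hm⟩ := hdvd
          exact ⟨m, by omega⟩
        rw [hm, add_nsmul, mul_comm, mul_nsmul, hV, add_zero, two_nsmul] at h1'
        have e : ∀ y : V, y = y + y → y = 0 := by
          intro y h
          have : y = (y + y) - y := by abel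
          rw [← h] at this
          simpa using this
        exact e _ h1'
      -- hence A ≤ A_x, so A = ⊥
      apply hA1
      rw [eq_bot_iff, ← hx]
      intro d hd
      refine ⟨hd, fun b hb => ?_⟩
      rw [hy0 b hb, map_zero]
    · have hle := offStab_le A x
      have hBE : offStab A x ≤ E := le_trans hle hAE
      have hBoff : Nat.card V ≤ Nat.card (offStab A x) * Nat.card (helper74.QO.Fix (offStab A x)) :=
        le_trans hAoff hcount
      have hcard := hmax1 (offStab A x) hBE hx hBoff hcount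
      exact Subgroup.eq_of_le_of_card_ge hle hcard
  refine ⟨A, hAE, hA1, ?_, hAoff⟩
  intro a ha a' ha'
  ext x
  have hmem : a ∈ offStab A x := by rw [hstab x]; exact ha
  have h := hmem.2 a' ha'
  show ((a : (AddMonoid.End V)ˣ) : AddMonoid.End V)
      (((a' : (AddMonoid.End V)ˣ) : AddMonoid.End V) x - x)
      - (((a' : (AddMonoid.End V)ˣ) : AddMonoid.End V) x - x) = 0
  rw [h, sub_self]

end Cfsg.Agent.Lib.helper29.QO
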