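import Mathlib
import Cfsg.Prelude.Def_GeometricClasses
import Cfsg.Agent.Lib.helper24.SfoDefs
import Cfsg.Agent.Lib.helper27.SfoCNTE
import Cfsg.Agent.Lib.helper77.SfoCNTO
import Cfsg.Agent.Lib.helper34.QfcCNT

/-!
# S5977U (KUNIQ sub-split), piece CNTEQ (racer copy), core: the two `K'`-forms take the value `1`
equally often.  The FIB statement for the two forms is a hypothesis.
-/

set_option autoImplicit false

namespace Cfsg.Agent.Lib.helper2

open Cfsg.Geo Matrix Cfsg.Agent.Lib.helper24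

/-- the parity argument: `S * (A * (A + E₁)) + T * (A * (A - E₁))` determines `E₁ = ±1`
when `S + T` is odd and `A ≠ 0`. -/
theorem h29_sign_of_sum (A S T E₁ E₂ : ℤ) (hA : A ≠ 0) (hodd : Odd (S + T))
    (h : S * (A * (A + E₁)) + T * (A * (A - E₁)) = S * (A * (A + E₂)) + T * (A * (A - E₂))) :
    E₁ = E₂ := by
  have hST : S - T ≠ 0 := by
    intro h0
    have e : S + T = 2 * T := by linarith
    rw [e] at hodd
    exact (Int.not_odd_iff_even.mpr (even_two_mul T)) hodd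
  have key : (E₁ - E₂) * (A * (S - T)) = 0 := by linarith [h]
  rcases mul_eq_zero.mp key with h3 | h3
  · linarith
  · exact absurd h3 (mul_ne_zero hA hST)

/-- CNTEQ with FIB (for the two forms) as hypotheses. -/
theorem h29_qfu_count_eq_core {F : Type*} [Field F] [Fintype F] {ι : Type} [Fintype ι]
    [DecidableEq ι]
    (hodd : Odd (Fintype.card F)) (Q : (ι → F) → F) (δ : F) [Fact (∀ r : F, r ^ 2 ≠ δ + 0 * r)]
    (d : ℕ) (Φ₁ Φ₂ : (Fin d → QuadraticAlgebra F δ 0) ≃+ (ι → F))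
    (qk₁ qk₂ : (ι → F) → QuadraticAlgebra F δ 0) (hre₁ : ∀ v, (qk₁ v).re = Q v)
    (hre₂ : ∀ v, (qk₂ v).re = Q v)
    (hQ₁ : IsNondegenerateQuadraticForm (fun k : Fin d → QuadraticAlgebra F δ 0 => qk₁ (Φ₁ k)))
    (hQ₂ : IsNondegenerateQuadraticForm (fun k : Fin d → QuadraticAlgebra F δ 0 => qk₂ (Φ₂ k)))
    (hfib₁ : Nat.card {v : ι → F // Q v = 1} =
      ∑ b : F, sfoCount (fun k => qk₁ (Φ₁ k)) (⟨1, b⟩ : QuadraticAlgebra F δ 0))
    (hfib₂ : Nat.card {v : ι → F // Q v = 1} =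
      ∑ b : F, sfoCount (fun k => qk₂ (Φ₂ k)) (⟨1, b⟩ : QuadraticAlgebra F δ 0)) :
    sfoCount (fun k : Fin d → QuadraticAlgebra F δ 0 => qk₁ (Φ₁ k)) 1 =
      sfoCount (fun k : Fin d → QuadraticAlgebra F δ 0 => qk₂ (Φ₂ k)) 1 := by
  classical
  let _inst : Fintype (QuadraticAlgebra F δ 0) :=
    Fintype.ofEquiv _ (QuadraticAlgebra.equivProd δ 0).symm
  have h2F : (2 : F) ≠ 0 := by
    intro h
    have hch : ringChar F = 2 :=
      CharP.ringChar_of_prime_eq_zero Nat.prime_two (by exact_mod_cast h)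
    have hev := FiniteField.even_card_of_char_two hch
    rcases hodd with ⟨t, ht⟩
    omega
  have h2K : (2 : QuadraticAlgebra F δ 0) ≠ 0 := by
    intro h
    apply h2F
    have h' : algebraMap F (QuadraticAlgebra F δ 0) 2 = 0 := by
      rw [map_ofNat]; exact h
    exact (map_eq_zero _).mp h'
  have hcard0 : 0 < Fintype.card F := Fintype.card_pos
  rcases Nat.even_or_odd' d with ⟨k, hk | hk⟩
  · -- even dimension
    obtain ⟨ε₁, -, h₁⟩ := h27_sfo_count_even h2K d k hk _ hQ₁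
    obtain ⟨ε₂, -, h₂⟩ := h27_sfo_count_even h2K d k hk _ hQ₂
    have hN₁ : ∀ z : QuadraticAlgebra F δ 0, z ≠ 0 →
        sfoCount (fun k => qk₁ (Φ₁ k)) z = sfoCount (fun k => qk₁ (Φ₁ k)) 1 := by
      intro z hz
      have e := (h₁ z hz).trans (h₁ 1 one_ne_zero).symm
      exact_mod_cast e
    have hN₂ : ∀ z : QuadraticAlgebra F δ 0, z ≠ 0 →
        sfoCount (fun k => qk₂ (Φ₂ k)) z = sfoCount (fun k => qk₂ (Φ₂ k)) 1 := by
      intro z hz
      have e := (h₂ z hz).trans (h₂ 1 one_ne_zero).symm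
      exact_mod_cast e
    have c₁ := qfc_count Q δ d Φ₁ qk₁ hre₁ _ hN₁
    have c₂ := qfc_count Q δ d Φ₂ qk₂ hre₂ _ hN₂
    rw [c₁] at c₂
    exact Nat.eq_of_mul_eq_mul_left hcard0 c₂
  · -- odd dimension
    obtain ⟨E₁, -, hs₁, hn₁⟩ := sfo_count_odd h2K d k hk _ hQ₁
    obtain ⟨E₂, -, hs₂, hn₂⟩ := sfo_count_odd h2K d k hk _ hQ₂
    obtain ⟨A, hA⟩ : ∃ A : ℤ, A = (Fintype.card (QuadraticAlgebra F δ 0) : ℤ) ^ k := ⟨_, rfl⟩
    rw [← hA] at hs₁ hn₁ hs₂ hn₂
    have hA0 : A ≠ 0 := by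
      rw [hA]
      exact pow_ne_zero _ (by exact_mod_cast Fintype.card_ne_zero)
    have hne : ∀ b : F, (⟨1, b⟩ : QuadraticAlgebra F δ 0) ≠ 0 := by
      intro b h
      exact one_ne_zero (congrArg QuadraticAlgebra.re h)
    -- the two sums
    have hsum : ∀ (Φ : (Fin d → QuadraticAlgebra F δ 0) ≃+ (ι → F))
        (qk : (ι → F) → QuadraticAlgebra F δ 0) (E : ℤ),
        (∀ c : QuadraticAlgebra F δ 0, c ≠ 0 → IsSquare c →
          (sfoCount (fun k => qk (Φ k)) c : ℤ) = A * (A + E)) →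
        (∀ c : QuadraticAlgebra F δ 0, c ≠ 0 → ¬ IsSquare c →
          (sfoCount (fun k => qk (Φ k)) c : ℤ) = A * (A - E)) →
        ((∑ b : F, sfoCount (fun k => qk (Φ k)) (⟨1, b⟩ : QuadraticAlgebra F δ 0) : ℕ) : ℤ)
          = ((Finset.univ.filter
              (fun b : F => IsSquare (⟨1, b⟩ : QuadraticAlgebra F δ 0))).card : ℤ) * (A * (A + E))
            + ((Finset.univ.filter
              (fun b : F => ¬ IsSquare (⟨1, b⟩ : QuadraticAlgebra F δ 0))).card : ℤ)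
              * (A * (A - E)) := by
      intro Φ qk E hs hn
      rw [Nat.cast_sum, ← Finset.sum_filter_add_sum_filter_not Finset.univ
        (fun b : F => IsSquare (⟨1, b⟩ : QuadraticAlgebra F δ 0))]
      congr 1
      · rw [Finset.sum_congr rfl (fun b hb => hs _ (hne b) (Finset.mem_filter.mp hb).2)]
        rw [Finset.sum_const, nsmul_eq_mul]
      · rw [Finset.sum_congr rfl (fun b hb => hn _ (hne b) (Finset.mem_filter.mp hb).2)]
        rw [Finset.sum_const, nsmul_eq_mul]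
    have e₁ := hsum Φ₁ qk₁ E₁ hs₁ hn₁
    have e₂ := hsum Φ₂ qk₂ E₂ hs₂ hn₂
    rw [← hfib₁] at e₁
    rw [← hfib₂] at e₂
    have hST : Odd (((Finset.univ.filter
        (fun b : F => IsSquare (⟨1, b⟩ : QuadraticAlgebra F δ 0))).card : ℤ)
        + ((Finset.univ.filter
        (fun b : F => ¬ IsSquare (⟨1, b⟩ : QuadraticAlgebra F δ 0))).card : ℤ)) := by
      have hc := Finset.card_filter_add_card_filter_not (s := (Finset.univ : Finset F))
        (fun b : F => IsSquare (⟨1, b⟩ : QuadraticAlgebra F δ 0))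
      rw [Finset.card_univ] at hc
      have hc' : (((Finset.univ.filter
        (fun b : F => IsSquare (⟨1, b⟩ : QuadraticAlgebra F δ 0))).card : ℤ)
        + ((Finset.univ.filter
        (fun b : F => ¬ IsSquare (⟨1, b⟩ : QuadraticAlgebra F δ 0))).card : ℤ))
        = ((Fintype.card F : ℕ) : ℤ) := by exact_mod_cast hc
      rw [hc']
      exact_mod_cast hodd
    have hE := h29_sign_of_sum A _ _ E₁ E₂ hA0 hST (e₁.symm.trans e₂)
    have f₁ := hs₁ 1 one_ne_zero ⟨1, (one_mul 1).symm⟩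
    have f₂ := hs₂ 1 one_ne_zero ⟨1, (one_mul 1).symm⟩
    rw [hE] at f₁
    exact_mod_cast f₁.trans f₂.symm

end Cfsg.Agent.Lib.helper2
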