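import Mathlib
import Cfsg.Prelude.Def_GeometricClasses
import Cfsg.Agent.Lib.helper24.SfoDefs
import Cfsg.Agent.Lib.helper29.QfuCNTEQcore
import Cfsg.Agent.Lib.helper61.QfuFIB

/-!
# S5977U (KUNIQ sub-split), piece CNTEQ (racer copy): verbatim statement from the core and FIB.
-/

set_option autoImplicit false

namespace Cfsg.Agent.Lib.helper2

open Cfsg.Geo Matrix Cfsg.Agent.Lib.helper24

/-- CNTEQ (racer copy) -/
theorem h29_qfu_count_eq {F : Type*} [Field F] [Fintype F] {ι : Type} [Fintype ι] [DecidableEq ι]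
    (hodd : Odd (Fintype.card F)) (Q : (ι → F) → F) (δ : F) [Fact (∀ r : F, r ^ 2 ≠ δ + 0 * r)]
    (d : ℕ) (Φ₁ Φ₂ : (Fin d → QuadraticAlgebra F δ 0) ≃+ (ι → F))
    (qk₁ qk₂ : (ι → F) → QuadraticAlgebra F δ 0) (hre₁ : ∀ v, (qk₁ v).re = Q v)
    (hre₂ : ∀ v, (qk₂ v).re = Q v)
    (hQ₁ : IsNondegenerateQuadraticForm (fun k : Fin d → QuadraticAlgebra F δ 0 => qk₁ (Φ₁ k)))
    (hQ₂ : IsNondegenerateQuadraticForm (fun k : Fin d → QuadraticAlgebra F δ 0 => qk₂ (Φ₂ k))) :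
    sfoCount (fun k : Fin d → QuadraticAlgebra F δ 0 => qk₁ (Φ₁ k)) 1 =
      sfoCount (fun k : Fin d → QuadraticAlgebra F δ 0 => qk₂ (Φ₂ k)) 1 :=
  h29_qfu_count_eq_core hodd Q δ d Φ₁ Φ₂ qk₁ qk₂ hre₁ hre₂ hQ₁ hQ₂
    (qfu_fib Q δ d Φ₁ qk₁ hre₁) (qfu_fib Q δ d Φ₂ qk₂ hre₂)

end Cfsg.Agent.Lib.helper2
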