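import Mathlib
import Cfsg.Agent.Lib.helper45.RUDefs

/-! S2279 piece D (racing copy): `Om_shift`. -/

set_option autoImplicit false

namespace Cfsg.Agent.Lib.helper45.RU

open Matrix Cfsg.Agent.Lib.helper44

variable {n : ℕ} {F : Type*} [Field F] {S : Set (Matrix (Fin n) (Fin n) F)}

/-- the coefficients of `w_j` in terms of the distance `m` from the last index (`w_0 = e_l`). -/
def h29_wf (F : Type*) [Field F] : ℕ → ℕ → F
  | 0, m => if m = 0 then 1 else 0
  | (j + 1), m => (-1) ^ m * ((m + j).choose j : F)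

theorem h29_wf_zero_left (m : ℕ) : h29_wf F 0 m = if m = 0 then 1 else 0 := rfl

theorem h29_wf_succ_left (j m : ℕ) :
    h29_wf F (j + 1) m = (-1) ^ m * ((m + j).choose j : F) := rfl

theorem h29_wf_zero (j : ℕ) : h29_wf F (j + 1) 0 = h29_wf F j 0 := by
  cases j with
  | zero =>
    rw [h29_wf_succ_left, h29_wf_zero_left, if_pos rfl]
    simp
  | succ j =>
    rw [h29_wf_succ_left, h29_wf_succ_left]
    simp

theorem h29_wf_succ (j m : ℕ) :
    h29_wf F (j + 1) (m + 1) + h29_wf F (j + 1) m = h29_wf F j (m + 1) := by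
  cases j with
  | zero =>
    rw [h29_wf_succ_left, h29_wf_succ_left, h29_wf_zero_left, if_neg (Nat.succ_ne_zero m)]
    simp [pow_succ]
  | succ j =>
    rw [h29_wf_succ_left, h29_wf_succ_left, h29_wf_succ_left]
    have hp : (m + 1 + (j + 1)).choose (j + 1)
        = (m + 1 + j).choose j + (m + (j + 1)).choose (j + 1) := by
      have e1 : m + 1 + (j + 1) = (m + 1 + j) + 1 := by ring
      have e2 : m + (j + 1) = m + 1 + j := by ring
      rw [e1, Nat.choose_succ_succ, e2]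
    rw [hp]
    push_cast
    ring

/-- the vector `w_j`. -/
def h29_wv (F : Type*) [Field F] (n j : ℕ) : Fin n → F := fun i => h29_wf F j (n - 1 - i.val)

theorem h29_wv_apply (j : ℕ) (i : Fin n) : h29_wv F n j i = h29_wf F j (n - 1 - i.val) := rfl

theorem h29_jm_wv (j : ℕ) : jm F n *ᵥ h29_wv F n (j + 1) = h29_wv F n j := by
  ext i
  rw [jm_mulVec]
  by_cases h : i.val + 1 < n
  · rw [dif_pos h, h29_wv_apply, h29_wv_apply, h29_wv_apply]
    obtain ⟨m, hm⟩ : ∃ m, n - 1 - i.val = m + 1 := ⟨n - 2 - i.val, by omega⟩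
    have hm' : n - 1 - (i.val + 1) = m := by omega
    show h29_wf F (j + 1) (n - 1 - i.val) + h29_wf F (j + 1) (n - 1 - (i.val + 1))
      = h29_wf F j (n - 1 - i.val)
    rw [hm, hm']
    exact h29_wf_succ j m
  · rw [dif_neg h, add_zero, h29_wv_apply, h29_wv_apply]
    have hm : n - 1 - i.val = 0 := by omega
    rw [hm]
    exact h29_wf_zero j

theorem h29_pow_wv (j : ℕ) : jm F n ^ j *ᵥ h29_wv F n j = h29_wv F n 0 := by
  induction j with
  | zero => rw [pow_zero, Matrix.one_mulVec]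
  | succ j ih =>
    rw [pow_succ, ← Matrix.mulVec_mulVec, h29_jm_wv, ih]

theorem h29_wv_zero (l : Fin n) (hl : l.val + 1 = n) : h29_wv F n 0 = Pi.single l 1 := by
  ext i
  rw [h29_wv_apply, h29_wf_zero_left, Pi.single_apply]
  by_cases h : i = l
  · subst h
    rw [if_pos rfl, if_pos (by omega)]
  · rw [if_neg h, if_neg]
    intro h0
    apply h
    apply Fin.ext
    have := i.isLt
    omega

/-- formula (C). -/
theorem h29_formulaC (a b φ ψ : Fin n → F) (h1 : ψ ⬝ᵥ a = 0) (h2 : ψ ⬝ᵥ b = 0) :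
    (1 + vecMulVec a φ) * (1 + vecMulVec b ψ) =
      (1 + vecMulVec a ((φ ⬝ᵥ b) • ψ)) * ((1 + vecMulVec b ψ) * (1 + vecMulVec a φ)) := by
  have e1 : vecMulVec a φ * vecMulVec b ψ = vecMulVec a ((φ ⬝ᵥ b) • ψ) :=
    Matrix.vecMulVec_mul_vecMulVec a φ b ψ
  have e2 : vecMulVec b ψ * vecMulVec a φ = 0 := by
    rw [Matrix.vecMulVec_mul_vecMulVec, h1, zero_smul, Matrix.vecMulVec_zero]
  have e3 : vecMulVec a ((φ ⬝ᵥ b) • ψ) * vecMulVec a φ = 0 := by
    rw [Matrix.vecMulVec_mul_vecMulVec, smul_dotProduct, h1, smul_zero, zero_smul,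
      Matrix.vecMulVec_zero]
  have e4 : vecMulVec a ((φ ⬝ᵥ b) • ψ) * vecMulVec b ψ = 0 := by
    rw [Matrix.vecMulVec_mul_vecMulVec, smul_dotProduct, h2, smul_zero, zero_smul,
      Matrix.vecMulVec_zero]
  have L : (1 + vecMulVec a φ) * (1 + vecMulVec b ψ)
      = 1 + vecMulVec b ψ + vecMulVec a φ + vecMulVec a ((φ ⬝ᵥ b) • ψ) := by
    rw [add_mul, mul_add, mul_add, mul_one, one_mul, mul_one, e1]
    abel
  have R1 : (1 + vecMulVec b ψ) * (1 + vecMulVec a φ)
      = 1 + vecMulVec b ψ + vecMulVec a φ := by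
    rw [add_mul, mul_add, mul_add, mul_one, one_mul, mul_one, e2, add_zero]
    abel
  rw [L, R1, add_mul, one_mul, mul_add, mul_add, mul_one, e3, e4, add_zero, add_zero]

/-- D (racing copy) -/
theorem h29_Om_shift (hS : MatGrp S) (hJ : jm F n ∈ S) (z l : Fin n) (hz : z.val = 0)
    (hl : l.val + 1 = n) (j i' : ℕ) (hj : 1 ≤ j) (hij : i' + j + 2 ≤ n) {x y : F}
    (hx : x ∈ Om S l 0) (hy : y ∈ Om S l i') :
    ((n + j - 2).choose (j - 1) : F) * x * y ∈ Om S l (i' + j) := by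
  obtain ⟨j', rfl⟩ : ∃ j', j = j' + 1 := ⟨j - 1, by omega⟩
  have hJpow : ∀ s : ℕ, jm F n ^ (s + 1) ∈ S := by
    intro s
    induction s with
    | zero => rw [zero_add, pow_one]; exact hJ
    | succ s ih => rw [pow_succ]; exact hS.mul ih hJ
  have hwl : jm F n ^ (j' + 1) *ᵥ h29_wv F n (j' + 1) = Pi.single l 1 := by
    rw [h29_pow_wv, h29_wv_zero l hl]
  -- the conjugated transvection
  have hy' : 1 + vecMulVec (Pi.single l 1) (y • rowv F n i') ∈ S := hy
  have hx' : 1 + vecMulVec (Pi.single l 1) (x • rowv F n 0) ∈ S := hx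
  have hM' : 1 + vecMulVec (h29_wv F n (j' + 1)) (y • rowv F n (i' + (j' + 1))) ∈ S := by
    refine hS.conj' (hJpow j') hy' ?_
    have key := conj_rankOne (jm F n ^ (j' + 1)) (h29_wv F n (j' + 1)) (y • rowv F n i')
    rw [hwl, Matrix.smul_vecMul, ← rowv_add] at key
    exact key
  -- the two vanishing pairings
  have h1 : (y • rowv F n (i' + (j' + 1))) ⬝ᵥ (Pi.single l 1 : Fin n → F) = 0 := by
    rw [smul_dotProduct, rowv_dot_last (i' + (j' + 1)) l hl (by omega), smul_zero]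
  have h2 : (y • rowv F n (i' + (j' + 1))) ⬝ᵥ h29_wv F n (j' + 1) = 0 := by
    rw [smul_dotProduct, rowv_add, ← Matrix.dotProduct_mulVec, hwl,
      rowv_dot_last i' l hl (by omega), smul_zero]
  have hC := MatGrp_comm_mem hS hx' hM'
    (h29_formulaC (Pi.single l 1) (h29_wv F n (j' + 1)) (x • rowv F n 0)
      (y • rowv F n (i' + (j' + 1))) h1 h2)
  -- the coefficient
  have hκ : (x • rowv F n 0) ⬝ᵥ h29_wv F n (j' + 1)
      = x * ((-1) ^ (n - 1) * ((n - 1 + j').choose j' : F)) := by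
    rw [smul_dotProduct, rowv_zero z hz, single_dotProduct, one_mul, h29_wv_apply,
      h29_wf_succ_left, hz, Nat.sub_zero, smul_eq_mul]
  rw [hκ, smul_smul] at hC
  have hC' : x * ((-1) ^ (n - 1) * ((n - 1 + j').choose j' : F)) * y ∈ Om S l (i' + (j' + 1)) :=
    hC
  have hidx : n + (j' + 1) - 2 = n - 1 + j' := by omega
  have hidx2 : j' + 1 - 1 = j' := by omega
  rw [hidx, hidx2]
  rcases neg_one_pow_eq_or F (n - 1) with hε | hε
  · rw [hε, one_mul] at hC'
    have e : ((n - 1 + j').choose j' : F) * x * y = x * ((n - 1 + j').choose j' : F) * y := by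
      ring
    rw [e]
    exact hC'
  · rw [hε] at hC'
    have e : x * (-1 * ((n - 1 + j').choose j' : F)) * y
        = -(((n - 1 + j').choose j' : F) * x * y) := by ring
    rw [e] at hC'
    exact (Om_neg_iff hS l hl (i' + (j' + 1)) (by omega)).mp hC'

end Cfsg.Agent.Lib.helper45.RU
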