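import Mathlib
import Cfsg.Agent.Lib.helper6.S3366Defs

/-!
S3366 piece P3: the involution `t` with `π t = -1` and `C_R(t) = Z`.
-/

set_option autoImplicit false

namespace Cfsg.Agent.Lib.helper29.S3366

open Cfsg.Agent.Lib.helper6.S3366

variable {X : Type*} [Group X] {R : Subgroup X} {π : X →* SL23} {z : X}

/-- An element of order dividing 2 and 3 is trivial. -/
theorem p3_sq_cube {x : X} (h2 : x ^ 2 = 1) (h3 : x ^ 3 = 1) : x = 1 := by
  have h : x ^ 3 = x ^ 2 * x := pow_succ x 2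
  rw [h3, h2, one_mul] at h
  exact h.symm

theorem p3_Z_central (hz : ∀ g : X, g * z = z * g) {c : X} (hc : c ∈ Subgroup.zpowers z)
    (g : X) : g * c = c * g := by
  obtain ⟨k, rfl⟩ := Subgroup.mem_zpowers_iff.1 hc
  have h : Commute g z := hz g
  exact h.zpow_right k

theorem p3_Z_le (S : Setting X R π z) : Subgroup.zpowers z ≤ R := by
  rw [Subgroup.zpowers_le]; exact S.zmem

theorem p3_conj_mem (S : Setting X R π z) (g : X) {r : X} (hr : r ∈ R) : g * r * g⁻¹ ∈ R := by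
  rw [← S.ker] at hr ⊢
  simp [hr]

/-- (i) an element of `R` centralised by `t` commutes with every element of `R` inverted by `t`. -/
theorem p3_i (S : Setting X R π z) (hz : ∀ g : X, g * z = z * g) (t : X)
    {d : X} (hd : d ∈ R) (htd : t * d = d * t) {i : X} (hi : i ∈ R) (hti : t * i * t⁻¹ = i⁻¹) :
    d * i = i * d := by
  have hcZ := S.comm d hd i hi
  obtain ⟨c, hc⟩ : ∃ c, c = d * i * d⁻¹ * i⁻¹ := ⟨_, rfl⟩
  rw [← hc] at hcZ
  have hct : t * c = c * t := p3_Z_central hz hcZ t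
  have hci : i * c = c * i := p3_Z_central hz hcZ i
  have h1 : t * c * t⁻¹ = c := by rw [hct]; group
  have htd' : t * d * t⁻¹ = d := by rw [htd]; group
  have h2 : t * c * t⁻¹ = (t * d * t⁻¹) * (t * i * t⁻¹) * (t * d * t⁻¹)⁻¹ * (t * i * t⁻¹)⁻¹ := by
    rw [hc]; group
  rw [htd', hti, inv_inv, h1] at h2
  have h4 : c = i⁻¹ * d * i * d⁻¹ := by
    calc c = i⁻¹ * (i * c) := by group
      _ = i⁻¹ * (c * i) := by rw [hci]
      _ = i⁻¹ * d * i * d⁻¹ := by rw [hc]; group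
  have h3 : c⁻¹ = d * i⁻¹ * d⁻¹ * i := by rw [h4]; group
  have hcc : c = c⁻¹ := h2.trans h3.symm
  have hc2 : c * c = 1 := eq_inv_iff_mul_eq_one.1 hcc
  have hc1 : c = 1 := p3_sq_cube (by rw [sq]; exact hc2) (S.exp c (p3_Z_le S hcZ))
  have h5 : d * i * d⁻¹ * i⁻¹ = 1 := hc.symm.trans hc1
  calc d * i = (d * i * d⁻¹ * i⁻¹) * i * d := by group
    _ = i * d := by rw [h5, one_mul]

/-- (ii) every element of `R` is the product of an element inverted by `t` and an element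
centralised by `t`. -/
theorem p3_ii (S : Setting X R π z) (t : X) (ht2 : t ^ 2 = 1) (htn : ∀ r ∈ R, t * r * t⁻¹ ∈ R)
    {r : X} (hr : r ∈ R) :
    ∃ i ∈ R, ∃ c ∈ R, t * i * t⁻¹ = i⁻¹ ∧ t * c = c * t ∧ r = i * c := by
  obtain ⟨κ, hκ⟩ : ∃ κ, κ = r * t * r⁻¹ * t⁻¹ := ⟨_, rfl⟩
  have hκR : κ ∈ R := by
    have h : κ = r * (t * r⁻¹ * t⁻¹) := by rw [hκ]; group
    rw [h]; exact R.mul_mem hr (htn _ (R.inv_mem hr))
  have hκ3 : κ ^ 3 = 1 := S.exp κ hκR
  have hκinv : t * κ * t⁻¹ = κ⁻¹ := by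
    have h1 : t * κ * t⁻¹ = t * r * t⁻¹ * r⁻¹ * (r * t ^ 2 * r⁻¹) * (t ^ 2)⁻¹ := by
      rw [hκ]; group
    rw [h1, ht2, hκ]; group
  refine ⟨κ ^ 2, R.pow_mem hκR 2, (κ ^ 2)⁻¹ * r,
    R.mul_mem (R.inv_mem (R.pow_mem hκR 2)) hr, ?_, ?_, by group⟩
  · have h : t * κ ^ 2 * t⁻¹ = (t * κ * t⁻¹) * (t * κ * t⁻¹) := by rw [sq]; group
    rw [h, hκinv]; group
  · have h1 : t * ((κ ^ 2)⁻¹ * r) = (t * κ * t⁻¹)⁻¹ * (t * κ * t⁻¹)⁻¹ * t * r := by
      rw [sq]; group
    rw [h1, hκinv, inv_inv]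
    have h2 : (κ ^ 2)⁻¹ = κ * (κ ^ 3)⁻¹ := by group
    rw [h2, hκ3, inv_one, mul_one]
    have h3 : κ * t * r = r * t := by rw [hκ]; group
    calc κ * κ * t * r = κ * (κ * t * r) := by group
      _ = κ * r * t := by rw [h3, mul_assoc]

/-- A proper subgroup of `R` is abelian. -/
theorem p3_abelian (S : Setting X R π z) (H : Subgroup X) (hHR : H ≤ R) (hne : H ≠ R) :
    ∀ a ∈ H, ∀ b ∈ H, a * b = b * a := by
  have hdvd : Nat.card H ∣ 27 := S.card ▸ Subgroup.card_dvd_of_le hHR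
  have hfin : Finite R := Nat.finite_of_card_ne_zero (by rw [S.card]; norm_num)
  have hne27 : Nat.card H ≠ 27 := by
    intro h
    exact hne (Subgroup.eq_of_le_of_card_ge hHR (by rw [S.card, h]))
  have h27 : (27 : ℕ) = 3 ^ 3 := by norm_num
  rw [h27] at hdvd
  obtain ⟨m, hm, hcard⟩ := (Nat.dvd_prime_pow Nat.prime_three).1 hdvd
  have hfact : Fact (Nat.Prime 3) := ⟨Nat.prime_three⟩
  have key : ∀ a b : H, a * b = b * a := by
    interval_cases m
    · rw [pow_zero] at hcard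
      have hs : Subsingleton H := (Nat.card_eq_one_iff_unique.1 hcard).1
      intro a b
      rw [Subsingleton.elim a b]
    · rw [pow_one] at hcard
      have hcyc : IsCyclic H := isCyclic_of_prime_card hcard
      intro a b
      exact (IsCyclic.isMulCommutative (α := H)).is_comm.comm a b
    · intro a b
      exact (IsPGroup.isMulCommutative_of_card_eq_prime_sq hcard).is_comm.comm a b
    · exact absurd hcard (by norm_num at hne27 ⊢; exact hne27)
  intro a ha b hb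
  exact congrArg Subtype.val (key ⟨a, ha⟩ ⟨b, hb⟩)

theorem p3_main (S : Setting X R π z) (hz : ∀ g : X, g * z = z * g)
    (hK : ∀ x : X, (∀ r ∈ R, x * r = r * x) → x ∈ R) (t : X) (ht2 : t ^ 2 = 1) (htR : t ∉ R)
    (htn : ∀ r ∈ R, t * r * t⁻¹ ∈ R) :
    ∀ d ∈ R, t * d = d * t → d ∈ Subgroup.zpowers z := by
  intro d hd htd
  have h0 : ∃ r0 ∈ R, t * r0 ≠ r0 * t := by
    by_contra hcon
    push Not at hcon
    exact htR (hK t hcon)
  obtain ⟨r0, hr0, hr0t⟩ := h0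
  obtain ⟨i0, hi0R, c0, hc0R, hi0t, hc0t, hr0eq⟩ := p3_ii S t ht2 htn hr0
  have hi0ne : i0 ≠ 1 := by
    rintro rfl
    rw [one_mul] at hr0eq
    rw [hr0eq] at hr0t
    exact hr0t hc0t
  have hi0Z : i0 ∉ Subgroup.zpowers z := by
    intro hmem
    have h1 : t * i0 = i0 * t := p3_Z_central hz hmem t
    have h2 : t * i0 * t⁻¹ = i0 := by rw [h1]; group
    rw [hi0t] at h2
    have h3 : i0 * i0 = 1 := eq_inv_iff_mul_eq_one.1 h2.symm
    exact hi0ne (p3_sq_cube (by rw [sq]; exact h3) (S.exp i0 hi0R))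
  have hHne : R ⊓ Subgroup.centralizer {i0} ≠ R := by
    intro h
    apply hi0Z
    rw [← S.cent i0 hi0R]
    intro s hs
    have hs' : s ∈ R ⊓ Subgroup.centralizer {i0} := by rw [h]; exact hs
    exact Subgroup.mem_centralizer_iff.1 hs'.2 i0 rfl
  have hHab := p3_abelian S _ inf_le_left hHne
  have hmemH : ∀ a ∈ R, a * i0 = i0 * a → a ∈ R ⊓ Subgroup.centralizer {i0} := by
    intro a ha hai
    refine Subgroup.mem_inf.2 ⟨ha, ?_⟩
    rw [Subgroup.mem_centralizer_iff]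
    intro h hh
    rw [Set.mem_singleton_iff.1 hh]
    exact hai.symm
  have hdR : ∀ s ∈ R, d * s = s * d := by
    intro s hs
    obtain ⟨i, hiR, c, hcR, hit, hct, rfl⟩ := p3_ii S t ht2 htn hs
    have h1 : d * i = i * d := p3_i S hz t hd htd hiR hit
    have h2 : d * c = c * d :=
      hHab d (hmemH d hd (p3_i S hz t hd htd hi0R hi0t)) c
        (hmemH c hcR (p3_i S hz t hcR hct hi0R hi0t))
    calc d * (i * c) = (d * i) * c := by group
      _ = i * (d * c) := by rw [h1]; group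
      _ = i * c * d := by rw [h2]; group
  exact (S.cent d hd).1 hdR

theorem exists_invol [Finite X] (S : Setting X R π z) (hz : ∀ g : X, g * z = z * g)
    (hK : ∀ x : X, (∀ r ∈ R, x * r = r * x) → x ∈ R) :
    ∃ t : X, t ^ 2 = 1 ∧ π t = -1 ∧ ∀ r ∈ R, t * r = r * t → r ∈ Subgroup.zpowers z := by
  obtain ⟨n, hn⟩ := S.surj (-1)
  have hneg2 : (-1 : SL23) ^ 2 = 1 := by decide
  have hneg3 : (-1 : SL23) ^ 3 = -1 := by decide
  have hneg1 : (-1 : SL23) ≠ 1 := by decide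
  have hn2 : n ^ 2 ∈ R := by
    rw [← S.ker, map_pow, hn, hneg2]
  have ht2 : (n ^ 3) ^ 2 = 1 := by
    have h := S.exp _ hn2
    rw [← pow_mul] at h ⊢
    exact h
  have htπ : π (n ^ 3) = -1 := by rw [map_pow, hn, hneg3]
  have htR : n ^ 3 ∉ R := by
    rw [← S.ker, htπ]; exact hneg1
  exact ⟨n ^ 3, ht2, htπ, p3_main S hz hK (n ^ 3) ht2 htR (fun r hr => p3_conj_mem S _ hr)⟩

end Cfsg.Agent.Lib.helper29.S3366
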