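import Mathlib
import Cfsg.Statements.S3390
import Cfsg.Agent.Lib.helper37.S3390Defs

/-!
# S3390 piece A2 (`card_centralizer_of_card_two`), helper29 (parallel copy).
-/

set_option autoImplicit false
open Cfsg

namespace Cfsg.Agent.Lib.helper29.S3390A2

open Cfsg.Agent.Lib.helper37.S3390

variable {G : Type*} [Group G] [Finite G] {Ω : Type*} [MulAction G Ω]

/-- PIECE A2: if `T = S ∩ G_α` has order 2 (and `S ≰ G_α`), its involution has centralizer of
order 4 in `S`. -/
theorem card_centralizer_of_card_two
    (h3 : ∀ g : G, ∀ a b c : Ω, a ≠ b → a ≠ c → b ≠ c → g • a = a → g • b = b → g • c = c → g = 1)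
    (S : Subgroup G) (hS : IsPGroup 2 S) (α : Ω) (h4 : ¬ S ≤ MulAction.stabilizer G α)
    (hT2 : Nat.card ↥(S ⊓ MulAction.stabilizer G α) = 2) :
    ∃ u : ↥S, orderOf u = 2 ∧ Nat.card ↥(Subgroup.centralizer ({u} : Set ↥S)) = 4 := by
  classical
  obtain ⟨t, ht1, huniq⟩ := (Nat.card_eq_two_iff' (1 : ↥(S ⊓ MulAction.stabilizer G α))).mp hT2
  have htT : (t : G) ∈ S ⊓ MulAction.stabilizer G α := t.2
  have ht1' : (t : G) ≠ 1 := fun h => ht1 (Subtype.ext h)
  -- every element of T is 1 or t
  have hT : ∀ x : G, x ∈ S ⊓ MulAction.stabilizer G α → x = 1 ∨ x = (t : G) := by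
    intro x hx
    by_cases hx1 : x = 1
    · exact Or.inl hx1
    · right
      have := huniq ⟨x, hx⟩ (fun h => hx1 (congrArg Subtype.val h))
      exact congrArg Subtype.val this
  have htsq : (t : G) * (t : G) = 1 := by
    rcases hT _ (mul_mem htT htT) with h | h
    · exact h
    · exact absurd (by simpa using h) ht1'
  have h1 : S ⊓ MulAction.stabilizer G α ≠ ⊥ := by
    intro hbot
    have : (t : G) ∈ (⊥ : Subgroup G) := hbot ▸ htT
    exact ht1' (Subgroup.mem_bot.mp this)
  obtain ⟨n, hnS, hnα, hnT, hfixT, hTn⟩ := exists_swap h3 S hS α h1 h4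
  have hnT' : n ∉ S ⊓ MulAction.stabilizer G α := fun h => hnα h.2
  -- n commutes with t
  have hnt : n * (t : G) = (t : G) * n := by
    rcases hT _ (hnT _ htT) with h | h
    · exfalso
      apply ht1'
      have : n * (t : G) = n := by
        have := congrArg (· * n) h
        simpa using this
      exact mul_eq_left.mp this
    · have := congrArg (· * n) h
      simpa using this
  let u : ↥S := ⟨(t : G), htT.1⟩
  let n' : ↥S := ⟨n, hnS⟩
  have hu1 : u ≠ 1 := fun h => ht1' (congrArg Subtype.val h)
  have husq : u ^ 2 = 1 := by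
    apply Subtype.ext
    simp [u, pow_two, htsq]
  have : Fact (Nat.Prime 2) := ⟨Nat.prime_two⟩
  refine ⟨u, orderOf_eq_prime husq hu1, ?_⟩
  have hset : ((Subgroup.centralizer ({u} : Set ↥S) : Subgroup ↥S) : Set ↥S) =
      ↑({1, u, n', n' * u} : Finset ↥S) := by
    ext m
    simp only [Finset.coe_insert, Finset.coe_singleton, Set.mem_insert_iff,
      Set.mem_singleton_iff, SetLike.mem_coe, Subgroup.mem_centralizer_singleton_iff]
    constructor
    · intro hm
      have hm' : (m : G) * (t : G) = (t : G) * (m : G) := congrArg Subtype.val hm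
      have hfix : ∀ t' ∈ S ⊓ MulAction.stabilizer G α, t' • ((m : G) • α) = (m : G) • α := by
        intro t' ht'
        rcases hT t' ht' with h | h
        · rw [h, one_smul]
        · rw [h, ← mul_smul, ← hm', mul_smul]
          congr 1
          exact htT.2
      rcases hfixT _ hfix with h | h
      · have hmT : (m : G) ∈ S ⊓ MulAction.stabilizer G α := ⟨m.2, h⟩
        rcases hT _ hmT with h' | h'
        · left; exact Subtype.ext h'
        · right; left; exact Subtype.ext h'
      · have hmT : n⁻¹ * (m : G) ∈ S ⊓ MulAction.stabilizer G α := by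
          refine Subgroup.mem_inf.mpr ⟨S.mul_mem (S.inv_mem hnS) m.2, ?_⟩
          rw [MulAction.mem_stabilizer_iff, mul_smul, h, inv_smul_smul]
        rcases hT _ hmT with h' | h'
        · right; right; left
          apply Subtype.ext
          show (m : G) = n
          have := congrArg (n * ·) h'
          simpa using this
        · right; right; right
          apply Subtype.ext
          show (m : G) = n * (t : G)
          have := congrArg (n * ·) h'
          simpa using this
    · rintro (rfl | rfl | rfl | rfl)
      · simp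
      · rfl
      · apply Subtype.ext
        show n * (t : G) = (t : G) * n
        exact hnt
      · apply Subtype.ext
        show n * (t : G) * (t : G) = (t : G) * (n * (t : G))
        rw [← mul_assoc, ← hnt]
  have hcard : Nat.card ↥(Subgroup.centralizer ({u} : Set ↥S)) =
      ((Subgroup.centralizer ({u} : Set ↥S) : Subgroup ↥S) : Set ↥S).ncard :=
    Nat.card_coe_set_eq _
  rw [hcard, hset, Set.ncard_coe_finset]
  have hn1 : n ≠ 1 := fun h => hnα (by rw [h, one_smul])
  have hnt1 : n * (t : G) ≠ 1 := by
    intro h
    apply hnT'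
    have : n = (t : G)⁻¹ := mul_eq_one_iff_eq_inv.mp h
    rw [this]
    exact inv_mem htT
  have hnt' : n ≠ (t : G) := fun h => hnT' (h ▸ htT)
  rw [Finset.card_insert_of_notMem, Finset.card_insert_of_notMem, Finset.card_insert_of_notMem,
    Finset.card_singleton]
  · simp only [Finset.mem_singleton]
    intro h
    have h' : n = n * (t : G) := congrArg Subtype.val h
    exact ht1' (by simpa using h'.symm)
  · simp only [Finset.mem_insert, Finset.mem_singleton]
    rintro (h | h)
    · exact hnt' (congrArg Subtype.val h).symm
    · have h' : (t : G) = n * (t : G) := congrArg Subtype.val h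
      exact hn1 (by simpa using h'.symm)
  · simp only [Finset.mem_insert, Finset.mem_singleton]
    rintro (h | h | h)
    · exact ht1' (congrArg Subtype.val h).symm
    · exact hn1 (congrArg Subtype.val h).symm
    · exact hnt1 (congrArg Subtype.val h).symm

end Cfsg.Agent.Lib.helper29.S3390A2
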