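import Mathlib
import Cfsg.Statements.S3390
import Cfsg.Agent.Lib.helper37.S3390Defs

/-!
# S3390 piece D1 (`other_stab`), helper29 (parallel copy).
-/

set_option autoImplicit false
open Cfsg

namespace Cfsg.Agent.Lib.helper29.S3390D1

variable {G : Type*} [Group G] [Finite G] {Ω : Type*} [MulAction G Ω]

/-- PIECE D1: if `|S : T| = 2`, `Fix(T) ∋ α, n • α` and a third point `ω` has nontrivial
stabilizer in `S`, that stabilizer has order 2, `S` does not fix `ω`, and `S` is not cyclic. -/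
theorem other_stab
    (h3 : ∀ g : G, ∀ a b c : Ω, a ≠ b → a ≠ c → b ≠ c → g • a = a → g • b = b → g • c = c → g = 1)
    (S : Subgroup G) (hS : IsPGroup 2 S) (α : Ω)
    (h1 : S ⊓ MulAction.stabilizer G α ≠ ⊥) (n : G) (hnα : n • α ≠ α)
    (hTn : ∀ t ∈ S ⊓ MulAction.stabilizer G α, t • (n • α) = n • α)
    (hidx : (S ⊓ MulAction.stabilizer G α).relIndex S = 2)
    (ω : Ω) (hωα : ω ≠ α) (hωn : ω ≠ n • α) (hω : S ⊓ MulAction.stabilizer G ω ≠ ⊥) :
    Nat.card ↥(S ⊓ MulAction.stabilizer G ω) = 2 ∧ ¬ S ≤ MulAction.stabilizer G ω ∧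
      ¬ IsCyclic ↥S := by
  classical
  -- (a) T ⊓ Sω = ⊥
  have hTω : ∀ g : G, g ∈ S ⊓ MulAction.stabilizer G α → g ∈ S ⊓ MulAction.stabilizer G ω →
      g = 1 := by
    intro g hgT hgω
    exact h3 g α (n • α) ω (fun h => hnα h.symm) (fun h => hωα h.symm) (fun h => hωn h.symm)
      hgT.2 (hTn g hgT) hgω.2
  -- (b) index two
  have hi : ((S ⊓ MulAction.stabilizer G α).subgroupOf S).index = 2 := hidx
  have hmul : ∀ a b : G, a ∈ S → b ∈ S → a ∉ S ⊓ MulAction.stabilizer G α →
      b ∉ S ⊓ MulAction.stabilizer G α → a * b ∈ S ⊓ MulAction.stabilizer G α := by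
    intro a b ha hb haT hbT
    have key := Subgroup.mul_mem_iff_of_index_two hi (a := (⟨a, ha⟩ : ↥S)) (b := ⟨b, hb⟩)
    have : (⟨a, ha⟩ : ↥S) * ⟨b, hb⟩ ∈ (S ⊓ MulAction.stabilizer G α).subgroupOf S := by
      rw [key]
      constructor
      · intro h; exact absurd (Subgroup.mem_subgroupOf.mp h) haT
      · intro h; exact absurd (Subgroup.mem_subgroupOf.mp h) hbT
    exact Subgroup.mem_subgroupOf.mp this
  -- a nontrivial element of Sω
  obtain ⟨a, ha1⟩ := (Subgroup.ne_bot_iff_exists_ne_one).mp hω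
  have haω' : (a : G) ∈ S ⊓ MulAction.stabilizer G ω := a.2
  have ha1' : (a : G) ≠ 1 := fun h => ha1 (Subtype.ext h)
  have hnotT : ∀ b : G, b ∈ S ⊓ MulAction.stabilizer G ω → b ≠ 1 →
      b ∉ S ⊓ MulAction.stabilizer G α := fun b hb hb1 hbT => hb1 (hTω b hbT hb)
  have huniq : ∀ b : G, b ∈ S ⊓ MulAction.stabilizer G ω → b ≠ 1 → b = (a : G) := by
    intro b hb hb1
    have hbinv : b⁻¹ ∈ S ⊓ MulAction.stabilizer G ω := inv_mem hb
    have hbinv1 : b⁻¹ ≠ 1 := fun h => hb1 (inv_eq_one.mp h)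
    have h := hmul (a : G) b⁻¹ haω'.1 hbinv.1 (hnotT _ haω' ha1') (hnotT _ hbinv hbinv1)
    have h' : (a : G) * b⁻¹ = 1 := hTω _ h (mul_mem haω' hbinv)
    exact (mul_inv_eq_one.mp h').symm
  have hasq : (a : G) * (a : G) = 1 := by
    by_contra hne
    have := huniq _ (mul_mem haω' haω') hne
    exact ha1' (by simpa using this)
  refine ⟨?_, ?_, ?_⟩
  · rw [Nat.card_eq_two_iff' (1 : ↥(S ⊓ MulAction.stabilizer G ω))]
    refine ⟨a, ha1, ?_⟩
    intro y hy
    exact Subtype.ext (huniq (y : G) y.2 (fun h => hy (Subtype.ext h)))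
  · intro hle
    apply h1
    rw [eq_bot_iff]
    intro t ht
    exact hTω t ht ⟨ht.1, hle ht.1⟩
  · intro hcyc
    -- an involution in T
    obtain ⟨t, ht1⟩ := (Subgroup.ne_bot_iff_exists_ne_one).mp h1
    have htT' : (t : G) ∈ S ⊓ MulAction.stabilizer G α := t.2
    have ht1' : (t : G) ≠ 1 := fun h => ht1 (Subtype.ext h)
    obtain ⟨k, hk⟩ := hS ⟨(t : G), htT'.1⟩
    have hk' : (t : G) ^ 2 ^ k = 1 := by
      have := congrArg (Subtype.val) hk
      simpa using this
    have hord : orderOf (t : G) ∣ 2 ^ k := orderOf_dvd_of_pow_eq_one hk'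
    obtain ⟨j, hj, hoj⟩ := (Nat.dvd_prime_pow Nat.prime_two).mp hord
    have hj0 : j ≠ 0 := by
      intro h0
      rw [h0, pow_zero] at hoj
      exact ht1' (orderOf_eq_one_iff.mp hoj)
    have h2dvd : 2 ∣ orderOf (t : G) := by
      rw [hoj]; exact dvd_pow_self 2 hj0
    have hopos : orderOf (t : G) ≠ 0 := by rw [hoj]; positivity
    have hord2 : orderOf ((t : G) ^ (orderOf (t : G) / 2)) = 2 :=
      orderOf_pow_orderOf_div hopos h2dvd
    set t' : G := (t : G) ^ (orderOf (t : G) / 2) with ht'def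
    have ht'T : t' ∈ S ⊓ MulAction.stabilizer G α := pow_mem htT' _
    have ht'1 : t' ≠ 1 := by
      intro h
      rw [h, orderOf_one] at hord2
      exact absurd hord2 (by norm_num)
    have ht'sq : t' * t' = 1 := by
      have := pow_orderOf_eq_one t'
      rw [hord2, pow_two] at this
      exact this
    have hat' : (a : G) ≠ t' := by
      intro h
      exact hnotT _ haω' ha1' (h ▸ ht'T)
    -- three solutions of x^2 = 1 in the cyclic group ↥S
    letI : Fintype ↥S := Fintype.ofFinite _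
    have hle := IsCyclic.card_pow_eq_one_le (α := ↥S) (n := 2) (by norm_num)
    let e1 : ↥S := 1
    let e2 : ↥S := ⟨(a : G), haω'.1⟩
    let e3 : ↥S := ⟨t', ht'T.1⟩
    have hsub : ({e1, e2, e3} : Finset ↥S) ⊆ Finset.univ.filter (fun x : ↥S => x ^ 2 = 1) := by
      intro x hx
      simp only [Finset.mem_insert, Finset.mem_singleton] at hx
      simp only [Finset.mem_filter, Finset.mem_univ, true_and]
      rcases hx with rfl | rfl | rfl
      · simp [e1]
      · apply Subtype.ext; simp [e2, pow_two, hasq]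
      · apply Subtype.ext; simp [e3, pow_two, ht'sq]
    have hcard3 : ({e1, e2, e3} : Finset ↥S).card = 3 := by
      rw [Finset.card_insert_of_notMem, Finset.card_insert_of_notMem, Finset.card_singleton]
      · simp only [Finset.mem_singleton]
        intro h
        exact hat' (congrArg Subtype.val h)
      · simp only [Finset.mem_insert, Finset.mem_singleton]
        rintro (h | h)
        · exact ha1' (congrArg Subtype.val h).symm
        · exact ht'1 (congrArg Subtype.val h).symm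
    have := Finset.card_le_card hsub
    omega

end Cfsg.Agent.Lib.helper29.S3390D1
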