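import Mathlib
import Cfsg.Agent.Lib.helper26.S4409Defs

/-!
# S4409, piece B2Q (racer copy): assembly of case B2-Q8, with the upstream pieces as hypotheses
-/

set_option autoImplicit false

namespace Cfsg.Agent.Lib.helper26.S4409

variable {G : Type*} [Group G]

theorem h29_mem_normalizer_of_conj (K : Subgroup G) (g : G)
    (h1 : ∀ x ∈ K, g * x * g⁻¹ ∈ K) (h2 : ∀ x ∈ K, g⁻¹ * x * g ∈ K) :
    g ∈ Subgroup.normalizer (K : Set G) := by
  rw [Subgroup.mem_normalizer_iff]
  intro x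
  constructor
  · exact h1 x
  · intro hx
    have h := h2 _ hx
    have e : g⁻¹ * (g * x * g⁻¹) * g = x := by group
    rw [e] at h
    exact h

theorem h29_conj_mem_of_normalizer (K : Subgroup G) (g : G)
    (hg : g ∈ Subgroup.normalizer (K : Set G)) : ∀ x ∈ K, g * x * g⁻¹ ∈ K := by
  intro x hx
  exact (Subgroup.mem_normalizer_iff.mp hg x).mp hx

theorem h29_conj_mem_of_normalizer' (K : Subgroup G) (g : G)
    (hg : g ∈ Subgroup.normalizer (K : Set G)) : ∀ x ∈ K, g⁻¹ * x * g ∈ K := by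
  intro x hx
  have h := (Subgroup.mem_normalizer_iff.mp ((Subgroup.normalizer (K : Set G)).inv_mem hg) x).mp hx
  rw [inv_inv] at h
  exact h

theorem h29_normalizer_centralizer (M : Subgroup G) (g : G)
    (hg : g ∈ Subgroup.normalizer (M : Set G)) :
    g ∈ Subgroup.normalizer ((Subgroup.centralizer (M : Set G) : Subgroup G) : Set G) := by
  have key : ∀ g : G, g ∈ Subgroup.normalizer (M : Set G) →
      ∀ c ∈ Subgroup.centralizer (M : Set G), g * c * g⁻¹ ∈ Subgroup.centralizer (M : Set G) := by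
    intro g hg c hc
    rw [Subgroup.mem_centralizer_iff] at hc ⊢
    intro m hm
    have hm' : g⁻¹ * m * g ∈ M := h29_conj_mem_of_normalizer' M g hg m hm
    have h := hc _ hm'
    calc m * (g * c * g⁻¹) = g * ((g⁻¹ * m * g) * c) * g⁻¹ := by group
      _ = g * (c * (g⁻¹ * m * g)) * g⁻¹ := by rw [h]
      _ = g * c * g⁻¹ * m := by group
  apply h29_mem_normalizer_of_conj
  · exact key g hg
  · intro c hc
    have h := key g⁻¹ ((Subgroup.normalizer (M : Set G)).inv_mem hg) c hc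
    rw [inv_inv] at h
    exact h

theorem h29_normalizer_inf (A B : Subgroup G) (g : G)
    (hA : g ∈ Subgroup.normalizer (A : Set G)) (hB : g ∈ Subgroup.normalizer (B : Set G)) :
    g ∈ Subgroup.normalizer ((A ⊓ B : Subgroup G) : Set G) := by
  apply h29_mem_normalizer_of_conj
  · intro x hx
    obtain ⟨hxA, hxB⟩ := Subgroup.mem_inf.mp hx
    exact Subgroup.mem_inf.mpr ⟨h29_conj_mem_of_normalizer A g hA x hxA,
      h29_conj_mem_of_normalizer B g hB x hxB⟩
  · intro x hx
    obtain ⟨hxA, hxB⟩ := Subgroup.mem_inf.mp hx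
    exact Subgroup.mem_inf.mpr ⟨h29_conj_mem_of_normalizer' A g hA x hxA,
      h29_conj_mem_of_normalizer' B g hB x hxB⟩

theorem h29_normalizer_sup (A B : Subgroup G) (g : G)
    (hA : g ∈ Subgroup.normalizer (A : Set G)) (hB : g ∈ Subgroup.normalizer (B : Set G)) :
    g ∈ Subgroup.normalizer ((A ⊔ B : Subgroup G) : Set G) := by
  have key : ∀ g : G, g ∈ Subgroup.normalizer (A : Set G) → g ∈ Subgroup.normalizer (B : Set G) →
      ∀ x ∈ A ⊔ B, g * x * g⁻¹ ∈ A ⊔ B := by
    intro g hA hB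
    have hle : A ⊔ B ≤ (A ⊔ B).comap (MulAut.conj g).toMonoidHom := by
      apply sup_le
      · intro a ha
        rw [Subgroup.mem_comap]
        exact (le_sup_left : A ≤ A ⊔ B) (h29_conj_mem_of_normalizer A g hA a ha)
      · intro b hb
        rw [Subgroup.mem_comap]
        exact (le_sup_right : B ≤ A ⊔ B) (h29_conj_mem_of_normalizer B g hB b hb)
    intro x hx
    exact hle hx
  apply h29_mem_normalizer_of_conj
  · exact key g hA hB
  · intro x hx
    have h := key g⁻¹ ((Subgroup.normalizer (A : Set G)).inv_mem hA)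
      ((Subgroup.normalizer (B : Set G)).inv_mem hB) x hx
    rw [inv_inv] at h
    exact h

/-- Case B2-Q8 of S4409, with the upstream pieces `q8l`, `kf`, `vfix`, `qz`, `b2qc`, `cp32`
as hypotheses (their verbatim statements, quantified over the subgroups). -/
theorem h29_b2q_core [Finite G] (X H M : Subgroup G) (hM : MinSet X H) (hXH : ⁅X, H⁆ = X)
    (hMax : IsMaxInv X H M) (hQ : IsQ8 M)
    (hq8l : ∀ X Q : Subgroup G, IsPGroup 2 ↥X → Q ≤ X →
      X ≤ Subgroup.normalizer (Q : Set G) → IsQ8 Q →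
      X ⊓ Subgroup.centralizer (Q : Set G) ≤ Q → NoP X)
    (hkf : ∀ Y : Subgroup G, IsPGroup 2 ↥Y → NoP Y → ∀ g : G,
      g ∈ Subgroup.normalizer (Y : Set G) → Odd (orderOf g) →
      g ∉ Subgroup.centralizer (Y : Set G) → IsV4 Y ∨ IsQ8 Y)
    (hvfix : ∀ M : Subgroup G, IsV4 M → ∀ g : G, g ∈ Subgroup.normalizer (M : Set G) →
      Odd (orderOf g) → g ∉ Subgroup.centralizer (M : Set G) → ∀ v : G, v ∈ M →
      v ≠ 1 → g * v = v * g → False)
    (hqz : ∀ M : Subgroup G, IsQ8 M → ∃ z : G, z ∈ M ∧ z ≠ 1 ∧ z * z = 1 ∧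
      (∀ m ∈ M, m * m = 1 → m = 1 ∨ m = z) ∧
      M ⊓ Subgroup.centralizer (M : Set G) = Subgroup.zpowers z ∧ Nat.card ↥M = 8)
    (hb2qc : ∀ X H M C : Subgroup G, M ⊔ C = X →
      X ≤ Subgroup.normalizer (M : Set G) → H ≤ Subgroup.normalizer (M : Set G) →
      H ≤ Subgroup.centralizer (C : Set G) → ⁅X, H⁆ ≤ M)
    (hcp32 : ∀ M C : Subgroup G, IsQ8 M → IsQ8 C →
      C ≤ Subgroup.centralizer (M : Set G) → M ⊓ C ≠ ⊥ →
      Cfsg.IsExtraspecial 2 ↥(M ⊔ C : Subgroup G) ∧ Nat.card ↥(M ⊔ C : Subgroup G) = 32) :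
    Concl X := by
  obtain ⟨hX2, hHX, hcop, hmin, hnN⟩ := hM
  obtain ⟨hMX, hMne, hXM, hHM, hmax⟩ := hMax
  obtain ⟨z, hzM, hz1, hzz, hzuniq, hzcen, hM8⟩ := hqz M hQ
  obtain ⟨C, hCeq⟩ : ∃ C : Subgroup G, C = X ⊓ Subgroup.centralizer (M : Set G) := ⟨_, rfl⟩
  have hCX : C ≤ X := by rw [hCeq]; exact inf_le_left
  have hCcen : C ≤ Subgroup.centralizer (M : Set G) := by rw [hCeq]; exact inf_le_right
  have hnCM : ¬ C ≤ M := by
    intro h
    rw [hCeq] at h
    exact hnN (hq8l X M hX2 hMX hXM hQ h)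
  have hXC : X ≤ Subgroup.normalizer (C : Set G) := by
    intro x hx
    rw [hCeq]
    exact h29_normalizer_inf _ _ x (Subgroup.le_normalizer hx)
      (h29_normalizer_centralizer M x (hXM hx))
  have hHC : H ≤ Subgroup.normalizer (C : Set G) := by
    intro x hx
    rw [hCeq]
    exact h29_normalizer_inf _ _ x (hHX hx) (h29_normalizer_centralizer M x (hHM hx))
  have hsup : M ⊔ C = X := by
    rcases hmax (M ⊔ C) le_sup_left (sup_le hMX hCX)
      (fun x hx => h29_normalizer_sup M C x (hXM hx) (hXC hx))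
      (fun x hx => h29_normalizer_sup M C x (hHM hx) (hHC hx)) with h | h
    · exact absurd (le_sup_right.trans_eq h) hnCM
    · exact h
  have hzcenM : z ∈ Subgroup.centralizer (M : Set G) := by
    have hz : z ∈ M ⊓ Subgroup.centralizer (M : Set G) := by
      rw [hzcen]; exact Subgroup.mem_zpowers z
    exact (Subgroup.mem_inf.mp hz).2
  have hzC : z ∈ C := by
    rw [hCeq]
    exact Subgroup.mem_inf.mpr ⟨hMX hzM, hzcenM⟩
  have hCneX : C ≠ X := by
    intro h
    have hXcen : X ≤ Subgroup.centralizer (M : Set G) := by rw [← h]; exact hCcen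
    have hMz : M ≤ Subgroup.zpowers z := by
      rw [← hzcen]
      exact le_inf le_rfl (hMX.trans hXcen)
    have h1 : Nat.card ↥M ≤ Nat.card ↥(Subgroup.zpowers z) := Subgroup.card_le_of_le hMz
    rw [Nat.card_zpowers, hM8] at h1
    have h2 : orderOf z ∣ 2 := orderOf_dvd_of_pow_eq_one (by rw [pow_two]; exact hzz)
    have h3 : orderOf z ≤ 2 := Nat.le_of_dvd (by norm_num) h2
    omega
  have hNC : NoP C := hmin C hCX hCneX hHC
  have hHnc : ¬ H ≤ Subgroup.centralizer (C : Set G) := by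
    intro h
    have h1 := hb2qc X H M C hsup hXM hHM h
    rw [hXH] at h1
    exact hMne (le_antisymm hMX h1)
  obtain ⟨g, hgH, hgnc⟩ := SetLike.not_le_iff_exists.mp hHnc
  have hgodd : Odd (orderOf g) :=
    Nat.Coprime.odd_of_right (Nat.Coprime.coprime_dvd_left (Subgroup.orderOf_dvd_natCard H hgH) hcop)
  have hC2 : IsPGroup 2 ↥C := hX2.to_le hCX
  rcases hkf C hC2 hNC g (hHC hgH) hgodd hgnc with hV | hQC
  · exfalso
    have hconj : g * z * g⁻¹ ∈ M := h29_conj_mem_of_normalizer M g (hHM hgH) z hzM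
    have hsq : (g * z * g⁻¹) * (g * z * g⁻¹) = 1 := by
      have e : (g * z * g⁻¹) * (g * z * g⁻¹) = g * (z * z) * g⁻¹ := by group
      rw [e, hzz]; group
    have hcomm : g * z = z * g := by
      rcases hzuniq _ hconj hsq with h | h
      · exfalso
        apply hz1
        have e : z = g⁻¹ * (g * z * g⁻¹) * g := by group
        rw [e, h]; group
      · have e : g * z = (g * z * g⁻¹) * g := by group
        rw [e, h]
    exact hvfix C hV g (hHC hgH) hgodd hgnc z hzC hz1 hcomm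
  · have hne : M ⊓ C ≠ ⊥ := by
      intro h
      have hz : z ∈ M ⊓ C := Subgroup.mem_inf.mpr ⟨hzM, hzC⟩
      rw [h, Subgroup.mem_bot] at hz
      exact hz1 hz
    obtain ⟨hES, h32⟩ := hcp32 M C hQ hQC hCcen hne
    rw [← hsup]
    exact Or.inr (Or.inl ⟨hES, h32.ge⟩)

end Cfsg.Agent.Lib.helper26.S4409
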