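import Mathlib
import Cfsg.Agent.Lib.helper26.S4409Defs

/-!
# S4409, piece SPECX (racer copy): transfer of commutator / centre to the subtype
-/

set_option autoImplicit false

namespace Cfsg.Agent.Lib.helper26.S4409

variable {G : Type*} [Group G]

theorem h29_center_map (X : Subgroup G) :
    (Subgroup.center ↥X).map X.subtype = X ⊓ Subgroup.centralizer (X : Set G) := by
  ext g
  constructor
  · rintro ⟨x, hx, rfl⟩
    refine Subgroup.mem_inf.mpr ⟨x.2, ?_⟩
    rw [Subgroup.mem_centralizer_iff]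
    intro y hy
    have h := (Subgroup.mem_center_iff.mp hx) ⟨y, hy⟩
    exact congrArg Subtype.val h
  · intro hg
    obtain ⟨hgX, hgC⟩ := Subgroup.mem_inf.mp hg
    rw [Subgroup.mem_centralizer_iff] at hgC
    have hc : (⟨g, hgX⟩ : ↥X) ∈ Subgroup.center ↥X :=
      Subgroup.mem_center_iff.mpr (fun y => Subtype.ext (hgC y y.2))
    exact ⟨⟨g, hgX⟩, hc, rfl⟩

theorem h29_specx (X M : Subgroup G) (hMX : M ≤ X)
    (hZ : X ⊓ Subgroup.centralizer (X : Set G) = M) (hc : ⁅X, X⁆ = M) :
    _root_.commutator ↥X = Subgroup.center ↥X ∧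
      Nat.card ↥(Subgroup.center ↥X) = Nat.card ↥M ∧
      ∀ x : ↥X, (x : G) ∈ M → x ∈ Subgroup.center ↥X := by
  have hmap : (Subgroup.center ↥X).map X.subtype = M := by rw [h29_center_map, hZ]
  refine ⟨?_, ?_, ?_⟩
  · apply Subgroup.map_injective X.subtype_injective
    rw [Subgroup.map_subtype_commutator, hc, hmap]
  · rw [← hmap]
    exact (Subgroup.card_map_of_injective X.subtype_injective).symm
  · intro x hx
    rw [← hmap] at hx
    obtain ⟨y, hy, hyx⟩ := hx
    have : y = x := Subtype.ext hyx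
    rw [← this]
    exact hy

end Cfsg.Agent.Lib.helper26.S4409
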