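import Mathlib
import Cfsg.Agent.Lib.helper89.S60Defs
import Cfsg.Agent.Lib.helper31.S60BFC
import Cfsg.Agent.Lib.helper29.S60BTF

/-!
# S6000 piece N3 (racer copy, helper29): `s60_nec_three`

`h29_s60_nec_three` has the verbatim skeleton statement of `s60_nec_three` (prefixed name).
-/

set_option autoImplicit false

namespace Cfsg.Agent.Lib.helper89.S60

open Matrix Cfsg Cfsg.Geo

/-- the trace of a conjugate -/
theorem helper29_s60n3_trace_conj {F : Type*} [Field F] (g x : GL (Fin 4) F) :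
    Matrix.trace ((g⁻¹ * x * g : GL (Fin 4) F) : Matrix (Fin 4) (Fin 4) F)
      = Matrix.trace (x : Matrix (Fin 4) (Fin 4) F) := by
  rw [Units.val_mul, Units.val_mul, Matrix.trace_mul_comm, ← Matrix.mul_assoc, Units.mul_inv,
    Matrix.one_mul]

/-- N3 (M), racer copy. -/
theorem h29_s60_nec_three {F : Type*} [Field F] [Fintype F] (h2 : (2 : F) ≠ 0) (R : Subgroup (GL (Fin 4) F)) (w : F) (hG : Good R w)
    (h3 : (3 : F) ≠ 0) (hq : Fintype.card F % 3 = 1) : Derang R 3 := by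
  classical
  -- a primitive cube root of unity
  have hcard : 3 ∣ Fintype.card Fˣ := by
    rw [Fintype.card_units]
    have hpos : 0 < Fintype.card F := Fintype.card_pos
    omega
  have hf3 : Fact (Nat.Prime 3) := ⟨by norm_num⟩
  obtain ⟨u, hu⟩ := exists_prime_orderOf_dvd_card 3 hcard
  have hu3 : u ^ 3 = 1 := by
    rw [← hu]
    exact pow_orderOf_eq_one u
  have hu1 : u ≠ 1 := by
    intro h
    rw [h, orderOf_one] at hu
    omega
  obtain ⟨ω, hω⟩ : ∃ ω : F, ω = (u : F) := ⟨_, rfl⟩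
  have hω3 : ω ^ 3 = 1 := by
    rw [hω, ← Units.val_pow_eq_pow_val, hu3, Units.val_one]
  have hω1 : ω ≠ 1 := by
    intro h
    apply hu1
    apply Units.ext
    rw [← hω, h]
    rfl
  have hω2 : ω * ω + ω + 1 = 0 := by
    have h : (ω - 1) * (ω * ω + ω + 1) = 0 := by linear_combination hω3
    exact (mul_eq_zero.1 h).resolve_left (sub_ne_zero.2 hω1)
  -- the element
  have hmul : Matrix.diagonal ![ω, ω, ω, 1] * Matrix.diagonal ![ω * ω, ω * ω, ω * ω, 1] =
      (1 : Matrix (Fin 4) (Fin 4) F) := by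
    rw [Matrix.diagonal_mul_diagonal, ← Matrix.diagonal_one]
    congr 1
    funext i
    fin_cases i
    · show ω * (ω * ω) = 1
      linear_combination hω3
    · show ω * (ω * ω) = 1
      linear_combination hω3
    · show ω * (ω * ω) = 1
      linear_combination hω3
    · show (1 : F) * 1 = 1
      ring
  have hmul' : Matrix.diagonal ![ω * ω, ω * ω, ω * ω, 1] * Matrix.diagonal ![ω, ω, ω, 1] =
      (1 : Matrix (Fin 4) (Fin 4) F) := by
    rw [Matrix.diagonal_mul_diagonal, ← Matrix.diagonal_one]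
    congr 1
    funext i
    fin_cases i
    · show (ω * ω) * ω = 1
      linear_combination hω3
    · show (ω * ω) * ω = 1
      linear_combination hω3
    · show (ω * ω) * ω = 1
      linear_combination hω3
    · show (1 : F) * 1 = 1
      ring
  obtain ⟨x, hxdef⟩ : ∃ x : GL (Fin 4) F, x = ⟨Matrix.diagonal ![ω, ω, ω, 1],
      Matrix.diagonal ![ω * ω, ω * ω, ω * ω, 1], hmul, hmul'⟩ := ⟨_, rfl⟩
  have hxM : (x : Matrix (Fin 4) (Fin 4) F) = Matrix.diagonal ![ω, ω, ω, 1] := by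
    rw [hxdef]
  have hxiM : ((x⁻¹ : GL (Fin 4) F) : Matrix (Fin 4) (Fin 4) F) =
      Matrix.diagonal ![ω * ω, ω * ω, ω * ω, 1] := by
    rw [hxdef]
    rfl
  have hxSL : x ∈ specialLinear (Fin 4) F := by
    show Matrix.GeneralLinearGroup.det x = 1
    apply Units.ext
    rw [Matrix.GeneralLinearGroup.val_det_apply, hxM, Matrix.det_diagonal, Fin.prod_univ_four]
    show ω * ω * ω * 1 = 1
    linear_combination hω3
  have hx3 : x ^ 3 = 1 := by
    apply Units.ext
    rw [Units.val_pow_eq_pow_val, hxM, Matrix.diagonal_pow, Units.val_one, ← Matrix.diagonal_one]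
    congr 1
    funext i
    fin_cases i
    · show ω ^ 3 = 1
      exact hω3
    · show ω ^ 3 = 1
      exact hω3
    · show ω ^ 3 = 1
      exact hω3
    · show (1 : F) ^ 3 = 1
      ring
  have hxns : ∀ z : F, (x : Matrix (Fin 4) (Fin 4) F) ≠ z • (1 : Matrix (Fin 4) (Fin 4) F) := by
    intro c hc
    rw [hxM] at hc
    have h0 := congrFun (congrFun hc 0) 0
    have h33 := congrFun (congrFun hc 3) 3
    simp at h0 h33
    apply hω1
    rw [h0, ← h33]
  have htx : Matrix.trace (x : Matrix (Fin 4) (Fin 4) F) = ω + ω + ω + 1 := by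
    rw [hxM, Matrix.trace_diagonal, Fin.sum_univ_four]
    rfl
  have htxi : Matrix.trace ((x⁻¹ : GL (Fin 4) F) : Matrix (Fin 4) (Fin 4) F) =
      ω * ω + ω * ω + ω * ω + 1 := by
    rw [hxiM, Matrix.trace_diagonal, Fin.sum_univ_four]
    rfl
  refine ⟨x, hxSL, hx3, hxns, ?_⟩
  intro g hy
  have hy3 : (g⁻¹ * x * g) ^ 3 = 1 := by
    have h := conj_pow (i := 3) (a := g⁻¹) (b := x)
    rw [inv_inv] at h
    rw [h, hx3]
    group
  have hty : Matrix.trace ((g⁻¹ * x * g : GL (Fin 4) F) : Matrix (Fin 4) (Fin 4) F) =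
      ω + ω + ω + 1 := by
    rw [helper29_s60n3_trace_conj, htx]
  have htyi : Matrix.trace (((g⁻¹ * x * g)⁻¹ : GL (Fin 4) F) : Matrix (Fin 4) (Fin 4) F) =
      ω * ω + ω * ω + ω * ω + 1 := by
    have e : (g⁻¹ * x * g)⁻¹ = g⁻¹ * x⁻¹ * g := by group
    rw [e, helper29_s60n3_trace_conj, htxi]
  obtain ⟨hdvd, h4dvd, hmod, -⟩ := s60_fix_count h2 R w hG 3 (g⁻¹ * x * g) hy hy3
  have hF := s60_trace_formula h2 R w hG (g⁻¹ * x * g) hy 3 (by decide) hy3
  rw [hty, htyi] at hF
  obtain ⟨c, hc⟩ : ∃ c : ℕ,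
      c = Nat.card {s : GL (Fin 4) F // s ∈ R ∧ g⁻¹ * x * g * s = s * (g⁻¹ * x * g)} := ⟨_, rfl⟩
  rw [← hc] at hdvd h4dvd hmod hF
  have hcle : c ≤ 64 := Nat.le_of_dvd (by norm_num) hdvd
  have h7 : (4 : F) * ((ω + ω + ω + 1) * (ω * ω + ω * ω + ω * ω + 1)) = 28 := by
    linear_combination (36 : F) * hω3 + (12 : F) * hω2
  rw [h7] at hF
  have h22 : (2 : F) * 2 ≠ 0 := mul_ne_zero h2 h2
  have hc3 : c = 4 ∨ c = 16 ∨ c = 64 := by
    interval_cases c <;> omega
  rcases hc3 with h | h | h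
  · rw [h] at hF
    have h24 : (2 : F) * 2 * (2 * 3) = 0 := by
      push_cast at hF
      linear_combination hF
    exact (mul_ne_zero h22 (mul_ne_zero h2 h3)) h24
  · rw [h] at hF
    have h12 : (2 : F) * 2 * 3 = 0 := by
      push_cast at hF
      linear_combination hF
    exact (mul_ne_zero h22 h3) h12
  · rw [h] at hF
    have h36 : (2 : F) * 2 * (3 * 3) = 0 := by
      push_cast at hF
      linear_combination (-1 : F) * hF
    exact (mul_ne_zero h22 (mul_ne_zero h3 h3)) h36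

end Cfsg.Agent.Lib.helper89.S60
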