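import Mathlib
import Cfsg.Agent.Lib.helper89.S60Defs
import Cfsg.Agent.Lib.helper98.S60NOSQ

/-!
# S6000 piece S2 (racer copy, helper29): `s60_suff_two` with CLS2 and REFL as hypotheses
-/

set_option autoImplicit false

namespace Cfsg.Agent.Lib.helper89.S60

open Matrix Cfsg Cfsg.Geo

/-- a scalar unit -/
theorem helper29_s60_scal_unit {F : Type*} [Field F] (a : F) (ha : a ≠ 0) :
    ∃ u : GL (Fin 4) F, (u : Matrix (Fin 4) (Fin 4) F) = a • (1 : Matrix (Fin 4) (Fin 4) F) :=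
  ⟨⟨a • 1, a⁻¹ • 1, by rw [Matrix.smul_mul, Matrix.one_mul, smul_smul, mul_inv_cancel₀ ha, one_smul],
    by rw [Matrix.smul_mul, Matrix.one_mul, smul_smul, inv_mul_cancel₀ ha, one_smul]⟩, rfl⟩

/-- scalar units are central -/
theorem helper29_s60_scal_central {F : Type*} [Field F] (u : GL (Fin 4) F) (a : F)
    (hu : (u : Matrix (Fin 4) (Fin 4) F) = a • (1 : Matrix (Fin 4) (Fin 4) F)) (g : GL (Fin 4) F) :
    u * g = g * u := by
  apply Units.ext
  rw [Units.val_mul, Units.val_mul, hu]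
  simp

/-- central elements normalize -/
theorem helper29_s60_central_norm {F : Type*} [Field F] (R : Subgroup (GL (Fin 4) F)) (u : GL (Fin 4) F)
    (hc : ∀ g : GL (Fin 4) F, u * g = g * u) : u ∈ subgroupNormalizer R := by
  unfold subgroupNormalizer
  rw [Subgroup.mem_set_normalizer_iff]
  intro h
  have e : u * h * u⁻¹ = h := by rw [hc h, mul_inv_cancel_right]
  rw [e]

/-- conjugating two elements to the same element -/
theorem helper29_s60_conj {F : Type*} [Field F] (x1 x2 g1 g2 : GL (Fin 4) F)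
    (h : g1⁻¹ * x1 * g1 = g2⁻¹ * x2 * g2) : (g1 * g2⁻¹)⁻¹ * x1 * (g1 * g2⁻¹) = x2 := by
  have e : x1 = g1 * (g2⁻¹ * x2 * g2) * g1⁻¹ := by
    rw [← h]
    group
  rw [e]
  group

/-- a conjugate is scalar only if the element is -/
theorem helper29_s60_scal_of_conj {F : Type*} [Field F] (x g : GL (Fin 4) F) (c : F)
    (h : ((g⁻¹ * x * g : GL (Fin 4) F) : Matrix (Fin 4) (Fin 4) F) = c • (1 : Matrix (Fin 4) (Fin 4) F)) :
    (x : Matrix (Fin 4) (Fin 4) F) = c • (1 : Matrix (Fin 4) (Fin 4) F) := by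
  have e : x = g * (g⁻¹ * x * g) * g⁻¹ := by group
  rw [e, Units.val_mul, Units.val_mul, h, Matrix.mul_smul, Matrix.mul_one, Matrix.smul_mul,
    Units.mul_inv]

/-- trace and determinant of `Dk` -/
theorem helper29_s60_Dk {F : Type*} [Field F] (k : ℕ) (hk : k ≤ 4) :
    Matrix.trace (Dk F k) = 4 - 2 * (k : F) ∧ (Dk F k).det = (-1) ^ k := by
  interval_cases k
  · constructor
    · simp [Dk, Matrix.trace, Fin.sum_univ_four]
    · simp [Dk, Matrix.det_diagonal, Fin.prod_univ_four]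
  · constructor
    · simp [Dk, Matrix.trace, Fin.sum_univ_four]
      norm_num
    · simp [Dk, Matrix.det_diagonal, Fin.prod_univ_four]
  · constructor
    · simp [Dk, Matrix.trace, Fin.sum_univ_four]
      norm_num
    · simp [Dk, Matrix.det_diagonal, Fin.prod_univ_four]
  · constructor
    · simp [Dk, Matrix.trace, Fin.sum_univ_four]
      norm_num
    · simp [Dk, Matrix.det_diagonal, Fin.prod_univ_four]
      norm_num
  · constructor
    · simp [Dk, Matrix.trace, Fin.sum_univ_four]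
      norm_num
    · simp [Dk, Matrix.det_diagonal, Fin.prod_univ_four]

theorem helper29_s60_Dk0 {F : Type*} [Field F] : Dk F 0 = (1 : F) • (1 : Matrix (Fin 4) (Fin 4) F) := by
  ext i j
  fin_cases i <;> fin_cases j <;> simp [Dk, Matrix.diagonal]

theorem helper29_s60_Dk4 {F : Type*} [Field F] : Dk F 4 = (-1 : F) • (1 : Matrix (Fin 4) (Fin 4) F) := by
  ext i j
  fin_cases i <;> fin_cases j <;> simp [Dk, Matrix.diagonal]

/-- trace and determinant are conjugation invariant -/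
theorem helper29_s60_tr_conj {F : Type*} [Field F] (x g : GL (Fin 4) F) :
    Matrix.trace ((g⁻¹ * x * g : GL (Fin 4) F) : Matrix (Fin 4) (Fin 4) F) =
      Matrix.trace (x : Matrix (Fin 4) (Fin 4) F) := by
  rw [Units.val_mul, Units.val_mul, Matrix.trace_mul_comm, ← Matrix.mul_assoc, Units.mul_inv,
    Matrix.one_mul]

theorem helper29_s60_det_conj {F : Type*} [Field F] (x g : GL (Fin 4) F) :
    ((g⁻¹ * x * g : GL (Fin 4) F) : Matrix (Fin 4) (Fin 4) F).det =
      (x : Matrix (Fin 4) (Fin 4) F).det := by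
  rw [Units.val_mul, Units.val_mul, Matrix.det_mul, Matrix.det_mul, mul_right_comm,
    ← Matrix.det_mul, Units.inv_mul, Matrix.det_one, one_mul]

/-- the class data of an involution, from CLS2 -/
theorem helper29_s60_class {F : Type*} [Field F]
    (hCLS : ∀ x : GL (Fin 4) F, (x : Matrix (Fin 4) (Fin 4) F) * (x : Matrix (Fin 4) (Fin 4) F) = 1 →
      ∃ g ∈ specialLinear (Fin 4) F, ∃ k : ℕ, k ≤ 4 ∧
        ((g⁻¹ * x * g : GL (Fin 4) F) : Matrix (Fin 4) (Fin 4) F) = Dk F k)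
    (x : GL (Fin 4) F)
    (hx : (x : Matrix (Fin 4) (Fin 4) F) * (x : Matrix (Fin 4) (Fin 4) F) = 1) :
    ∃ k : ℕ, k ≤ 4 ∧ Matrix.trace (x : Matrix (Fin 4) (Fin 4) F) = 4 - 2 * (k : F) ∧
      (x : Matrix (Fin 4) (Fin 4) F).det = (-1) ^ k ∧
      (k = 0 → (x : Matrix (Fin 4) (Fin 4) F) = (1 : F) • (1 : Matrix (Fin 4) (Fin 4) F)) ∧
      (k = 4 → (x : Matrix (Fin 4) (Fin 4) F) = (-1 : F) • (1 : Matrix (Fin 4) (Fin 4) F)) := by
  obtain ⟨g, -, k, hk, hD⟩ := hCLS x hx
  refine ⟨k, hk, ?_, ?_, ?_, ?_⟩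
  · rw [← helper29_s60_tr_conj x g, hD]
    exact (helper29_s60_Dk k hk).1
  · rw [← helper29_s60_det_conj x g, hD]
    exact (helper29_s60_Dk k hk).2
  · intro h0
    apply helper29_s60_scal_of_conj x g
    rw [hD, h0]
    exact helper29_s60_Dk0
  · intro h4
    apply helper29_s60_scal_of_conj x g
    rw [hD, h4]
    exact helper29_s60_Dk4

/-- involutions with the same trace are `SL_4`-conjugate (characteristic at least 5) -/
theorem helper29_s60_conj_of_trace {F : Type*} [Field F] {p : ℕ} [Fact p.Prime] [CharP F p]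
    (hp4 : p % 4 = 1) (h2 : (2 : F) ≠ 0)
    (hCLS : ∀ x : GL (Fin 4) F, (x : Matrix (Fin 4) (Fin 4) F) * (x : Matrix (Fin 4) (Fin 4) F) = 1 →
      ∃ g ∈ specialLinear (Fin 4) F, ∃ k : ℕ, k ≤ 4 ∧
        ((g⁻¹ * x * g : GL (Fin 4) F) : Matrix (Fin 4) (Fin 4) F) = Dk F k)
    (x y : GL (Fin 4) F)
    (hx : (x : Matrix (Fin 4) (Fin 4) F) * (x : Matrix (Fin 4) (Fin 4) F) = 1)
    (hy : (y : Matrix (Fin 4) (Fin 4) F) * (y : Matrix (Fin 4) (Fin 4) F) = 1)
    (htr : Matrix.trace (x : Matrix (Fin 4) (Fin 4) F) = Matrix.trace (y : Matrix (Fin 4) (Fin 4) F)) :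
    ∃ g ∈ specialLinear (Fin 4) F, g⁻¹ * x * g = y := by
  obtain ⟨g1, hg1, k1, hk1, hD1⟩ := hCLS x hx
  obtain ⟨g2, hg2, k2, hk2, hD2⟩ := hCLS y hy
  have ht1 : Matrix.trace (x : Matrix (Fin 4) (Fin 4) F) = 4 - 2 * (k1 : F) := by
    rw [← helper29_s60_tr_conj x g1, hD1]
    exact (helper29_s60_Dk k1 hk1).1
  have ht2 : Matrix.trace (y : Matrix (Fin 4) (Fin 4) F) = 4 - 2 * (k2 : F) := by
    rw [← helper29_s60_tr_conj y g2, hD2]
    exact (helper29_s60_Dk k2 hk2).1
  have hcast : (k1 : F) = (k2 : F) := by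
    rw [ht1, ht2] at htr
    apply mul_left_cancel₀ h2
    linear_combination (-1 : F) * htr
  have hp : p.Prime := Fact.out
  have hp5 : 5 ≤ p := by
    have h1 := hp.two_le
    by_contra hlt
    have hlt' : p < 5 := by omega
    interval_cases p <;> omega
  have hk : k1 = k2 :=
    Nat.ModEq.eq_of_lt_of_lt ((CharP.natCast_eq_natCast F p).1 hcast) (by omega) (by omega)
  subst hk
  refine ⟨g1 * g2⁻¹, (specialLinear (Fin 4) F).mul_mem hg1 ((specialLinear (Fin 4) F).inv_mem hg2), ?_⟩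
  apply helper29_s60_conj
  apply Units.ext
  rw [hD1, hD2]

/-- S2 core: `s60_suff_two` with the statements of CLS2 (`s60_invol_class`) and REFL (`s60_refl`) as hypotheses. -/
theorem h29_s60_suff_two_core {F : Type*} [Field F] [Fintype F] {p : ℕ} [Fact p.Prime] [CharP F p] (hp4 : p % 4 = 1)
    (h2 : (2 : F) ≠ 0) (R : Subgroup (GL (Fin 4) F)) (w : F) (hG : Good R w)
    (hCLS : ∀ x : GL (Fin 4) F, (x : Matrix (Fin 4) (Fin 4) F) * (x : Matrix (Fin 4) (Fin 4) F) = 1 →
      ∃ g ∈ specialLinear (Fin 4) F, ∃ k : ℕ, k ≤ 4 ∧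
        ((g⁻¹ * x * g : GL (Fin 4) F) : Matrix (Fin 4) (Fin 4) F) = Dk F k)
    (hREFL : ∃ ρ : GL (Fin 4) F, ρ ∈ subgroupNormalizer R ∧ (ρ : Matrix (Fin 4) (Fin 4) F) * (ρ : Matrix (Fin 4) (Fin 4) F) = 1 ∧ Matrix.trace (ρ : Matrix (Fin 4) (Fin 4) F) = 2)
    (x : GL (Fin 4) F) (hx : x ∈ specialLinear (Fin 4) F) (z : F)
    (hz : (x : Matrix (Fin 4) (Fin 4) F) ^ 2 = z • (1 : Matrix (Fin 4) (Fin 4) F)) (hns : ∀ z : F, (x : Matrix (Fin 4) (Fin 4) F) ≠ z • (1 : Matrix (Fin 4) (Fin 4) F)) :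
    ∃ g ∈ specialLinear (Fin 4) F, g⁻¹ * x * g ∈ subgroupNormalizer R := by
  have h11 : (1 : F) ≠ -1 := by
    intro h
    apply h2
    linear_combination h
  have hxx : (x : Matrix (Fin 4) (Fin 4) F) * (x : Matrix (Fin 4) (Fin 4) F) = z • (1 : Matrix (Fin 4) (Fin 4) F) := by
    rw [← pow_two]
    exact hz
  have hdet : (x : Matrix (Fin 4) (Fin 4) F).det = 1 := by
    have h1 : Matrix.GeneralLinearGroup.det x = 1 := hx
    have h2' := congrArg (fun u : Fˣ => (u : F)) h1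
    simpa using h2'
  have hz4 : (z * z) * (z * z) = 1 := by
    have h1 := congrArg Matrix.det hxx
    rw [Matrix.det_mul, hdet, Matrix.det_smul, Matrix.det_one, Fintype.card_fin] at h1
    linear_combination (-1 : F) * h1
  have hww : w * w = -1 := hG.wsq
  have hw4 : w ^ 4 = 1 := by
    have e : w ^ 4 = (w * w) * (w * w) := by ring
    rw [e, hww]
    ring
  have hnormR : ∀ y : GL (Fin 4) F, y ∈ R → y ∈ subgroupNormalizer R := by
    intro y hy
    unfold subgroupNormalizer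
    exact Subgroup.le_normalizer hy
  obtain ⟨t, htR, ht2, hta, -⟩ := hG.frame
  -- the trace of `t 0` vanishes
  have htr0 : Matrix.trace (t 0 : Matrix (Fin 4) (Fin 4) F) = 0 := by
    have h01 : (0 : Fin 4) ≠ 1 := by decide
    have ha := hta 0 1 h01
    have e : Matrix.trace (t 0 : Matrix (Fin 4) (Fin 4) F) = -Matrix.trace (t 0 : Matrix (Fin 4) (Fin 4) F) := by
      calc Matrix.trace (t 0 : Matrix (Fin 4) (Fin 4) F) = Matrix.trace ((t 0 : Matrix (Fin 4) (Fin 4) F) * (t 1 : Matrix (Fin 4) (Fin 4) F) * (t 1 : Matrix (Fin 4) (Fin 4) F)) := by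
            rw [Matrix.mul_assoc, ht2 1, Matrix.mul_one]
        _ = Matrix.trace (-((t 1 : Matrix (Fin 4) (Fin 4) F) * (t 0 : Matrix (Fin 4) (Fin 4) F)) * (t 1 : Matrix (Fin 4) (Fin 4) F)) := by rw [ha]
        _ = -Matrix.trace ((t 1 : Matrix (Fin 4) (Fin 4) F) * (t 0 : Matrix (Fin 4) (Fin 4) F) * (t 1 : Matrix (Fin 4) (Fin 4) F)) := by
            rw [Matrix.neg_mul, Matrix.trace_neg]
        _ = -Matrix.trace ((t 1 : Matrix (Fin 4) (Fin 4) F) * ((t 1 : Matrix (Fin 4) (Fin 4) F) * (t 0 : Matrix (Fin 4) (Fin 4) F))) := by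
            rw [Matrix.trace_mul_comm]
        _ = -Matrix.trace (t 0 : Matrix (Fin 4) (Fin 4) F) := by
            rw [← Matrix.mul_assoc, ht2 1, Matrix.one_mul]
    have e2 : (2 : F) * Matrix.trace (t 0 : Matrix (Fin 4) (Fin 4) F) = 0 := by linear_combination e
    exact (mul_eq_zero.1 e2).resolve_left h2
  -- involutions of determinant `1` which are not scalar
  have hinv1 : ∀ x' : GL (Fin 4) F, (x' : Matrix (Fin 4) (Fin 4) F) * (x' : Matrix (Fin 4) (Fin 4) F) = 1 → (x' : Matrix (Fin 4) (Fin 4) F).det = 1 →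
      (∀ c : F, (x' : Matrix (Fin 4) (Fin 4) F) ≠ c • (1 : Matrix (Fin 4) (Fin 4) F)) →
      ∃ g ∈ specialLinear (Fin 4) F, g⁻¹ * x' * g ∈ subgroupNormalizer R := by
    intro x' hx' hd hn
    obtain ⟨k, hk, htr, hdk, hk0, hk4⟩ := helper29_s60_class hCLS x' hx'
    rw [hd] at hdk
    have hk2 : k = 2 := by
      interval_cases k
      · exact absurd (hk0 rfl) (hn 1)
      · rw [pow_one] at hdk
        exact absurd hdk h11
      · rfl
      · have e3 : ((-1 : F)) ^ 3 = -1 := by ring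
        rw [e3] at hdk
        exact absurd hdk h11
      · exact absurd (hk4 rfl) (hn (-1))
    subst hk2
    have htr' : Matrix.trace (x' : Matrix (Fin 4) (Fin 4) F) = Matrix.trace (t 0 : Matrix (Fin 4) (Fin 4) F) := by
      rw [htr, htr0]
      push_cast
      ring
    obtain ⟨g, hg, hgx⟩ := helper29_s60_conj_of_trace hp4 h2 hCLS x' (t 0) hx' (ht2 0) htr'
    exact ⟨g, hg, hgx ▸ hnormR _ (htR 0)⟩
  -- involutions of determinant `-1`
  obtain ⟨ρ, hρN, hρ2, hρtr⟩ := hREFL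
  obtain ⟨m1, hm1⟩ := helper29_s60_scal_unit (-1 : F) (neg_ne_zero.2 one_ne_zero)
  have hm1c := helper29_s60_scal_central m1 (-1) hm1
  have hmρ : ((m1 * ρ : GL (Fin 4) F) : Matrix (Fin 4) (Fin 4) F) = -(ρ : Matrix (Fin 4) (Fin 4) F) := by
    rw [Units.val_mul, hm1]
    simp
  have hmρN : m1 * ρ ∈ subgroupNormalizer R :=
    (subgroupNormalizer R).mul_mem (helper29_s60_central_norm R m1 hm1c) hρN
  have hmρ2 : ((m1 * ρ : GL (Fin 4) F) : Matrix (Fin 4) (Fin 4) F) * ((m1 * ρ : GL (Fin 4) F) : Matrix (Fin 4) (Fin 4) F) = 1 := by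
    rw [hmρ, neg_mul_neg, hρ2]
  have hmρtr : Matrix.trace ((m1 * ρ : GL (Fin 4) F) : Matrix (Fin 4) (Fin 4) F) = -2 := by
    rw [hmρ, Matrix.trace_neg, hρtr]
  have hinv2 : ∀ x' : GL (Fin 4) F, (x' : Matrix (Fin 4) (Fin 4) F) * (x' : Matrix (Fin 4) (Fin 4) F) = 1 → (x' : Matrix (Fin 4) (Fin 4) F).det = -1 →
      ∃ g ∈ specialLinear (Fin 4) F, g⁻¹ * x' * g ∈ subgroupNormalizer R := by
    intro x' hx' hd
    obtain ⟨k, hk, htr, hdk, -, -⟩ := helper29_s60_class hCLS x' hx'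
    rw [hd] at hdk
    interval_cases k
    · rw [pow_zero] at hdk
      exact absurd hdk.symm h11
    · have htr' : Matrix.trace (x' : Matrix (Fin 4) (Fin 4) F) = Matrix.trace (ρ : Matrix (Fin 4) (Fin 4) F) := by
        rw [htr, hρtr]
        push_cast
        ring
      obtain ⟨g, hg, hgx⟩ := helper29_s60_conj_of_trace hp4 h2 hCLS x' ρ hx' hρ2 htr'
      exact ⟨g, hg, hgx ▸ hρN⟩
    · have e : ((-1 : F)) ^ 2 = 1 := by ring
      rw [e] at hdk
      exact absurd hdk.symm h11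
    · have htr' : Matrix.trace (x' : Matrix (Fin 4) (Fin 4) F) = Matrix.trace ((m1 * ρ : GL (Fin 4) F) : Matrix (Fin 4) (Fin 4) F) := by
        rw [htr, hmρtr]
        push_cast
        ring
      obtain ⟨g, hg, hgx⟩ := helper29_s60_conj_of_trace hp4 h2 hCLS x' (m1 * ρ) hx' hmρ2 htr'
      exact ⟨g, hg, hgx ▸ hmρN⟩
    · have e : ((-1 : F)) ^ 4 = 1 := by ring
      rw [e] at hdk
      exact absurd hdk.symm h11
  -- reduction by a scalar
  have hred : ∀ (u : GL (Fin 4) F) (a : F), (u : Matrix (Fin 4) (Fin 4) F) = a • (1 : Matrix (Fin 4) (Fin 4) F) →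
      (∃ g ∈ specialLinear (Fin 4) F, g⁻¹ * (u * x) * g ∈ subgroupNormalizer R) →
      ∃ g ∈ specialLinear (Fin 4) F, g⁻¹ * x * g ∈ subgroupNormalizer R := by
    rintro u a hu ⟨g, hg, hgN⟩
    refine ⟨g, hg, ?_⟩
    have hc := helper29_s60_scal_central u a hu
    have h1 : g⁻¹ * (u * x) * g = u * (g⁻¹ * x * g) := by
      rw [← mul_assoc g⁻¹ u x, ← hc g⁻¹]
      group
    have e : g⁻¹ * x * g = u⁻¹ * (g⁻¹ * (u * x) * g) := by
      rw [h1]
      group
    rw [e]
    have huN : u⁻¹ ∈ subgroupNormalizer R :=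
      (subgroupNormalizer R).inv_mem (helper29_s60_central_norm R u hc)
    exact (subgroupNormalizer R).mul_mem huN hgN
  -- the cases
  have hzz : z * z = 1 ∨ z * z = -1 := by
    have h1 : (z * z - 1) * (z * z + 1) = 0 := by linear_combination hz4
    rcases mul_eq_zero.1 h1 with h | h
    · left
      linear_combination h
    · right
      linear_combination h
  rcases hzz with hz1 | hz1
  · have h1 : (z - 1) * (z + 1) = 0 := by linear_combination hz1
    rcases mul_eq_zero.1 h1 with h | h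
    · -- `z = 1`
      have hz' : z = 1 := by linear_combination h
      subst hz'
      rw [one_smul] at hxx
      exact hinv1 x hxx hdet hns
    · -- `z = -1`
      have hz' : z = -1 := by linear_combination h
      subst hz'
      obtain ⟨wz, -, hwz⟩ := hG.wmem
      apply hred wz w hwz
      have hxM : ((wz * x : GL (Fin 4) F) : Matrix (Fin 4) (Fin 4) F) = w • (x : Matrix (Fin 4) (Fin 4) F) := by
        rw [Units.val_mul, hwz, Matrix.smul_mul, Matrix.one_mul]
      apply hinv1 (wz * x)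
      · rw [hxM, Matrix.smul_mul, Matrix.mul_smul, smul_smul, hxx, smul_smul, hww]
        simp
      · rw [hxM, Matrix.det_smul, hdet, Fintype.card_fin, mul_one]
        exact hw4
      · intro c hc
        rw [hxM] at hc
        apply hns (-w * c)
        have e1 : -w * w = 1 := by linear_combination (-1 : F) * hww
        calc (x : Matrix (Fin 4) (Fin 4) F) = (-w) • (w • (x : Matrix (Fin 4) (Fin 4) F)) := by rw [smul_smul, e1, one_smul]
          _ = (-w) • (c • (1 : Matrix (Fin 4) (Fin 4) F)) := by rw [hc]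
          _ = (-w * c) • (1 : Matrix (Fin 4) (Fin 4) F) := by rw [smul_smul]
  · by_cases hsq : ∃ c : F, c * c = z
    · obtain ⟨c, hc⟩ := hsq
      have hc0 : c ≠ 0 := by
        intro h0
        rw [h0, mul_zero] at hc
        rw [← hc, mul_zero] at hz1
        exact neg_ne_zero.2 one_ne_zero hz1.symm
      obtain ⟨u, hu⟩ := helper29_s60_scal_unit c⁻¹ (inv_ne_zero hc0)
      apply hred u c⁻¹ hu
      have hxM : ((u * x : GL (Fin 4) F) : Matrix (Fin 4) (Fin 4) F) = c⁻¹ • (x : Matrix (Fin 4) (Fin 4) F) := by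
        rw [Units.val_mul, hu, Matrix.smul_mul, Matrix.one_mul]
      apply hinv2 (u * x)
      · rw [hxM, Matrix.smul_mul, Matrix.mul_smul, smul_smul, hxx, smul_smul, ← hc]
        have e1 : c⁻¹ * c⁻¹ * (c * c) = 1 := by
          field_simp
        rw [e1, one_smul]
      · rw [hxM, Matrix.det_smul, hdet, Fintype.card_fin, mul_one]
        have e1 : c⁻¹ ^ 4 * ((c * c) * (c * c)) = 1 := by
          field_simp
        rw [hc, hz1] at e1
        linear_combination (-1 : F) * e1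
    · have hnsq : ∀ c : F, c * c ≠ z := fun c h => hsq ⟨c, h⟩
      have h1 := s60_nosq (x : Matrix (Fin 4) (Fin 4) F) z hnsq hxx
      rw [hdet, pow_two, hz1] at h1
      exact absurd h1 h11

end Cfsg.Agent.Lib.helper89.S60
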