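import Mathlib
import Cfsg.Agent.Lib.helper9.Srg77Defs

set_option autoImplicit false

/-!
# SRG(77,16,0,4), piece E: two lines through a common vertex, one "near" the other

`coclique_union_of_near`: if the lines `L₁ ≠ L₂` meet in `x` and some `m ∈ L₁`, `m ≠ x`, has no
neighbour on `L₂`, then no vertex of `L₁` is adjacent to a vertex of `L₂`.
-/

namespace Cfsg.Agent.Lib.helper29

open Finset Cfsg.Agent.Lib.helper9

variable {V : Type*} [Fintype V] [DecidableEq V] {G : SimpleGraph V} [DecidableRel G.Adj]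

/-- The sets `N(a) ∩ N(x)`, `a ∈ L \ {x}`, partition `N(x)` (for a line `L ∋ x`). -/
theorem s77_sum_erase
    (hD : ∀ L : Finset V, IsLine G L → ∀ v : V, (nbr G v ∩ L).card = 0 ∨ (nbr G v ∩ L).card = 2)
    {L : Finset V} (hLine : IsLine G L) {x : V} (hx : x ∈ L) {T : Finset V}
    (hT : T ⊆ nbr G x) : ∑ a ∈ L.erase x, (nbr G a ∩ T).card = T.card := by
  rw [sum_card_nbr_inter, Finset.card_eq_sum_ones]
  refine Finset.sum_congr rfl fun n hn => ?_
  have hnx : G.Adj x n := mem_nbr.1 (hT hn)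
  have hxn : x ∈ nbr G n ∩ L := Finset.mem_inter.2 ⟨mem_nbr.2 hnx.symm, hx⟩
  have h2 : (nbr G n ∩ L).card = 2 := by
    rcases hD L hLine n with h0 | h2
    · exact absurd (Finset.card_eq_zero.1 h0) (Finset.ne_empty_of_mem hxn)
    · exact h2
  have h3 : nbr G n ∩ L.erase x = (nbr G n ∩ L).erase x := by
    ext y; simp only [Finset.mem_inter, Finset.mem_erase]; tauto
  rw [h3, Finset.card_erase_of_mem hxn, h2]

theorem coclique_union_of_near (h : Srg77 G)
    (hA : ∀ x y z : V, Triad G x y z → (nbr G x ∩ nbr G y ∩ nbr G z).card ≤ 2)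
    (hcl : ∀ x y : V, x ≠ y → ¬ G.Adj x y → (line G x y).card = 5)
    (hL : ∀ x y a b : V, x ≠ y → ¬ G.Adj x y → a ∈ line G x y → b ∈ line G x y → a ≠ b →
      ¬ G.Adj a b ∧ line G a b = line G x y)
    (hD : ∀ L : Finset V, IsLine G L → ∀ v : V, (nbr G v ∩ L).card = 0 ∨ (nbr G v ∩ L).card = 2)
    {L₁ L₂ : Finset V} (h₁ : IsLine G L₁) (h₂ : IsLine G L₂) (hne : L₁ ≠ L₂) {x m : V}
    (hx₁ : x ∈ L₁) (hx₂ : x ∈ L₂) (hm : m ∈ L₁) (hmx : m ≠ x)
    (hnear : ∀ m' ∈ L₂, ¬ G.Adj m m') : ∀ a ∈ L₁, ∀ b ∈ L₂, ¬ G.Adj a b := by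
  have hline : ∀ L : Finset V, IsLine G L → ∀ a ∈ L, ∀ b ∈ L, a ≠ b →
      ¬ G.Adj a b ∧ line G a b = L := by
    rintro L ⟨p, q, hpq, hnpq, rfl⟩ a ha b hb hab
    exact hL p q a b hpq hnpq ha hb hab
  obtain ⟨hxm_nadj, hL₁eq⟩ := hline L₁ h₁ x hx₁ m hm (Ne.symm hmx)
  have hL₁card : L₁.card = 5 := by rw [← hL₁eq]; exact hcl x m (Ne.symm hmx) hxm_nadj
  have hnotin : ∀ b ∈ L₂, b ≠ x → b ∉ L₁ := by
    intro b hb hbx hb1
    have e1 := (hline L₁ h₁ x hx₁ b hb1 (Ne.symm hbx)).2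
    have e2 := (hline L₂ h₂ x hx₂ b hb (Ne.symm hbx)).2
    exact hne (e1.symm.trans e2)
  intro a ha b hb hab
  by_cases hbx : b = x
  · subst hbx
    by_cases hax : a = b
    · subst hax; exact G.loopless.irrefl a hab
    · exact (hline L₁ h₁ a ha b hx₁ hax).1 hab
  have hb1 : b ∉ L₁ := hnotin b hb hbx
  have hxb : ¬ G.Adj x b := (hline L₂ h₂ x hx₂ b hb (Ne.symm hbx)).1
  have hL₂card : L₂.card = 5 := by
    have e := (hline L₂ h₂ x hx₂ b hb (Ne.symm hbx)).2
    rw [← e]; exact hcl x b (Ne.symm hbx) hxb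
  have hm2 : m ∉ L₂ := fun hm2 => hnotin m hm2 hmx hm
  have hstep3 : ∀ m' ∈ L₂.erase x, (nbr G m' ∩ (nbr G m ∩ nbr G x)).card = 1 := by
    have hsum := s77_sum_erase hD h₂ hx₂ (T := nbr G m ∩ nbr G x) Finset.inter_subset_right
    have hTcard : (nbr G m ∩ nbr G x).card = 4 := h.mu m x hmx (fun hh => hxm_nadj hh.symm)
    have hScard : (L₂.erase x).card = 4 := by rw [Finset.card_erase_of_mem hx₂, hL₂card]
    have hge : ∀ m' ∈ L₂.erase x, 1 ≤ (nbr G m' ∩ (nbr G m ∩ nbr G x)).card := by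
      intro m' hm'
      have hm'x : m' ≠ x := Finset.ne_of_mem_erase hm'
      have hm'2 : m' ∈ L₂ := Finset.mem_of_mem_erase hm'
      have hm'1 : m' ∉ L₁ := hnotin m' hm'2 hm'x
      rw [Nat.one_le_iff_ne_zero, Ne, Finset.card_eq_zero]
      intro hempty
      apply hm'1
      rw [← hL₁eq, mem_line]
      right; right
      rw [mem_zset]
      refine ⟨hm'x, ?_, (hline L₂ h₂ x hx₂ m' hm'2 (Ne.symm hm'x)).1, hnear m' hm'2, ?_⟩
      · rintro rfl; exact hm2 hm'2
      · rw [← hempty]; ext y; simp only [Finset.mem_inter]; tauto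
    by_contra hcon
    push Not at hcon
    obtain ⟨m', hm', hne1⟩ := hcon
    have hlt : ∑ i ∈ L₂.erase x, 1 < ∑ i ∈ L₂.erase x, (nbr G i ∩ (nbr G m ∩ nbr G x)).card :=
      Finset.sum_lt_sum hge ⟨m', hm', lt_of_le_of_ne (hge m' hm') (Ne.symm hne1)⟩
    rw [hsum, hTcard] at hlt
    simp [hScard] at hlt
  have hbL₁ : (nbr G b ∩ L₁).card = 2 := by
    rcases hD L₁ h₁ b with h0 | h2
    · exact absurd (Finset.card_eq_zero.1 h0)
        (Finset.ne_empty_of_mem (Finset.mem_inter.2 ⟨mem_nbr.2 hab.symm, ha⟩))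
    · exact h2
  have hTcard : (nbr G b ∩ nbr G x).card = 4 := h.mu b x hbx (fun hh => hxb hh.symm)
  have hsum := s77_sum_erase hD h₁ hx₁ (T := nbr G b ∩ nbr G x) Finset.inter_subset_right
  have hScard : (L₁.erase x).card = 4 := by rw [Finset.card_erase_of_mem hx₁, hL₁card]
  have hbound : ∀ a' ∈ L₁.erase x, (nbr G a' ∩ (nbr G b ∩ nbr G x)).card +
      2 * (if G.Adj b a' then 1 else 0) + (if a' = m then 1 else 0) ≤ 2 := by
    intro a' ha'
    have ha'x : a' ≠ x := Finset.ne_of_mem_erase ha'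
    have ha'1 : a' ∈ L₁ := Finset.mem_of_mem_erase ha'
    by_cases hadj : G.Adj b a'
    · have ham : a' ≠ m := by rintro rfl; exact hnear b hb hadj.symm
      have h0 : (nbr G a' ∩ (nbr G b ∩ nbr G x)).card = 0 := by
        rw [Finset.card_eq_zero, Finset.eq_empty_iff_forall_notMem]
        intro y hy
        have hy' : y ∈ nbr G a' ∩ nbr G b := by
          rw [Finset.mem_inter] at hy ⊢
          exact ⟨hy.1, (Finset.mem_inter.1 hy.2).1⟩
        rw [h.nbr_inter_of_adj hadj.symm] at hy'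
        exact Finset.notMem_empty y hy'
      rw [h0, if_pos hadj, if_neg ham]
    · rw [if_neg hadj]
      by_cases ham : a' = m
      · subst ham
        rw [if_pos rfl]
        have h1 := hstep3 b (Finset.mem_erase.2 ⟨hbx, hb⟩)
        have e : nbr G a' ∩ (nbr G b ∩ nbr G x) = nbr G b ∩ (nbr G a' ∩ nbr G x) := by
          ext y; simp only [Finset.mem_inter]; tauto
        rw [e, h1]
      · rw [if_neg ham]
        have htri : Triad G x a' b :=
          ⟨Ne.symm ha'x, Ne.symm hbx, fun hh => hb1 (hh ▸ ha'1),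
            (hline L₁ h₁ x hx₁ a' ha'1 (Ne.symm ha'x)).1, hxb, fun hh => hadj hh.symm⟩
        have h2 := hA x a' b htri
        have e : nbr G a' ∩ (nbr G b ∩ nbr G x) = nbr G x ∩ nbr G a' ∩ nbr G b := by
          ext y; simp only [Finset.mem_inter]; tauto
        rw [e]; omega
  have htot := Finset.sum_le_sum hbound
  rw [Finset.sum_add_distrib, Finset.sum_add_distrib, hsum, hTcard, ← Finset.mul_sum,
    ← card_nbr_inter b (L₁.erase x)] at htot
  have hbS : (nbr G b ∩ L₁.erase x).card = 2 := by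
    have e : nbr G b ∩ L₁.erase x = nbr G b ∩ L₁ := by
      ext y
      simp only [Finset.mem_inter, Finset.mem_erase, mem_nbr]
      constructor
      · rintro ⟨h1, _, h3⟩; exact ⟨h1, h3⟩
      · rintro ⟨h1, h3⟩
        exact ⟨h1, fun hyx => hxb (hyx ▸ h1).symm, h3⟩
    rw [e, hbL₁]
  have hmS : m ∈ L₁.erase x := Finset.mem_erase.2 ⟨hmx, hm⟩
  rw [hbS, Finset.sum_ite_eq' (L₁.erase x) m, if_pos hmS] at htot
  simp [hScard] at htot

end Cfsg.Agent.Lib.helper29
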