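import Mathlib
import Cfsg.Agent.Lib.helper9.Srg77Defs

set_option autoImplicit false

/-!
# SRG(77,16,0,4), piece F: the coclique of size 21 through a line and a near vertex

`coclique_of_near`: for a line `L` and a vertex `v ∉ L` with no neighbour on `L`, the union of the
five lines through `v` and a vertex of `L` is a coclique of size 21 containing `L` and `v`.
-/

namespace Cfsg.Agent.Lib.helper29

open Finset Cfsg.Agent.Lib.helper9

variable {V : Type*} [Fintype V] [DecidableEq V] {G : SimpleGraph V} [DecidableRel G.Adj]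

theorem coclique_of_near
    (hcl : ∀ x y : V, x ≠ y → ¬ G.Adj x y → (line G x y).card = 5)
    (hL : ∀ x y a b : V, x ≠ y → ¬ G.Adj x y → a ∈ line G x y → b ∈ line G x y → a ≠ b →
      ¬ G.Adj a b ∧ line G a b = line G x y)
    (hE : ∀ L₁ L₂ : Finset V, IsLine G L₁ → IsLine G L₂ → L₁ ≠ L₂ → ∀ x m : V, x ∈ L₁ → x ∈ L₂ →
      m ∈ L₁ → m ≠ x → (∀ m' ∈ L₂, ¬ G.Adj m m') → ∀ a ∈ L₁, ∀ b ∈ L₂, ¬ G.Adj a b)
    {L : Finset V} (hLine : IsLine G L) {v : V} (hv : v ∉ L)
    (hnear : ∀ a ∈ L, ¬ G.Adj v a) :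
    L.biUnion (fun a => line G v a) ∈ cocl G ∧ L ⊆ L.biUnion (fun a => line G v a) ∧
      v ∈ L.biUnion (fun a => line G v a) := by
  have hline : ∀ L : Finset V, IsLine G L → ∀ a ∈ L, ∀ b ∈ L, a ≠ b →
      ¬ G.Adj a b ∧ line G a b = L := by
    rintro L ⟨p, q, hpq, hnpq, rfl⟩ a ha b hb hab
    exact hL p q a b hpq hnpq ha hb hab
  have hLcard : L.card = 5 := by
    obtain ⟨p, q, hpq, hnpq, rfl⟩ := hLine
    exact hcl p q hpq hnpq
  have hva : ∀ a ∈ L, v ≠ a := fun a ha hva => hv (hva ▸ ha)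
  have hLv : ∀ a ∈ L, IsLine G (line G v a) := fun a ha => ⟨v, a, hva a ha, hnear a ha, rfl⟩
  have hnotin : ∀ a ∈ L, ∀ a' ∈ L, a ≠ a' → a' ∉ line G v a := by
    intro a ha a' ha' haa' hmem
    have e1 := (hline (line G v a) (hLv a ha) a (right_mem_line v a) a' hmem haa').2
    have e2 := (hline L hLine a ha a' ha' haa').2
    exact hv (by rw [← e2, e1]; exact left_mem_line v a)
  have hstep1 : ∀ a ∈ L, ∀ c ∈ line G v a, ∀ b ∈ L, ¬ G.Adj c b := by
    intro a ha
    have hne : line G v a ≠ L := fun hEq => hv (hEq ▸ left_mem_line v a)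
    exact hE (line G v a) L (hLv a ha) hLine hne a v (right_mem_line v a) ha (left_mem_line v a)
      (hva a ha) hnear
  have hstep2 : ∀ a ∈ L, ∀ a' ∈ L, a ≠ a' →
      ∀ c ∈ line G v a', ∀ b ∈ line G v a, ¬ G.Adj c b := by
    intro a ha a' ha' haa'
    have hne : line G v a' ≠ line G v a := fun hEq =>
      hnotin a ha a' ha' haa' (hEq ▸ right_mem_line v a')
    refine hE (line G v a') (line G v a) (hLv a' ha') (hLv a ha) hne v a' (left_mem_line v a')
      (left_mem_line v a) (right_mem_line v a') (fun hEq => hva a' ha' hEq.symm) ?_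
    intro m' hm' hadj
    exact hstep1 a ha m' hm' a' ha' hadj.symm
  have hcocl : IsCoclique G (L.biUnion (fun a => line G v a)) := by
    intro c hc c' hc'
    rw [Finset.mem_biUnion] at hc hc'
    obtain ⟨a, ha, hca⟩ := hc
    obtain ⟨a', ha', hca'⟩ := hc'
    by_cases haa' : a = a'
    · subst haa'
      by_cases hcc : c = c'
      · subst hcc
        exact fun hadj => G.loopless.irrefl c hadj
      · exact (hline _ (hLv a ha) c hca c' hca' hcc).1
    · exact fun hadj => hstep2 a ha a' ha' haa' c' hca' c hca hadj.symm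
  obtain ⟨a₀, ha₀⟩ : L.Nonempty := Finset.card_pos.1 (by omega)
  have hcard : (L.biUnion (fun a => line G v a)).card = 21 := by
    have hEq : L.biUnion (fun a => line G v a)
        = insert v (L.biUnion (fun a => (line G v a).erase v)) := by
      ext u
      simp only [Finset.mem_biUnion, Finset.mem_insert, Finset.mem_erase]
      constructor
      · rintro ⟨a, ha, hu⟩
        by_cases huv : u = v
        · exact Or.inl huv
        · exact Or.inr ⟨a, ha, huv, hu⟩
      · rintro (rfl | ⟨a, ha, _, hu⟩)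
        · exact ⟨a₀, ha₀, left_mem_line u a₀⟩
        · exact ⟨a, ha, hu⟩
    have hvn : v ∉ L.biUnion (fun a => (line G v a).erase v) := by
      simp only [Finset.mem_biUnion, Finset.mem_erase]
      rintro ⟨a, _, hne, _⟩
      exact hne rfl
    have hdisj : ∀ a ∈ L, ∀ a' ∈ L, a ≠ a' →
        Disjoint ((line G v a).erase v) ((line G v a').erase v) := by
      intro a ha a' ha' haa'
      rw [Finset.disjoint_left]
      intro u hu hu'
      rw [Finset.mem_erase] at hu hu'
      have e1 := (hline _ (hLv a ha) v (left_mem_line v a) u hu.2 (Ne.symm hu.1)).2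
      have e2 := (hline _ (hLv a' ha') v (left_mem_line v a') u hu'.2 (Ne.symm hu'.1)).2
      exact hnotin a ha a' ha' haa' (by rw [← e1, e2]; exact right_mem_line v a')
    have h4 : ∀ a ∈ L, ((line G v a).erase v).card = 4 := by
      intro a ha
      rw [Finset.card_erase_of_mem (left_mem_line v a), hcl v a (hva a ha) (hnear a ha)]
    rw [hEq, Finset.card_insert_of_notMem hvn, Finset.card_biUnion
      (fun a ha a' ha' haa' => hdisj a (Finset.mem_coe.1 ha) a' (Finset.mem_coe.1 ha') haa'),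
      Finset.sum_congr rfl h4, Finset.sum_const, hLcard]
    rfl
  refine ⟨mem_cocl.2 ⟨hcocl, hcard⟩, ?_, ?_⟩
  · intro a ha
    exact Finset.mem_biUnion.2 ⟨a, ha, right_mem_line v a⟩
  · exact Finset.mem_biUnion.2 ⟨a₀, ha₀, left_mem_line v a₀⟩

end Cfsg.Agent.Lib.helper29
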