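import Cfsg.Agent.S3335
import Mathlib

set_option autoImplicit false
open Cfsg Cfsg.Agent.S3335

namespace Cfsg.Agent.Lib.helper70.SM

universe u

/-- an element of a `2`-group kernel with trivial cube is trivial. -/
theorem h29_two_cube {Γ : Type u} [Group Γ] {P : Type*} [Group P] (π : Γ →* P)
    (h2 : IsPGroup 2 π.ker) (c : Γ) (hc : c ∈ π.ker) (h3 : c ^ 3 = 1) : c = 1 := by
  obtain ⟨k, hk⟩ := h2 ⟨c, hc⟩
  have hk' : c ^ (2 ^ k) = 1 := by
    have := congrArg Subtype.val hk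
    simpa using this
  have d1 : orderOf c ∣ 3 := orderOf_dvd_of_pow_eq_one h3
  have d2 : orderOf c ∣ 2 ^ k := orderOf_dvd_of_pow_eq_one hk'
  have hcop : Nat.gcd 3 (2 ^ k) = 1 := Nat.Coprime.pow_right k (by norm_num)
  have h1 : orderOf c ∣ 1 := by
    have := Nat.dvd_gcd d1 d2
    rwa [hcop] at this
  exact orderOf_eq_one_iff.mp (Nat.dvd_one.mp h1)

/-- T3 (squares of adjacent lifts, 2-group kernel). -/
theorem h29_two_adj_sq {Γ : Type u} [Group Γ] [Finite Γ] {P : Type*} [Group P] (π : Γ →* P)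
    (hc : π.ker ≤ Subgroup.center Γ) (h2 : IsPGroup 2 π.ker)
    (s t : Γ) (hs : π s ^ 2 = 1) (ht : π t ^ 2 = 1) (hst : (s * t) ^ 3 = 1) :
    t ^ 2 = (s ^ 2)⁻¹ := by
  have haK : s ^ 2 ∈ π.ker := by rw [MonoidHom.mem_ker, map_pow]; exact hs
  have hbK : t ^ 2 ∈ π.ker := by rw [MonoidHom.mem_ker, map_pow]; exact ht
  have ha : ∀ g : Γ, g * s ^ 2 = s ^ 2 * g := Subgroup.mem_center_iff.mp (hc haK)
  have hb : ∀ g : Γ, g * t ^ 2 = t ^ 2 * g := Subgroup.mem_center_iff.mp (hc hbK)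
  have hcK : s ^ 2 * t ^ 2 ∈ π.ker := π.ker.mul_mem haK hbK
  have huv : (s * t) * (t * s) = s ^ 2 * t ^ 2 := by
    calc (s * t) * (t * s) = s * t ^ 2 * s := by simp only [pow_two, mul_assoc]
      _ = t ^ 2 * s * s := by rw [hb s]
      _ = t ^ 2 * s ^ 2 := by simp only [pow_two, mul_assoc]
      _ = s ^ 2 * t ^ 2 := (hb (s ^ 2)).symm
  have hvu : (t * s) * (s * t) = s ^ 2 * t ^ 2 := by
    calc (t * s) * (s * t) = t * s ^ 2 * t := by simp only [pow_two, mul_assoc]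
      _ = s ^ 2 * t * t := by rw [ha t]
      _ = s ^ 2 * t ^ 2 := by simp only [pow_two, mul_assoc]
  have hcomm : Commute (s * t) (t * s) := huv.trans hvu.symm
  have hts : (t * s) ^ 3 = 1 := Cfsg.Agent.S3335.pow_swap hst
  have h3 : (s ^ 2 * t ^ 2) ^ 3 = 1 := by
    rw [← huv, hcomm.mul_pow, hst, hts, one_mul]
  have h1 : s ^ 2 * t ^ 2 = 1 := h29_two_cube π h2 _ hcK h3
  exact eq_inv_of_mul_eq_one_right h1

end Cfsg.Agent.Lib.helper70.SM
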