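import Mathlib
import Cfsg.Agent.Lib.helper69.SNDefs

/-! S4073 piece E2 (core): involution centralizers are abelian, modulo E2-ABS. -/

set_option autoImplicit false

namespace Cfsg.Agent.Lib.helper29.SNG

open Cfsg.Agent.Lib.helper69.SNG

universe u

/-- E2 with E2-ABS as a hypothesis. -/
theorem h29_sn_invol_cent_comm_of {G : Type u} [Group G] [Finite G] [IsSimpleGroup G]
    (habs : ∀ (C : Type u) [Group C] [Finite C], SN C → ∀ S : Sylow 2 C,
      IsMulCommutative S → ¬ IsCyclic S → ∀ t : C, orderOf t = 2 → t ∈ Subgroup.center C →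
      IsMulCommutative C)
    (hna : ¬ IsMulCommutative G) (h : SN G) (hS : ∀ S : Sylow 2 G, IsMulCommutative S)
    (t : G) (ht : orderOf t = 2) : IsMulCommutative (Subgroup.centralizer ({t} : Set G)) := by
  classical
  haveI : Fact (Nat.Prime 2) := ⟨Nat.prime_two⟩
  have hpt : IsPGroup 2 (Subgroup.zpowers t) := by
    apply IsPGroup.of_card (n := 1)
    rw [Nat.card_zpowers, ht, pow_one]
  obtain ⟨S, hSle⟩ := hpt.exists_le_sylow
  have htS : t ∈ (S : Subgroup G) := hSle (Subgroup.mem_zpowers t)
  have hSc := (comm_iff (S : Subgroup G)).mp (hS S)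
  have hSC : (S : Subgroup G) ≤ Subgroup.centralizer ({t} : Set G) := by
    intro s hs
    rw [Subgroup.mem_centralizer_iff]
    intro y hy
    rw [Set.mem_singleton_iff] at hy
    rw [hy]
    exact hSc t htS s hs
  have htC : t ∈ Subgroup.centralizer ({t} : Set G) := hSC htS
  have hS'comm : IsMulCommutative (S.subtype hSC) := by
    rw [comm_iff]
    intro a ha b hb
    apply Subtype.ext
    have ha' : (a : G) ∈ (S : Subgroup G) := ha
    have hb' : (b : G) ∈ (S : Subgroup G) := hb
    exact hSc a ha' b hb'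
  have heven : Even (Nat.card G) := by
    have : 2 ∣ Nat.card G := ht ▸ orderOf_dvd_natCard t
    exact even_iff_two_dvd.mpr this
  have hncyc : ¬ IsCyclic (S.subtype hSC) := by
    intro hcycS'
    have hP : IsCyclic (S : Subgroup G) :=
      (Subgroup.subgroupOfEquivOfLe hSC).isCyclic.mp hcycS'
    have h2 : (Nat.card G).minFac = 2 := (Nat.minFac_eq_two_iff _).mpr heven.two_dvd
    have hcomp := IsCyclic.isComplement' h2 hP
    have hcard := hcomp.card_mul_card
    have hPne : (S : Subgroup G) ≠ ⊥ := S.ne_bot_of_dvd_card heven.two_dvd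
    rcases IsSimpleGroup.eq_bot_or_eq_top_of_normal _
      (MonoidHom.normal_ker (MonoidHom.transferSylow S (hP.normalizer_le_centralizer h2)))
      with hN | hN
    · rw [hN, Subgroup.card_bot, one_mul] at hcard
      have hPtop : (S : Subgroup G) = ⊤ := Subgroup.eq_top_of_card_eq _ hcard
      apply hna
      rw [comm_iff_top]
      intro a b
      exact hSc a (hPtop ▸ Subgroup.mem_top a) b (hPtop ▸ Subgroup.mem_top b)
    · rw [hN, Subgroup.card_top] at hcard
      have hP1 : Nat.card ↥(S : Subgroup G) = 1 := by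
        have hpos : 0 < Nat.card G := Nat.card_pos
        exact Nat.eq_of_mul_eq_mul_left hpos (by rw [hcard, mul_one])
      exact hPne (Subgroup.card_eq_one.mp hP1)
  refine habs (Subgroup.centralizer ({t} : Set G)) (h.subgroup _) (S.subtype hSC) hS'comm hncyc
    ⟨t, htC⟩ ?_ ?_
  · rw [Subgroup.orderOf_mk]; exact ht
  · rw [Subgroup.mem_center_iff]
    intro g
    apply Subtype.ext
    have hg := g.2
    rw [Subgroup.mem_centralizer_iff] at hg
    exact (hg t (Set.mem_singleton t)).symm

end Cfsg.Agent.Lib.helper29.SNG
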