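import Mathlib
import Cfsg.Agent.Lib.helper69.SNDefs
import Cfsg.Agent.Lib.helper29.SNG_E2core
import Cfsg.Agent.Lib.helper83.SNG_E2ABS

/-! S4073 piece E2 : involution centralizers are abelian. -/

set_option autoImplicit false

namespace Cfsg.Agent.Lib.helper29.SNG

open Cfsg.Agent.Lib.helper69.SNG

universe u

/-- **[E2]** (E2-ABS applied to `C_G(t)`; cyclic Sylow 2 excluded by Burnside as in S5748) -/
theorem sn_invol_cent_comm {G : Type u} [Group G] [Finite G] [IsSimpleGroup G]
    (hna : ¬ IsMulCommutative G) (h : SN G) (hS : ∀ S : Sylow 2 G, IsMulCommutative S)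
    (t : G) (ht : orderOf t = 2) : IsMulCommutative (Subgroup.centralizer ({t} : Set G)) := by
  exact h29_sn_invol_cent_comm_of
    (fun _ _ _ hC S hSc hcyc t ht htc =>
      Cfsg.Agent.Lib.helper83.SNG.sn_central_invol_comm hC S hSc hcyc t ht htc)
    hna h hS t ht

end Cfsg.Agent.Lib.helper29.SNG
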