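import Mathlib
import Cfsg.Agent.Lib.helper69.SNDefs

/-! S4073 piece TWO-CENTER : a minimal non-abelian `2`-group has centre of index `4`. -/

set_option autoImplicit false

namespace Cfsg.Agent.Lib.helper29.SNG

open Cfsg.Agent.Lib.helper69.SNG

universe u

/-- in a finite `2`-group whose proper subgroups are abelian, the centralizer of a non-central
element has index `2`. -/
theorem h29_cent_index_two {S : Type u} [Group S] [Finite S] (hS : IsPGroup 2 S)
    (hsub : ∀ H : Subgroup S, H ≠ ⊤ → IsMulCommutative H) (g : S)
    (hg : g ∉ Subgroup.center S) : (Subgroup.centralizer ({g} : Set S)).index = 2 := by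
  classical
  have hp2 : Fact (Nat.Prime 2) := ⟨Nat.prime_two⟩
  have hCne : Subgroup.centralizer ({g} : Set S) ≠ ⊤ := by
    intro htop
    rw [Subgroup.centralizer_eq_top_iff_subset] at htop
    exact hg (htop (Set.mem_singleton g))
  obtain ⟨N, hN⟩ := hS.exists_card_eq
  obtain ⟨n, hn⟩ := (hS.to_subgroup (Subgroup.centralizer ({g} : Set S))).exists_card_eq
  have hnN : n < N := by
    by_contra hcon
    have hle : N ≤ n := by omega
    have h1 : Nat.card S ≤ Nat.card (Subgroup.centralizer ({g} : Set S)) := by
      rw [hN, hn]; exact Nat.pow_le_pow_right (by norm_num) hle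
    exact hCne (Subgroup.eq_top_of_le_card _ h1)
  have hdvd : 2 ^ (N - 1) ∣ Nat.card S := by
    rw [hN]; exact pow_dvd_pow 2 (by omega)
  obtain ⟨M, hMcard, hCM⟩ := Sylow.exists_subgroup_card_pow_prime_le 2 hdvd
    (Subgroup.centralizer ({g} : Set S)) hn (by omega)
  have hMne : M ≠ ⊤ := by
    intro htop
    rw [htop, Subgroup.card_top, hN] at hMcard
    have : N = N - 1 := Nat.pow_right_injective (le_refl 2) hMcard
    omega
  have hMc := (comm_iff M).mp (hsub M hMne)
  have hgC : g ∈ Subgroup.centralizer ({g} : Set S) := by
    rw [Subgroup.mem_centralizer_iff]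
    intro y hy
    rw [Set.mem_singleton_iff] at hy
    rw [hy]
  have hMC : M ≤ Subgroup.centralizer ({g} : Set S) := by
    intro m hm
    rw [Subgroup.mem_centralizer_iff]
    intro y hy
    rw [Set.mem_singleton_iff] at hy
    rw [hy]
    exact hMc g (hCM hgC) m hm
  have hCeq : Subgroup.centralizer ({g} : Set S) = M := le_antisymm hCM hMC
  rw [hCeq]
  have hmul := M.card_mul_index
  rw [hMcard, hN] at hmul
  have hN1 : 2 ^ N = 2 ^ (N - 1) * 2 := by
    rw [← pow_succ]
    congr 1
    omega
  rw [hN1] at hmul
  exact Nat.eq_of_mul_eq_mul_left (by positivity) hmul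

/-- **[TWO-CENTER]** -/
theorem two_group_center_index {S : Type u} [Group S] [Finite S] (hS : IsPGroup 2 S)
    (hna : ¬ IsMulCommutative S) (hsub : ∀ H : Subgroup S, H ≠ ⊤ → IsMulCommutative H) :
    (Subgroup.center S).index = 4 := by
  classical
  have hp2 : Fact (Nat.Prime 2) := ⟨Nat.prime_two⟩
  -- non-commuting pair
  have hex : ∃ a b : S, a * b ≠ b * a := by
    by_contra hcon
    apply hna
    rw [comm_iff_top]
    intro a b
    by_contra hab
    exact hcon ⟨a, b, hab⟩
  obtain ⟨a, b, hab⟩ := hex
  have haZ : a ∉ Subgroup.center S := by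
    intro h
    rw [Subgroup.mem_center_iff] at h
    exact hab (h b).symm
  have hbZ : b ∉ Subgroup.center S := by
    intro h
    rw [Subgroup.mem_center_iff] at h
    exact hab (h a)
  have hia := h29_cent_index_two hS hsub a haZ
  have hib := h29_cent_index_two hS hsub b hbZ
  have haC : a ∈ Subgroup.centralizer ({a} : Set S) := by
    rw [Subgroup.mem_centralizer_iff]
    intro y hy
    rw [Set.mem_singleton_iff] at hy
    rw [hy]
  -- the centre is the intersection of the two centralizers
  have hZeq : Subgroup.center S =
      Subgroup.centralizer ({a} : Set S) ⊓ Subgroup.centralizer ({b} : Set S) := by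
    apply le_antisymm
    · exact le_inf (Subgroup.center_le_centralizer _) (Subgroup.center_le_centralizer _)
    · intro g hg
      obtain ⟨hga, hgb⟩ := Subgroup.mem_inf.mp hg
      by_contra hgZ
      have hig := h29_cent_index_two hS hsub g hgZ
      have hCne : Subgroup.centralizer ({g} : Set S) ≠ ⊤ := by
        intro htop
        rw [htop, Subgroup.index_top] at hig
        omega
      have hCc := (comm_iff _).mp (hsub _ hCne)
      have ha' : a ∈ Subgroup.centralizer ({g} : Set S) := by
        rw [Subgroup.mem_centralizer_iff]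
        intro y hy
        rw [Set.mem_singleton_iff] at hy
        rw [hy]
        rw [Subgroup.mem_centralizer_iff] at hga
        exact (hga a (Set.mem_singleton a)).symm
      have hb' : b ∈ Subgroup.centralizer ({g} : Set S) := by
        rw [Subgroup.mem_centralizer_iff]
        intro y hy
        rw [Set.mem_singleton_iff] at hy
        rw [hy]
        rw [Subgroup.mem_centralizer_iff] at hgb
        exact (hgb b (Set.mem_singleton b)).symm
      exact hab (hCc a ha' b hb')
  -- upper bound
  have hle : (Subgroup.center S).index ≤ 4 := by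
    rw [hZeq]
    have := Subgroup.index_inf_le (H := Subgroup.centralizer ({a} : Set S))
      (K := Subgroup.centralizer ({b} : Set S))
    rw [hia, hib] at this
    exact this
  -- the index is a power of two
  obtain ⟨N, hN⟩ := hS.exists_card_eq
  have hdvd : (Subgroup.center S).index ∣ 2 ^ N := hN ▸ Subgroup.index_dvd_card _
  obtain ⟨j, -, hj⟩ := (Nat.dvd_prime_pow Nat.prime_two).mp hdvd
  have hj0 : j ≠ 0 := by
    intro h0
    rw [h0, pow_zero, Subgroup.index_eq_one] at hj
    exact haZ (hj ▸ Subgroup.mem_top a)
  have hj1 : j ≠ 1 := by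
    intro h1
    rw [h1, pow_one] at hj
    have hrel := Subgroup.relIndex_mul_index
      (Subgroup.center_le_centralizer ({a} : Set S))
    rw [hia, hj] at hrel
    have hrel1 : (Subgroup.center S).relIndex (Subgroup.centralizer ({a} : Set S)) = 1 := by
      omega
    exact haZ (Subgroup.relIndex_eq_one.mp hrel1 haC)
  have hj2 : j < 3 := by
    by_contra hcon
    have h3 : 3 ≤ j := by omega
    have : 2 ^ 3 ≤ 2 ^ j := Nat.pow_le_pow_right (by norm_num) h3
    rw [← hj] at this
    omega
  have hj' : j = 2 := by omega
  rw [hj, hj']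
  norm_num

end Cfsg.Agent.Lib.helper29.SNG
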