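import Mathlib

/-!
# S2335, piece FSIG: `x ↦ x ^ q` on a field with `q ^ 2` elements is an involution, not the identity
-/

set_option autoImplicit false

namespace Cfsg.Agent.Lib.helper44.SUW

/-- FSIG (S) -/
theorem sigma_facts {K : Type*} [Field K] [Fintype K] {q : ℕ} (hK : Fintype.card K = q ^ 2)
    (σ : K →+* K) (hσ : ∀ x, σ x = x ^ q) :
    (∀ x, σ (σ x) = x) ∧ σ ≠ RingHom.id K := by
  classical
  refine ⟨fun x => ?_, fun hid => ?_⟩
  · rw [hσ, hσ, ← pow_mul, ← sq, ← hK, FiniteField.pow_card]
  · have hq2 : 2 ≤ q := by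
      have h1 : 1 < Fintype.card K := Fintype.one_lt_card
      rw [hK] at h1
      by_contra h
      have hq : q = 0 ∨ q = 1 := by omega
      rcases hq with rfl | rfl <;> simp at h1
    have hcon : ∀ a : K, a ^ q = a := fun a => by
      rw [← hσ, hid]
      rfl
    have hne : (Polynomial.X ^ q - Polynomial.X : Polynomial K) ≠ 0 :=
      FiniteField.X_pow_card_sub_X_ne_zero K (by omega)
    have hdeg : (Polynomial.X ^ q - Polynomial.X : Polynomial K).natDegree = q :=
      FiniteField.X_pow_card_sub_X_natDegree_eq K (by omega)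
    have hsub : (Finset.univ : Finset K) ⊆
        (Polynomial.X ^ q - Polynomial.X : Polynomial K).roots.toFinset := by
      intro a _
      rw [Multiset.mem_toFinset, Polynomial.mem_roots hne]
      simp [hcon a]
    have h1 := Finset.card_le_card hsub
    have h2 := Multiset.toFinset_card_le (Polynomial.X ^ q - Polynomial.X : Polynomial K).roots
    have h3 := Polynomial.card_roots' (Polynomial.X ^ q - Polynomial.X : Polynomial K)
    rw [Finset.card_univ, hK] at h1
    rw [hdeg] at h3
    nlinarith

end Cfsg.Agent.Lib.helper44.SUW
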