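import Mathlib
import Cfsg.Agent.Lib.helper17.HermForm
import Cfsg.Agent.Lib.helper29.SUWFSIG

/-!
# S2335, piece FEPS: an element `ε` with `ε * σ ε = -1`
-/

set_option autoImplicit false

namespace Cfsg.Agent.Lib.helper44.SUW

/-- FEPS (S) -/
theorem exists_eps {K : Type*} [Field K] [Fintype K] {q : ℕ} (hK : Fintype.card K = q ^ 2)
    (σ : K →+* K) (hσ : ∀ x, σ x = x ^ q) : ∃ ε : K, ε * σ ε = -1 := by
  obtain ⟨h2, hne⟩ := sigma_facts hK σ hσ
  exact Cfsg.Agent.Lib.helper17.norm_surj σ hne h2 (-1) (neg_ne_zero.mpr one_ne_zero)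
    (by rw [map_neg, map_one])

end Cfsg.Agent.Lib.helper44.SUW
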