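import Mathlib
import Cfsg.Agent.Lib.helper24.SfuDefs

/-!
# S5982, piece ORDT (core): two orthonormal bases of a unitary form differ by an isometry
-/

set_option autoImplicit false

namespace Cfsg.Agent.Lib.helper24

open Module Matrix Cfsg.Geo

/-- The matrix whose columns are the vectors `e j`. -/
def h29_colMat {F : Type*} [Field F] {n : ℕ} (e : Fin n → (Fin n → F)) :
    Matrix (Fin n) (Fin n) F := Matrix.of fun i j => e j i

theorem h29_colMat_mulVec {F : Type*} [Field F] {n : ℕ} (e : Fin n → (Fin n → F))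
    (a : Fin n → F) : h29_colMat e *ᵥ a = ∑ i, a i • e i := by
  funext k
  simp [Matrix.mulVec, dotProduct, h29_colMat, mul_comm]

theorem h29_colMat_single {F : Type*} [Field F] {n : ℕ} (e : Fin n → (Fin n → F))
    (i : Fin n) : h29_colMat e *ᵥ Pi.single i 1 = e i := by
  rw [Matrix.mulVec_single_one]
  rfl

theorem h29_colMat_isUnit {F : Type*} [Field F] {n : ℕ} (e : Fin n → (Fin n → F))
    (he : LinearIndependent F e) : IsUnit (h29_colMat e) := by
  refine Matrix.linearIndependent_cols_iff_isUnit.mp ?_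
  have hcol : (h29_colMat e).col = e := by
    funext j
    rfl
  rw [hcol]
  exact he

/-- Expansion of the form on an orthonormal family. -/
theorem h29_form_expand {F : Type*} [Field F] {n : ℕ} (q₀ : ℕ)
    (f : (Fin n → F) → (Fin n → F) → F) (hf : IsUnitaryFormPow q₀ f)
    (hadd : ∀ v x y, f v (x + y) = f v x + f v y)
    (hsmul : ∀ (c : F) (v x : Fin n → F), f v (c • x) = c ^ q₀ * f v x)
    (e : Fin n → (Fin n → F))
    (ho : ∀ i j, f (e i) (e j) = if i = j then 1 else 0) (a b : Fin n → F) :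
    f (∑ i, a i • e i) (∑ j, b j • e j) = ∑ i, a i * b i ^ q₀ := by
  classical
  have h0l : ∀ y, f 0 y = 0 := fun y => by
    have h := hf.smul_left 0 0 y
    simpa using h
  have h0r : ∀ x, f x 0 = 0 := fun x => by
    have h := hadd x 0 0
    rw [add_zero] at h
    have h2 : f x 0 + f x 0 = f x 0 + 0 := by rw [add_zero]; exact h.symm
    exact add_left_cancel h2
  have hL : ∀ (s : Finset (Fin n)) (y : Fin n → F),
      f (∑ i ∈ s, a i • e i) y = ∑ i ∈ s, a i * f (e i) y := by
    intro s y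
    refine Finset.induction_on s ?_ ?_
    · simp [h0l]
    · intro i s hi ih
      rw [Finset.sum_insert hi, Finset.sum_insert hi, hf.add_left, hf.smul_left, ih]
  have hR : ∀ (s : Finset (Fin n)) (x : Fin n → F),
      f x (∑ j ∈ s, b j • e j) = ∑ j ∈ s, b j ^ q₀ * f x (e j) := by
    intro s x
    refine Finset.induction_on s ?_ ?_
    · simp [h0r]
    · intro i s hi ih
      rw [Finset.sum_insert hi, Finset.sum_insert hi, hadd, hsmul, ih]
  rw [hL]
  refine Finset.sum_congr rfl fun i _ => ?_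
  rw [hR]
  simp only [ho]
  simp

/-- ORDT core: the matrix taking one orthonormal basis to another is an isometry. -/
theorem h29_isom_of_onb {F : Type*} [Field F] {n : ℕ} (q₀ : ℕ)
    (f : (Fin n → F) → (Fin n → F) → F) (hf : IsUnitaryFormPow q₀ f)
    (hadd : ∀ v x y, f v (x + y) = f v x + f v y)
    (hsmul : ∀ (c : F) (v x : Fin n → F), f v (c • x) = c ^ q₀ * f v x)
    (e e' : Fin n → (Fin n → F)) (he : LinearIndependent F e)
    (he' : LinearIndependent F e')
    (ho : ∀ i j, f (e i) (e j) = if i = j then 1 else 0)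
    (ho' : ∀ i j, f (e' i) (e' j) = if i = j then 1 else 0) :
    ∃ g ∈ sfuIsom f, ∀ i, (g : Matrix (Fin n) (Fin n) F) *ᵥ e i = e' i := by
  classical
  obtain ⟨uE, huE⟩ := h29_colMat_isUnit e he
  obtain ⟨uE', huE'⟩ := h29_colMat_isUnit e' he'
  have hinv : ∀ u : Fin n → F,
      h29_colMat e *ᵥ ((↑(uE⁻¹) : Matrix (Fin n) (Fin n) F) *ᵥ u) = u := by
    intro u
    rw [Matrix.mulVec_mulVec, ← huE, ← Units.val_mul, mul_inv_cancel, Units.val_one,
      Matrix.one_mulVec]
  have hinv2 : ∀ a : Fin n → F,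
      (↑(uE⁻¹) : Matrix (Fin n) (Fin n) F) *ᵥ (h29_colMat e *ᵥ a) = a := by
    intro a
    rw [Matrix.mulVec_mulVec, ← huE, ← Units.val_mul, inv_mul_cancel, Units.val_one,
      Matrix.one_mulVec]
  have hg : ∀ u : Fin n → F, (↑(uE' * uE⁻¹) : Matrix (Fin n) (Fin n) F) *ᵥ u =
      h29_colMat e' *ᵥ ((↑(uE⁻¹) : Matrix (Fin n) (Fin n) F) *ᵥ u) := by
    intro u
    rw [Units.val_mul, ← Matrix.mulVec_mulVec, huE']
  refine ⟨uE' * uE⁻¹, ?_, ?_⟩
  · intro u x
    rw [hg u, hg x, h29_colMat_mulVec, h29_colMat_mulVec,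
      h29_form_expand q₀ f hf hadd hsmul e' ho']
    conv_rhs => rw [← hinv u, ← hinv x, h29_colMat_mulVec, h29_colMat_mulVec,
      h29_form_expand q₀ f hf hadd hsmul e ho]
  · intro i
    rw [hg, ← h29_colMat_single e i, hinv2, h29_colMat_single]

end Cfsg.Agent.Lib.helper24
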