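import Mathlib
import Cfsg.Agent.Lib.helper24.SfuDefs
import Cfsg.Agent.Lib.helper9.SfuSESQ
import Cfsg.Agent.Lib.helper32.SfuEXT
import Cfsg.Agent.Lib.helper29.SfuORDTcore

/-!
# S5982, piece ORDT (racer copy): the isometry group is transitive on norm-1 vectors
-/

set_option autoImplicit false

namespace Cfsg.Agent.Lib.helper24

open Module Matrix Cfsg.Geo

/-- ORDT -/
theorem h29_sfu_isom_transitive {F : Type*} [Field F] [Fintype F] {n : ℕ} (q₀ : ℕ)
    (hcard : Fintype.card F = q₀ ^ 2) (f : (Fin n → F) → (Fin n → F) → F)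
    (hf : IsUnitaryFormPow q₀ f) (v w : Fin n → F) (hv : f v v = 1) (hw : f w w = 1) :
    ∃ g ∈ sfuIsom f, (g : Matrix (Fin n) (Fin n) F) *ᵥ v = w := by
  obtain ⟨hadd, hsmul, -, -, -⟩ := sfu_sesq q₀ hcard f hf
  cases n with
  | zero =>
    exfalso
    have hv0 : v = 0 := Subsingleton.elim _ _
    have h0 : f 0 0 = 0 := by
      have h := hf.smul_left 0 0 0
      simpa using h
    rw [hv0, h0] at hv
    exact zero_ne_one hv
  | succ m =>
    obtain ⟨e, he, ho, hev⟩ := sfu_onb_extend q₀ hcard f hf v hv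
    obtain ⟨e', he', ho', hew⟩ := sfu_onb_extend q₀ hcard f hf w hw
    obtain ⟨g, hg, hge⟩ := h29_isom_of_onb q₀ f hf hadd hsmul e e' he he' ho ho'
    refine ⟨g, hg, ?_⟩
    rw [← hev, ← hew]
    exact hge (Fin.last m)

end Cfsg.Agent.Lib.helper24
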