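import Cfsg.Agent.S2222
import Mathlib
import Cfsg.Prelude.Def_TwoFusion
import Cfsg.Agent.Lib.helper72.SylAlt_B

/-!
S2221 piece D: the Sylow 2-subgroup of `A_n` is a nontrivial direct product when
`n ≡ 2, 3 (mod 4)` and `4⌊n/4⌋` is not a power of 2.
-/

set_option autoImplicit false

namespace Cfsg.Agent.Lib.helper29.SylAlt

open Equiv Cfsg.Agent.S2222

/-- A conjugation-fixed swap `t₀` and a splitting of the remaining swaps into two nonempty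
conjugation-invariant families. -/
theorem exists_partition {Ω : Type} [Fintype Ω] [DecidableEq Ω] (P : Subgroup (Perm Ω))
    (hP2 : IsPGroup 2 P) (T : Finset (Perm Ω)) (hPT : P ≤ stabT T)
    (hodd : Odd T.card) (h1 : 1 < T.card) (hnp : ∀ j : ℕ, T.card ≠ 2 ^ j + 1) :
    ∃ t₀ ∈ T, ∃ Y Z : Finset (Perm Ω), (∀ g ∈ P, g * t₀ * g⁻¹ = t₀) ∧ Y ⊆ T ∧ Z ⊆ T ∧
      t₀ ∉ Y ∧ t₀ ∉ Z ∧ (∀ t ∈ Y, t ∉ Z) ∧ (∀ t ∈ T, t = t₀ ∨ t ∈ Y ∨ t ∈ Z) ∧
      (∀ g ∈ P, ∀ t ∈ Y, g * t * g⁻¹ ∈ Y) ∧ (∀ g ∈ P, ∀ t ∈ Z, g * t * g⁻¹ ∈ Z) ∧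
      Y.Nonempty ∧ Z.Nonempty := by
  classical
  have hfact : Fact (Nat.Prime 2) := ⟨Nat.prime_two⟩
  let _ : MulAction (stabT T) {t // t ∈ T} := actT T
  let _ : MulAction P {t // t ∈ T} := MulAction.compHom {t // t ∈ T} (Subgroup.inclusion hPT)
  have hsmul : ∀ (g : P) (x : {t // t ∈ T}),
      ((g • x : {t // t ∈ T}) : Perm Ω) = (g : Perm Ω) * x * (g : Perm Ω)⁻¹ := fun g x => rfl
  have hnd : ¬ 2 ∣ Nat.card {t // t ∈ T} := by
    rw [Nat.card_eq_fintype_card, Fintype.card_coe]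
    exact hodd.not_two_dvd_nat
  obtain ⟨x₀, hx₀⟩ := hP2.nonempty_fixed_point_of_prime_not_dvd_card {t // t ∈ T} hnd
  rw [MulAction.mem_fixedPoints] at hx₀
  have hfix : ∀ g ∈ P, g * (x₀ : Perm Ω) * g⁻¹ = x₀ := by
    intro g hg
    have h := congrArg Subtype.val (hx₀ ⟨g, hg⟩)
    rw [hsmul] at h
    exact h
  have hfix' : ∀ g ∈ P, ∀ t : Perm Ω, g * t * g⁻¹ = x₀ → t = x₀ := by
    intro g hg t ht
    have h := hfix g⁻¹ (P.inv_mem hg)
    rw [inv_inv] at h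
    rw [← h, ← ht]
    group
  obtain ⟨t₁, ht₁, hne⟩ := Finset.exists_mem_ne h1 (x₀ : Perm Ω)
  have hconjT : ∀ g ∈ P, ∀ t ∈ T, g * t * g⁻¹ ∈ T := fun g hg t ht => (hPT hg t ht).1
  refine ⟨x₀, x₀.2, T.filter (fun t => ∃ g ∈ P, g * t₁ * g⁻¹ = t),
    T.filter (fun t => t ≠ (x₀ : Perm Ω) ∧ ¬ ∃ g ∈ P, g * t₁ * g⁻¹ = t), hfix,
    Finset.filter_subset _ _, Finset.filter_subset _ _, ?_, ?_, ?_, ?_, ?_, ?_, ?_, ?_⟩
  · intro h
    obtain ⟨g, hg, hgt⟩ := (Finset.mem_filter.1 h).2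
    exact hne (hfix' g hg t₁ hgt)
  · intro h
    exact (Finset.mem_filter.1 h).2.1 rfl
  · intro t ht ht'
    exact (Finset.mem_filter.1 ht').2.2 (Finset.mem_filter.1 ht).2
  · intro t ht
    by_cases h0 : t = (x₀ : Perm Ω)
    · exact Or.inl h0
    · by_cases h2 : ∃ g ∈ P, g * t₁ * g⁻¹ = t
      · exact Or.inr (Or.inl (Finset.mem_filter.2 ⟨ht, h2⟩))
      · exact Or.inr (Or.inr (Finset.mem_filter.2 ⟨ht, h0, h2⟩))
  · intro g hg t ht
    obtain ⟨htT, k, hk, hkt⟩ := Finset.mem_filter.1 ht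
    refine Finset.mem_filter.2 ⟨hconjT g hg t htT, g * k, P.mul_mem hg hk, ?_⟩
    rw [← hkt]; group
  · intro g hg t ht
    obtain ⟨htT, ht0, htn⟩ := Finset.mem_filter.1 ht
    refine Finset.mem_filter.2 ⟨hconjT g hg t htT, ?_, ?_⟩
    · intro h
      exact ht0 (hfix' g hg t h)
    · rintro ⟨k, hk, hkt⟩
      apply htn
      refine ⟨g⁻¹ * k, P.mul_mem (P.inv_mem hg) hk, ?_⟩
      have : g⁻¹ * k * t₁ * (g⁻¹ * k)⁻¹ = g⁻¹ * (k * t₁ * k⁻¹) * g := by group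
      rw [this, hkt]; group
  · exact ⟨t₁, Finset.mem_filter.2 ⟨ht₁, 1, P.one_mem, by group⟩⟩
  · by_contra hZ
    rw [Finset.not_nonempty_iff_eq_empty] at hZ
    -- then `T = insert x₀ Y`
    have hT : T = insert (x₀ : Perm Ω) (T.filter (fun t => ∃ g ∈ P, g * t₁ * g⁻¹ = t)) := by
      ext t
      rw [Finset.mem_insert, Finset.mem_filter]
      constructor
      · intro ht
        by_cases h0 : t = (x₀ : Perm Ω)
        · exact Or.inl h0
        · by_cases h2 : ∃ g ∈ P, g * t₁ * g⁻¹ = t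
          · exact Or.inr ⟨ht, h2⟩
          · have : t ∈ T.filter (fun t => t ≠ (x₀ : Perm Ω) ∧ ¬ ∃ g ∈ P, g * t₁ * g⁻¹ = t) :=
              Finset.mem_filter.2 ⟨ht, h0, h2⟩
            rw [hZ] at this
            exact absurd this (Finset.notMem_empty _)
      · rintro (h | h)
        · rw [h]; exact x₀.2
        · exact h.1
    have hx₀Y : (x₀ : Perm Ω) ∉ T.filter (fun t => ∃ g ∈ P, g * t₁ * g⁻¹ = t) := by
      intro h
      obtain ⟨g, hg, hgt⟩ := (Finset.mem_filter.1 h).2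
      exact hne (hfix' g hg t₁ hgt)
    have hcardT : T.card = (T.filter (fun t => ∃ g ∈ P, g * t₁ * g⁻¹ = t)).card + 1 := by
      conv_lhs => rw [hT]
      exact Finset.card_insert_of_notMem hx₀Y
    -- the orbit
    have hO : ((T.filter (fun t => ∃ g ∈ P, g * t₁ * g⁻¹ = t) : Finset (Perm Ω)) : Set (Perm Ω)) =
        Subtype.val '' (MulAction.orbit P (⟨t₁, ht₁⟩ : {t // t ∈ T})) := by
      ext t
      constructor
      · intro ht
        obtain ⟨htT, g, hg, hgt⟩ := Finset.mem_filter.1 (Finset.mem_coe.1 ht)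
        refine ⟨⟨t, htT⟩, ⟨⟨g, hg⟩, ?_⟩, rfl⟩
        apply Subtype.ext
        rw [hsmul]
        exact hgt
      · rintro ⟨x, ⟨g, hgx⟩, rfl⟩
        refine Finset.mem_coe.2 (Finset.mem_filter.2 ⟨x.2, (g : Perm Ω), g.2, ?_⟩)
        have h := congrArg Subtype.val hgx
        exact h
    have hcardY : (T.filter (fun t => ∃ g ∈ P, g * t₁ * g⁻¹ = t)).card =
        (MulAction.stabilizer P (⟨t₁, ht₁⟩ : {t // t ∈ T})).index := by
      rw [MulAction.index_stabilizer, ← Set.ncard_coe_finset, hO,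
        Set.ncard_image_of_injective _ Subtype.val_injective]
    obtain ⟨k, hk⟩ := IsPGroup.iff_card.1 hP2
    have hdvd : (MulAction.stabilizer P (⟨t₁, ht₁⟩ : {t // t ∈ T})).index ∣ 2 ^ k := by
      rw [← hk]; exact Subgroup.index_dvd_card _
    obtain ⟨j, -, hj⟩ := (Nat.dvd_prime_pow Nat.prime_two).1 hdvd
    exact hnp j (by rw [hcardT, hcardY, hj])


/-- `mv S a`: some member of `S` moves the point `a`. -/
def mv {Ω : Type} (S : Finset (Perm Ω)) (a : Ω) : Prop := ∃ t ∈ S, t a ≠ a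

theorem mv_conj {Ω : Type} (P : Subgroup (Perm Ω)) {S : Finset (Perm Ω)}
    (hS : ∀ g ∈ P, ∀ t ∈ S, g * t * g⁻¹ ∈ S) {g : Perm Ω} (hg : g ∈ P) (a : Ω) :
    mv S (g a) ↔ mv S a := by
  have key : ∀ h ∈ P, ∀ b, mv S b → mv S (h b) := by
    rintro h hh b ⟨t, ht, htb⟩
    refine ⟨h * t * h⁻¹, hS h hh t ht, ?_⟩
    have e : (h * t * h⁻¹) (h b) = h (t b) := by simp
    rw [e]
    exact fun e' => htb (h.injective e')
  constructor
  · intro h
    have h2 := key g⁻¹ (P.inv_mem hg) (g a) h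
    have e : g⁻¹ (g a) = a := by simp
    rwa [e] at h2
  · exact key g hg a

theorem fix_uncovered {Ω : Type} [Fintype Ω] [DecidableEq Ω] (P : Subgroup (Perm Ω))
    {T : Finset (Perm Ω)} (hT : Pairing T) (hPT : P ≤ stabT T) {g : Perm Ω} (hg : g ∈ P) {a : Ω}
    (ha : ∀ t ∈ T, t a = a) : g a = a := by
  apply hT.cover (g a) a _ ha
  intro t ht
  have h1 : g⁻¹ * t * g ∈ T := (hPT hg t ht).2
  have h2 := ha _ h1
  simp only [Perm.mul_apply] at h2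
  rw [Perm.inv_eq_iff_eq] at h2
  exact h2

theorem swap_or {Ω : Type} [Fintype Ω] [DecidableEq Ω] {T : Finset (Perm Ω)} (hT : Pairing T)
    {t₀ : Perm Ω} (ht₀ : t₀ ∈ T) {g : Perm Ω} (hg : g * t₀ * g⁻¹ = t₀) {a : Ω} (ha : t₀ a ≠ a) :
    (g a = a ∧ g (t₀ a) = t₀ a) ∨ (g a = t₀ a ∧ g (t₀ a) = a) := by
  have e1 := swap_of_isSwap (hT.sw t₀ ht₀) ha
  rw [e1] at hg
  exact conj_swap_fix (Ne.symm ha) hg

theorem supp_swap {Ω : Type} [Fintype Ω] [DecidableEq Ω] {T : Finset (Perm Ω)} (hT : Pairing T)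
    {t₀ : Perm Ω} (ht₀ : t₀ ∈ T) {a b : Ω} (ha : t₀ a ≠ a) (hb : t₀ b ≠ b) :
    b = a ∨ b = t₀ a := by
  have e1 := swap_of_isSwap (hT.sw t₀ ht₀) ha
  by_contra h
  push Not at h
  apply hb
  rw [e1]
  exact swap_apply_of_ne_of_ne h.1 h.2

theorem swap_swap {Ω : Type} [Fintype Ω] [DecidableEq Ω] {T : Finset (Perm Ω)} (hT : Pairing T)
    {t₀ : Perm Ω} (ht₀ : t₀ ∈ T) (a : Ω) : t₀ (t₀ a) = a := by
  obtain ⟨x, y, hxy, rfl⟩ := hT.sw t₀ ht₀
  exact swap_apply_self x y a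

theorem decomp_of_partition {Ω : Type} [Fintype Ω] [DecidableEq Ω] (P : Subgroup (Perm Ω))
    {T : Finset (Perm Ω)} (hmemT : ∀ t, t ∈ T ↔ t ∈ P ∧ t.IsSwap) (hT : Pairing T)
    (hPT : P ≤ stabT T)
    (hB : ∀ (Y : Finset Ω), (∀ g ∈ P, ∀ a, g a ∈ Y ↔ a ∈ Y) → ∀ g ∈ P,
      ∃ y ∈ P, (∀ a ∈ Y, y a = g a) ∧ (∀ a, a ∉ Y → y a = a))
    {t₀ : Perm Ω} (ht₀ : t₀ ∈ T) {Y Z : Finset (Perm Ω)}
    (hfix : ∀ g ∈ P, g * t₀ * g⁻¹ = t₀) (hYT : Y ⊆ T) (hZT : Z ⊆ T) (h0Y : t₀ ∉ Y)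
    (h0Z : t₀ ∉ Z) (hYZ : ∀ t ∈ Y, t ∉ Z) (hcov : ∀ t ∈ T, t = t₀ ∨ t ∈ Y ∨ t ∈ Z)
    (hYinv : ∀ g ∈ P, ∀ t ∈ Y, g * t * g⁻¹ ∈ Y) (hZinv : ∀ g ∈ P, ∀ t ∈ Z, g * t * g⁻¹ ∈ Z)
    (hYne : Y.Nonempty) (hZne : Z.Nonempty) :
    ∃ R₁ R₂ : Subgroup (Perm Ω), R₁ ≠ ⊥ ∧ R₂ ≠ ⊥ ∧
      Cfsg.IsInternalDirectProduct R₁ R₂ (P ⊓ alternatingGroup Ω) := by
  classical
  have hYZ' : ∀ a, mv Y a → ¬ mv Z a := by
    rintro a ⟨t, ht, hta⟩ ⟨s, hs, hsa⟩
    have h := hT.disj t (hYT ht) s (hZT hs) a hta hsa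
    exact hYZ t ht (h ▸ hs)
  have hY0 : ∀ a, mv Y a → t₀ a = a := by
    rintro a ⟨t, ht, hta⟩
    by_contra h
    have h2 := hT.disj t (hYT ht) t₀ ht₀ a hta h
    exact h0Y (h2 ▸ ht)
  have hZ0 : ∀ a, mv Z a → t₀ a = a := by
    rintro a ⟨t, ht, hta⟩
    by_contra h
    have h2 := hT.disj t (hZT ht) t₀ ht₀ a hta h
    exact h0Z (h2 ▸ ht)
  have hcases : ∀ a, (∀ t ∈ T, t a = a) ∨ mv Y a ∨ mv Z a ∨ t₀ a ≠ a := by
    intro a
    by_cases h : ∀ t ∈ T, t a = a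
    · exact Or.inl h
    · push Not at h
      obtain ⟨t, ht, hta⟩ := h
      rcases hcov t ht with rfl | h | h
      · exact Or.inr (Or.inr (Or.inr hta))
      · exact Or.inr (Or.inl ⟨t, h, hta⟩)
      · exact Or.inr (Or.inr (Or.inl ⟨t, h, hta⟩))
  have ht₀P : t₀ ∈ P := ((hmemT t₀).1 ht₀).1
  have ht₀sw : t₀.IsSwap := hT.sw t₀ ht₀
  have ht₀sq : t₀ * t₀ = 1 := by
    obtain ⟨x, y, hxy, rfl⟩ := ht₀sw
    exact swap_mul_self x y
  have ht₀sign : Perm.sign t₀ = -1 := ht₀sw.sign_eq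
  have hunit : (-1 : ℤˣ) * -1 = 1 := by decide
  have hunit' : (-1 : ℤˣ) ≠ 1 := by decide
  obtain ⟨R₁, hR₁⟩ : ∃ R : Subgroup (Perm Ω),
      R = P ⊓ alternatingGroup Ω ⊓ fixingSubgroup (Perm Ω) {a | mv Z a} := ⟨_, rfl⟩
  obtain ⟨R₂, hR₂⟩ : ∃ R : Subgroup (Perm Ω),
      R = P ⊓ alternatingGroup Ω ⊓ fixingSubgroup (Perm Ω) {a | mv Y a} := ⟨_, rfl⟩
  have hmem₁ : ∀ g, g ∈ R₁ ↔ g ∈ P ∧ Perm.sign g = 1 ∧ ∀ a, mv Z a → g a = a := by
    intro g
    rw [hR₁, Subgroup.mem_inf, Subgroup.mem_inf, Perm.mem_alternatingGroup, mem_fixingSubgroup_iff]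
    constructor
    · rintro ⟨⟨h1, h2⟩, h3⟩; exact ⟨h1, h2, fun a ha => h3 a ha⟩
    · rintro ⟨h1, h2, h3⟩; exact ⟨⟨h1, h2⟩, fun a ha => h3 a ha⟩
  have hmem₂ : ∀ g, g ∈ R₂ ↔ g ∈ P ∧ Perm.sign g = 1 ∧ ∀ a, mv Y a → g a = a := by
    intro g
    rw [hR₂, Subgroup.mem_inf, Subgroup.mem_inf, Perm.mem_alternatingGroup, mem_fixingSubgroup_iff]
    constructor
    · rintro ⟨⟨h1, h2⟩, h3⟩; exact ⟨h1, h2, fun a ha => h3 a ha⟩
    · rintro ⟨h1, h2, h3⟩; exact ⟨⟨h1, h2⟩, fun a ha => h3 a ha⟩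
  have hle₁ : R₁ ≤ P ⊓ alternatingGroup Ω := by rw [hR₁]; exact inf_le_left
  have hle₂ : R₂ ≤ P ⊓ alternatingGroup Ω := by rw [hR₂]; exact inf_le_left
  -- products `t * t₀`
  have hprod₁ : ∀ t ∈ Y, t * t₀ ∈ R₁ := by
    intro t ht
    refine (hmem₁ _).2 ⟨P.mul_mem ((hmemT t).1 (hYT ht)).1 ht₀P, ?_, ?_⟩
    · rw [map_mul, (hT.sw t (hYT ht)).sign_eq, ht₀sign]; exact hunit
    · intro a ha
      rw [Perm.mul_apply, hZ0 a ha]
      by_contra h
      exact hYZ' a ⟨t, ht, h⟩ ha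
  have hprod₂ : ∀ t ∈ Z, t * t₀ ∈ R₂ := by
    intro t ht
    refine (hmem₂ _).2 ⟨P.mul_mem ((hmemT t).1 (hZT ht)).1 ht₀P, ?_, ?_⟩
    · rw [map_mul, (hT.sw t (hZT ht)).sign_eq, ht₀sign]; exact hunit
    · intro a ha
      rw [Perm.mul_apply, hY0 a ha]
      by_contra h
      exact hYZ' a ha ⟨t, ht, h⟩
  have hprod_ne : ∀ t : Perm Ω, t ≠ t₀ → t * t₀ ≠ 1 := by
    intro t ht h
    apply ht
    calc t = t * (t₀ * t₀) := by rw [ht₀sq, mul_one]
      _ = (t * t₀) * t₀ := by rw [mul_assoc]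
      _ = t₀ := by rw [h, one_mul]
  refine ⟨R₁, R₂, ?_, ?_, hle₁, hle₂, ?_, ?_, ?_⟩
  · obtain ⟨t, ht⟩ := hYne
    intro h
    have h2 := hprod₁ t ht
    rw [h, Subgroup.mem_bot] at h2
    exact hprod_ne t (fun e => h0Y (e ▸ ht)) h2
  · obtain ⟨t, ht⟩ := hZne
    intro h
    have h2 := hprod₂ t ht
    rw [h, Subgroup.mem_bot] at h2
    exact hprod_ne t (fun e => h0Z (e ▸ ht)) h2
  · -- commute
    intro g₁ hg₁ g₂ hg₂
    obtain ⟨hP₁, hs₁, hf₁⟩ := (hmem₁ g₁).1 hg₁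
    obtain ⟨hP₂, hs₂, hf₂⟩ := (hmem₂ g₂).1 hg₂
    ext a
    rw [Perm.mul_apply, Perm.mul_apply]
    rcases hcases a with h | h | h | h
    · rw [fix_uncovered P hT hPT hP₂ h, fix_uncovered P hT hPT hP₁ h,
        fix_uncovered P hT hPT hP₂ h]
    · rw [hf₂ a h, hf₂ (g₁ a) ((mv_conj P hYinv hP₁ a).2 h)]
    · rw [hf₁ a h, hf₁ (g₂ a) ((mv_conj P hZinv hP₂ a).2 h)]
    · rcases swap_or hT ht₀ (hfix g₁ hP₁) h with ⟨h1, h1'⟩ | ⟨h1, h1'⟩ <;>
        rcases swap_or hT ht₀ (hfix g₂ hP₂) h with ⟨h2, h2'⟩ | ⟨h2, h2'⟩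
      · rw [h2, h1, h2]
      · rw [h2, h1', h1, h2]
      · rw [h2, h1, h2']
      · rw [h2, h1', h1, h2']
  · -- trivial intersection
    rw [eq_bot_iff]
    intro g hg
    obtain ⟨hg1, hg2⟩ := Subgroup.mem_inf.1 hg
    obtain ⟨hP₁, hs₁, hf₁⟩ := (hmem₁ g).1 hg1
    obtain ⟨_, _, hf₂⟩ := (hmem₂ g).1 hg2
    rw [Subgroup.mem_bot]
    by_cases h : ∃ a, t₀ a ≠ a ∧ g a ≠ a
    · exfalso
      obtain ⟨a, ha, hga⟩ := h
      rcases swap_or hT ht₀ (hfix g hP₁) ha with ⟨h1, _⟩ | ⟨h1, h1'⟩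
      · exact hga h1
      · have hgt : g = t₀ := by
          ext b
          rcases hcases b with hb | hb | hb | hb
          · rw [fix_uncovered P hT hPT hP₁ hb, hb t₀ ht₀]
          · rw [hf₂ b hb, hY0 b hb]
          · rw [hf₁ b hb, hZ0 b hb]
          · rcases supp_swap hT ht₀ ha hb with hba | hba
            · rw [hba]; exact h1
            · rw [hba, h1', swap_swap hT ht₀]
        rw [hgt, ht₀sign] at hs₁
        exact hunit' hs₁
    · push Not at h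
      ext b
      rw [Perm.one_apply]
      rcases hcases b with hb | hb | hb | hb
      · exact fix_uncovered P hT hPT hP₁ hb
      · exact hf₂ b hb
      · exact hf₁ b hb
      · exact h b hb
  · -- the join
    apply le_antisymm (sup_le hle₁ hle₂)
    intro g hg
    obtain ⟨hgP, hgA⟩ := Subgroup.mem_inf.1 hg
    rw [Perm.mem_alternatingGroup] at hgA
    have hYp : ∀ k ∈ P, ∀ a, k a ∈ Finset.univ.filter (fun a => mv Y a) ↔
        a ∈ Finset.univ.filter (fun a => mv Y a) := by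
      intro k hk a
      simp only [Finset.mem_filter, Finset.mem_univ, true_and]
      exact mv_conj P hYinv hk a
    have hZp : ∀ k ∈ P, ∀ a, k a ∈ Finset.univ.filter (fun a => mv Z a) ↔
        a ∈ Finset.univ.filter (fun a => mv Z a) := by
      intro k hk a
      simp only [Finset.mem_filter, Finset.mem_univ, true_and]
      exact mv_conj P hZinv hk a
    obtain ⟨y, hyP, hyY, hyY'⟩ := hB _ hYp g hgP
    obtain ⟨z, hzP, hzZ, hzZ'⟩ := hB _ hZp g hgP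
    have hyfix : ∀ a, ¬ mv Y a → y a = a := fun a h =>
      hyY' a (fun h' => h (by simpa using h'))
    have hzfix : ∀ a, ¬ mv Z a → z a = a := fun a h =>
      hzZ' a (fun h' => h (by simpa using h'))
    have hyact : ∀ a, mv Y a → y a = g a := fun a h => hyY a (by simpa using h)
    have hzact : ∀ a, mv Z a → z a = g a := fun a h => hzZ a (by simpa using h)
    have hw : ∀ a, t₀ a = a → (y * z) a = g a := by
      intro a ha
      rw [Perm.mul_apply]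
      rcases hcases a with h | h | h | h
      · rw [fix_uncovered P hT hPT hzP h, fix_uncovered P hT hPT hyP h,
          fix_uncovered P hT hPT hgP h]
      · rw [hzfix a (hYZ' a h), hyact a h]
      · rw [hzact a h, hyfix (g a) (fun h' => hYZ' _ h' ((mv_conj P hZinv hgP a).2 h))]
      · exact absurd ha h
    obtain ⟨a₀, ha₀⟩ : ∃ a, t₀ a ≠ a := by
      obtain ⟨x, y', hxy, rfl⟩ := ht₀sw
      exact ⟨x, by rw [swap_apply_left]; exact hxy.symm⟩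
    have hwP : y * z ∈ P := P.mul_mem hyP hzP
    have hg_eq : g = y * z ∨ g = y * z * t₀ := by
      rcases swap_or hT ht₀ (hfix g hgP) ha₀ with ⟨g1, g2⟩ | ⟨g1, g2⟩ <;>
        rcases swap_or hT ht₀ (hfix (y * z) hwP) ha₀ with ⟨w1, w2⟩ | ⟨w1, w2⟩
      · left
        ext b
        by_cases hb : t₀ b = b
        · exact (hw b hb).symm
        · rcases supp_swap hT ht₀ ha₀ hb with hba | hba
          · rw [hba, g1, w1]
          · rw [hba, g2, w2]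
      · right
        ext b
        rw [Perm.mul_apply]
        by_cases hb : t₀ b = b
        · rw [hb]; exact (hw b hb).symm
        · rcases supp_swap hT ht₀ ha₀ hb with hba | hba
          · rw [hba, g1, w2]
          · rw [hba, swap_swap hT ht₀, g2, w1]
      · right
        ext b
        rw [Perm.mul_apply]
        by_cases hb : t₀ b = b
        · rw [hb]; exact (hw b hb).symm
        · rcases supp_swap hT ht₀ ha₀ hb with hba | hba
          · rw [hba, g1, w2]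
          · rw [hba, swap_swap hT ht₀, g2, w1]
      · left
        ext b
        by_cases hb : t₀ b = b
        · exact (hw b hb).symm
        · rcases supp_swap hT ht₀ ha₀ hb with hba | hba
          · rw [hba, g1, w1]
          · rw [hba, g2, w2]
    have hy₁ : ∀ a, mv Z a → y a = a := fun a h => hyfix a (fun h' => hYZ' a h' h)
    have hz₂ : ∀ a, mv Y a → z a = a := fun a h => hzfix a (hYZ' a h)
    have hyt₁ : y * t₀ ∈ P ∧ ∀ a, mv Z a → (y * t₀) a = a :=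
      ⟨P.mul_mem hyP ht₀P, fun a h => by rw [Perm.mul_apply, hZ0 a h, hy₁ a h]⟩
    have htz₂ : t₀ * z ∈ P ∧ ∀ a, mv Y a → (t₀ * z) a = a :=
      ⟨P.mul_mem ht₀P hzP, fun a h => by rw [Perm.mul_apply, hz₂ a h, hY0 a h]⟩
    have hzt₂ : z * t₀ ∈ P ∧ ∀ a, mv Y a → (z * t₀) a = a :=
      ⟨P.mul_mem hzP ht₀P, fun a h => by rw [Perm.mul_apply, hY0 a h, hz₂ a h]⟩
    have hsy := Int.units_eq_one_or (Perm.sign y)
    have hsz := Int.units_eq_one_or (Perm.sign z)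
    rcases hg_eq with hgw | hgw
    · have hs : Perm.sign y * Perm.sign z = 1 := by rw [← map_mul, ← hgw]; exact hgA
      rcases hsy with hy1 | hy1
      · have hz1 : Perm.sign z = 1 := by rw [hy1, one_mul] at hs; exact hs
        rw [hgw]
        exact Subgroup.mul_mem_sup ((hmem₁ y).2 ⟨hyP, hy1, hy₁⟩) ((hmem₂ z).2 ⟨hzP, hz1, hz₂⟩)
      · have hz1 : Perm.sign z = -1 := by
          rcases hsz with h | h
          · rw [hy1, h, mul_one] at hs; exact absurd hs hunit'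
          · exact h
        have hgg : g = (y * t₀) * (t₀ * z) := by
          rw [hgw]
          calc y * z = y * (t₀ * t₀) * z := by rw [ht₀sq, mul_one]
            _ = (y * t₀) * (t₀ * z) := by group
        rw [hgg]
        exact Subgroup.mul_mem_sup
          ((hmem₁ _).2 ⟨hyt₁.1, by rw [map_mul, hy1, ht₀sign]; exact hunit, hyt₁.2⟩)
          ((hmem₂ _).2 ⟨htz₂.1, by rw [map_mul, hz1, ht₀sign]; exact hunit, htz₂.2⟩)
    · have hs : Perm.sign y * Perm.sign z * (-1) = 1 := by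
        rw [← ht₀sign, ← map_mul, ← map_mul, ← hgw]; exact hgA
      have hzt : z * t₀ = t₀ * z := by
        have h := hfix z hzP
        calc z * t₀ = (z * t₀ * z⁻¹) * z := by group
          _ = t₀ * z := by rw [h]
      rcases hsy with hy1 | hy1
      · have hz1 : Perm.sign z = -1 := by
          rcases hsz with h | h
          · rw [hy1, h, one_mul, one_mul] at hs; exact absurd hs hunit'
          · exact h
        have hgg : g = y * (z * t₀) := by rw [hgw, mul_assoc]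
        rw [hgg]
        exact Subgroup.mul_mem_sup ((hmem₁ y).2 ⟨hyP, hy1, hy₁⟩)
          ((hmem₂ _).2 ⟨hzt₂.1, by rw [map_mul, hz1, ht₀sign]; exact hunit, hzt₂.2⟩)
      · have hz1 : Perm.sign z = 1 := by
          rcases hsz with h | h
          · exact h
          · rw [hy1, h, hunit, one_mul] at hs; exact absurd hs hunit'
        have hgg : g = (y * t₀) * z := by rw [hgw, mul_assoc, hzt, ← mul_assoc]
        rw [hgg]
        exact Subgroup.mul_mem_sup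
          ((hmem₁ _).2 ⟨hyt₁.1, by rw [map_mul, hy1, ht₀sign]; exact hunit, hyt₁.2⟩)
          ((hmem₂ z).2 ⟨hzP, hz1, hz₂⟩)

/-- Piece D with piece B (`restrict_mem`) as a hypothesis. -/
theorem decomp_of_mod_of {Ω : Type} [Fintype Ω] [DecidableEq Ω] (P : Subgroup (Perm Ω))
    (hP2 : IsPGroup 2 P)
    (hcard : Nat.card P = 2 ^ ((Fintype.card Ω).factorial.factorization 2))
    (hB : ∀ (Y : Finset Ω), (∀ g ∈ P, ∀ a, g a ∈ Y ↔ a ∈ Y) → ∀ g ∈ P,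
      ∃ y ∈ P, (∀ a ∈ Y, y a = g a) ∧ (∀ a, a ∉ Y → y a = a))
    (hmod : Fintype.card Ω % 4 = 2 ∨ Fintype.card Ω % 4 = 3)
    (hnp : ∀ r : ℕ, 4 * (Fintype.card Ω / 4) ≠ 2 ^ r) (h4 : 4 ≤ Fintype.card Ω) :
    ∃ R₁ R₂ : Subgroup (Perm Ω), R₁ ≠ ⊥ ∧ R₂ ≠ ⊥ ∧
      Cfsg.IsInternalDirectProduct R₁ R₂ (P ⊓ alternatingGroup Ω) := by
  obtain ⟨T, hmemT, hT, hPT⟩ := exists_swap_pairing P hP2 hcard
  have hTc := hT.card
  have hodd : Odd T.card := by
    rw [hTc, Nat.odd_iff]; omega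
  have h1 : 1 < T.card := by
    rw [hTc]; omega
  have hnp' : ∀ j : ℕ, T.card ≠ 2 ^ j + 1 := by
    intro j hj
    apply hnp (j + 1)
    rw [hTc] at hj
    rw [pow_succ]
    omega
  obtain ⟨t₀, ht₀, Y, Z, hfix, hYT, hZT, h0Y, h0Z, hYZ, hcov, hYinv, hZinv, hYne, hZne⟩ :=
    exists_partition P hP2 T hPT hodd h1 hnp'
  exact decomp_of_partition P hmemT hT hPT hB ht₀ hfix hYT hZT h0Y h0Z hYZ hcov hYinv hZinv
    hYne hZne

/-- S2221 PIECE D (with the extra hypothesis `4 ≤ |Ω|`; the statement is false for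
`|Ω| = 2, 3`). -/
theorem decomp_of_mod {Ω : Type} [Fintype Ω] [DecidableEq Ω] (P : Subgroup (Perm Ω))
    (hP2 : IsPGroup 2 P)
    (hcard : Nat.card P = 2 ^ ((Fintype.card Ω).factorial.factorization 2))
    (hmod : Fintype.card Ω % 4 = 2 ∨ Fintype.card Ω % 4 = 3)
    (hnp : ∀ r : ℕ, 4 * (Fintype.card Ω / 4) ≠ 2 ^ r) (h4 : 4 ≤ Fintype.card Ω) :
    ∃ R₁ R₂ : Subgroup (Perm Ω), R₁ ≠ ⊥ ∧ R₂ ≠ ⊥ ∧
      Cfsg.IsInternalDirectProduct R₁ R₂ (P ⊓ alternatingGroup Ω) :=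
  decomp_of_mod_of P hP2 hcard
    (fun Y hY g hg => Cfsg.Agent.Lib.helper72.SylAlt.restrict_mem P hP2 hcard Y hY g hg)
    hmod hnp h4

end Cfsg.Agent.Lib.helper29.SylAlt
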