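import Mathlib
import Cfsg.Prelude.Def_OddOrderLocal

/-!
# S1383 piece X4 (helper29): a non-abelian group of order `p ^ 3` has exactly `p + 1` subgroups
of order `p ^ 2` containing its centre
-/

set_option autoImplicit false

namespace Cfsg.Agent.Lib.helper29.TV

open Cfsg Subgroup

variable {G : Type*} [Group G]

/-- if `Z(P) ⟨x⟩ = P` then `x` is central in `P`. -/
theorem x4_key (P : Subgroup G) (x : G) (hx : x ∈ P)
    (h : (P ⊓ centralizer (P : Set G)) ⊔ zpowers x = P) : x ∈ P ⊓ centralizer (P : Set G) := by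
  refine Subgroup.mem_inf.mpr ⟨hx, ?_⟩
  rw [mem_centralizer_iff]
  intro y hy
  have hle : (P ⊓ centralizer (P : Set G)) ⊔ zpowers x ≤ centralizer ({x} : Set G) := by
    apply sup_le
    · intro z hz
      rw [mem_centralizer_singleton_iff]
      exact (mem_centralizer_iff.mp hz.2 x hx).symm
    · rw [zpowers_le, mem_centralizer_singleton_iff]
  have hy' : y ∈ centralizer ({x} : Set G) := hle (by rw [h]; exact hy)
  exact mem_centralizer_singleton_iff.mp hy'

theorem x4_card_pow [Finite G] (p : ℕ) [Fact p.Prime] (P A : Subgroup G)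
    (hP : Nat.card P = p ^ 3) (hAP : A ≤ P) : ∃ k, k ≤ 3 ∧ Nat.card A = p ^ k := by
  have hp : p.Prime := Fact.out
  have h1 : Nat.card A ∣ p ^ 3 := hP ▸ Subgroup.card_dvd_of_le hAP
  exact (Nat.dvd_prime_pow hp).1 h1

theorem x4_lt [Finite G] (Z A : Subgroup G) (h : Z ≤ A) (hne : Z ≠ A) :
    Nat.card Z < Nat.card A := by
  by_contra hh
  exact hne (Subgroup.eq_of_le_of_card_ge h (not_lt.mp hh))

/-- the centre of a non-abelian group of order `p ^ 3` has order `p`. -/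
theorem x4_card_center [Finite G] (p : ℕ) [Fact p.Prime] (P : Subgroup G)
    (hP : Nat.card P = p ^ 3) (hPna : ¬ IsMulCommutative ↥P) :
    Nat.card ↥(P ⊓ centralizer (P : Set G)) = p := by
  have hp : p.Prime := Fact.out
  obtain ⟨Z, hZ⟩ : ∃ Z, Z = P ⊓ centralizer (P : Set G) := ⟨_, rfl⟩
  rw [← hZ]
  have hZP : Z ≤ P := hZ ▸ inf_le_left
  -- `Z ≠ P`
  have hZneP : Z ≠ P := by
    intro h
    apply hPna
    refine ⟨⟨?_⟩⟩
    rintro ⟨a, ha⟩ ⟨b, hb⟩
    apply Subtype.ext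
    have hb' : b ∈ P ⊓ centralizer (P : Set G) := by rw [← hZ, h]; exact hb
    exact (mem_centralizer_iff.mp hb'.2 a ha)
  -- `Z ≠ ⊥`
  have hZne : Z ≠ ⊥ := by
    haveI : Nontrivial ↥P := by
      rw [← Finite.one_lt_card_iff_nontrivial, hP]
      exact Nat.one_lt_pow (by norm_num) hp.one_lt
    have hPp : IsPGroup p ↥P := IsPGroup.of_card hP
    haveI := hPp.center_nontrivial
    obtain ⟨z, hz⟩ := exists_ne (1 : Subgroup.center ↥P)
    intro h
    apply hz
    have hzZ : ((z : ↥P) : G) ∈ Z := by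
      rw [hZ]
      refine Subgroup.mem_inf.mpr ⟨(z : ↥P).2, ?_⟩
      rw [mem_centralizer_iff]
      intro y hy
      have := (Subgroup.mem_center_iff.mp z.2) ⟨y, hy⟩
      exact congrArg Subtype.val this
    rw [h, mem_bot] at hzZ
    apply Subtype.ext
    apply Subtype.ext
    exact hzZ
  obtain ⟨k, hk3, hk⟩ := x4_card_pow p P Z hP hZP
  have hlt : Nat.card Z < Nat.card P := x4_lt Z P hZP hZneP
  have hk0 : k ≠ 0 := by
    intro h0
    rw [h0, pow_zero] at hk
    exact hZne (Subgroup.card_eq_one.mp hk)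
  have hk3' : k ≠ 3 := by
    intro h3
    rw [hk, hP, h3] at hlt
    exact lt_irrefl _ hlt
  have hk2 : k ≠ 2 := by
    intro h2
    rw [h2] at hk
    -- pick `x ∈ P ∖ Z`
    obtain ⟨x, hxP, hxZ⟩ : ∃ x, x ∈ P ∧ x ∉ Z := by
      by_contra hh
      apply hZneP
      apply le_antisymm hZP
      intro x hx
      by_contra hxZ
      exact hh ⟨x, hx, hxZ⟩
    have hle : Z ⊔ zpowers x ≤ P := sup_le hZP (by rw [zpowers_le]; exact hxP)
    have hne : Z ≠ Z ⊔ zpowers x := by
      intro h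
      apply hxZ
      rw [h]
      exact (le_sup_right : zpowers x ≤ Z ⊔ zpowers x) (mem_zpowers x)
    have hlt2 := x4_lt Z (Z ⊔ zpowers x) le_sup_left hne
    obtain ⟨j, hj3, hj⟩ := x4_card_pow p P (Z ⊔ zpowers x) hP hle
    rw [hk, hj] at hlt2
    have hj2 : 2 < j := (Nat.pow_lt_pow_iff_right hp.one_lt).mp hlt2
    have hj3' : j = 3 := le_antisymm hj3 hj2
    rw [hj3'] at hj
    have hEq : Z ⊔ zpowers x = P :=
      Subgroup.eq_of_le_of_card_ge hle (by rw [hj, hP])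
    rw [hZ] at hEq
    apply hxZ
    rw [hZ]
    exact x4_key P x hxP hEq
  have hk1 : k = 1 := by omega
  rw [hk, hk1, pow_one]

/-- **X4** (pure). A non-abelian group of order `p ^ 3` has exactly `p + 1` subgroups of order
`p ^ 2` containing its centre. -/
theorem p3_count [Finite G] (p : ℕ) [Fact p.Prime] (P : Subgroup G) (hP : Nat.card P = p ^ 3)
    (hPna : ¬ IsMulCommutative ↥P) :
    Nat.card {A : Subgroup G // P ⊓ centralizer (P : Set G) ≤ A ∧ A ≤ P ∧ Nat.card A = p ^ 2} =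
      p + 1 := by
  classical
  have hp : p.Prime := Fact.out
  have hZc := x4_card_center p P hP hPna
  obtain ⟨Z, hZ⟩ : ∃ Z, Z = P ⊓ centralizer (P : Set G) := ⟨_, rfl⟩
  rw [← hZ] at hZc ⊢
  have hZP : Z ≤ P := hZ ▸ inf_le_left
  -- the subgroup generated by `Z` and `x ∈ P ∖ Z` has order `p ^ 2`
  have hgen : ∀ x, x ∈ P → x ∉ Z → Nat.card ↥(Z ⊔ zpowers x) = p ^ 2 := by
    intro x hxP hxZ
    have hle : Z ⊔ zpowers x ≤ P := sup_le hZP (by rw [zpowers_le]; exact hxP)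
    have hne : Z ≠ Z ⊔ zpowers x := by
      intro h
      apply hxZ
      rw [h]
      exact (le_sup_right : zpowers x ≤ Z ⊔ zpowers x) (mem_zpowers x)
    have hlt2 := x4_lt Z (Z ⊔ zpowers x) le_sup_left hne
    obtain ⟨j, hj3, hj⟩ := x4_card_pow p P (Z ⊔ zpowers x) hP hle
    have hneP : Z ⊔ zpowers x ≠ P := by
      intro hEq
      apply hxZ
      rw [hZ] at hEq ⊢
      exact x4_key P x hxP hEq
    have hlt3 := x4_lt (Z ⊔ zpowers x) P hle hneP
    rw [hZc, hj] at hlt2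
    rw [hj, hP] at hlt3
    have h1 : 1 < j := by
      have : p ^ 1 < p ^ j := by rw [pow_one]; exact hlt2
      exact (Nat.pow_lt_pow_iff_right hp.one_lt).mp this
    have h3 : j < 3 := (Nat.pow_lt_pow_iff_right hp.one_lt).mp hlt3
    have : j = 2 := by omega
    rw [hj, this]
  -- the index type and the fibres
  haveI : Fintype {A : Subgroup G // Z ≤ A ∧ A ≤ P ∧ Nat.card A = p ^ 2} := Fintype.ofFinite _
  have e : {x : G // x ∈ P ∧ x ∉ Z} ≃
      (Σ A : {A : Subgroup G // Z ≤ A ∧ A ≤ P ∧ Nat.card A = p ^ 2},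
        {x : G // x ∈ A.1 ∧ x ∉ Z}) :=
    { toFun := fun x => ⟨⟨Z ⊔ zpowers x.1, le_sup_left,
          sup_le hZP (by rw [zpowers_le]; exact x.2.1), hgen x.1 x.2.1 x.2.2⟩,
        ⟨x.1, (le_sup_right : zpowers x.1 ≤ Z ⊔ zpowers x.1) (mem_zpowers x.1), x.2.2⟩⟩
      invFun := fun y => ⟨y.2.1, y.1.2.2.1 y.2.2.1, y.2.2.2⟩
      left_inv := fun x => rfl
      right_inv := by
        rintro ⟨⟨A, hZA, hAP, hA⟩, ⟨x, hxA, hxZ⟩⟩
        have hEq : Z ⊔ zpowers x = A := by
          apply Subgroup.eq_of_le_of_card_ge (sup_le hZA (by rw [zpowers_le]; exact hxA))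
          rw [hgen x (hAP hxA) hxZ, hA]
        subst hEq
        rfl }
  have hfib : ∀ A : {A : Subgroup G // Z ≤ A ∧ A ≤ P ∧ Nat.card A = p ^ 2},
      Nat.card {x : G // x ∈ A.1 ∧ x ∉ Z} = p ^ 2 - p := by
    rintro ⟨A, hZA, hAP, hA⟩
    have h1 : Nat.card {x : G // x ∈ A ∧ x ∉ Z} = ((A : Set G) \ (Z : Set G)).ncard := by
      rw [← Nat.card_coe_set_eq]
      rfl
    rw [h1, Set.ncard_sdiff (by exact hZA) (Set.toFinite _)]
    have h2 : (A : Set G).ncard = p ^ 2 := by rw [← Nat.card_coe_set_eq]; exact hA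
    have h3 : (Z : Set G).ncard = p := by rw [← Nat.card_coe_set_eq]; exact hZc
    rw [h2, h3]
  have htot : Nat.card {x : G // x ∈ P ∧ x ∉ Z} = p ^ 3 - p := by
    have h1 : Nat.card {x : G // x ∈ P ∧ x ∉ Z} = ((P : Set G) \ (Z : Set G)).ncard := by
      rw [← Nat.card_coe_set_eq]
      rfl
    rw [h1, Set.ncard_sdiff (by exact hZP) (Set.toFinite _)]
    have h2 : (P : Set G).ncard = p ^ 3 := by rw [← Nat.card_coe_set_eq]; exact hP
    have h3 : (Z : Set G).ncard = p := by rw [← Nat.card_coe_set_eq]; exact hZc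
    rw [h2, h3]
  have hcount := Nat.card_congr e
  rw [htot, Nat.card_sigma] at hcount
  simp only [hfib, Finset.sum_const, Finset.card_univ, smul_eq_mul] at hcount
  rw [← Nat.card_eq_fintype_card] at hcount
  -- arithmetic
  obtain ⟨q, rfl⟩ : ∃ q, p = q + 2 := ⟨p - 2, by have := hp.two_le; omega⟩
  have e1 : (q + 2) ^ 3 - (q + 2) = (q + 2 + 1) * ((q + 2) ^ 2 - (q + 2)) := by
    have a1 : (q + 2) ^ 2 - (q + 2) = (q + 2) * (q + 1) := by
      apply Nat.sub_eq_of_eq_add; ring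
    have a2 : (q + 2) ^ 3 - (q + 2) = (q + 2 + 1) * ((q + 2) * (q + 1)) := by
      apply Nat.sub_eq_of_eq_add; ring
    rw [a1, a2]
  have hpos : 0 < (q + 2) ^ 2 - (q + 2) := by
    have a1 : (q + 2) ^ 2 - (q + 2) = (q + 2) * (q + 1) := by
      apply Nat.sub_eq_of_eq_add; ring
    rw [a1]; positivity
  rw [e1] at hcount
  exact (Nat.eq_of_mul_eq_mul_right hpos hcount).symm

end Cfsg.Agent.Lib.helper29.TV
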