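import Mathlib
import Cfsg.Prelude.Def_OddOrderLocal
import Cfsg.Agent.Lib.helper6.TV_X1
import Cfsg.Agent.Lib.helper29.TV_X4

/-!
# S1383 piece X3 (helper29): in a non-abelian group `P` of order `p ^ 3`, an `h`-invariant
subgroup `A` of order `p ^ 2` over the centre is normalized by every `g ∈ N(P)` commuting with `h`
(for `h` of odd `p'`-order centralizing `Z(P)` but not `P`)
-/

set_option autoImplicit false

namespace Cfsg.Agent.Lib.helper29.TV

open Cfsg Subgroup

variable {G : Type*} [Group G]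

/-- products in the join of two elementwise commuting subgroups. -/
theorem x3_mem_sup {A B : Subgroup G} (hc : ∀ a ∈ A, ∀ b ∈ B, a * b = b * a) {z : G}
    (hz : z ∈ A ⊔ B) : ∃ a ∈ A, ∃ b ∈ B, z = a * b := by
  rw [Subgroup.sup_eq_closure_mul] at hz
  induction hz using Subgroup.closure_induction with
  | mem x hx =>
    obtain ⟨a, ha, b, hb, rfl⟩ := Set.mem_mul.mp hx
    exact ⟨a, ha, b, hb, rfl⟩
  | one => exact ⟨1, A.one_mem, 1, B.one_mem, by simp⟩
  | mul x y _ _ hx hy =>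
    obtain ⟨a, ha, b, hb, rfl⟩ := hx
    obtain ⟨a', ha', b', hb', rfl⟩ := hy
    refine ⟨a * a', A.mul_mem ha ha', b * b', B.mul_mem hb hb', ?_⟩
    have h := hc a' ha' b hb
    calc a * b * (a' * b') = a * (b * a') * b' := by group
      _ = a * (a' * b) * b' := by rw [h]
      _ = a * a' * (b * b') := by group
  | inv x _ hx =>
    obtain ⟨a, ha, b, hb, rfl⟩ := hx
    refine ⟨a⁻¹, A.inv_mem ha, b⁻¹, B.inv_mem hb, ?_⟩
    have h := hc a⁻¹ (A.inv_mem ha) b⁻¹ (B.inv_mem hb)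
    rw [mul_inv_rev, h]

/-- `N(P)` normalizes `Z(P)`. -/
theorem x3_conj_center (P : Subgroup G) (g : G) (hg : g ∈ normalizer (P : Set G)) (z : G)
    (hz : z ∈ P ⊓ centralizer (P : Set G)) : g * z * g⁻¹ ∈ P ⊓ centralizer (P : Set G) := by
  obtain ⟨hzP, hzc⟩ := Subgroup.mem_inf.mp hz
  refine Subgroup.mem_inf.mpr ⟨(mem_normalizer_iff.mp hg z).mp hzP, ?_⟩
  rw [mem_centralizer_iff]
  intro y hy
  have hy' : g⁻¹ * y * g ∈ P := by
    apply (mem_normalizer_iff.mp hg (g⁻¹ * y * g)).mpr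
    have : g * (g⁻¹ * y * g) * g⁻¹ = y := by group
    rw [this]; exact hy
  have hcomm := mem_centralizer_iff.mp hzc (g⁻¹ * y * g) hy'
  calc y * (g * z * g⁻¹) = g * ((g⁻¹ * y * g) * z) * g⁻¹ := by group
    _ = g * (z * (g⁻¹ * y * g)) * g⁻¹ := by rw [hcomm]
    _ = g * z * g⁻¹ * y := by group

/-- in a finite group, `g A g⁻¹ ⊆ A` puts `g` in the normalizer. -/
theorem x3_mem_normalizer [Finite G] (A : Subgroup G) (g : G)
    (h : ∀ x ∈ A, g * x * g⁻¹ ∈ A) : g ∈ normalizer (A : Set G) := by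
  rw [mem_normalizer_iff]
  intro x
  refine ⟨h x, fun hx => ?_⟩
  have hinj : Function.Injective (fun y : A => (⟨g * y.1 * g⁻¹, h y.1 y.2⟩ : A)) := by
    intro y y' hyy
    have := congrArg Subtype.val hyy
    simp only at this
    apply Subtype.ext
    exact mul_left_cancel (mul_right_cancel this)
  obtain ⟨y, hy⟩ := (Finite.injective_iff_surjective.mp hinj) ⟨g * x * g⁻¹, hx⟩
  have := congrArg Subtype.val hy
  simp only at this
  have hyx : y.1 = x := mul_left_cancel (mul_right_cancel this)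
  rw [← hyx]; exact y.2

/-- `a b = c b a` with `c` commuting with `a` and `b`: `a ^ i b ^ j = c ^ (i j) b ^ j a ^ i`. -/
theorem x3_pow_comm (a b c : G) (hab : a * b = c * (b * a)) (hca : c * a = a * c)
    (hcb : c * b = b * c) (i j : ℕ) : a ^ i * b ^ j = c ^ (i * j) * (b ^ j * a ^ i) := by
  have h1 : ∀ i : ℕ, a ^ i * b = c ^ i * (b * a ^ i) := by
    intro i
    induction i with
    | zero => simp
    | succ i ih =>
      have hci : c ^ i * a = a * c ^ i := (Commute.pow_left (show Commute c a from hca) i).eq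
      calc a ^ (i + 1) * b = a * (a ^ i * b) := by rw [pow_succ']; group
        _ = a * (c ^ i * (b * a ^ i)) := by rw [ih]
        _ = (a * c ^ i) * b * a ^ i := by group
        _ = (c ^ i * a) * b * a ^ i := by rw [hci]
        _ = c ^ i * (a * b) * a ^ i := by group
        _ = c ^ i * (c * (b * a)) * a ^ i := by rw [hab]
        _ = c ^ (i + 1) * (b * a ^ (i + 1)) := by rw [pow_succ, pow_succ']; group
  induction j with
  | zero => simp
  | succ j ih =>
    have hcb' : c ^ i * b ^ j = b ^ j * c ^ i :=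
      (Commute.pow_pow (show Commute c b from hcb) i j).eq
    calc a ^ i * b ^ (j + 1) = (a ^ i * b ^ j) * b := by rw [pow_succ]; group
      _ = c ^ (i * j) * (b ^ j * a ^ i) * b := by rw [ih]
      _ = c ^ (i * j) * b ^ j * (a ^ i * b) := by group
      _ = c ^ (i * j) * b ^ j * (c ^ i * (b * a ^ i)) := by rw [h1 i]
      _ = c ^ (i * j) * (b ^ j * c ^ i) * (b * a ^ i) := by group
      _ = c ^ (i * j) * (c ^ i * b ^ j) * (b * a ^ i) := by rw [hcb']
      _ = c ^ (i * (j + 1)) * (b ^ (j + 1) * a ^ i) := by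
        rw [Nat.mul_succ, pow_add, pow_succ]; group

/-- stability: `k` of order prime to `p` centralizing `Z` (of order `p`) with
`k a k⁻¹ ∈ a Z` centralizes `a`. -/
theorem x3_chain [Finite G] (p : ℕ) [Fact p.Prime] (Z : Subgroup G) (hZc : Nat.card Z = p)
    (k a z' : G) (hk : (orderOf k).Coprime p) (hkZ : ∀ z ∈ Z, k * z = z * k) (hz' : z' ∈ Z)
    (h : k * a * k⁻¹ = a * z') : k * a = a * k := by
  have hpow : ∀ n : ℕ, k ^ n * a * (k ^ n)⁻¹ = a * z' ^ n := by
    intro n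
    induction n with
    | zero => simp
    | succ n ih =>
      have hzn : k * z' ^ n = z' ^ n * k := hkZ _ (Z.pow_mem hz' n)
      calc k ^ (n + 1) * a * (k ^ (n + 1))⁻¹ = k * (k ^ n * a * (k ^ n)⁻¹) * k⁻¹ := by
            rw [pow_succ']; group
        _ = k * (a * z' ^ n) * k⁻¹ := by rw [ih]
        _ = (k * a * k⁻¹) * (k * z' ^ n) * k⁻¹ := by group
        _ = (a * z') * (z' ^ n * k) * k⁻¹ := by rw [h, hzn]
        _ = a * z' ^ (n + 1) := by rw [pow_succ']; group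
  have h1 := hpow (orderOf k)
  rw [pow_orderOf_eq_one] at h1
  have h2 : z' ^ orderOf k = 1 := by
    have : a * 1 = a * z' ^ orderOf k := by rw [← h1]; group
    exact (mul_left_cancel this).symm
  have h3 : orderOf z' ∣ orderOf k := orderOf_dvd_of_pow_eq_one h2
  have h4 : orderOf z' ∣ p := hZc ▸ Subgroup.orderOf_dvd_natCard Z hz'
  have h5 : orderOf z' = 1 := Nat.eq_one_of_dvd_coprimes hk h3 h4
  have h6 : z' = 1 := orderOf_eq_one_iff.mp h5
  rw [h6, mul_one] at h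
  calc k * a = (k * a * k⁻¹) * k := by group
    _ = a * k := by rw [h]

/-- **X3** (pure). -/
theorem p3_eigen [Finite G] (p : ℕ) [Fact p.Prime] (P A : Subgroup G) (hP : Nat.card P = p ^ 3)
    (hPna : ¬ IsMulCommutative ↥P) (hZA : P ⊓ centralizer (P : Set G) ≤ A) (hAP : A ≤ P)
    (hA : Nat.card A = p ^ 2) (h g : G) (hhP : h ∈ normalizer (P : Set G))
    (hgP : g ∈ normalizer (P : Set G)) (hhA : h ∈ normalizer (A : Set G)) (hhg : h * g = g * h)
    (hhZ : ∀ z ∈ P ⊓ centralizer (P : Set G), h * z = z * h)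
    (hodd : Odd (orderOf h)) (hcop : (orderOf h).Coprime p)
    (hnc : ¬ ∀ x ∈ P, h * x = x * h) : g ∈ normalizer (A : Set G) := by
  classical
  have hp : p.Prime := Fact.out
  have hZc0 := x4_card_center p P hP hPna
  obtain ⟨-, hpow0, hcomm0⟩ := Cfsg.Agent.Lib.helper6.TV.p3_struct p P hP hPna
  obtain ⟨Z, hZ⟩ : ∃ Z, Z = P ⊓ centralizer (P : Set G) := ⟨_, rfl⟩
  rw [← hZ] at hZA hhZ hZc0 hpow0 hcomm0
  have hZP : Z ≤ P := hZ ▸ inf_le_left
  have hZcent : ∀ z ∈ Z, ∀ y ∈ P, z * y = y * z := by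
    intro z hz y hy
    rw [hZ] at hz
    exact (mem_centralizer_iff.mp (Subgroup.mem_inf.mp hz).2 y hy).symm
  by_contra hgA
  -- pick `a ∈ A ∖ Z`
  obtain ⟨a, haA, haZ⟩ : ∃ a, a ∈ A ∧ a ∉ Z := by
    by_contra hh
    have hAZ : A ≤ Z := fun x hx => by
      by_contra hxZ
      exact hh ⟨x, hx, hxZ⟩
    have h1 := Subgroup.card_le_of_le hAZ
    rw [hA, hZc0] at h1
    have h2 : p * p ≤ p * 1 := by rw [mul_one, ← sq]; exact h1
    have h3 := Nat.le_of_mul_le_mul_left h2 hp.pos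
    exact absurd hp.one_lt (not_lt.mpr h3)
  have haP : a ∈ P := hAP haA
  have hAgen : Z ⊔ zpowers a = A := by
    have hle : Z ⊔ zpowers a ≤ A := sup_le hZA (by rw [zpowers_le]; exact haA)
    apply Subgroup.eq_of_le_of_card_ge hle
    have hne : Z ≠ Z ⊔ zpowers a := by
      intro h'
      apply haZ
      rw [h']
      exact (le_sup_right : zpowers a ≤ Z ⊔ zpowers a) (mem_zpowers a)
    have hlt := x4_lt Z _ le_sup_left hne
    obtain ⟨j, hj3, hj⟩ := x4_card_pow p P (Z ⊔ zpowers a) hP (hle.trans hAP)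
    rw [hZc0, hj] at hlt
    have h1 : 1 < j := by
      have : p ^ 1 < p ^ j := by rw [pow_one]; exact hlt
      exact (Nat.pow_lt_pow_iff_right hp.one_lt).mp this
    rw [hA, hj]
    exact Nat.pow_le_pow_right hp.pos h1
  have hAel : ∀ x ∈ A, ∃ z ∈ Z, ∃ i : ℕ, x = z * a ^ i := by
    intro x hx
    rw [← hAgen] at hx
    obtain ⟨z, hz, w, hw, rfl⟩ := x3_mem_sup (A := Z) (B := zpowers a) (by
      intro z hz w hw
      obtain ⟨i, rfl⟩ := mem_zpowers_iff.mp hw
      exact hZcent z hz _ (P.zpow_mem haP i)) hx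
    rw [← mem_powers_iff_mem_zpowers] at hw
    obtain ⟨i, rfl⟩ := (Submonoid.mem_powers_iff _ _).mp hw
    exact ⟨z, hz, i, rfl⟩
  -- `b = g a g⁻¹ ∉ A`
  obtain ⟨b, hb⟩ : ∃ b, b = g * a * g⁻¹ := ⟨_, rfl⟩
  have hbP : b ∈ P := hb ▸ (mem_normalizer_iff.mp hgP a).mp haP
  have hgZ : ∀ z ∈ Z, g * z * g⁻¹ ∈ Z := by
    intro z hz
    rw [hZ] at hz ⊢
    exact x3_conj_center P g hgP z hz
  have hbA : b ∉ A := by
    intro hbA
    apply hgA
    apply x3_mem_normalizer
    intro x hx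
    obtain ⟨z, hz, i, rfl⟩ := hAel x hx
    have : g * (z * a ^ i) * g⁻¹ = (g * z * g⁻¹) * b ^ i := by
      rw [hb, conj_pow]; group
    rw [this]
    exact A.mul_mem (hZA (hgZ z hz)) (A.pow_mem hbA i)
  have hPgen : A ⊔ zpowers b = P := by
    have hle : A ⊔ zpowers b ≤ P := sup_le hAP (by rw [zpowers_le]; exact hbP)
    apply Subgroup.eq_of_le_of_card_ge hle
    have hne : A ≠ A ⊔ zpowers b := by
      intro h'
      apply hbA
      rw [h']
      exact (le_sup_right : zpowers b ≤ A ⊔ zpowers b) (mem_zpowers b)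
    have hlt := x4_lt A _ le_sup_left hne
    obtain ⟨j, hj3, hj⟩ := x4_card_pow p P (A ⊔ zpowers b) hP hle
    rw [hA, hj] at hlt
    have h1 : 2 < j := (Nat.pow_lt_pow_iff_right hp.one_lt).mp hlt
    rw [hP, hj]
    exact Nat.pow_le_pow_right hp.pos h1
  have hcentP : ∀ k : G, (∀ z ∈ Z, k * z = z * k) → k * a = a * k → k * b = b * k →
      ∀ x ∈ P, k * x = x * k := by
    intro k hkZ hka hkb x hx
    have hle : P ≤ centralizer ({k} : Set G) := by
      rw [← hPgen, ← hAgen]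
      refine sup_le (sup_le ?_ ?_) ?_
      · intro z hz
        rw [mem_centralizer_singleton_iff]
        exact (hkZ z hz).symm
      · rw [zpowers_le, mem_centralizer_singleton_iff]
        exact hka.symm
      · rw [zpowers_le, mem_centralizer_singleton_iff]
        exact hkb.symm
    exact (mem_centralizer_singleton_iff.mp (hle hx)).symm
  -- the commutator `c = [a, b] ∈ Z ∖ 1`
  obtain ⟨c, hc⟩ : ∃ c, c = a * b * a⁻¹ * b⁻¹ := ⟨_, rfl⟩
  have hcZ : c ∈ Z := hc ▸ hcomm0 a haP b hbP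
  have hcP : c ∈ P := hZP hcZ
  have hab : a * b = c * (b * a) := by rw [hc]; group
  have hc1 : c ≠ 1 := by
    intro h1
    rw [h1, one_mul] at hab
    apply hbA
    apply hZA
    rw [hZ]
    refine Subgroup.mem_inf.mpr ⟨hbP, ?_⟩
    rw [mem_centralizer_iff]
    intro y hy
    exact (hcentP b (fun z hz => (hZcent z hz b hbP).symm) hab.symm rfl y hy).symm
  have hcord : orderOf c = p := by
    have h1 : orderOf c ∣ p := hZc0 ▸ Subgroup.orderOf_dvd_natCard Z hcZ
    rcases (Nat.dvd_prime hp).mp h1 with h2 | h2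
    · exact absurd (orderOf_eq_one_iff.mp h2) hc1
    · exact h2
  have hca : c * a = a * c := hZcent c hcZ a haP
  have hcb : c * b = b * c := hZcent c hcZ b hbP
  -- the eigenvalue
  obtain ⟨z₁, hz₁, l, hl⟩ := hAel (h * a * h⁻¹) ((mem_normalizer_iff.mp hhA a).mp haA)
  obtain ⟨z₂, hz₂d⟩ : ∃ z₂, z₂ = g * z₁ * g⁻¹ := ⟨_, rfl⟩
  have hz₂ : z₂ ∈ Z := hz₂d ▸ hgZ z₁ hz₁
  have hl' : h * b * h⁻¹ = z₂ * b ^ l := by
    have e0 : h * b * h⁻¹ = g * (h * a * h⁻¹) * g⁻¹ := by
      rw [hb]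
      have e1 : h * (g * a * g⁻¹) * h⁻¹ = (h * g) * a * (h * g)⁻¹ := by group
      rw [e1, hhg]; group
    rw [e0, hl, hz₂d, hb, conj_pow]; group
  have hhc : h * c * h⁻¹ = c := by rw [hhZ c hcZ]; group
  have haL : a ^ l ∈ P := P.pow_mem haP l
  have hbL : b ^ l ∈ P := P.pow_mem hbP l
  have key2 : a ^ l * b ^ l = c * (b ^ l * a ^ l) := by
    have key1 : (z₁ * a ^ l) * (z₂ * b ^ l) = c * ((z₂ * b ^ l) * (z₁ * a ^ l)) := by
      rw [← hl, ← hl']
      calc h * a * h⁻¹ * (h * b * h⁻¹) = h * (a * b) * h⁻¹ := by group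
        _ = h * (c * (b * a)) * h⁻¹ := by rw [hab]
        _ = (h * c * h⁻¹) * ((h * b * h⁻¹) * (h * a * h⁻¹)) := by group
        _ = c * ((h * b * h⁻¹) * (h * a * h⁻¹)) := by rw [hhc]
    have e1 : (z₁ * a ^ l) * (z₂ * b ^ l) = (z₁ * z₂) * (a ^ l * b ^ l) := by
      calc (z₁ * a ^ l) * (z₂ * b ^ l) = z₁ * (a ^ l * z₂) * b ^ l := by group
        _ = z₁ * (z₂ * a ^ l) * b ^ l := by rw [hZcent z₂ hz₂ _ haL]
        _ = (z₁ * z₂) * (a ^ l * b ^ l) := by group
    have e2 : c * ((z₂ * b ^ l) * (z₁ * a ^ l)) = (z₁ * z₂) * (c * (b ^ l * a ^ l)) := by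
      calc c * ((z₂ * b ^ l) * (z₁ * a ^ l)) = c * z₂ * (b ^ l * z₁) * a ^ l := by group
        _ = c * z₂ * (z₁ * b ^ l) * a ^ l := by rw [hZcent z₁ hz₁ _ hbL]
        _ = (c * z₂) * z₁ * (b ^ l * a ^ l) := by group
        _ = (z₂ * c) * z₁ * (b ^ l * a ^ l) := by rw [hZcent z₂ hz₂ c hcP]
        _ = z₂ * (c * z₁) * (b ^ l * a ^ l) := by group
        _ = z₂ * (z₁ * c) * (b ^ l * a ^ l) := by rw [hZcent z₁ hz₁ c hcP]
        _ = (z₂ * z₁) * (c * (b ^ l * a ^ l)) := by group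
        _ = (z₁ * z₂) * (c * (b ^ l * a ^ l)) := by rw [hZcent z₁ hz₁ z₂ (hZP hz₂)]
    rw [e1, e2] at key1
    exact mul_left_cancel key1
  have hmod : l * l ≡ 1 [MOD p] := by
    have e3 := x3_pow_comm a b c hab hca hcb l l
    rw [key2] at e3
    have e4 : c ^ 1 = c ^ (l * l) := by
      rw [pow_one]
      exact mul_right_cancel e3
    have := (pow_eq_pow_iff_modEq).mp e4
    rw [hcord] at this
    exact this.symm
  -- `h ^ 2` moves `a` and `b` inside their cosets of `Z`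
  have hsq : ∀ (u z : G), u ∈ P → z ∈ Z → h * u * h⁻¹ = z * u ^ l →
      ∃ z' ∈ Z, (h * h) * u * (h * h)⁻¹ = u * z' := by
    intro u z huP hzZ hu
    have h1le : 1 ≤ l * l := by
      by_contra hh
      have h0 : l * l = 0 := by omega
      rw [h0] at hmod
      have := (Nat.modEq_zero_iff_dvd.mp hmod.symm)
      exact hp.one_lt.ne' (Nat.dvd_one.mp this)
    obtain ⟨m, hm⟩ : ∃ m, l * l = 1 + p * m := by
      have := (Nat.modEq_iff_dvd' h1le).mp hmod.symm
      obtain ⟨m, hm⟩ := this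
      exact ⟨m, by omega⟩
    have hzu : z * u = u * z := hZcent z hzZ u huP
    have hhz : h * z * h⁻¹ = z := by rw [hhZ z hzZ]; group
    refine ⟨z ^ (l + 1) * (u ^ p) ^ m, Z.mul_mem (Z.pow_mem hzZ _) (Z.pow_mem (hpow0 u huP) m), ?_⟩
    have hzc : Commute z u := hzu
    have hull : u ^ (l * l) = u * (u ^ p) ^ m := by
      rw [hm, pow_add, pow_one, pow_mul]
    calc (h * h) * u * (h * h)⁻¹ = h * (h * u * h⁻¹) * h⁻¹ := by group
      _ = h * (z * u ^ l) * h⁻¹ := by rw [hu]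
      _ = (h * z * h⁻¹) * (h * u * h⁻¹) ^ l := by rw [conj_pow]; group
      _ = z * (z * u ^ l) ^ l := by rw [hhz, hu]
      _ = z * (z ^ l * (u ^ l) ^ l) := by rw [(hzc.pow_right l).mul_pow]
      _ = z ^ (l + 1) * u ^ (l * l) := by rw [← pow_mul, pow_succ']; group
      _ = z ^ (l + 1) * (u * (u ^ p) ^ m) := by rw [hull]
      _ = (z ^ (l + 1) * u) * (u ^ p) ^ m := by group
      _ = (u * z ^ (l + 1)) * (u ^ p) ^ m := by rw [(hzc.pow_left (l + 1)).eq]
      _ = u * (z ^ (l + 1) * (u ^ p) ^ m) := by group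
  have hk2 : (orderOf (h * h)).Coprime p := by
    have : orderOf (h * h) ∣ orderOf h := by
      rw [← sq]; exact orderOf_pow_dvd 2
    exact Nat.Coprime.coprime_dvd_left this hcop
  have hkZ : ∀ z ∈ Z, (h * h) * z = z * (h * h) := by
    intro z hz
    calc (h * h) * z = h * (h * z) := by group
      _ = h * (z * h) := by rw [hhZ z hz]
      _ = (h * z) * h := by group
      _ = (z * h) * h := by rw [hhZ z hz]
      _ = z * (h * h) := by group
  obtain ⟨za, hza, hka⟩ := hsq a z₁ haP hz₁ hl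
  obtain ⟨zb, hzb, hkb⟩ := hsq b z₂ hbP hz₂ hl'
  have hka' := x3_chain p Z hZc0 (h * h) a za hk2 hkZ hza hka
  have hkb' := x3_chain p Z hZc0 (h * h) b zb hk2 hkZ hzb hkb
  have hkP := hcentP (h * h) hkZ hka' hkb'
  -- `h` is a power of `h ^ 2`
  obtain ⟨j, hj⟩ := hodd
  have hh : h = (h * h) ^ (j + 1) := by
    rw [← sq, ← pow_mul]
    have : 2 * (j + 1) = orderOf h + 1 := by omega
    rw [this, pow_succ, pow_orderOf_eq_one, one_mul]
  apply hnc
  intro x hx
  have : Commute ((h * h) ^ (j + 1)) x := Commute.pow_left (hkP x hx) (j + 1)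
  rw [← hh] at this
  exact this.eq

end Cfsg.Agent.Lib.helper29.TV
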