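import Cfsg.Agent.Lib.helper68.W2PDefs
import Cfsg.Agent.S0713

/-!
S0720 piece G1: a primitive group of degree `2q` is 2-transitive or contains a fixed-point-free
element of order `q`.
-/

set_option autoImplicit false

namespace Cfsg.Agent.Lib.helper29.W2P

open Finset
open scoped Classical

theorem two_trans_of_le {α : Type*} {H K : Subgroup (Equiv.Perm α)} (h : H ≤ K)
    (hH : MulAction.IsMultiplyPretransitive H α 2) : MulAction.IsMultiplyPretransitive K α 2 := by
  rw [MulAction.isMultiplyPretransitive_iff] at hH ⊢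
  intro x y
  obtain ⟨σ, hσ⟩ := hH x y
  exact ⟨⟨σ, h σ.2⟩, hσ⟩

theorem two_trans_top {α : Type*} :
    MulAction.IsMultiplyPretransitive (⊤ : Subgroup (Equiv.Perm α)) α 2 := by
  have h := Equiv.Perm.isMultiplyPretransitive α 2
  rw [MulAction.isMultiplyPretransitive_iff] at h ⊢
  intro x y
  obtain ⟨σ, hσ⟩ := h x y
  exact ⟨⟨σ, Subgroup.mem_top σ⟩, hσ⟩

theorem exists_fpf_or_two_trans {α : Type*} [Fintype α] [DecidableEq α] {q : ℕ} (hq : q.Prime)
    (hα : Fintype.card α = 2 * q) (G : Subgroup (Equiv.Perm α))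
    (hG : MulAction.IsPreprimitive G α) :
    MulAction.IsMultiplyPretransitive G α 2 ∨ ∃ g ∈ G, orderOf g = q ∧ ∀ x : α, g x ≠ x := by
  have hfact : Fact q.Prime := ⟨hq⟩
  have hq2 : 2 ≤ q := hq.two_le
  have htr : MulAction.IsPretransitive G α := hG.toIsPretransitive
  have hα0 : 0 < Fintype.card α := by rw [hα]; omega
  obtain ⟨a₀⟩ : Nonempty α := Fintype.card_pos_iff.1 hα0
  -- `q` divides `|G|`
  have hdvd : q ∣ Nat.card G := by
    have h1 : (MulAction.stabilizer G a₀).index = Nat.card α :=
      MulAction.index_stabilizer_of_transitive G a₀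
    have h2 : (MulAction.stabilizer G a₀).index ∣ Nat.card G := Subgroup.index_dvd_card _
    rw [h1, Nat.card_eq_fintype_card, hα] at h2
    exact (Dvd.intro_left 2 rfl).trans h2
  obtain ⟨x, hx⟩ := exists_prime_orderOf_dvd_card' q hdvd
  have hxo : orderOf (x : Equiv.Perm α) = q := by rw [Subgroup.orderOf_coe]; exact hx
  by_cases hfpf : ∀ a : α, (x : Equiv.Perm α) a ≠ a
  · exact Or.inr ⟨x, x.2, hxo, hfpf⟩
  · left
    push Not at hfpf
    obtain ⟨b, hb⟩ := hfpf
    -- `x` is a `q`-cycle
    obtain ⟨n, hn⟩ := Equiv.Perm.cycleType_prime_order (σ := (x : Equiv.Perm α))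
      (by rw [hxo]; exact hq)
    rw [hxo] at hn
    have hsum : (x : Equiv.Perm α).support.card = (n + 1) * q := by
      rw [← Equiv.Perm.sum_cycleType, hn, Multiset.sum_replicate, smul_eq_mul]
    have hlt : (x : Equiv.Perm α).support.card < Fintype.card α := by
      apply Finset.card_lt_univ_of_notMem (x := b)
      rw [Equiv.Perm.mem_support]
      exact fun h => h hb
    have hn0 : n = 0 := by
      rw [hsum, hα] at hlt
      by_contra h
      have : 2 ≤ n + 1 := by omega
      have := Nat.mul_le_mul_right q this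
      omega
    subst hn0
    have hcyc : (x : Equiv.Perm α).IsCycle := by
      rw [← Equiv.Perm.card_cycleType_eq_one, hn]
      simp
    have hsupp : (x : Equiv.Perm α).support.card = q := by rw [hsum]; simp
    rcases Nat.lt_or_ge q 3 with h3 | h3
    · -- `q = 2`: a swap
      have hq2' : q = 2 := by omega
      have hsw : (x : Equiv.Perm α).IsSwap := by
        rw [← Equiv.Perm.card_support_eq_two, hsupp, hq2']
      have htop : G = ⊤ :=
        Equiv.Perm.subgroup_eq_top_of_isPreprimitive_of_isSwap_mem hG _ hsw x.2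
      rw [htop]
      exact two_trans_top
    · -- `q ≥ 3`: Jordan
      have hA : alternatingGroup α ≤ G :=
        Cfsg.Agent.S0713.result G hG hq (by rw [hα]; omega) (by rw [hα]; omega) hcyc hsupp x.2
      have h1 := alternatingGroup.isMultiplyPretransitive α
      have hc : Nat.card α = 2 * q := by rw [Nat.card_eq_fintype_card, hα]
      have h2 : MulAction.IsMultiplyPretransitive (alternatingGroup α) α 2 :=
        MulAction.isMultiplyPretransitive_of_le (n := Nat.card α - 2) (by rw [hc]; omega)
          (Nat.sub_le _ _)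
      exact two_trans_of_le hA h2

end Cfsg.Agent.Lib.helper29.W2P
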