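import Cfsg.Agent.Lib.helper68.W2PDefs

/-!
S0720 piece G2: coordinates `ZMod p × Fin 2` adapted to a fixed-point-free element of order `p`
on `2p` points.
-/

set_option autoImplicit false

namespace Cfsg.Agent.Lib.helper29.W2P

open Finset
open scoped Classical

variable {p : ℕ} [Fact p.Prime]

/-- a fixed-point-free permutation of prime order: no nontrivial power below `p` has a fixed
point -/
theorem pow_apply_ne {α : Type*} [Fintype α] (g : Equiv.Perm α) (hg : orderOf g = p)
    (hfpf : ∀ x : α, g x ≠ x) {k : ℕ} (hk0 : 0 < k) (hkp : k < p) (x : α) : (g ^ k) x ≠ x := by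
  intro h
  have hp : p.Prime := Fact.out
  have hcop : Nat.Coprime k (orderOf g) := by
    rw [hg]
    exact ((Nat.Prime.coprime_iff_not_dvd hp).2 (Nat.not_dvd_of_pos_of_lt hk0 hkp)).symm
  obtain ⟨m, hm⟩ := exists_pow_eq_self_of_coprime hcop
  have h2 : ((g ^ k) ^ m) x = x := Equiv.Perm.pow_apply_eq_self_of_apply_eq_self h m
  rw [hm] at h2
  exact hfpf x h2

theorem pow_apply_inj {α : Type*} [Fintype α] (g : Equiv.Perm α) (hg : orderOf g = p)
    (hfpf : ∀ x : α, g x ≠ x) {i j : ℕ} (hi : i < p) (hj : j < p) (x : α)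
    (h : (g ^ i) x = (g ^ j) x) : i = j := by
  by_contra hne
  rcases Nat.lt_or_gt_of_ne hne with hlt | hlt
  · have h2 : (g ^ j) x = (g ^ i) ((g ^ (j - i)) x) := by
      rw [← Equiv.Perm.mul_apply, ← pow_add, Nat.add_sub_cancel' hlt.le]
    rw [h2] at h
    exact pow_apply_ne g hg hfpf (Nat.sub_pos_of_lt hlt) (by omega) x ((g ^ i).injective h).symm
  · have h2 : (g ^ i) x = (g ^ j) ((g ^ (i - j)) x) := by
      rw [← Equiv.Perm.mul_apply, ← pow_add, Nat.add_sub_cancel' hlt.le]
    rw [h2] at h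
    exact pow_apply_ne g hg hfpf (Nat.sub_pos_of_lt hlt) (by omega) x ((g ^ j).injective h)

theorem exists_coords {α : Type*} [Fintype α] [DecidableEq α]
    (hα : Fintype.card α = 2 * p) (g : Equiv.Perm α) (hg : orderOf g = p)
    (hfpf : ∀ x : α, g x ≠ x) :
    ∃ e : ZMod p × Fin 2 ≃ α, ∀ (x : ZMod p) (j : Fin 2), g (e (x, j)) = e (x + 1, j) := by
  have hp : p.Prime := Fact.out
  have hp0 : 0 < p := hp.pos
  have hα0 : 0 < Fintype.card α := by rw [hα]; omega
  obtain ⟨a₀⟩ : Nonempty α := Fintype.card_pos_iff.1 hα0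
  obtain ⟨a₁, ha₁⟩ : ∃ a₁, a₁ ∉ (Finset.range p).image (fun i => (g ^ i) a₀) := by
    by_contra h
    push Not at h
    have h2 : (Finset.range p).image (fun i => (g ^ i) a₀) = Finset.univ :=
      Finset.eq_univ_iff_forall.2 h
    have hc := Finset.card_image_le (s := Finset.range p) (f := fun i => (g ^ i) a₀)
    rw [h2, Finset.card_univ, hα, Finset.card_range] at hc
    omega
  have hgp : g ^ p = 1 := by rw [← hg]; exact pow_orderOf_eq_one g
  obtain ⟨a, ha0, ha1⟩ : ∃ a : Fin 2 → α, a 0 = a₀ ∧ a 1 = a₁ := ⟨![a₀, a₁], rfl, rfl⟩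
  have hinj : Function.Injective (fun w : ZMod p × Fin 2 => (g ^ w.1.val) (a w.2)) := by
    rintro ⟨x, j⟩ ⟨y, k⟩ h
    simp only at h
    have hx : x.val < p := ZMod.val_lt x
    have hy : y.val < p := ZMod.val_lt y
    have hjk : j = k := by
      by_contra hne
      -- the two sides are different: `a₁` would be in the orbit of `a₀`
      have key : ∀ (u v : ℕ), u < p → v < p → (g ^ u) a₀ = (g ^ v) a₁ → False := by
        intro u v hu hv huv
        apply ha₁
        refine Finset.mem_image.2 ⟨(p - v + u) % p, Finset.mem_range.2 (Nat.mod_lt _ hp0), ?_⟩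
        have e1 : (g ^ ((p - v + u) % p)) a₀ = (g ^ (p - v + u)) a₀ := by
          have := pow_mod_orderOf g (p - v + u)
          rw [hg] at this
          rw [this]
        rw [e1, pow_add, Equiv.Perm.mul_apply, huv, ← Equiv.Perm.mul_apply, ← pow_add,
          Nat.sub_add_cancel hv.le, hgp, Equiv.Perm.one_apply]
      have hj : j = 0 ∨ j = 1 := by omega
      have hk : k = 0 ∨ k = 1 := by omega
      rcases hj with rfl | rfl <;> rcases hk with rfl | rfl
      · exact hne rfl
      · rw [ha0, ha1] at h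
        exact key _ _ hx hy h
      · rw [ha0, ha1] at h
        exact key _ _ hy hx h.symm
      · exact hne rfl
    subst hjk
    have hxy : x.val = y.val := pow_apply_inj g hg hfpf hx hy (a j) h
    rw [ZMod.val_injective p hxy]
  have hbij : Function.Bijective (fun w : ZMod p × Fin 2 => (g ^ w.1.val) (a w.2)) := by
    rw [Fintype.bijective_iff_injective_and_card]
    refine ⟨hinj, ?_⟩
    rw [Fintype.card_prod, ZMod.card, Fintype.card_fin, hα, mul_comm]
  refine ⟨Equiv.ofBijective _ hbij, ?_⟩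
  intro x j
  rw [Equiv.ofBijective_apply, Equiv.ofBijective_apply]
  simp only
  have h1 : (x + 1).val = (x.val + 1) % p := by
    have hfact : Fact (1 < p) := ⟨hp.one_lt⟩
    rw [ZMod.val_add, ZMod.val_one]
  rw [h1]
  have e1 : g ^ ((x.val + 1) % p) = g ^ (x.val + 1) := by
    have := pow_mod_orderOf g (x.val + 1)
    rw [hg] at this
    exact this
  rw [e1, pow_succ', Equiv.Perm.mul_apply]

end Cfsg.Agent.Lib.helper29.W2P
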