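import Cfsg.Agent.Lib.helper68.W2PDefs
import Cfsg.Agent.Lib.helper68.W2PA1

/-!
S0720 piece G4: the averaged projector `c` of a primitive group (with the two A1 facts
`card_S'`, `card_R'` as hypotheses in `exists_c_of`).
-/

set_option autoImplicit false

namespace Cfsg.Agent.Lib.helper29.W2P

open Finset Cfsg.Agent.Lib.helper68.W2P
open scoped Classical

set_option linter.unusedSectionVars false

variable {p : ℕ} [Fact p.Prime] {ι : Type*}

/-- the sign vector: `+1` on side 0, `-1` on side 1 -/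
noncomputable def sgn (ω : ZMod p × Fin 2) : ℚ := if ω.2 = 0 then 1 else -1

theorem sgn_mul_self (ω : ZMod p × Fin 2) : sgn ω * sgn ω = 1 := by
  unfold sgn; split_ifs <;> norm_num

theorem sgn_mul_le (ω ω' : ZMod p × Fin 2) : sgn ω * sgn ω' ≤ 1 := by
  unfold sgn; split_ifs <;> norm_num

theorem sgn_mul_eq_one {ω ω' : ZMod p × Fin 2} (h : sgn ω * sgn ω' = 1) :
    (ω.2 = 0 ↔ ω'.2 = 0) := by
  unfold sgn at h
  split_ifs at h with h1 h2 h2
  · exact ⟨fun _ => h2, fun _ => h1⟩
  · norm_num at h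
  · norm_num at h
  · exact ⟨fun h' => absurd h' h1, fun h' => absurd h' h2⟩

theorem g4_col_shift (D : Scheme p ι) (x y : ZMod p) (j k : Fin 2) :
    D.col (x, j) (y, k) = D.col (0, j) (y - x, k) := by
  have key : ∀ (n : ℕ) (x y : ZMod p), D.col (x + n, j) (y + n, k) = D.col (x, j) (y, k) := by
    intro n
    induction n with
    | zero => intro x y; simp
    | succ n ih =>
      intro x y
      push_cast
      rw [← add_assoc, ← add_assoc, D.shift]
      exact ih x y
  have h := key x.val 0 (y - x)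
  rw [ZMod.natCast_zmod_val, zero_add, sub_add_cancel] at h
  exact h

/-- the number of `y` with `col (x,i) (y,k) = j` does not depend on `x` -/
theorem g4_card_shift (D : Scheme p ι) (j : ι) (x : ZMod p) (i k : Fin 2) :
    (univ.filter (fun y : ZMod p => D.col (x, i) (y, k) = j)).card =
      (univ.filter (fun s : ZMod p => D.col (0, i) (s, k) = j)).card := by
  apply Finset.card_equiv (Equiv.subRight x)
  intro y
  simp only [Finset.mem_filter, Finset.mem_univ, true_and, Equiv.subRight_apply]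
  rw [g4_col_shift D x y i k]

/-- the sum of the sign vector over the colour-`j` out-neighbours of a point -/
theorem nbr_sum (D : Scheme p ι) (hS' : ∀ j, (D.S' j).card = (D.S j).card)
    (hR' : ∀ j, (D.R' j).card = (D.R j).card) (j : ι) (ω₁ : ZMod p × Fin 2) :
    ∑ ω'' ∈ univ.filter (fun ω'' => D.col ω₁ ω'' = j), sgn ω'' = (D.mu j : ℚ) * sgn ω₁ := by
  obtain ⟨x, i⟩ := ω₁
  have h1 : ∑ ω'' ∈ univ.filter (fun ω'' => D.col (x, i) ω'' = j), sgn ω'' =
      ((univ.filter (fun y : ZMod p => D.col (x, i) (y, 0) = j)).card : ℚ) -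
        ((univ.filter (fun y : ZMod p => D.col (x, i) (y, 1) = j)).card : ℚ) := by
    rw [Finset.sum_filter, Fintype.sum_prod_type]
    simp only [Fin.sum_univ_two]
    rw [Finset.sum_add_distrib, Finset.card_filter, Finset.card_filter]
    push_cast
    rw [sub_eq_add_neg, ← Finset.sum_neg_distrib]
    congr 1
    apply Finset.sum_congr rfl
    intro y _
    by_cases h : D.col (x, i) (y, 1) = j <;> simp [sgn, h]
  rw [h1, g4_card_shift D j x i 0, g4_card_shift D j x i 1]
  have hmu : (D.mu j : ℚ) = ((D.S j).card : ℚ) - ((D.R j).card : ℚ) := by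
    unfold Scheme.mu; push_cast; ring
  have hi : i = 0 ∨ i = 1 := by omega
  rcases hi with rfl | rfl
  · have e1 : sgn ((x, 0) : ZMod p × Fin 2) = 1 := by unfold sgn; simp
    rw [e1, hmu, mul_one]
    rfl
  · have e1 : sgn ((x, 1) : ZMod p × Fin 2) = -1 := by unfold sgn; simp
    rw [e1, hmu]
    have e2 : (univ.filter (fun s : ZMod p => D.col (0, 1) (s, 0) = j)).card = (D.R j).card :=
      hR' j
    have e3 : (univ.filter (fun s : ZMod p => D.col (0, 1) (s, 1) = j)).card = (D.S j).card :=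
      hS' j
    rw [e2, e3]
    ring

theorem exists_c_of {α : Type*} [Fintype α] [DecidableEq α]
    (G : Subgroup (Equiv.Perm α)) (hG : MulAction.IsPreprimitive G α)
    (e : ZMod p × Fin 2 ≃ α) [Fintype ι] (D : Scheme p ι)
    (hS' : ∀ j, (D.S' j).card = (D.S j).card) (hR' : ∀ j, (D.R' j).card = (D.R j).card)
    (hcol : ∀ a b a' b' : α, D.col (e.symm a) (e.symm b) = D.col (e.symm a') (e.symm b') ↔
        ∃ h ∈ G, h a = a' ∧ h b = b') :
    ∃ c : ι → ℚ, (∀ j, c (D.tr j) = c j) ∧ 0 < c D.i0 ∧ D.Eig c ∧ D.Prim0 c := by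
  have hp : p.Prime := Fact.out
  obtain ⟨GS, hGS⟩ : ∃ GS : Finset (Equiv.Perm α), ∀ h, h ∈ GS ↔ h ∈ G :=
    ⟨Finset.univ.filter (fun h => h ∈ G), fun h => by simp⟩
  obtain ⟨Ef, hEf⟩ : ∃ Ef : α → α → ℚ, ∀ a b,
      Ef a b = ∑ h ∈ GS, sgn (e.symm (h a)) * sgn (e.symm (h b)) := ⟨_, fun a b => rfl⟩
  have hinv : ∀ k ∈ G, ∀ a b, Ef (k a) (k b) = Ef a b := by
    intro k hk a b
    rw [hEf, hEf]
    apply Finset.sum_equiv (Equiv.mulRight k)
    · intro h
      rw [hGS, hGS, Equiv.coe_mulRight]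
      exact (G.mul_mem_cancel_right hk).symm
    · intro h _
      rfl
  choose w w' hw using D.surj
  obtain ⟨c, hcdef⟩ : ∃ c : ι → ℚ, ∀ j, c j = Ef (e (w j)) (e (w' j)) := ⟨_, fun j => rfl⟩
  have hc : ∀ ω ω', c (D.col ω ω') = Ef (e ω) (e ω') := by
    intro ω ω'
    have h1 : D.col (e.symm (e (w (D.col ω ω')))) (e.symm (e (w' (D.col ω ω')))) =
        D.col (e.symm (e ω)) (e.symm (e ω')) := by
      rw [e.symm_apply_apply, e.symm_apply_apply, e.symm_apply_apply, e.symm_apply_apply, hw]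
    obtain ⟨k, hk, hk1, hk2⟩ := (hcol _ _ _ _).1 h1
    have h2 := hinv k hk (e (w (D.col ω ω'))) (e (w' (D.col ω ω')))
    rw [hk1, hk2] at h2
    rw [hcdef, h2]
  refine ⟨c, ?_, ?_, ?_, ?_⟩
  · -- symmetry
    intro j
    obtain ⟨ω, ω', rfl⟩ := D.surj j
    rw [← D.col_tr ω ω', hc, hc, hEf, hEf]
    apply Finset.sum_congr rfl
    intro h _
    ring
  · -- positivity
    have h0 : D.i0 = D.col (0, 0) (0, 0) := ((D.diag _ _).2 rfl).symm
    rw [h0, hc, hEf]
    have h1 : ∀ h ∈ GS, sgn (e.symm (h (e ((0 : ZMod p), (0 : Fin 2))))) *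
        sgn (e.symm (h (e ((0 : ZMod p), (0 : Fin 2))))) = 1 := fun h _ => sgn_mul_self _
    rw [Finset.sum_congr rfl h1, Finset.sum_const, nsmul_eq_mul, mul_one]
    have h2 : 0 < GS.card := Finset.card_pos.2 ⟨1, (hGS 1).2 G.one_mem⟩
    exact_mod_cast h2
  · -- eigen-matrix
    intro j ω ω'
    have hstep : ∀ ω'' : ZMod p × Fin 2, c (D.col ω'' ω') = Ef (e ω'') (e ω') := fun ω'' => hc ω'' ω'
    rw [Finset.sum_congr rfl (fun ω'' _ => hstep ω''), hc]
    have hstep2 : ∀ ω'' : ZMod p × Fin 2, Ef (e ω'') (e ω') =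
        ∑ h ∈ GS, sgn (e.symm (h (e ω''))) * sgn (e.symm (h (e ω'))) := fun ω'' => hEf _ _
    rw [Finset.sum_congr rfl (fun ω'' _ => hstep2 ω''), hEf, Finset.sum_comm, Finset.mul_sum]
    apply Finset.sum_congr rfl
    intro h hh
    have hhG : h ∈ G := (hGS h).1 hh
    rw [← Finset.sum_mul, ← mul_assoc]
    congr 1
    have hcolh : ∀ ω'' : ZMod p × Fin 2,
        D.col (e.symm (h (e ω))) (e.symm (h (e ω''))) = D.col ω ω'' := by
      intro ω''
      have h3 := (hcol (e ω) (e ω'') (h (e ω)) (h (e ω''))).2 ⟨h, hhG, rfl, rfl⟩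
      rw [e.symm_apply_apply, e.symm_apply_apply] at h3
      exact h3.symm
    have hA : ∑ ω'' ∈ univ.filter (fun ω'' => D.col ω ω'' = j), sgn (e.symm (h (e ω''))) =
        ∑ ω₂ ∈ univ.filter (fun ω₂ => D.col (e.symm (h (e ω))) ω₂ = j), sgn ω₂ := by
      apply Finset.sum_equiv (e.trans (h.trans e.symm))
      · intro ω''
        simp only [Finset.mem_filter, Finset.mem_univ, true_and, Equiv.trans_apply]
        rw [hcolh ω'']
      · intro ω'' _
        rfl
    rw [hA, nbr_sum D hS' hR' j]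
  · -- `Prim0`
    by_contra hP
    unfold Scheme.Prim0 at hP
    push Not at hP
    have hi0 : c D.i0 = ∑ h ∈ GS, (1 : ℚ) := by
      have h0 : D.i0 = D.col (0, 0) (0, 0) := ((D.diag _ _).2 rfl).symm
      rw [h0, hc, hEf]
      exact Finset.sum_congr rfl (fun h _ => sgn_mul_self _)
    have hall : ∀ s : ZMod p, ∀ h ∈ GS,
        sgn (e.symm (h (e ((0 : ZMod p), (0 : Fin 2))))) * sgn (e.symm (h (e (s, (0 : Fin 2))))) =
          1 := by
      intro s
      have h1 := hP s
      rw [hc, hEf, hi0] at h1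
      exact (Finset.sum_eq_sum_iff_of_le (fun h _ => sgn_mul_le _ _)).1 h1
    have hside : ∀ h ∈ G, ∀ s : ZMod p, ((e.symm (h (e (s, (0 : Fin 2))))).2 = 0 ↔
        (e.symm (h (e ((0 : ZMod p), (0 : Fin 2))))).2 = 0) := by
      intro h hh s
      exact (sgn_mul_eq_one (hall s h ((hGS h).2 hh))).symm
    -- the block
    obtain ⟨B, hB⟩ : ∃ B : Set α, ∀ a, a ∈ B ↔ (e.symm a).2 = 0 :=
      ⟨{a | (e.symm a).2 = 0}, fun a => Iff.rfl⟩
    have hrep : ∀ a ∈ B, a = e ((e.symm a).1, (0 : Fin 2)) := by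
      intro a ha
      have h1 : e.symm a = ((e.symm a).1, (0 : Fin 2)) := Prod.ext rfl ((hB a).1 ha)
      rw [← h1, e.apply_symm_apply]
    have key : ∀ h ∈ G, (∀ a ∈ B, h a ∈ B) ∨ (∀ a ∈ B, h a ∉ B) := by
      intro h hh
      by_cases h0 : (e.symm (h (e ((0 : ZMod p), (0 : Fin 2))))).2 = 0
      · left
        intro a ha
        rw [hrep a ha, hB]
        exact (hside h hh _).2 h0
      · right
        intro a ha
        rw [hrep a ha, hB]
        exact fun h1 => h0 ((hside h hh _).1 h1)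
    have hblock : MulAction.IsBlock G B := by
      rw [MulAction.isBlock_iff_smul_eq_or_disjoint]
      intro g
      rcases key g g.2 with h1 | h1
      · left
        ext x
        constructor
        · rintro ⟨y, hy, rfl⟩
          exact h1 y hy
        · intro hx
          rw [Set.mem_smul_set_iff_inv_smul_mem]
          rcases key (g⁻¹ : G) (g⁻¹ : G).2 with h2 | h2
          · exact h2 x hx
          · exfalso
            have h3 := h2 ((g : Equiv.Perm α) x) (h1 x hx)
            apply h3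
            have h4 : ((g⁻¹ : G) : Equiv.Perm α) ((g : Equiv.Perm α) x) = x := by
              rw [Subgroup.coe_inv]; simp
            rw [h4]
            exact hx
      · right
        rw [Set.disjoint_left]
        rintro x ⟨y, hy, rfl⟩
        exact h1 y hy
    have hfact : Fact (1 < p) := ⟨hp.one_lt⟩
    rcases hG.isTrivialBlock_of_isBlock hblock with hsub | huniv
    · have h1 : e ((0 : ZMod p), (0 : Fin 2)) ∈ B := by rw [hB, e.symm_apply_apply]
      have h2 : e ((1 : ZMod p), (0 : Fin 2)) ∈ B := by rw [hB, e.symm_apply_apply]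
      have h3 := e.injective (hsub h1 h2)
      exact zero_ne_one (congrArg Prod.fst h3)
    · have h1 : e ((0 : ZMod p), (1 : Fin 2)) ∈ B := by rw [huniv]; exact Set.mem_univ _
      rw [hB, e.symm_apply_apply] at h1
      exact absurd h1 (by simp)

/-- S0720 piece G4, exact spec statement. -/
theorem exists_c {α : Type*} [Fintype α] [DecidableEq α]
    (G : Subgroup (Equiv.Perm α)) (hG : MulAction.IsPreprimitive G α)
    (e : ZMod p × Fin 2 ≃ α) [Fintype ι] (D : Scheme p ι)
    (hcol : ∀ a b a' b' : α, D.col (e.symm a) (e.symm b) = D.col (e.symm a') (e.symm b') ↔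
        ∃ h ∈ G, h a = a' ∧ h b = b') :
    ∃ c : ι → ℚ, (∀ j, c (D.tr j) = c j) ∧ 0 < c D.i0 ∧ D.Eig c ∧ D.Prim0 c :=
  exists_c_of G hG e D (card_S' D) (card_R' D) hcol

end Cfsg.Agent.Lib.helper29.W2P
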