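import Cfsg.Agent.Lib.helper68.W2PDefs

/-!
S0720 piece G6: translating the scheme back to the group: 2-transitivity when there are two
colours, the rank, and the subdegrees.
-/

set_option autoImplicit false

namespace Cfsg.Agent.Lib.helper29.W2P

open Finset Cfsg.Agent.Lib.helper68.W2P
open scoped Classical

variable {p : ℕ} [Fact p.Prime] {ι : Type*}

/-- the orbit of `b` under the stabilizer of `a₀` is a colour class -/
theorem mem_orbit_stab_iff {α : Type*} [Fintype α] [DecidableEq α]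
    (G : Subgroup (Equiv.Perm α))
    (e : ZMod p × Fin 2 ≃ α) (D : Scheme p ι)
    (hcol : ∀ a b a' b' : α, D.col (e.symm a) (e.symm b) = D.col (e.symm a') (e.symm b') ↔
        ∃ h ∈ G, h a = a' ∧ h b = b') (a₀ b b' : α) :
    b' ∈ MulAction.orbit (MulAction.stabilizer G a₀) b ↔
      D.col (e.symm a₀) (e.symm b') = D.col (e.symm a₀) (e.symm b) := by
  constructor
  · rintro ⟨h, rfl⟩
    refine ((hcol a₀ b a₀ _).2 ⟨((h : G) : Equiv.Perm α), (h : G).2, ?_, rfl⟩).symm
    exact MulAction.mem_stabilizer_iff.1 h.2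
  · intro hc
    obtain ⟨h, hhG, h1, h2⟩ := (hcol a₀ b a₀ b').1 hc.symm
    exact ⟨⟨⟨h, hhG⟩, MulAction.mem_stabilizer_iff.2 h1⟩, h2⟩

theorem two_trans_of_card_two {α : Type*} [Fintype α] [DecidableEq α]
    (G : Subgroup (Equiv.Perm α)) (hG : MulAction.IsPretransitive G α)
    (e : ZMod p × Fin 2 ≃ α) [Fintype ι] (D : Scheme p ι)
    (hcol : ∀ a b a' b' : α, D.col (e.symm a) (e.symm b) = D.col (e.symm a') (e.symm b') ↔
        ∃ h ∈ G, h a = a' ∧ h b = b')
    (hcard : Fintype.card ι = 2) : MulAction.IsMultiplyPretransitive G α 2 := by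
  rw [MulAction.isMultiplyPretransitive_iff]
  intro x y
  have hle : ((Finset.univ : Finset ι).erase D.i0).card ≤ 1 := by
    rw [Finset.card_erase_of_mem (Finset.mem_univ _), Finset.card_univ, hcard]
  have hx : D.col (e.symm (x 0)) (e.symm (x 1)) ≠ D.i0 := by
    intro h
    have h2 := e.symm.injective ((D.diag _ _).1 h)
    exact absurd (x.injective h2) (by decide)
  have hy : D.col (e.symm (y 0)) (e.symm (y 1)) ≠ D.i0 := by
    intro h
    have h2 := e.symm.injective ((D.diag _ _).1 h)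
    exact absurd (y.injective h2) (by decide)
  have heq : D.col (e.symm (x 0)) (e.symm (x 1)) = D.col (e.symm (y 0)) (e.symm (y 1)) :=
    Finset.card_le_one.1 hle _ (Finset.mem_erase.2 ⟨hx, Finset.mem_univ _⟩) _
      (Finset.mem_erase.2 ⟨hy, Finset.mem_univ _⟩)
  obtain ⟨h, hhG, h0, h1⟩ := (hcol _ _ _ _).1 heq
  refine ⟨⟨h, hhG⟩, ?_⟩
  ext i
  have hi : i = 0 ∨ i = 1 := by omega
  rcases hi with rfl | rfl
  · exact h0
  · exact h1

theorem rank_of_card {α : Type*} [Fintype α] [DecidableEq α]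
    (G : Subgroup (Equiv.Perm α)) (hG : MulAction.IsPretransitive G α)
    (e : ZMod p × Fin 2 ≃ α) [Fintype ι] (D : Scheme p ι)
    (hcol : ∀ a b a' b' : α, D.col (e.symm a) (e.symm b) = D.col (e.symm a') (e.symm b') ↔
        ∃ h ∈ G, h a = a' ∧ h b = b') (a₀ : α) :
    Nat.card (MulAction.orbitRel.Quotient (MulAction.stabilizer G a₀) α) = Fintype.card ι := by
  have hwd : ∀ b b' : α, (MulAction.orbitRel (MulAction.stabilizer G a₀) α) b b' →
      D.col (e.symm a₀) (e.symm b) = D.col (e.symm a₀) (e.symm b') := by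
    intro b b' hbb
    rw [MulAction.orbitRel_apply] at hbb
    exact (mem_orbit_stab_iff G e D hcol a₀ b' b).1 hbb
  obtain ⟨f, hf⟩ : ∃ f : MulAction.orbitRel.Quotient (MulAction.stabilizer G a₀) α → ι,
      ∀ b : α, f (Quotient.mk _ b) = D.col (e.symm a₀) (e.symm b) :=
    ⟨Quotient.lift (fun b : α => D.col (e.symm a₀) (e.symm b)) hwd, fun b => rfl⟩
  have hinj : Function.Injective f := by
    intro u v
    refine Quotient.inductionOn₂ u v ?_
    intro b b' h
    rw [hf, hf] at h
    apply Quotient.sound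
    show (MulAction.orbitRel (MulAction.stabilizer G a₀) α) b b'
    rw [MulAction.orbitRel_apply]
    exact (mem_orbit_stab_iff G e D hcol a₀ b' b).2 h
  have hsurj : Function.Surjective f := by
    intro j
    obtain ⟨ω, ω', hω⟩ := D.surj j
    obtain ⟨g, hg⟩ := MulAction.exists_smul_eq G (e ω) a₀
    refine ⟨Quotient.mk _ ((g : Equiv.Perm α) (e ω')), ?_⟩
    rw [hf, ← hω]
    have h := (hcol (e ω) (e ω') a₀ ((g : Equiv.Perm α) (e ω'))).2 ⟨g, g.2, hg, rfl⟩
    rw [e.symm_apply_apply, e.symm_apply_apply] at h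
    exact h.symm
  rw [Nat.card_congr (Equiv.ofBijective f ⟨hinj, hsurj⟩), Nat.card_eq_fintype_card]

theorem suborbit_card {α : Type*} [Fintype α] [DecidableEq α]
    (G : Subgroup (Equiv.Perm α)) (hG : MulAction.IsPretransitive G α)
    (e : ZMod p × Fin 2 ≃ α) (D : Scheme p ι)
    (hcol : ∀ a b a' b' : α, D.col (e.symm a) (e.symm b) = D.col (e.symm a') (e.symm b') ↔
        ∃ h ∈ G, h a = a' ∧ h b = b') (a₀ b : α) :
    Nat.card (MulAction.orbit (MulAction.stabilizer G a₀) b) =
      D.n (D.col (e.symm a₀) (e.symm b)) := by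
  rw [← D.valency (D.col (e.symm a₀) (e.symm b)) (e.symm a₀)]
  have hset : MulAction.orbit (MulAction.stabilizer G a₀) b =
      ((Finset.univ.filter (fun ω' => D.col (e.symm a₀) ω' =
        D.col (e.symm a₀) (e.symm b))).map e.toEmbedding : Finset α) := by
    ext b'
    rw [mem_orbit_stab_iff G e D hcol a₀ b b', Finset.mem_coe, Finset.mem_map]
    constructor
    · intro h
      exact ⟨e.symm b', Finset.mem_filter.2 ⟨Finset.mem_univ _, h⟩, e.apply_symm_apply b'⟩
    · rintro ⟨ω', hω', rfl⟩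
      have := (Finset.mem_filter.1 hω').2
      simpa using this
  rw [Nat.card_coe_set_eq, hset, Set.ncard_coe_finset, Finset.card_map]

end Cfsg.Agent.Lib.helper29.W2P
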