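import Cfsg.Agent.Lib.helper81.WTDefs

/-!
# S4414, piece SV (core): a `T`-invariant set of characters containing a weight carries a nonzero
`T`-fixed vector with support inside it (the PE / PO / PO2 / FX facts are hypotheses here)
-/

set_option autoImplicit false

namespace Cfsg.Agent.Lib.helper81.WT

open scoped TensorProduct

universe u v w

theorem helper29_exists_fixed_supp_core {S : Type u} [Group S] [Finite S] {F : Type w} [Field F]
    [Finite F] {V : Type v} [AddCommGroup V] [Module F V]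
    (R : Representation F S V) (Y : Subgroup S) [Y.Normal] [Fintype ↥Y]
    (T : Subgroup S)
    (hPE : ∀ (g : S) (μ : ↥Y →* Fˣ) (v : V), R g (proj R Y μ v) = proj R Y (cj Y g μ) (R g v))
    (hPO : ∀ (μ : ↥Y →* Fˣ) (v : V), proj R Y μ (proj R Y μ v) = proj R Y μ v)
    (hPO2 : ∀ (μ ν : ↥Y →* Fˣ), μ ≠ ν → ∀ v : V, proj R Y μ (proj R Y ν v) = 0)
    (hFX : ∀ W : Submodule F V, (∀ s ∈ T, ∀ w ∈ W, R s w ∈ W) → W ≠ ⊥ →
      ∃ w ∈ W, w ≠ 0 ∧ ∀ s ∈ T, R s w = w)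
    (Θ : Set (↥Y →* Fˣ)) (hΘ : ∀ s ∈ T, ∀ μ ∈ Θ, cj Y s μ ∈ Θ) (μ₀ : ↥Y →* Fˣ) (hμ₀ : μ₀ ∈ Θ)
    (hμ₀' : proj R Y μ₀ ≠ 0) :
    ∃ v : V, v ≠ 0 ∧ v ∈ fixT R T ∧ supp R Y v ⊆ Θ := by
  classical
  have : Finite (↥Y →* Fˣ) :=
    Finite.of_injective (fun f : ↥Y →* Fˣ => (f : ↥Y → Fˣ)) DFunLike.coe_injective
  have hfin : Θ.Finite := Set.toFinite Θ
  -- the projection onto the sum of the weight spaces in Θ
  obtain ⟨P, hP⟩ : ∃ P : V →ₗ[F] V, P = ∑ μ ∈ hfin.toFinset, proj R Y μ := ⟨_, rfl⟩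
  have hPapp : ∀ u : V, P u = ∑ μ ∈ hfin.toFinset, proj R Y μ u := by
    intro u
    rw [hP, LinearMap.sum_apply]
  -- commutation with T
  have hcomm : ∀ s ∈ T, ∀ u : V, R s (P u) = P (R s u) := by
    intro s hs u
    rw [hPapp, hPapp, map_sum]
    have h1 : ∀ μ ∈ hfin.toFinset, R s (proj R Y μ u) = proj R Y (cj Y s μ) (R s u) :=
      fun μ _ => hPE s μ u
    rw [Finset.sum_congr rfl h1]
    refine Finset.sum_nbij' (fun μ => cj Y s μ) (fun ν => cj Y s⁻¹ ν) ?_ ?_ ?_ ?_ ?_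
    · intro μ hμ
      rw [Set.Finite.mem_toFinset] at hμ ⊢
      exact hΘ s hs μ hμ
    · intro ν hν
      rw [Set.Finite.mem_toFinset] at hν ⊢
      exact hΘ s⁻¹ (T.inv_mem hs) ν hν
    · intro μ _
      show cj Y s⁻¹ (cj Y s μ) = μ
      rw [← cj_mul, inv_mul_cancel, cj_one]
    · intro ν _
      show cj Y s (cj Y s⁻¹ ν) = ν
      rw [← cj_mul, mul_inv_cancel, cj_one]
    · intro μ _
      rfl
  -- P fixes the μ₀-weight vectors
  have hPμ₀ : ∀ u : V, P (proj R Y μ₀ u) = proj R Y μ₀ u := by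
    intro u
    rw [hPapp]
    rw [Finset.sum_eq_single μ₀]
    · exact hPO μ₀ u
    · intro μ _ hne
      exact hPO2 μ μ₀ hne u
    · intro hnot
      exact absurd ((Set.Finite.mem_toFinset hfin).mpr hμ₀) hnot
  -- weights outside Θ are killed
  have hkill : ∀ ν : ↥Y →* Fˣ, ν ∉ Θ → ∀ u : V, proj R Y ν (P u) = 0 := by
    intro ν hν u
    rw [hPapp, map_sum]
    refine Finset.sum_eq_zero ?_
    intro μ hμ
    rw [Set.Finite.mem_toFinset] at hμ
    refine hPO2 ν μ ?_ u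
    intro h
    exact hν (h ▸ hμ)
  -- the range of P is T-invariant and nonzero
  have hW : ∀ s ∈ T, ∀ w ∈ LinearMap.range P, R s w ∈ LinearMap.range P := by
    intro s hs w hw
    obtain ⟨u, rfl⟩ := hw
    exact ⟨R s u, (hcomm s hs u).symm⟩
  have hW0 : LinearMap.range P ≠ ⊥ := by
    intro hbot
    apply hμ₀'
    ext u
    have hmem : proj R Y μ₀ u ∈ LinearMap.range P := ⟨proj R Y μ₀ u, hPμ₀ u⟩
    rw [hbot, Submodule.mem_bot] at hmem
    rw [hmem, LinearMap.zero_apply]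
  obtain ⟨w, hwW, hw0, hwfix⟩ := hFX (LinearMap.range P) hW hW0
  obtain ⟨u, rfl⟩ := hwW
  refine ⟨P u, hw0, hwfix, ?_⟩
  intro ν hν
  by_contra hnot
  exact hν (hkill ν hnot u)

end Cfsg.Agent.Lib.helper81.WT
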