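import Cfsg.Agent.Lib.helper81.WTDefs

/-!
# S4414: racer copies (prefixed names) of the small pieces PE, PW, PO, PO2, FX used by SV
-/

set_option autoImplicit false

namespace Cfsg.Agent.Lib.helper81.WT

open scoped TensorProduct

universe u v w

/-- [PE] equivariance of the weight projections (racer copy) -/
theorem helper29_proj_equiv {S : Type u} [Group S] [Finite S] {F : Type w} [Field F] [Finite F] [CharP F 2]
    {V : Type v} [AddCommGroup V] [Module F V]
    (R : Representation F S V) (Y : Subgroup S) [Y.Normal] [Fintype ↥Y]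
    (g : S) (μ : ↥Y →* Fˣ) (v : V) :
    R g (proj R Y μ v) = proj R Y (cj Y g μ) (R g v) := by
  rw [proj_apply, proj_apply, map_sum]
  refine Fintype.sum_equiv (MulAut.conjNormal g : ↥Y ≃* ↥Y).toEquiv _ _ ?_
  intro y
  rw [map_smul]
  have h1 : cj Y g μ ((MulAut.conjNormal g y : ↥Y))⁻¹ = μ y⁻¹ := by
    rw [cj_apply]
    congr 1
    apply Subtype.ext
    simp
  have h2 : R (((MulAut.conjNormal g y : ↥Y)) : S) (R g v) = R g (R (y : S) v) := by
    rw [← Module.End.mul_apply, ← map_mul, ← Module.End.mul_apply, ← map_mul]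
    congr 2
    simp [MulAut.conjNormal_apply]
  show ((μ y⁻¹ : Fˣ) : F) • R g (R (y : S) v) =
    ((cj Y g μ ((MulAut.conjNormal g y : ↥Y))⁻¹ : Fˣ) : F) •
      R (((MulAut.conjNormal g y : ↥Y)) : S) (R g v)
  rw [h1, h2]

/-- [PW] `proj μ v` is a `μ`-weight vector (racer copy) -/
theorem helper29_proj_weight {S : Type u} [Group S] [Finite S] {F : Type w} [Field F] [Finite F] [CharP F 2]
    {V : Type v} [AddCommGroup V] [Module F V]
    (R : Representation F S V) (Y : Subgroup S) [Y.Normal] [Fintype ↥Y]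
    (μ : ↥Y →* Fˣ) (y : ↥Y) (v : V) :
    R (y : S) (proj R Y μ v) = ((μ y : Fˣ) : F) • proj R Y μ v := by
  rw [proj_apply, map_sum, Finset.smul_sum]
  refine Fintype.sum_equiv (Equiv.mulLeft y) _ _ ?_
  intro z
  rw [map_smul, smul_smul]
  have h1 : ((μ y : Fˣ) : F) * ((μ (y * z)⁻¹ : Fˣ) : F) = ((μ z⁻¹ : Fˣ) : F) := by
    rw [← Units.val_mul]
    congr 1
    rw [map_inv, map_mul, map_inv, mul_inv_rev, mul_comm, mul_assoc, inv_mul_cancel, mul_one]
  have h2 : R (((y * z : ↥Y)) : S) v = R (y : S) (R (z : S) v) := by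
    rw [← Module.End.mul_apply, ← map_mul]
    rfl
  show ((μ z⁻¹ : Fˣ) : F) • R (y : S) (R (z : S) v) =
    (((μ y : Fˣ) : F) * ((μ (y * z)⁻¹ : Fˣ) : F)) • R (((y * z : ↥Y)) : S) v
  rw [h1, h2]

/-- [PO] idempotency (racer copy) -/
theorem helper29_proj_idem {S : Type u} [Group S] [Finite S] {F : Type w} [Field F] [Finite F] [CharP F 2]
    {V : Type v} [AddCommGroup V] [Module F V]
    (R : Representation F S V) (Y : Subgroup S) [Y.Normal] [Fintype ↥Y]
    (hodd : Odd (Fintype.card ↥Y)) (μ : ↥Y →* Fˣ) (v : V) :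
    proj R Y μ (proj R Y μ v) = proj R Y μ v := by
  have key : ∀ y : ↥Y, ((μ y⁻¹ : Fˣ) : F) • R (y : S) (proj R Y μ v) = proj R Y μ v := by
    intro y
    rw [helper29_proj_weight, smul_smul, ← Units.val_mul, ← map_mul, inv_mul_cancel, map_one,
      Units.val_one, one_smul]
  conv_lhs => rw [proj_apply]
  rw [Finset.sum_congr rfl (fun y _ => key y), Finset.sum_const, Finset.card_univ]
  obtain ⟨k, hk⟩ := hodd
  rw [hk, add_smul, one_smul, mul_smul, two_nsmul]
  have h2 : ∀ x : V, x + x = 0 := fun x => by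
    have h : (2 : F) • x = 0 := by rw [CharTwo.two_eq_zero, zero_smul]
    rwa [two_smul] at h
  rw [h2, zero_add]

/-- [PO2] orthogonality (racer copy) -/
theorem helper29_proj_orth {S : Type u} [Group S] [Finite S] {F : Type w} [Field F] [Finite F] [CharP F 2]
    {V : Type v} [AddCommGroup V] [Module F V]
    (R : Representation F S V) (Y : Subgroup S) [Y.Normal] [Fintype ↥Y]
    (μ ν : ↥Y →* Fˣ) (hne : μ ≠ ν) (v : V) :
    proj R Y μ (proj R Y ν v) = 0 := by
  classical
  have key : ∀ y : ↥Y, ((μ y⁻¹ : Fˣ) : F) • R (y : S) (proj R Y ν v) =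
      ((Units.coeHom F).comp (μ⁻¹ * ν) y) • proj R Y ν v := by
    intro y
    rw [helper29_proj_weight, smul_smul]
    congr 1
    simp [map_inv]
  conv_lhs => rw [proj_apply]
  rw [Finset.sum_congr rfl (fun y _ => key y), ← Finset.sum_smul]
  have hf : (Units.coeHom F).comp (μ⁻¹ * ν) ≠ 1 := by
    intro h
    apply hne
    ext y
    have hy := DFunLike.congr_fun h y
    simp only [MonoidHom.coe_comp, Function.comp_apply, MonoidHom.mul_apply, MonoidHom.inv_apply,
      Units.coeHom_apply, MonoidHom.one_apply] at hy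
    have hy2 : (μ y)⁻¹ * ν y = 1 := Units.ext (by simpa using hy)
    have hy3 : μ y = ν y := by
      rw [inv_mul_eq_one] at hy2
      exact hy2
    rw [hy3]
  rw [sum_hom_units_eq_zero _ hf, zero_smul]

/-- [FX] a 2-group acting on a nonzero finite subspace in char 2 has a nonzero fixed vector
(racer copy) -/
theorem helper29_exists_fixed {S : Type u} [Group S] [Finite S] {F : Type w} [Field F] [Finite F] [CharP F 2]
    {V : Type v} [AddCommGroup V] [Module F V]
    (R : Representation F S V) (Y : Subgroup S) [Y.Normal] [Fintype ↥Y]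
    [Finite V] (T : Subgroup S) (hT : IsPGroup 2 ↥T) (W : Submodule F V)
    (hW : ∀ s ∈ T, ∀ w ∈ W, R s w ∈ W) (hW0 : W ≠ ⊥) :
    ∃ w ∈ W, w ≠ 0 ∧ ∀ s ∈ T, R s w = w := by
  classical
  have : Fact (Nat.Prime 2) := ⟨Nat.prime_two⟩
  let _ : MulAction ↥T ↥W :=
    { smul := fun t w => ⟨R (t : S) (w : V), hW t t.2 w w.2⟩
      one_smul := fun w => by
        apply Subtype.ext
        show R ((1 : ↥T) : S) (w : V) = w
        rw [Subgroup.coe_one, map_one, Module.End.one_apply]
      mul_smul := fun a b w => by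
        apply Subtype.ext
        show R ((a * b : ↥T) : S) (w : V) = R (a : S) (R (b : S) (w : V))
        rw [Subgroup.coe_mul, map_mul, Module.End.mul_apply] }
  have hsmul : ∀ (t : ↥T) (w : ↥W), ((t • w : ↥W) : V) = R (t : S) (w : V) := fun _ _ => rfl
  obtain ⟨w₀, hw₀W, hw₀⟩ := Submodule.exists_mem_ne_zero_of_ne_bot hW0
  have h2 : ∀ x : V, x + x = 0 := fun x => by
    have h : (2 : F) • x = 0 := by rw [CharTwo.two_eq_zero, zero_smul]
    rwa [two_smul] at h
  have hdvd : 2 ∣ Nat.card ↥W := by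
    have ho : addOrderOf (⟨w₀, hw₀W⟩ : ↥W) = 2 := by
      refine addOrderOf_eq_prime ?_ ?_
      · apply Subtype.ext
        show (2 • (⟨w₀, hw₀W⟩ : ↥W) : ↥W).1 = 0
        rw [two_nsmul]
        exact h2 w₀
      · intro h
        exact hw₀ (congrArg Subtype.val h)
    rw [← ho]
    exact addOrderOf_dvd_natCard _
  have h0 : (0 : ↥W) ∈ MulAction.fixedPoints ↥T ↥W := by
    intro t
    apply Subtype.ext
    rw [hsmul]
    simp
  obtain ⟨b, hb, hb0⟩ := hT.exists_fixed_point_of_prime_dvd_card_of_fixed_point ↥W hdvd h0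
  refine ⟨(b : V), b.2, ?_, ?_⟩
  · intro h
    exact hb0 (Subtype.ext h.symm)
  · intro s hs
    have := hb ⟨s, hs⟩
    exact congrArg Subtype.val this

end Cfsg.Agent.Lib.helper81.WT
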