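import Cfsg.Agent.Lib.helper81.WTDefs
import Cfsg.Agent.Lib.helper29.WTSVcore
import Cfsg.Agent.Lib.helper29.WTSVdeps

/-!
# S4414, piece SV (racer copy, self-contained: uses the prefixed copies of PE / PO / PO2 / FX)
-/

set_option autoImplicit false

namespace Cfsg.Agent.Lib.helper81.WT

open scoped TensorProduct

universe u v w

/-- [SV] a T-invariant set Θ of characters containing a weight carries a nonzero T-fixed vector with support in Θ; uses PE, PO, FX -/
theorem helper29_exists_fixed_supp {S : Type u} [Group S] [Finite S] {F : Type w} [Field F] [Finite F] [CharP F 2]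
    {V : Type v} [AddCommGroup V] [Module F V]
    (R : Representation F S V) (Y : Subgroup S) [Y.Normal] [Fintype ↥Y]
    [Finite V] (hodd : Odd (Fintype.card ↥Y)) (T : Subgroup S) (hT : IsPGroup 2 ↥T)
    (Θ : Set (↥Y →* Fˣ)) (hΘ : ∀ s ∈ T, ∀ μ ∈ Θ, cj Y s μ ∈ Θ) (μ₀ : ↥Y →* Fˣ) (hμ₀ : μ₀ ∈ Θ)
    (hμ₀' : proj R Y μ₀ ≠ 0) :
    ∃ v : V, v ≠ 0 ∧ v ∈ fixT R T ∧ supp R Y v ⊆ Θ := by
  exact helper29_exists_fixed_supp_core R Y T
    (fun g μ v => helper29_proj_equiv R Y g μ v)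
    (fun μ v => helper29_proj_idem R Y hodd μ v)
    (fun μ ν hne v => helper29_proj_orth R Y μ ν hne v)
    (fun W hW hW0 => helper29_exists_fixed R Y T hT W hW hW0)
    Θ hΘ μ₀ hμ₀ hμ₀'

end Cfsg.Agent.Lib.helper81.WT
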